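import Cfsg.Agent.H9.FxLemD
import Cfsg.Agent.H7.BG.PGroup

/-! Transfer lemmas for perfect groups. -/

set_option autoImplicit false

namespace Cfsg.Agent.Fx4

open Subgroup Cfsg.Agent.H7 MulAction
open MulAut (conj)
open scoped Pointwise commutatorElement

universe u
variable {G : Type u} [Group G] [Finite G] {S M : Subgroup G} {x h : G}

omit [Finite G] in
theorem map_eq_one (hG : commutator G = ⊤) {A : Type*} [CommGroup A] (φ : G →* A) (g : G) :
    φ g = 1 :=
  Abelianization.commutator_subset_ker φ (hG ▸ mem_top g)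

theorem transfer_pow (hG : commutator G = ⊤) (M : Subgroup S) (hM : commutator S ≤ M) (hx : x ∈ S)
    (h : ∀ (k : ℕ) (g : G) (hg : g⁻¹ * x ^ k * g ∈ S), (⟨_, hg⟩ * ((⟨x, hx⟩ : S) ^ k)⁻¹) ∈ M) :
    (⟨x, hx⟩ : S) ^ S.index ∈ M := by
  haveI : M.Normal := ⟨fun n hn g => by
    simpa [commutatorElement_def] using mul_mem (hM (commutator_mem_commutator (mem_top g) (mem_top n))) hn⟩
  letI : CommGroup (S ⧸ M) :=
    { mul_comm := (Normal.quotient_commutative_iff_commutator_le.2 hM).1.1 }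
  have k := map_eq_one hG (QuotientGroup.mk' M).transfer x
  have : Fintype (Quotient (orbitRel (zpowers x) (G ⧸ S))) := Fintype.ofFinite _
  rw [MonoidHom.transfer_eq_prod_quotient_orbitRel_zpowers_quot,
    Finset.prod_congr rfl (g := fun q => QuotientGroup.mk' M ⟨x, hx⟩ ^
      Function.minimalPeriod (x • ·) q.out) fun _ _ => by
      rw [← map_pow, ← mul_inv_eq_one, ← map_inv, ← map_mul]
      exact (QuotientGroup.eq_one_iff _).2 (h _ _ _),
    Finset.prod_pow_eq_pow_sum, ← index_eq_sum_minimalPeriod S x, ← map_pow] at k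
  exact (QuotientGroup.eq_one_iff _).1 k

theorem transfer_pow' (hG : commutator G = ⊤) (hM : ⁅S, S⁆ ≤ M) (hx : x ∈ S)
    (h : ∀ (k : ℕ) (g : G), g⁻¹ * x ^ k * g ∈ S → g⁻¹ * x ^ k * g * (x ^ k)⁻¹ ∈ M) :
    x ^ S.index ∈ M :=
  transfer_pow hG (M.subgroupOf S) (commutator_le.2 fun a _ b _ => hM (comm_mem a.2 b.2)) hx
    fun k g hg => by simpa [mem_subgroupOf] using h k g hg

omit [Finite G] in
theorem pow_of_sq (h2 : x * x = 1) (k : ℕ) : x ^ k = 1 ∨ x ^ k = x :=
  (mem_zpowers_invol h2).1 (pow_mem (mem_zpowers x) k)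

/-- Thompson's transfer lemma. -/
theorem thompson (hG : commutator G = ⊤) (hS : Odd S.index) (hM : M ≤ S)
    (hc : Nat.card S ≤ 2 * Nat.card M) (hx : x ∈ S) (h2 : x * x = 1) :
    ∃ g : G, g⁻¹ * x * g ∈ M := by
  by_contra k
  push Not at k
  have k1 : x ∉ M := by simpa using k 1
  have k2 := transfer_pow' (M := M) hG (comm_le_iff.2 fun a ha b hb => by
    rw [mul_assoc (a * b), mul_mem_iff_of_card hM hc (mul_mem ha hb) (mul_mem (inv_mem ha) (inv_mem hb)),
      mul_mem_iff_of_card hM hc ha hb, mul_mem_iff_of_card hM hc (inv_mem ha) (inv_mem hb),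
      inv_mem_iff, inv_mem_iff]) hx fun n g hg => by
      rcases pow_of_sq h2 n with e | e <;> rw [e] at hg ⊢
      · simp
      · exact (mul_mem_iff_of_card hM hc hg (inv_mem hx)).2 (iff_of_false (k g) (by rwa [inv_mem_iff]))
  obtain ⟨j, hj⟩ := hS
  rw [hj, pow_succ, pow_mul, pow_two, h2, one_pow, one_mul] at k2
  exact k1 k2

theorem sq_notMem_commutator (h8 : Nat.card N[zpowers x] ≤ (commutator G).index)
    (h1 : x * x ≠ 1) : x * x ∉ commutator G := fun k => by
  have k1 : C₁[x] ≤ N[zpowers x] := le_norm_zpowers le_rfl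
  obtain ⟨g, hg⟩ := conj_eq_coset ((card_le_of_le' k1).trans h8) (inv_mem k)
  have k2 : g ∈ N[zpowers x] := mem_norm_of_conj_smul_eq (by
    rw [conj_smul_zpowers, hg]; simp)
  rw [← eq_of_le_of_card_le k1 (h8.trans (index_commutator_le x))] at k2
  rw [mem_cent1_iff.1 k2] at hg
  exact h1 (mul_eq_one_iff_eq_inv.2 (by simpa using hg))

/-- **Lemma F** -/
theorem lemF (hG : commutator G = ⊤) (hS : Odd S.index) (hP : IsPGroup 2 S) (hh : h ∈ S)
    (h4 : h ^ 4 = 1) (h2 : h * h ≠ 1)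
    (h8 : ∀ g : G, g⁻¹ * h * g ∈ S → Nat.card ↥(N[zpowers (g⁻¹ * h * g)] ⊓ S) ≤ 8) : SR 4 S := by
  by_cases k : (commutator S).index < 8
  · refine (SR.of_top (SR.of_index_commutator hP (pow_two_le_of_lt (k := 2) ?_ k))).le (by norm_num)
    rw [← relIndex_top_right]
    exact relIndex_pow hP _ _
  exfalso
  push Not at k
  have key : ∀ y : S, (∃ g : G, (y : G) = g⁻¹ * h * g) → y * y ∉ commutator S ∧ y ^ 4 = 1 ∧
      Nat.card N[zpowers y] ≤ 8 := by
    rintro ⟨y, hy⟩ ⟨g, rfl : y = _⟩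
    have k1 : Nat.card N[zpowers (⟨_, hy⟩ : S)] ≤ 8 := by
      refine le_trans ?_ (h8 g hy)
      rw [← Subgroup.card_map_of_injective (K := N[zpowers (⟨_, hy⟩ : S)]) S.subtype_injective]
      refine card_le_of_le' ?_
      rintro _ ⟨w, hw, rfl⟩
      refine ⟨mem_norm_of_conj fun b hb => ?_, w.2⟩
      obtain ⟨n, rfl⟩ := mem_zpowers_iff.1 hb
      obtain ⟨m, hm⟩ := mem_zpowers_iff.1 (conj_mem_of_norm hw (zpow_mem (mem_zpowers _) n))
      exact ⟨m, congrArg Subtype.val hm⟩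
    refine ⟨sq_notMem_commutator (k1.trans k) fun e => h2 ?_, Subtype.ext ?_, k1⟩
    · have : g⁻¹ * h * g * (g⁻¹ * h * g) = 1 := congrArg Subtype.val e
      calc h * h = g * (g⁻¹ * h * g * (g⁻¹ * h * g)) * g⁻¹ := by group
        _ = 1 := by rw [this]; simp
    · change (g⁻¹ * h * g) ^ 4 = 1
      rw [show (g⁻¹ * h * g) ^ 4 = g⁻¹ * h ^ 4 * g by simpa using conj_pow (a := g⁻¹) (b := h), h4]
      simp
  set φ := Abelianization.of (G := S)
  have hφ : ∀ y : S, y ∈ commutator S ↔ φ y = 1 := fun y => by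
    rw [← Abelianization.ker_of]; rfl
  let M : Subgroup S := (powMonoidHom 2 : Abelianization S →* _).ker.comap φ
  have hM : ∀ y : S, y ∈ M ↔ φ y * φ y = 1 := fun y => by simp [M, pow_two]
  have hle : commutator S ≤ M := fun y hy => by rw [hM, (hφ y).1 hy, mul_one]
  obtain ⟨k1, k2, k3⟩ := key ⟨h, hh⟩ ⟨1, by simp⟩
  have k8 : (commutator S).index ≤ 8 :=
    (index_commutator_le _).trans ((card_le_of_le' (le_norm_zpowers le_rfl)).trans k3)
  have two : ∀ y y' : S, y * y ∉ commutator S → y ^ 4 = 1 → y' * y' ∉ commutator S → y' ^ 4 = 1 →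
      y * y' ∈ M := fun y y' a1 a2 b1 b2 => by
    have sq : ∀ y : S, y ^ 4 = 1 → y * y ∈ M := fun y e => by
      rw [hM, ← map_mul, show y * y * (y * y) = y ^ 4 by simp [pow_succ, mul_assoc], e, map_one]
    by_cases c : Nat.card M ≤ 2 * Nat.card (commutator S)
    · have := (mul_mem_iff_of_card hle c (sq y a2) (sq y' b2)).2 (iff_of_false a1 b1)
      rw [hM, ← (hφ _).1 this]
      simp only [map_mul, mul_assoc, mul_left_comm]
    · have c1 := (commutator S).card_mul_index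
      obtain ⟨i, hi⟩ := relIndex_pow hP (commutator S) M
      have c2 := card_mul_relIndex hle
      have c3 : 4 ≤ (commutator S).relIndex M := by
        by_contra c4
        have := pow_two_le_of_lt (k := 1) ⟨i, hi⟩ (by omega)
        nlinarith
      refine (mul_mem_iff_of_card (K := ⊤) le_top (by rw [card_top]; nlinarith) (mem_top y)
        (mem_top y')).2 (iff_of_false ?_ ?_) <;> rw [hM, ← map_mul, ← hφ] <;> assumption
  have e4 : ∀ n : ℕ, h ^ n = h ^ (n % 4) := fun n => pow_eq_pow_mod n h4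
  have main := transfer_pow hG M hle hh fun n g hg => by
    have inv : ∀ y : S, (y : G) * y = 1 → y ∈ M := fun y e => by
      rw [hM, ← map_mul, show y * y = 1 from Subtype.ext e, map_one]
    rcases Nat.even_or_odd n with ⟨j, rfl⟩ | ⟨j, rfl⟩
    · have e : h ^ (j + j) * h ^ (j + j) = 1 := by
        rw [← pow_add, show j + j + (j + j) = 4 * j by ring, pow_mul, h4, one_pow]
      refine mul_mem (inv _ ?_) (inv_mem (inv _ e))
      change g⁻¹ * _ * g * (g⁻¹ * _ * g) = 1
      rw [show ∀ y : G, g⁻¹ * y * g * (g⁻¹ * y * g) = g⁻¹ * (y * y) * g by intro y; group, e]; simp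
    · have e : h ^ (2 * j + 1) = h ∨ h ^ (2 * j + 1) = h⁻¹ := by
        rw [e4]
        rcases (by omega : (2 * j + 1) % 4 = 1 ∨ (2 * j + 1) % 4 = 3) with e | e <;> rw [e]
        · simp
        · exact Or.inr (eq_inv_of_mul_eq_one_left (by rw [← pow_succ, h4]))
      have a1 : ∀ y : S, y * y ∉ commutator S → y⁻¹ * y⁻¹ ∉ commutator S := fun y e => by
        rwa [← mul_inv_rev, inv_mem_iff]
      rcases e with e | e
      · obtain ⟨b1, b2, -⟩ := key ⟨_, hg⟩ ⟨g, by simp [e]⟩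
        rw [show (⟨h, hh⟩ : S) ^ (2 * j + 1) = ⟨h, hh⟩ from Subtype.ext e]
        exact two _ _ b1 b2 (a1 _ k1) (by rw [inv_pow, k2, inv_one])
      · obtain ⟨b1, b2, -⟩ := key (⟨_, hg⟩ : S)⁻¹ ⟨g, by simp [e, mul_assoc]⟩
        rw [show (⟨h, hh⟩ : S) ^ (2 * j + 1) = (⟨h, hh⟩ : S)⁻¹ from Subtype.ext e, inv_inv]
        exact two _ _ (by simpa using a1 _ b1) (by simpa using b2) k1 k2
  obtain ⟨j, hj⟩ := hS
  rw [hj, pow_succ, pow_mul, hM, map_mul, map_pow, mul_mul_mul_comm, ← mul_pow, ← map_mul, ← pow_add,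
    two_add_two_eq_four, k2, map_one, one_pow, one_mul, ← map_mul, ← hφ] at main
  exact k1 main

omit [Finite G] in
theorem smul_mk_iff (x g : G) : x • (g : G ⧸ S) = g ↔ g⁻¹ * x * g ∈ S := by
  rw [Quotient.smul_mk, eq_comm, QuotientGroup.eq, smul_eq_mul, mul_assoc]

open Classical in
theorem transfer_eq_prod {A : Type*} [CommGroup A] (φ : S →* A) (h3 : x ^ 3 = 1)
    [Fintype (G ⧸ S)] : φ.transfer x =
      ∏ q : G ⧸ S, if h : q.out⁻¹ * x * q.out ∈ S then φ ⟨_, h⟩ else 1 := by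
  have : Fintype (Quotient (orbitRel (zpowers x) (G ⧸ S))) := Fintype.ofFinite _
  haveI : Fact (Nat.Prime 3) := ⟨by norm_num⟩
  have k : ∀ q : G ⧸ S, q.out⁻¹ * x * q.out ∈ S ↔ x • q = q := fun q => by
    rw [← smul_mk_iff, QuotientGroup.out_eq']
  rw [MonoidHom.transfer_eq_prod_quotient_orbitRel_zpowers_quot]
  refine Finset.prod_of_injOn Quotient.out (Quotient.out_injective.injOn) (fun _ _ => by simp)
    (fun q _ hq => dif_neg fun e => hq ⟨Quotient.mk _ q, by simp, ?_⟩) fun o _ => ?_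
  · obtain ⟨⟨_, n, rfl⟩, e'⟩ := Quotient.mk_out (s := orbitRel (zpowers x) (G ⧸ S)) q
    exact e'.symm.trans (zpow_mem (K := stabilizer G q) ((k q).1 e) n)
  · split_ifs with e
    · have : Function.minimalPeriod (x • ·) o.out = 1 :=
        Function.minimalPeriod_eq_one_iff_isFixedPt.2 ((k _).1 e)
      simp only [this, pow_one]
    · have : Function.minimalPeriod (x • ·) o.out = 3 :=
        Function.minimalPeriod_eq_prime (by
          rw [isPeriodicPt_smul_iff, h3, one_smul]) fun e' => e ((k _).2 e')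
      simp only [this, h3, mul_one, inv_mul_cancel]
      exact map_one φ

theorem prod_ne_one {A : Type*} [CommGroup A] [Finite A] (h9 : Nat.card A ≤ 9) {C : Finset A}
    (h1 : ∀ c ∈ C, c * c * c = 1) (h2 : ∀ c ∈ C, c⁻¹ ∉ C) (h3 : ¬ 3 ∣ C.card) :
    ∏ c ∈ C, c ≠ 1 := by
  classical
  have := Fintype.ofFinite A
  have k1 : (1 : A) ∉ C := fun k => h2 1 k (by simpa using k)
  have kd : Disjoint C (C.image (·⁻¹)) := Finset.disjoint_left.2 fun a ha hb => by
    obtain ⟨b, hb', rfl⟩ := Finset.mem_image.1 hb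
    exact h2 b hb' ha
  have kc : (insert 1 (C ∪ C.image (·⁻¹))).card = 2 * C.card + 1 := by
    rw [Finset.card_insert_of_notMem (by simpa using k1), Finset.card_union_of_disjoint kd,
      Finset.card_image_of_injective _ inv_injective, two_mul]
  have k8 := Finset.card_le_univ (insert 1 (C ∪ C.image (·⁻¹)))
  rw [Nat.card_eq_fintype_card] at h9
  rcases (by omega : C.card = 1 ∨ C.card = 2 ∨ C.card = 4) with e | e | e
  · obtain ⟨a, rfl⟩ := Finset.card_eq_one.1 e
    simpa [eq_comm] using k1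
  · obtain ⟨a, b, hab, rfl⟩ := Finset.card_eq_two.1 e
    rw [Finset.prod_pair hab]
    exact fun k => h2 a (by simp) (by simp [inv_eq_of_mul_eq_one_right k])
  · have ku := Finset.eq_univ_of_card _ (le_antisymm k8 (by omega))
    obtain ⟨a, b, c, d, hab, hac, had, hbc, hbd, hcd, rfl⟩ := Finset.card_eq_four.1 e
    rw [Finset.prod_insert (by simp [*]), Finset.prod_insert (by simp [*]), Finset.prod_pair hcd]
    intro k
    have ha := h1 a (by simp)
    have hb := h1 b (by simp)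
    have hc := h1 c (by simp)
    have hd := h1 d (by simp)
    have k2 := h2 a (by simp)
    have k3 := ku ▸ Finset.mem_univ (a * b)
    simp only [Finset.mem_insert, Finset.mem_singleton, not_or, Finset.mem_union, Finset.mem_image,
      exists_eq_or_imp, exists_eq_left] at k1 k2 k3
    rw [← mul_assoc] at k
    rcases k3 with e | (e | e | e | e) | e | e | e | e
    · exact k2.2.1 (inv_eq_of_mul_eq_one_right e)
    · exact k1.2.1 (by simpa [eq_comm] using e)
    · exact k1.1 (by simpa [eq_comm] using e)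
    · rw [e, ← mul_assoc, ← hc] at k
      exact hcd (mul_left_cancel k).symm
    · rw [e, mul_comm c, ← mul_assoc, ← hd] at k
      exact hcd (mul_left_cancel k)
    · refine hab (mul_left_cancel (a := a * a) ?_)
      rw [ha, mul_assoc, ← e, mul_inv_cancel]
    · refine hab (mul_left_cancel (a := b * b) ?_)
      rw [hb, mul_assoc, mul_comm b a, ← e, mul_inv_cancel]
    · rw [← e, inv_mul_cancel_left] at k
      exact k1.2.2.2 k.symm
    · rw [← e, mul_comm c, inv_mul_cancel_left] at k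
      exact k1.2.2.1 k.symm

theorem nine_le_index (hP : IsPGroup 3 G) (hc : 9 ≤ Nat.card G) : 9 ≤ (commutator G).index := by
  haveI : Fact (Nat.Prime 3) := ⟨by norm_num⟩
  by_contra k
  obtain ⟨n, hn⟩ := hP.index (commutator G)
  have k3 : (commutator G).index ∣ 3 := by
    rw [hn] at k ⊢
    have : n < 2 := by
      by_contra c
      exact k (le_trans (by norm_num) (Nat.pow_le_pow_right (by norm_num) (not_lt.1 c)))
    interval_cases n <;> norm_num
  obtain ⟨y, hy⟩ : ∃ y : G, ⊤ ≤ commutator G ⊔ zpowers y := by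
    by_cases e : commutator G = ⊤
    · exact ⟨1, e ▸ le_sup_left⟩
    obtain ⟨y, -, hy⟩ := SetLike.not_le_iff_exists.1 (mt top_le_iff.1 e)
    refine ⟨y, ((eq_or_eq_of_relIndex_prime (le_sup_left (b := zpowers y)) le_top ?_).resolve_left
      fun e' => hy (e'.le (mem_sup_right (mem_zpowers y)))).ge⟩
    rw [relIndex_top_right, ((Nat.dvd_prime Nat.prime_three).1 k3).resolve_left
      (mt index_eq_one.1 e)]
    norm_num
  have k1 := Phi_nongen le_top (hy.trans (sup_le_sup_right (der_le_Phi (hP.to_subgroup ⊤)) _))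
  have k2 : commutator G = ⊥ := comm_eq_bot_iff.2 (by
    rw [← k1, cent_zpowers]; exact zpowers_le_of_mem (mem_cent1_self y))
  rw [k2, index_bot] at k
  exact k hc

/-- Counting transfer for `p = 3`. -/
theorem count3 (hG : commutator G = ⊤) (hP : IsPGroup 3 S) (hi : ¬ 3 ∣ S.index)
    (hc : 9 < Nat.card S) (hx : x ∈ S) (h3 : x ^ 3 = 1) (hr : ∀ g : G, g⁻¹ * x * g ≠ x⁻¹)
    (h9 : ∀ g : G, g⁻¹ * x * g ∈ S → Nat.card ↥(C₁[g⁻¹ * x * g] ⊓ S) ≤ 9) : False := by
  classical
  haveI : Fact (Nat.Prime 3) := ⟨by norm_num⟩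
  have := Fintype.ofFinite (G ⧸ S)
  have i9 := nine_le_index hP hc.le
  set φ := Abelianization.of (G := S)
  have hφ : ∀ y : S, y ∈ commutator S ↔ φ y = 1 := fun y => by
    rw [← Abelianization.ker_of]; rfl
  have c9 : ∀ (g : G) (hg : g⁻¹ * x * g ∈ S), Nat.card C₁[(⟨_, hg⟩ : S)] ≤ 9 := fun g hg => by
    rw [card_cent1_coe]; exact h9 g hg
  have cj : ∀ (g : G) (hg : g⁻¹ * x * g ∈ S) (y : S), φ y = φ ⟨_, hg⟩ →
      ∃ s ∈ S, s * (g⁻¹ * x * g) * s⁻¹ = y := fun g hg y e => by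
    obtain ⟨s, hs⟩ := conj_eq_coset ((c9 g hg).trans i9) ((hφ (y * (⟨_, hg⟩ : S)⁻¹)).2 (by simp [e]))
    exact ⟨s, s.2, by simpa using congrArg Subtype.val hs⟩
  let ψ : G ⧸ S → Abelianization S := fun q =>
    if h : q.out⁻¹ * x * q.out ∈ S then φ ⟨_, h⟩ else 1
  have hψ : ∀ (g : G) (hg : g⁻¹ * x * g ∈ S), ψ g = φ ⟨_, hg⟩ := fun g hg => by
    obtain ⟨s, hs⟩ := QuotientGroup.mk_out_eq_mul S g
    have e : (g * s)⁻¹ * x * (g * s) = (s⁻¹ * ⟨_, hg⟩ * s : S) := by simp [mul_assoc]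
    simp only [ψ, hs, e, SetLike.coe_mem, dif_pos, Subtype.coe_eta, map_mul, map_inv,
      inv_mul_cancel_comm]
  let F : Finset (G ⧸ S) := Finset.univ.filter fun q => x • q = q
  have hF : ∀ g : G, (g : G ⧸ S) ∈ F ↔ g⁻¹ * x * g ∈ S := fun g => by
    rw [← smul_mk_iff]; simp only [F, Finset.mem_filter, Finset.mem_univ, true_and]
  have cF : ¬ 3 ∣ F.card := fun k => hi (by
    have k1 : IsPGroup 3 (zpowers x) := IsPGroup.of_card (n := 1) (by
      rw [Nat.card_zpowers, orderOf_eq_prime h3 fun e => hr 1 (by simp [e]), pow_one])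
    refine (Nat.modEq_zero_iff_dvd.1 ((k1.card_modEq_card_fixedPoints (G ⧸ S)).trans ?_))
    rw [Nat.modEq_zero_iff_dvd]
    convert k
    rw [← Nat.card_eq_finsetCard]
    refine Nat.card_congr (Equiv.subtypeEquivRight fun q => ?_)
    simp only [F, Finset.mem_filter, Finset.mem_univ, true_and]
    exact ⟨fun e => e ⟨x, mem_zpowers x⟩, fun e ⟨_, n, rfl⟩ => zpow_mem (K := stabilizer G q) e n⟩)
  have fib : ∀ c ∈ F.image ψ, (F.filter fun q => ψ q = c).card = Nat.card C₁[x] / 9 := by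
    intro c hc
    obtain ⟨q, hq, rfl⟩ := Finset.mem_image.1 hc
    obtain ⟨g, rfl⟩ := QuotientGroup.mk_surjective q
    have hg := (hF g).1 hq
    have e1 : stabilizer G (g : G ⧸ S) = conj g • S := by
      conv_rhs => rw [← stabilizer_quotient S, ← stabilizer_smul_eq]
      simp
    have e2 := card_inf_mul_relIndex (stabilizer G (g : G ⧸ S)) C₁[x]
    have e3 : Nat.card ↥(stabilizer G (g : G ⧸ S) ⊓ C₁[x]) = 9 := by
      rw [e1, ← card_conj_smul g⁻¹, conj_smul_inf, conj_inv_smul_smul, conj_smul_cent1, inv_inv,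
        inf_comm]
      exact le_antisymm (h9 g hg) (card_cent1_coe hg ▸ i9.trans (index_commutator_le _))
    rw [← e2, e3, Nat.mul_div_cancel_left _ (by norm_num), relIndex_stabilizer,
      ← Set.ncard_coe_finset]
    congr 1
    ext q
    obtain ⟨g', rfl⟩ := QuotientGroup.mk_surjective q
    rw [Finset.coe_filter, Set.mem_ofPred_eq, hF]
    constructor
    · rintro ⟨hg', e⟩
      rw [hψ g hg, hψ g' hg'] at e
      obtain ⟨s, hs, e'⟩ := cj g hg _ e
      refine ⟨⟨g' * s * g⁻¹, mem_cent1_iff.2 ?_⟩, QuotientGroup.eq.2 (by simpa using hs)⟩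
      calc g' * s * g⁻¹ * x = g' * (s * (g⁻¹ * x * g) * s⁻¹) * (s * g⁻¹) := by group
        _ = _ := by rw [e']; group
    · rintro ⟨⟨w, hw⟩, e⟩
      have e4 : (w * g)⁻¹ * x * (w * g) = g⁻¹ * x * g := by
        rw [mul_assoc, ← mul_assoc x, ← mem_cent1_iff.1 hw]; group
      have e5 : ((w * g : G) : G ⧸ S) = g' := e
      refine ⟨(hF g').1 (e5 ▸ (hF _).2 (e4 ▸ hg)), ?_⟩
      rw [← e5, hψ _ (e4 ▸ hg), hψ g hg]
      simp only [e4]
  have t1 := map_eq_one hG φ.transfer x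
  rw [transfer_eq_prod φ h3, ← Finset.prod_subset (Finset.subset_univ F) (fun q _ hq => dif_neg
    fun e => hq (by rw [← QuotientGroup.out_eq' q, hF]; exact e))] at t1
  change ∏ q ∈ F, id (ψ q) = 1 at t1
  rw [Finset.prod_comp, Finset.prod_congr rfl fun c hc => by rw [fib c hc], Finset.prod_pow] at t1
  rw [Finset.card_eq_sum_card_image ψ F, Finset.sum_const_nat fib] at cF
  have cube : ∀ c ∈ F.image ψ, c ^ 3 = 1 := fun c hc => by
    obtain ⟨q, hq, rfl⟩ := Finset.mem_image.1 hc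
    obtain ⟨g, rfl⟩ := QuotientGroup.mk_surjective q
    rw [hψ g ((hF g).1 hq), ← map_pow, ← map_one φ]
    congr 1
    refine Subtype.ext ?_
    change (g⁻¹ * x * g) ^ 3 = 1
    rw [show (g⁻¹ * x * g) ^ 3 = g⁻¹ * x ^ 3 * g by simpa using conj_pow (a := g⁻¹) (b := x), h3]
    simp
  refine prod_ne_one (A := Abelianization S) ((index_commutator_le _).trans
    (c9 1 (by simpa using hx))) (C := F.image ψ) (fun c hc => by rw [← cube c hc, pow_three'])
    (fun c hc hc' => ?_) (fun k => cF (k.mul_right _)) ?_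
  · obtain ⟨q, hq, rfl⟩ := Finset.mem_image.1 hc
    obtain ⟨g, rfl⟩ := QuotientGroup.mk_surjective q
    obtain ⟨q', hq', e⟩ := Finset.mem_image.1 hc'
    obtain ⟨g', rfl⟩ := QuotientGroup.mk_surjective q'
    rw [hψ g ((hF g).1 hq), hψ g' ((hF g').1 hq'), ← map_inv] at e
    obtain ⟨s, -, e'⟩ := cj g' _ _ e.symm
    refine hr (g' * s⁻¹ * g⁻¹) ?_
    calc _ = g * (s * (g'⁻¹ * x * g') * s⁻¹) * g⁻¹ := by group
      _ = _ := by rw [e']; simp [mul_assoc]
  · refine (pow_eq_one_iff_of_coprime (m := 3) (n := Nat.card C₁[x] / 9)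
      ((Nat.Prime.coprime_iff_not_dvd Nat.prime_three).2 fun k => cF (k.mul_left _))).1 ⟨?_, t1⟩
    rw [← Finset.prod_pow]
    exact Finset.prod_eq_one cube

end Cfsg.Agent.Fx4
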