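import Cfsg.Agent.H9.MaUtil

/-! Groups with the order and the element order statistics of `M₂₂`: centralizers. -/

set_option autoImplicit false

namespace Cfsg.Agent.Ma

open Subgroup Cfsg.Agent.H7 Cfsg.Agent.H4 Cfsg.Agent.Fx4 Cfsg.Agent.H4.Nse
open MulAut (conj)
open scoped Pointwise

universe u
variable {G : Type u} [Group G] [Finite G] {L P T K H R : Subgroup G} {x y z g p s t v w q : G}

/-- The involutions commuting with an element. -/
def Vs (x : G) : Subgroup G := closure {g | g * x = x * g ∧ g * g = 1}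

omit [Finite G] in
theorem o2 (h1 : t ≠ 1) (h2 : t * t = 1) : orderOf t = 2 := H1.T3.orderOf_two h2 h1

omit [Finite G] in
theorem o3 (h1 : t ≠ 1) (h2 : t ^ 3 = 1) : orderOf t = 3 := H1.T3.orderOf_three h2 h1

omit [Finite G] in
theorem of_o3 (h : orderOf x = 3) : x ≠ 1 ∧ x ^ 3 = 1 :=
  ⟨fun e => by simp [e] at h, h ▸ pow_orderOf_eq_one x⟩

omit [Finite G] in
theorem of_o2 (h : orderOf x = 2) : x ≠ 1 ∧ x * x = 1 :=
  ⟨fun e => by simp [e] at h, by rw [← pow_two, ← h, pow_orderOf_eq_one]⟩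

theorem card_sq (H : Subgroup G) (h : 2 ∣ Nat.card H) :
    {g | g ∈ H ∧ g * g = 1}.ncard = 1 + mo H 2 := by
  have h1 := sum_divisors (G := H) (d := 2) (by norm_num)
  rw [Nat.prime_two.sum_divisors, mo_one, add_comm] at h1
  rw [h1, ← Nat.card_coe_set_eq]
  exact Nat.card_congr ⟨fun g => ⟨⟨g.1, g.2.1⟩, Subtype.ext (by simpa [pow_two] using g.2.2)⟩,
    fun g => ⟨g.1.1, g.1.2, by simpa [pow_two] using congrArg Subtype.val g.2⟩, fun _ => rfl,
    fun _ => rfl⟩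

theorem card_le_mo (hR : R ≤ H) (sq : ∀ g ∈ R, g * g = 1) (h : 2 ∣ Nat.card H) :
    Nat.card R ≤ 1 + mo H 2 := by
  rw [← card_sq H h, ← SetLike.coe_sort_coe, Nat.card_coe_set_eq]
  exact Set.ncard_le_ncard fun g hg => ⟨hR hg, sq g hg⟩

theorem nine_dvd (h9 : 9 ∣ Nat.card G) (hx : orderOf x = 3) : 9 ∣ Nat.card C₁[x] := by
  obtain ⟨P, h1, -, h2⟩ := exists_between (n := 1) (m := 2) Nat.prime_three (H := zpowers x)
    (K := ⊤) le_top (by rw [Nat.card_zpowers, hx]; rfl) (by norm_num) (by rwa [card_top])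
  exact (h2 ▸ card_dvd_of_le (H := P) fun g hg => mem_cent1_iff.mpr
    (comm_of_abel (abel_of_card_sq h2) hg (h1 (mem_zpowers x))) :)

/-- The hypothesis. -/
structure H22 (G : Type u) [Group G] : Prop where
  card : Nat.card G = 443520
  ord : ∀ g : G, orderOf g ∈ [1, 2, 3, 4, 5, 6, 7, 8, 11]
  m2 : mo G 2 = 1155
  m3 : mo G 3 = 12320
  m6 : mo G 6 = 36960

namespace H22

variable (h : H22 G)
include h

theorem idx (H : Subgroup G) : H.index * Nat.card H = 443520 := index_mul_card' H h.card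

theorem dvd (H : Subgroup G) : Nat.card H ∣ 443520 := Dvd.intro_left _ (h.idx H)

theorem not_dvd {n r : ℕ} (hy : orderOf y = n) (hp : r.Prime) (hco : n.Coprime r)
    (hn : n * r ∉ [1, 2, 3, 4, 5, 6, 7, 8, 11]) : ¬ r ∣ Nat.card C₁[y] := by
  intro hd
  obtain ⟨x, hx, hxp⟩ := exists_mem_orderOf hp hd
  have := h.ord (y * x)
  rw [Commute.orderOf_mul_eq_mul_orderOf_of_coprime (mem_cent1_iff.mp hx).symm
    (by rwa [hy, hxp]), hy, hxp] at this
  exact hn this

theorem cent_dvd {n : ℕ} (hy : orderOf y = n) (hn : n = 2 ∨ n = 3 ∨ n = 4) :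
    Nat.card C₁[y] ∣ 1152 := by
  have k : ∀ r : ℕ, r = 5 ∨ r = 7 ∨ r = 11 → (Nat.card C₁[y]).Coprime r := fun r hr => by
    have hp : r.Prime := by rcases hr with rfl | rfl | rfl <;> norm_num
    refine ((Nat.Prime.coprime_iff_not_dvd hp).mpr (h.not_dvd hy hp ?_ ?_)).symm <;>
      rcases hr with rfl | rfl | rfl <;> rcases hn with rfl | rfl | rfl <;> decide
  exact (k 5 (by simp)).dvd_of_dvd_mul_right ((k 7 (by simp)).dvd_of_dvd_mul_right
    ((k 11 (by simp)).dvd_of_dvd_mul_right (h.dvd _)))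

omit [Finite G] in
theorem cube (hP : IsPGroup 3 P) (hg : g ∈ P) : g ^ 3 = 1 := by
  obtain ⟨k, hk⟩ := hP.exists_orderOf_eq_pow ⟨g, hg⟩
  have h1 := h.ord g
  rw [← orderOf_coe] at hk
  rw [← orderOf_dvd_iff_pow_eq_one]
  rcases k with _ | k
  · exact hk.dvd.trans (one_dvd 3)
  have h2 : ¬ 2 ∣ orderOf g := fun e => by
    have := Nat.prime_two.dvd_of_dvd_pow (hk ▸ e)
    omega
  have h3 : 3 ∣ orderOf g := hk ▸ dvd_pow_self 3 k.succ_ne_zero
  simp only [List.mem_cons, List.not_mem_nil, or_false] at h1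
  rw [show orderOf g = 3 by omega]

omit [Finite G] in
theorem sq (hR : IsPGroup 2 R) (hg : g ∈ R) (hx : orderOf x = 3) (hc : g * x = x * g) :
    g * g = 1 := by
  obtain ⟨k, hk⟩ := hR.exists_orderOf_eq_pow ⟨g, hg⟩
  rw [← orderOf_coe] at hk
  have h1 := h.ord (g * x)
  rw [Commute.orderOf_mul_eq_mul_orderOf_of_coprime hc (by
    rw [hx]; exact hk ▸ Nat.Coprime.pow_left _ (by norm_num)), hx] at h1
  rw [← pow_two, ← orderOf_dvd_iff_pow_eq_one]
  simp only [List.mem_cons, List.not_mem_nil, or_false] at h1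
  rcases (by omega : orderOf g = 1 ∨ orderOf g = 2) with e | e <;> simp [e]

theorem cent3' (hx : orderOf x = 3) : ∃ R ≤ C₁[x], IsPGroup 2 R ∧ 4 ≤ Nat.card R ∧
    Nat.card C₁[x] = 9 * Nat.card R := by
  obtain ⟨n, hn⟩ := nine_dvd (by rw [h.card]; norm_num) hx
  have h1 := h.cent_dvd hx (by simp)
  rw [hn] at h1
  obtain ⟨k, -, rfl⟩ := (Nat.dvd_prime_pow (m := 7) Nat.prime_two).mp
    (Nat.dvd_of_mul_dvd_mul_left (by norm_num) h1)
  obtain ⟨R, h2, h3⟩ := exists_le_card Nat.prime_two (Dvd.intro_left _ hn.symm)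
  refine ⟨R, h2, .of_card h3, ?_, h3 ▸ hn⟩
  have h4 := index_le_mo x
  have h5 := h.idx C₁[x]
  rw [hx, h.m3] at h4
  rw [hn, ← h3] at h5
  by_contra k
  have := Nat.mul_le_mul h4 (show 9 * Nat.card R ≤ 27 by omega)
  omega

theorem cent3 (hx : orderOf x = 3) : Nat.card C₁[x] = 36 ∧ mo C₁[x] 2 = 3 := by
  classical
  have := Fintype.ofFinite G
  have h1 : ∀ x : G, orderOf x = 3 → ∃ n, 4 ≤ n ∧ Nat.card C₁[x] = 9 * n ∧ n ≤ 1 + mo C₁[x] 2 :=
    fun x hx => by
      obtain ⟨R, h1, h2, h3, h4⟩ := h.cent3' hx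
      obtain ⟨k, hk⟩ := h2.exists_card_eq
      refine ⟨_, h3, h4, card_le_mo h1 (fun g hg => h.sq h2 hg hx (mem_cent1_iff.mp (h1 hg))) ?_⟩
      rw [h4, hk]
      rcases k with _ | k
      · omega
      · exact Dvd.dvd.mul_left (dvd_pow_self 2 k.succ_ne_zero) 9
  have h3 := mo_mul_sum (G := G) (a := 3) (b := 2) (by norm_num)
  rw [h.m6, show 36960 = 12320 * 3 from rfl, ← h.m3, mo_eq, ← smul_eq_mul, ← Finset.sum_const,
    Finset.sum_eq_sum_iff_of_le fun g hg => by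
      obtain ⟨n, a, -, b⟩ := h1 g (Finset.mem_filter.mp hg).2
      omega] at h3
  have h4 := h3 x (Finset.mem_filter.mpr ⟨Finset.mem_univ x, hx⟩)
  obtain ⟨n, a, c, b⟩ := h1 x hx
  omega

theorem conj3 (hx : orderOf x = 3) (hy : orderOf y = 3) : ∃ g, g * x * g⁻¹ = y := by
  refine conj_of_index ?_ (hy.trans hx.symm)
  have := h.idx C₁[x]
  rw [(h.cent3 hx).1] at this
  rw [hx, h.m3]
  omega

theorem V_spec (hx : orderOf x = 3) :
    Nat.card (Vs x) = 4 ∧ ∀ g, g ∈ Vs x ↔ g * x = x * g ∧ g * g = 1 := by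
  obtain ⟨R, h1, h2, -, h4⟩ := h.cent3' hx
  obtain ⟨h5, h6⟩ := h.cent3 hx
  have h7 := card_sq C₁[x] (by rw [h5]; norm_num)
  have h8 : (R : Set G) = {g | g ∈ C₁[x] ∧ g * g = 1} := Set.eq_of_subset_of_ncard_le
    (fun g hg => ⟨h1 hg, h.sq h2 hg hx (mem_cent1_iff.mp (h1 hg))⟩) (by
      rw [h7, h6, ← Nat.card_coe_set_eq, SetLike.coe_sort_coe]; omega)
  simp only [mem_cent1_iff] at h8
  rw [Vs, ← h8, closure_eq]
  exact ⟨by omega, fun g => Set.ext_iff.mp h8 g⟩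

theorem card_V (hx : orderOf x = 3) : Nat.card (Vs x) = 4 := (h.V_spec hx).1

theorem mem_V (hx : orderOf x = 3) : g ∈ Vs x ↔ g * x = x * g ∧ g * g = 1 := (h.V_spec hx).2 g

theorem V_le (hx : orderOf x = 3) : Vs x ≤ C₁[x] := fun _ hg =>
  mem_cent1_iff.mpr ((h.mem_V hx).mp hg).1

theorem V_sq (hx : orderOf x = 3) (g : G) (hg : g ∈ Vs x) : g * g = 1 := ((h.mem_V hx).mp hg).2

theorem V_pg (hx : orderOf x = 3) : IsPGroup 2 (Vs x) := .of_card (n := 2) (h.card_V hx)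

theorem V_conj (hx : orderOf x = 3) (hv : v ∈ Vs x) (g : G) : g * v * g⁻¹ ∈ Vs (g * x * g⁻¹) :=
  (h.mem_V ((orderOf_conj' g x).trans hx)).mpr
    ⟨by rw [conj_mul, conj_mul, ((h.mem_V hx).mp hv).1], conj_sq (h.V_sq hx v hv) g⟩

theorem V_inv (hx : orderOf x = 3) : Vs x⁻¹ = Vs x := by
  ext g
  rw [h.mem_V hx, h.mem_V ((orderOf_inv x).trans hx)]
  exact and_congr_left' Commute.inv_right_iff

theorem V_norm (hx : orderOf x = 3) (hg : g * x * g⁻¹ = x ∨ g * x * g⁻¹ = x⁻¹) : g ∈ N[Vs x] :=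
  mem_norm_of_conj fun v hv => by
    have := h.V_conj hx hv g
    rcases hg with e | e
    · rwa [e] at this
    · rwa [e, h.V_inv hx] at this

theorem cent2' (ht : orderOf t = 2) : Nat.card C₁[t] = 384 ∨ Nat.card C₁[t] = 576 ∨
    Nat.card C₁[t] = 1152 := by
  obtain ⟨k, hk⟩ := h.cent_dvd ht (by simp)
  have h4 := index_le_mo t
  have h5 := h.idx C₁[t]
  rw [ht, h.m2] at h4
  have h6 := Nat.mul_le_mul_right (Nat.card C₁[t]) h4
  have h7 : k ≤ 3 := by
    by_contra e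
    have := Nat.mul_le_mul_left (Nat.card C₁[t]) (show 4 ≤ k by omega)
    omega
  interval_cases k <;> omega

theorem not_nine (ht : orderOf t = 2) : ¬ 9 ∣ Nat.card C₁[t] := by
  classical
  have := Fintype.ofFinite G
  intro h9
  obtain ⟨P, h1, h2⟩ := exists_le_card (n := 2) Nat.prime_three h9
  obtain ⟨x, hx, ox⟩ := exists_mem_orderOf Nat.prime_three (H := P) (by rw [h2]; norm_num)
  have hP := abel_of_card_sq h2
  have h3 : P ≤ C₁[x] := fun g hg => mem_cent1_iff.mpr (comm_of_abel hP hg hx)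
  have h4 : P ≤ C[Vs x] := fun g hg => cent_four (h.card_V ox) (h.V_sq ox)
    (h.cube (.of_card h2) hg) (h.V_norm ox (Or.inl (mul_inv_eq_iff_eq_mul.mpr
      (mem_cent1_iff.mp (h3 hg)))))
    ((h.mem_V ox).mpr ⟨(mem_cent1_iff.mp (h1 hx)).symm, (of_o2 ht).2⟩) (of_o2 ht).1
    (mem_cent1_iff.mp (h1 hg))
  have h5 : Vs x ⊔ P = C₁[x] := Cfsg.Agent.H7.eq_of_le_of_card_le (sup_le (h.V_le ox) h3) (by
    rw [card_sup_of_inf_eq_bot (h4.trans (cent_le_norm _)) (inf_eq_bot_of_coprime'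
      (by rw [h2, h.card_V ox]; norm_num)), h2, h.card_V ox, (h.cent3 ox).1]; norm_num)
  have h6 : ∀ y : G, orderOf y = 3 → IsMulCommutative C₁[y] := fun y hy => by
    obtain ⟨g, rfl⟩ := h.conj3 ox hy
    rw [← conj_smul_cent1, ← h5]
    exact abel_smul (abel_sup (abel_of_card_sq (p := 2) (h.card_V ox)) hP h4) g
  have h7 : ∀ s : G, orderOf s = 2 → 80 ≤ mo C₁[s] 3 := fun s hs => by
    have k1 : ∀ y : C₁[s], orderOf y = 3 → C₁[(y : G)] ≤ C₁[s] := fun y hy g hg =>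
      mem_cent1_iff.mpr (comm_of_abel (h6 y ((orderOf_coe y).trans hy)) hg
        (mem_cent1_comm.mp y.2))
    have k2 := h.cent2' hs
    obtain ⟨y, hy⟩ := mo_pos_iff.mp (mo_pos_prime (G := C₁[s]) Nat.prime_three (by omega))
    have k3 := (h.cent3 ((orderOf_coe y).trans hy)).1 ▸ card_dvd_of_le (k1 y hy)
    have k4 : 16 ∣ mo C₁[s] 3 := dvd_mo fun y hy => by
      have := (C₁[y]).index_mul_card
      rw [card_cent1_coe y.2, inf_eq_left.mpr (k1 y hy),
        (h.cent3 ((orderOf_coe y).trans hy)).1] at this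
      omega
    have k5 := frob (G := C₁[s]) (d := 9) (by omega)
    rw [show Nat.divisors 9 = {1, 3, 9} from rfl, Finset.sum_insert (by simp),
      Finset.sum_pair (by simp), mo_one, mo_eq_zero (n := 9) fun g e => by
        have := h.ord g
        rw [orderOf_coe, e] at this
        simp at this] at k5
    omega
  have h8 := mo_mul_sum (G := G) (a := 2) (b := 3) (by norm_num)
  have h9 := Finset.card_nsmul_le_sum _ _ 80 fun s (hs : s ∈ ({x | orderOf x = 2} : Finset G)) =>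
    h7 s (Finset.mem_filter.mp hs).2
  rw [← h8, ← mo_eq, h.m2, h.m6] at h9
  norm_num at h9

theorem cent2 (ht : orderOf t = 2) : Nat.card C₁[t] = 384 := by
  have := h.cent2' ht
  have := h.not_nine ht
  omega

end H22

end Cfsg.Agent.Ma
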