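import Mathlib
import Cfsg.Prelude.Def_Spor_J1

/-! Definitions for S3403 (classes of subgroups of order 11). -/

set_option autoImplicit false

namespace Cfsg.Agent.H9.O11

open Subgroup MulAction
open scoped Pointwise

variable {G : Type*} [Group G]

/-- Raw facts on a subgroup isomorphic to `PSL(2, 11)`. -/
structure LR (X : Subgroup G) : Prop where
  card : Nat.card X = 660
  ord : ∀ x ∈ X, orderOf x ∈ [1, 2, 3, 5, 6, 11]
  simple : IsSimpleGroup X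
  seven : ∃ x ∈ X, orderOf x = 2 ∧ ∃ s : Finset G, s.card = 7 ∧
    ∀ y ∈ s, y ∈ X ∧ orderOf y = 2 ∧ Commute x y
  real3 : ∀ z ∈ X, orderOf z = 3 → ∃ y ∈ X, y * z * y⁻¹ = z⁻¹
  iso : Nonempty (X ≃* Matrix.ProjectiveSpecialLinearGroup (Fin 2) (ZMod 11))

/-- Raw facts on a subgroup isomorphic to `J1`; `t = g ^ 5`, `h = g ^ 2`. -/
structure JR (X : Subgroup G) (a g w r : G) (ι : alternatingGroup (Fin 5) →* G) : Prop where
  card : Nat.card X = 175560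
  ord : ∀ x ∈ X, orderOf x ∈ [1, 2, 3, 5, 6, 7, 10, 11, 15, 19]
  ma : a ∈ X
  mg : g ∈ X
  mr : r ∈ X
  mι : ∀ c, ι c ∈ X
  oa : orderOf a = 11
  og : orderOf g = 10
  ga : g * a * g⁻¹ = a ^ 2
  inj : Function.Injective ι
  cι : ∀ c, Commute (g ^ 5) (ι c)
  hι : ∃ c, ι c = g ^ 2
  wι : ∃ c, ι c = w
  ow : orderOf w = 2
  wh : w * g ^ 2 * w⁻¹ = (g ^ 2)⁻¹
  or : orderOf r = 3
  rh : Commute r (g ^ 2)
  cls : ∀ u ∈ X, orderOf u = 2 → ∃ y ∈ X, y * g ^ 5 * y⁻¹ = u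
  cent : ∀ y ∈ X, Commute y (g ^ 5) → ∃ c, y = ι c ∨ y = g ^ 5 * ι c
  gen1 : closure {a, r * a * r⁻¹} = X
  gen2 : closure {a, g, w * a * w⁻¹} = X
  f2 : ∀ y ∈ normalizer (X : Set G), Commute y a →
    ∃ i : ℕ, ∃ k ∈ centralizer (X : Set G), y = a ^ i * k
  iso : Cfsg.Spor.IsoJ1 X

/-- `X` is a copy of `J1`. -/
def JF (X : Subgroup G) : Prop := ∃ a g w r ι, JR X a g w r ι

/-- A transitive class of subgroups of order 11, indexed by `Ω`. -/
structure Geo {Ω : Type*} [MulAction G Ω] (A : Ω → Subgroup G) : Prop where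
  card : ∀ α, Nat.card (A α) = 11
  smul : ∀ (g : G) α, A (g • α) = MulAut.conj g • A α
  inj : Function.Injective A
  trans : ∀ α β : Ω, ∃ g : G, g • α = β
  pair : ∀ α β, α ≠ β → LR (A α ⊔ A β) ∨ JF (A α ⊔ A β)

end Cfsg.Agent.H9.O11
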