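import Cfsg.Agent.H9.FxRank
import Cfsg.Agent.H7.BG.PGroup

/-! Taussky's theorem; 2-groups with an involution whose centralizer has order at most 8. -/

set_option autoImplicit false

namespace Cfsg.Agent.Fx4

open Subgroup Cfsg.Agent.H7
open MulAut (conj)
open scoped Pointwise commutatorElement

universe u
variable {G : Type u} [Group G] [Finite G] {k : ℕ} {A B H K W X Y : Subgroup G}

theorem two_mul_card_le (h : H ≤ K) (hn : ¬ K ≤ H) : 2 * Nat.card H ≤ Nat.card K := by
  rw [← card_mul_relIndex h, mul_comm]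
  refine Nat.mul_le_mul_left _ ?_
  have h0 := relIndex_ne_zero' H K
  have h1 : H.relIndex K ≠ 1 := fun e => hn (relIndex_eq_one.mp e)
  omega

theorem mul_mem_iff_of_card (h : H ≤ K) (hc : Nat.card K ≤ 2 * Nat.card H)
    {a b : G} (ha : a ∈ K) (hb : b ∈ K) : a * b ∈ H ↔ (a ∈ H ↔ b ∈ H) := by
  by_cases hn : K ≤ H
  · simp [hn ha, hn hb, H.mul_mem (hn ha) (hn hb)]
  have h2 : H.relIndex K = 2 := by
    have := card_mul_relIndex h
    have h3 := two_mul_card_le h hn
    refine Nat.eq_of_mul_eq_mul_left (Nat.card_pos (α := H)) ?_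
    omega
  exact mul_mem_iff_of_index_two (H := H.subgroupOf K) h2 (a := ⟨a, ha⟩) (b := ⟨b, hb⟩)

theorem le_norm_of_card (h : H ≤ K) (hc : Nat.card K ≤ 2 * Nat.card H) : K ≤ N[H] :=
  le_norm_of_conj fun b hb a ha => by
    rw [mul_mem_iff_of_card h hc (mul_mem hb (h ha)) (inv_mem hb),
      mul_mem_iff_of_card h hc hb (h ha), inv_mem_iff]
    tauto

theorem le_of_lt_two_mul (h : H ≤ K) (hc : Nat.card K < 2 * Nat.card H) : K ≤ H := by
  by_contra hn
  have := two_mul_card_le h hn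
  omega

theorem pow_two_le_of_lt {n : ℕ} (h : ∃ j, n = 2 ^ j) (hn : n < 2 ^ (k + 1)) : n ≤ 2 ^ k := by
  obtain ⟨j, rfl⟩ := h
  exact Nat.pow_le_pow_right two_pos
    (Nat.lt_succ_iff.1 ((Nat.pow_lt_pow_iff_right one_lt_two).1 hn))

theorem card_pow (hP : IsPGroup 2 G) (H : Subgroup G) : ∃ j, Nat.card H = 2 ^ j :=
  (hP.to_subgroup H).exists_card_eq

theorem relIndex_pow (hP : IsPGroup 2 G) (H K : Subgroup G) : ∃ j, H.relIndex K = 2 ^ j := by
  obtain ⟨j, hj⟩ := card_pow hP K
  obtain ⟨i, -, hi⟩ := (Nat.dvd_prime_pow Nat.prime_two).1 (hj ▸ relIndex_dvd_card' H K)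
  exact ⟨i, hi⟩

theorem exists_norm_sq (hP : IsPGroup 2 G) (hA : A ≤ B) (h : ¬ B ≤ A) :
    ∃ w ∈ B, w ∈ N[A] ∧ w ∉ A ∧ w * w ∈ A := by
  obtain ⟨Y, h1, h2, h3⟩ := exists_over_index_prime (hP.to_subgroup B) (lt_of_le_not_ge hA h)
  obtain ⟨s, hs, hsA, hs2⟩ := exists_notMem_pow_mem (p := 2) h1.2 (h3 ▸ dvd_rfl)
  exact ⟨s, h2 hs, h1.2 hs, hsA, pow_two s ▸ hs2⟩

theorem exists_central (hP : IsPGroup 2 G) (hA : A ≠ ⊥) (hX : X ≤ N[A]) :
    ∃ z ∈ A, z ≠ 1 ∧ z * z = 1 ∧ z ∈ C[X] := by
  obtain ⟨z, hz, hc, ho⟩ := exists_mem_center_pgroup (hP.to_subgroup (A ⊔ X))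
    (NormalIn.sup_left hX) hA
  refine ⟨z, hz, fun e => by simp [e] at ho, ?_, cent_anti le_sup_right hc⟩
  rw [← pow_two, ← ho, pow_orderOf_eq_one]

theorem card_zpowers_invol {z : G} (h1 : z ≠ 1) (h2 : z * z = 1) : Nat.card (zpowers z) = 2 := by
  rw [Nat.card_zpowers, orderOf_eq_prime (by rw [pow_two, h2]) h1]

omit [Finite G] in
theorem mem_zpowers_invol {z x : G} (h2 : z * z = 1) : x ∈ zpowers z ↔ x = 1 ∨ x = z := by
  refine ⟨?_, by rintro (rfl | rfl); exacts [one_mem _, mem_zpowers _]⟩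
  rintro ⟨i, rfl⟩
  have key : ∀ n : ℤ, z ^ (2 * n) = 1 := fun n => by rw [zpow_mul, zpow_two, h2, one_zpow]
  rcases Int.even_or_odd' i with ⟨a, rfl | rfl⟩
  · exact Or.inl (key a)
  · exact Or.inr (by simp only [zpow_add, key, one_mul, zpow_one])

theorem card_sup_zpowers_le {w : G} (hw : w ∈ N[A]) (h2 : w * w ∈ A) :
    Nat.card ↥(A ⊔ zpowers w) ≤ 2 * Nat.card A := by
  have hn : zpowers w ≤ N[A] := zpowers_le_of_mem hw
  rw [← card_mul_relIndex (le_sup_left : A ≤ A ⊔ zpowers w), relIndex_sup_of_norm hn, mul_comm]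
  refine Nat.mul_le_mul_right _ ?_
  rw [← inf_relIndex_right]
  refine SR.zpowers w _ _ inf_le_right le_rfl ?_
  rintro _ ⟨i, rfl⟩
  refine ⟨?_, mul_mem (zpow_mem_zpowers _ _) (zpow_mem_zpowers _ _)⟩
  have := zpow_mem h2 i
  rwa [← (Commute.refl w).mul_zpow]

theorem card_sup_zpowers {w : G} (hw : w ∈ N[A]) (h1 : w ∉ A) (h2 : w * w ∈ A) :
    Nat.card ↥(A ⊔ zpowers w) = 2 * Nat.card A :=
  le_antisymm (card_sup_zpowers_le hw h2)
    (two_mul_card_le le_sup_left fun h => h1 (h (mem_sup_right (mem_zpowers w))))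

theorem index_commutator_le (x : G) : (commutator G).index ≤ Nat.card C₁[x] := by
  have h := card_le_cent_mul ⊤ x (T := (fun d => d * x) '' (commutator G : Set G)) fun w _ =>
    ⟨w * x * w⁻¹ * x⁻¹, comm_mem (mem_top _) (mem_top _), by simp⟩
  rw [Set.ncard_image_of_injective _ (mul_left_injective x), inf_top_eq, card_top,
    ← (commutator G).index_mul_card] at h
  exact Nat.le_of_mul_le_mul_right h (card_pos' _)

theorem exists_cyclic_of_card_le (hP : IsPGroup 2 G) (h : Nat.card G ≤ 8)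
    (h2 : Nat.card G ≤ 4 ∨ ∃ x : G, x * x ≠ 1) : ∃ c : G, (zpowers c).index ≤ 2 := by
  by_cases h1 : ∃ x : G, x * x ≠ 1
  · obtain ⟨x, hx⟩ := h1
    refine ⟨x, ?_⟩
    have h3 : 4 ≤ Nat.card (zpowers x) := by
      obtain ⟨j, hj⟩ := card_pow hP (zpowers x)
      by_contra hlt
      have h4 : Nat.card (zpowers x) ∣ 2 := by
        rw [hj] at hlt ⊢
        have : j ≤ 1 := by
          by_contra h5
          exact hlt (Nat.pow_le_pow_right two_pos (show 2 ≤ j by omega))
        interval_cases j <;> simp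
      rw [Nat.card_zpowers, orderOf_dvd_iff_pow_eq_one, pow_two] at h4
      exact hx h4
    have := (zpowers x).card_mul_index
    nlinarith
  · have h4 := h2.resolve_right h1
    push Not at h1
    rcases subsingleton_or_nontrivial G with h5 | h5
    · exact ⟨1, (Nat.le_of_dvd Nat.card_pos (index_dvd_card _)).trans (by simp)⟩
    · obtain ⟨x, hx⟩ := exists_ne (1 : G)
      refine ⟨x, ?_⟩
      have := (zpowers x).card_mul_index
      rw [card_zpowers_invol hx (h1 x)] at this
      omega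

omit [Finite G] in
theorem ncard_le_relIndex {β : Type*} (W K : Subgroup G) [Finite W] (f : G → β)
    (h : ∀ w ∈ W, ∀ w' ∈ W, w⁻¹ * w' ∈ K → f w = f w') :
    (f '' (W : Set G)).ncard ≤ K.relIndex W := by
  rw [relIndex, index, ← Nat.card_coe_set_eq]
  refine Nat.card_le_card_of_surjective
    (fun q : W ⧸ K.subgroupOf W => (⟨f q.out, q.out, q.out.2, rfl⟩ : f '' (W : Set G))) ?_
  rintro ⟨_, w, hw, rfl⟩
  refine ⟨((⟨w, hw⟩ : W) : W ⧸ K.subgroupOf W), Subtype.ext (h _ (Subtype.prop _) _ hw ?_)⟩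
  exact (QuotientGroup.eq (s := K.subgroupOf W)).1
    (QuotientGroup.out_eq' ((⟨w, hw⟩ : W) : W ⧸ K.subgroupOf W))

/-- a group with an abelian subgroup `C` of index two has `|G'| ≤ |C : C_C(x)|` -/
theorem card_commutator_le {C : Subgroup G} (hC : C ≤ C[C]) (hi : C.index = 2) {x : G}
    (hx : x ∉ C) : Nat.card (commutator G) ≤ (C₁[x]).relIndex C := by
  have hn := normal_of_index_eq_two hi
  have cm : ∀ a ∈ C, ∀ b ∈ C, a * b = b * a := fun a ha b hb => comm_of_mem_cent (hC hb) ha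
  let I : Subgroup G :=
    { carrier := (fun y => y * x * y⁻¹ * x⁻¹) '' (C : Set G)
      one_mem' := ⟨1, one_mem _, by simp⟩
      mul_mem' := by
        rintro _ _ ⟨a, ha, rfl⟩ ⟨b, hb, rfl⟩
        refine ⟨a * b, mul_mem ha hb, ?_⟩
        have h1 := cm _ (hn.conj_mem _ (inv_mem ha) x) _ (mul_mem hb (hn.conj_mem _ (inv_mem hb) x))
        calc a * b * x * (a * b)⁻¹ * x⁻¹ = a * ((b * (x * b⁻¹ * x⁻¹)) * (x * a⁻¹ * x⁻¹)) := by group
          _ = _ := by rw [← h1]; group
      inv_mem' := by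
        rintro _ ⟨a, ha, rfl⟩
        refine ⟨a⁻¹, inv_mem ha, ?_⟩
        have h1 := cm _ (hn.conj_mem _ ha x) _ (inv_mem ha)
        calc a⁻¹ * x * a⁻¹⁻¹ * x⁻¹ = a⁻¹ * (x * a * x⁻¹) := by group
          _ = _ := by rw [← h1]; group }
  have k1 : ∀ a ∈ C, ∀ b, b ∉ C → a * b * a⁻¹ * b⁻¹ ∈ I := fun a ha b hb => by
    have hd : x⁻¹ * b ∈ C := by
      rw [mul_mem_iff_of_index_two hi, inv_mem_iff]; tauto
    refine ⟨a, ha, ?_⟩
    have h1 := cm _ hd _ (inv_mem ha)
    calc a * x * a⁻¹ * x⁻¹ = a * x * (a⁻¹ * (x⁻¹ * b)) * b⁻¹ := by group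
      _ = _ := by rw [← h1]; group
  have hle : commutator G ≤ I := by
    rw [_root_.commutator_def, comm_le_iff]
    intro a _ b _
    by_cases ha : a ∈ C <;> by_cases hb : b ∈ C
    · rw [cm a ha b hb]; simp [one_mem]
    · exact k1 a ha b hb
    · have := inv_mem (k1 b hb a ha)
      rwa [show (b * a * b⁻¹ * a⁻¹)⁻¹ = a * b * a⁻¹ * b⁻¹ by group] at this
    · have hd : b * a⁻¹ ∈ C := by
        rw [mul_mem_iff_of_index_two hi, inv_mem_iff]; tauto
      have := inv_mem (k1 _ hd a ha)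
      rwa [show (b * a⁻¹ * a * (b * a⁻¹)⁻¹ * a⁻¹)⁻¹ = a * b * a⁻¹ * b⁻¹ by group] at this
  refine (card_le_of_le' hle).trans (ncard_le_relIndex C _ _ fun w _ w' _ h => ?_)
  rw [mem_cent1_iff] at h
  calc w * x * w⁻¹ * x⁻¹ = w * (x * (w⁻¹ * w')) * w'⁻¹ * x⁻¹ := by group
    _ = _ := by rw [← h]; group

theorem taussky_aux (n : ℕ) : ∀ (P : Type u) [Group P] [Finite P], Nat.card P = n →
    IsPGroup 2 P → (commutator P).index ≤ 4 → ∃ c : P, (zpowers c).index ≤ 2 := by
  induction n using Nat.strong_induction_on with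
  | _ n ih =>
  intro P _ _ hn hP h4
  by_cases hD : commutator P = ⊥
  · rw [hD, index_bot] at h4
    exact exists_cyclic_of_card_le hP (by omega) (Or.inl h4)
  obtain ⟨z, hzD, hz1, hz2, hzc⟩ := exists_central hP hD (X := ⊤)
    (by rw [normalizer_eq_top])
  have zc : ∀ g, g * z = z * g := fun g => comm_of_mem_cent hzc (mem_top g)
  have hZ : (zpowers z).Normal := ⟨fun a ha g => by
    rcases (mem_zpowers_invol hz2).1 ha with rfl | rfl
    · simp
    · rw [zc g]; simp⟩
  let f := QuotientGroup.mk' (zpowers z)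
  have hf : Function.Surjective f := QuotientGroup.mk'_surjective _
  obtain ⟨c', hc⟩ := ih (Nat.card (P ⧸ zpowers z)) (by
    have := card_eq_card_quotient_mul_card_subgroup (zpowers z)
    rw [card_zpowers_invol hz1 hz2] at this
    have := Nat.card_pos (α := P)
    omega) (P ⧸ zpowers z) rfl (hP.to_quotient _) (by
      have e : commutator (P ⧸ zpowers z) = (commutator P).map f := by
        rw [_root_.commutator_def, _root_.commutator_def, map_commutator,
          map_top_of_surjective _ hf]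
      rw [e, index_map, QuotientGroup.ker_mk',
        sup_eq_left.2 (zpowers_le_of_mem hzD), MonoidHom.range_eq_top.2 hf, index_top, mul_one]
      exact h4)
  obtain ⟨c, rfl⟩ := hf c'
  rw [← index_comap_of_surjective _ hf, ← MonoidHom.map_zpowers, comap_map_eq,
    QuotientGroup.ker_mk'] at hc
  by_cases hzc' : z ∈ zpowers c
  · exact ⟨c, by rwa [sup_eq_left.2 (zpowers_le_of_mem hzc')] at hc⟩
  set C := zpowers c ⊔ zpowers z with hC
  have hCC : C ≤ C[C] := by
    have : ∀ a ∈ ({c, z} : Set P), C ≤ C₁[a] := by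
      rintro _ (rfl | rfl) <;> refine sup_le (zpowers_le_of_mem ?_) (zpowers_le_of_mem ?_) <;>
        simp [mem_cent1_iff, zc]
    refine sup_le (zpowers_le_of_mem ?_) (zpowers_le_of_mem ?_) <;> rw [← le_cent1_iff] <;>
      apply this <;> simp
  have hC2 : C.index = 2 := by
    have h0 := C.index_ne_zero_of_finite
    have h1 : C.index ≠ 1 := fun e => hD (by
      rw [index_eq_one] at e
      rw [_root_.commutator_def, comm_eq_bot_iff, ← e]; exact hCC)
    omega
  have hCn := normal_of_index_eq_two hC2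
  obtain ⟨x, hx⟩ : ∃ x, x ∉ C := by
    by_contra h
    push Not at h
    rw [(eq_top_iff' C).2 h, index_top] at hC2
    omega
  have k1 := card_commutator_le hCC hC2 hx
  have k2 := card_inf_mul_relIndex C₁[x] C
  have k3 := C.card_mul_index
  have k4 := (commutator P).card_mul_index
  have k5 : Nat.card ↥(C₁[x] ⊓ C) ≤ 2 := by
    have := relIndex_pos' C₁[x] C
    rw [hC2] at k3
    nlinarith
  have mc : ∀ y ∈ C, ∃ a ∈ zpowers c, y = a ∨ y = a * z := fun y hy => by
    obtain ⟨a, ha, b, hb, rfl⟩ := (mem_sup_of_norm' (by rw [normalizer_eq_top]; exact le_top)).1 hy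
    rcases (mem_zpowers_invol hz2).1 hb with rfl | rfl <;> exact ⟨a, ha, by simp⟩
  by_cases hc2 : c * c = 1
  · refine exists_cyclic_of_card_le hP ?_ (Or.inr ?_)
    · have h1 : Nat.card C ≤ 2 * Nat.card (zpowers c) :=
        card_sup_zpowers_le (cent_le_norm _ (cent_anti le_top hzc)) (hz2 ▸ one_mem _)
      have h2 : Nat.card (zpowers c) ≤ 2 := by
        rw [Nat.card_zpowers]
        exact Nat.le_of_dvd two_pos (orderOf_dvd_of_pow_eq_one (by rw [pow_two, hc2]))
      rw [hC2] at k3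
      omega
    · by_contra h
      push Not at h
      refine hD (eq_bot_iff.2 ?_)
      rw [_root_.commutator_def, comm_le_iff]
      exact fun a _ b _ => comm_mem_of_sq (X := ⊤) (fun x _ => h x) (mem_top a) (mem_top b)
  · exfalso
    have hsq : ∀ y ∈ C, y * y ∈ zpowers (c * c) := fun y hy => by
      obtain ⟨_, ⟨i, rfl⟩, e | e⟩ := mc y hy
      · exact ⟨i, by rw [e]; exact (Commute.refl c).mul_zpow i⟩
      · refine ⟨i, ?_⟩
        rw [e, mul_assoc, ← mul_assoc z, ← zc, mul_assoc, hz2, mul_one]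
        exact (Commute.refl c).mul_zpow i
    obtain ⟨w, hw, hw1, hw2, hwc⟩ := exists_central hP (A := zpowers (c * c)) (X := ⊤)
      (by simpa using hc2) (le_norm_of_conj fun g _ a ha => by
        have : conj g • zpowers (c * c) ≤ zpowers (c * c) := by
          rw [conj_smul_zpowers, zpowers_le]
          have := hsq _ (hCn.conj_mem c (mem_sup_left (mem_zpowers c)) g)
          rwa [show g * c * g⁻¹ * (g * c * g⁻¹) = g * (c * c) * g⁻¹ by group] at this
        exact this (conj_mem_conj_smul.2 ha))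
    have hwC : w ∈ zpowers c := zpowers_le_of_mem (mul_mem (mem_zpowers c) (mem_zpowers c)) hw
    have h1 := two_mul_card_le (H := zpowers z) (K := C₁[x] ⊓ C)
      (zpowers_le_of_mem ⟨mem_cent1_iff.2 (zc x).symm, mem_sup_right (mem_zpowers z)⟩) fun h => by
        rcases (mem_zpowers_invol hz2).1 (h ⟨cent_le_cent1 (mem_top x) hwc, mem_sup_left hwC⟩)
          with e | e
        · exact hw1 e
        · exact hzc' (e ▸ hwC)
    rw [card_zpowers_invol hz1 hz2] at h1
    omega

theorem SR.of_index_commutator (hP : IsPGroup 2 G) (h : (commutator G).index ≤ 4) :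
    SR 2 (⊤ : Subgroup G) := by
  obtain ⟨c, hc⟩ := taussky_aux _ G rfl hP h
  exact (SR.zpowers c).of_relIndex (b := 1) (by rwa [relIndex_top_right])

omit [Finite G] in
theorem card_cent1_coe {x : G} (hx : x ∈ H) :
    Nat.card C₁[(⟨x, hx⟩ : H)] = Nat.card ↥(C₁[x] ⊓ H) := by
  have : C₁[(⟨x, hx⟩ : H)] = (C₁[x]).subgroupOf H := by
    ext y
    rw [mem_subgroupOf, mem_cent1_iff, mem_cent1_iff, Subtype.ext_iff]
    rfl
  rw [this, ← subgroupOf_map_subtype, card_map_of_injective H.subtype_injective]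

theorem SR.of_cent_le_four (hH : IsPGroup 2 H) {x : G} (hx : x ∈ H)
    (h : Nat.card ↥(C₁[x] ⊓ H) ≤ 4) : SR 2 H :=
  SR.of_top (SR.of_index_commutator hH ((index_commutator_le (⟨x, hx⟩ : H)).trans
    (by rwa [card_cent1_coe])))

theorem conj_eq_coset {x : G} (h : Nat.card C₁[x] ≤ (commutator G).index) {d : G}
    (hd : d ∈ commutator G) : ∃ g : G, g * x * g⁻¹ = d * x := by
  by_contra hn
  push Not at hn
  have h1 := card_le_cent_mul ⊤ x (T := (fun d => d * x) '' ((commutator G : Set G) \ {d}))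
    fun w _ => ⟨w * x * w⁻¹ * x⁻¹, ⟨comm_mem (mem_top _) (mem_top _), fun e => hn w (by
      rw [← Set.mem_singleton_iff.1 e]; simp)⟩, by simp⟩
  rw [Set.ncard_image_of_injective _ (mul_left_injective x), inf_top_eq, card_top,
    ← (commutator G).index_mul_card] at h1
  have h2 : ((commutator G : Set G) \ {d}).ncard < Nat.card (commutator G) :=
    Set.ncard_sdiff_singleton_lt_of_mem hd
  have h3 := Nat.pos_of_ne_zero (commutator G).index_ne_zero_of_finite
  nlinarith

/-- a bound from the commutator subgroup -/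
theorem SR.of_commutator (hP : IsPGroup 2 G) (h : SR 2 (commutator G))
    (h8 : (commutator G).index ≤ 8) : SR 4 (⊤ : Subgroup G) := by
  intro X Y h1 _ h3
  by_cases hX : commutator G ⊔ X = ⊤
  · rw [sup_comm] at hX
    have := hP.isNilpotent
    obtain rfl := H9.eq_top_of_sup_commutator_eq_top hX
    have : commutator G ≤ Y := by
      rw [_root_.commutator_def, comm_le_iff]
      exact fun a ha b hb => comm_mem_of_sq h3 ha hb
    rw [relIndex_top_right]
    exact (index_antitone this).trans (by omega)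
  · rw [relIndex_eq_mul h1 (A := commutator G) (by rw [normalizer_eq_top]; exact le_top)]
    have k1 := h _ _ (inf_le_inf_right _ h1) inf_le_right fun x hx => ⟨h3 x hx.1, mul_mem hx.2 hx.2⟩
    have k2 : (commutator G ⊔ Y).relIndex (commutator G ⊔ X) ≤ 4 := by
      refine (relIndex_le_of_le_left le_sup_left (relIndex_ne_zero' _ _)).trans ?_
      have k3 := relIndex_mul_index (le_sup_left : commutator G ≤ commutator G ⊔ X)
      have k4 : (commutator G ⊔ X).index ≠ 1 := fun e => hX (index_eq_one.1 e)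
      have k5 := (commutator G ⊔ X).index_ne_zero_of_finite
      have k6 : 2 ≤ (commutator G ⊔ X).index := by omega
      nlinarith
    nlinarith

/-- **Lemma A** -/
theorem lemA (hP : IsPGroup 2 G) {t : G} (ht1 : t ≠ 1) (ht : t * t = 1)
    (h : Nat.card C₁[t] ≤ 8) : SR 4 (⊤ : Subgroup G) := by
  have h8 := (index_commutator_le t).trans h
  by_cases h4 : (commutator G).index ≤ 4
  · exact (SR.of_index_commutator hP h4).le (by norm_num)
  have h7 : ¬ (commutator G).index < 2 ^ (2 + 1) := fun k => h4 (pow_two_le_of_lt (hP.index _) k)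
  have hc := fun d => conj_eq_coset (x := t) (d := d) (by omega)
  have hinv : ∀ d ∈ commutator G, d * t * d = t := fun d hd => by
    obtain ⟨g, hg⟩ := hc d hd
    have : d * t * (d * t) = 1 := by
      rw [← hg, show g * t * g⁻¹ * (g * t * g⁻¹) = g * (t * t) * g⁻¹ by group, ht]; simp
    calc d * t * d = d * t * (d * t) * t := by rw [mul_assoc (d * t), mul_assoc d t t, ht, mul_one]
      _ = t := by rw [this, one_mul]
  have htD : t ∉ commutator G := fun k => by
    obtain ⟨g, hg⟩ := hc t k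
    rw [ht] at hg
    exact ht1 (by simpa using hg)
  have hcm : ∀ a ∈ commutator G, ∀ b ∈ commutator G, a * b = b * a := fun a ha b hb => by
    have e2 : a * (b * t * b) * a = t := by rw [hinv b hb, hinv a ha]
    have e3 : a * b * t * (a * b) = a * b * t * (b * a) := by
      calc a * b * t * (a * b) = t := hinv _ (mul_mem ha hb)
        _ = a * (b * t * b) * a := e2.symm
        _ = _ := by group
    exact mul_left_cancel e3
  refine SR.of_commutator hP (fun X Y h1 h2 h3 => relIndex_le_of_card_le ?_) h8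
  have k1 := card_le_of_fun X (C₁[t] ⊓ commutator G) (fun x => x * x) (Set.toFinite (Y : Set G))
    h3 fun w hw w' hw' e => by
      have hm := mul_mem (inv_mem (h2 hw)) (h2 hw')
      refine ⟨mem_cent1_iff.2 ?_, hm⟩
      have e1 : w⁻¹ * w' * (w⁻¹ * w') = 1 := by
        rw [mul_assoc, ← mul_assoc w', hcm _ (h2 hw') _ (inv_mem (h2 hw)), mul_assoc]
        rw [← e]; group
      calc w⁻¹ * w' * t = w⁻¹ * w' * t * (w⁻¹ * w') * (w⁻¹ * w') := by
            rw [mul_assoc _ (w⁻¹ * w'), e1, mul_one]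
        _ = _ := by rw [hinv _ hm]
  have k2 := two_mul_card_le (H := C₁[t] ⊓ commutator G) (K := C₁[t]) inf_le_left
    fun k => htD (k (mem_cent1_self t)).2
  have k3 := card_le_of_le' (inf_le_left : C₁[t] ⊓ commutator G ⊓ X ≤ _)
  rw [inf_eq_left.2 h1]
  change Nat.card X ≤ _ * Nat.card Y at k1
  nlinarith

theorem SR.of_card_32 (h : Nat.card H ≤ 32) {a b : G} (ha : a ∈ H) (hb : b ∈ H)
    (hab : a * b ≠ b * a) : SR 4 H := by
  intro X Y h1 h2 h3
  by_contra hlt
  have k1 := card_mul_relIndex h1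
  have k2 := card_le_of_le' h2
  have k3 := card_pos' Y
  have k4 : Nat.card Y = 1 := by nlinarith
  have k5 : H ≤ X := le_of_lt_two_mul h2 (by nlinarith)
  have := comm_mem_of_sq h3 (k5 ha) (k5 hb)
  rw [eq_bot_iff_card'.2 k4, mem_bot] at this
  exact hab (by calc a * b = a * b * a⁻¹ * b⁻¹ * (b * a) := by group
    _ = _ := by rw [this, one_mul])

end Cfsg.Agent.Fx4
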