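import Cfsg.Agent.H9.O11L

/-! The final configurations for S3403. -/

set_option autoImplicit false

namespace Cfsg.Agent.H9.O11

open Subgroup MulAction Cfsg.Agent.H7
open MulAut (conj)
open scoped Pointwise

variable {G : Type*} [Group G] {X Y : Subgroup G} {Ω : Type*} [MulAction G Ω]
  {A : Ω → Subgroup G} {α β γ δ : Ω} {g x y h u w : G}

/-- all lines are `PSL(2,11)` -/
structure LC (A : Ω → Subgroup G) : Prop where
  geo : Geo A
  perf : commutator G = ⊤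
  lr : ∀ α β, α ≠ β → LR (A α ⊔ A β)
  out : ∀ α β, ∃ γ, ¬ A γ ≤ A α ⊔ A β
  faith : ∀ g : G, (∀ γ : Ω, g • γ = γ) → g = 1
  qtr : ∀ α β γ, β ≠ α → γ ≠ α → ∃ c ∈ C[A α], conj c • (A α ⊔ A β) = A α ⊔ A γ
  kfix : ∀ α β, α ≠ β → ∀ y ∈ C[A α ⊔ A β], y ≠ 1 → ∀ γ, y • γ = γ → A γ ≤ A α ⊔ A β
  hfix : ∀ α β, α ≠ β → ∀ h ∈ A α ⊔ A β, orderOf h = 5 → h • α = α → h • β = β →
    ∀ γ : Ω, h • γ = γ → γ = α ∨ γ = β

/-- the maximal lines are the conjugates of `X ≅ J1` -/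
structure JC (A : Ω → Subgroup G) (X : Subgroup G) : Prop where
  geo : Geo A
  perf : commutator G = ⊤
  jf : JF X
  pt : ∃ α, A α ≤ X
  out : ∃ γ, ¬ A γ ≤ X
  odd : Odd (Nat.card C[X])
  lin : ∀ α β, α ≠ β → ∃ g : G, A α ≤ conj g • X ∧ A β ≤ conj g • X
  uniq : ∀ (g : G) α β, α ≠ β → A α ≤ X → A β ≤ X → A α ≤ conj g • X → A β ≤ conj g • X →
    g ∈ N[X]
  qtr : ∀ (g : G) α, A α ≤ X → A α ≤ conj g • X → ∃ c ∈ C[A α], conj c • X = conj g • X
  kfix : ∀ y ∈ C[X], y ≠ 1 → ∀ γ, y • γ = γ → A γ ≤ X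
  hfix : ∀ h ∈ X, orderOf h = 5 → ∀ γ, h • γ = γ → A γ ≤ X

/-- counting fixed points of a conjugation invariant set in a transitive action -/
theorem count_fix [Finite G] [Finite Ω] (tr : ∀ α β : Ω, ∃ g : G, g • α = β) {U : Set G}
    (hU : ∀ g : G, ∀ u ∈ U, g * u * g⁻¹ ∈ U) {φ : ℕ} (hφ : ∀ u ∈ U, {γ : Ω | u • γ = γ}.ncard = φ)
    (α : Ω) : Nat.card Ω * {u | u ∈ U ∧ u • α = α}.ncard = φ * U.ncard := by
  classical
  have := Fintype.ofFinite G
  have := Fintype.ofFinite Ω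
  have k : ∀ β : Ω, {u | u ∈ U ∧ u • β = β}.ncard = {u | u ∈ U ∧ u • α = α}.ncard := fun β => by
    obtain ⟨g, rfl⟩ := tr α β
    symm
    refine Set.ncard_congr (fun u _ => g * u * g⁻¹) (fun u hu => ⟨hU g u hu.1, ?_⟩)
      (fun a b _ _ e => by simpa using e) fun u hu => ⟨g⁻¹ * u * g, ⟨by simpa using hU g⁻¹ u hu.1,
        by rw [mul_smul, mul_smul, hu.2, inv_smul_smul]⟩, by group⟩
    rw [mul_smul, mul_smul, inv_smul_smul, hu.2]
  have e := Finset.sum_card_bipartiteAbove_eq_sum_card_bipartiteBelow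
    (s := (Finset.univ : Finset Ω)) (t := U.toFinset) (fun β u => u • β = β)
  rw [Finset.sum_congr rfl (g := fun _ => {u | u ∈ U ∧ u • α = α}.ncard) fun β _ => by
      rw [← k β, ← Set.ncard_coe_finset]; congr 1; ext u; simp [Finset.bipartiteAbove],
    Finset.sum_congr (s₁ := U.toFinset) rfl (g := fun _ => φ) fun u hu => by
      rw [← hφ u (Set.mem_toFinset.1 hu), ← Set.ncard_coe_finset]; congr 1; ext u
      simp [Finset.bipartiteBelow]] at e
  simpa [Set.ncard_eq_toFinset_card', mul_comm] using e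

/-- counting a set by the image of a point -/
theorem count_move [Finite G] [Finite Ω] {U : Set G} (α : Ω) {s : ℕ}
    (hs : ∀ β, β ≠ α → {u | u ∈ U ∧ u • α = β}.ncard = s) :
    U.ncard = {u | u ∈ U ∧ u • α = α}.ncard + (Nat.card Ω - 1) * s := by
  classical
  have := Fintype.ofFinite G
  have := Fintype.ofFinite Ω
  have k : ∀ β, (U.toFinset.filter fun u => u • α = β).card = {u | u ∈ U ∧ u • α = β}.ncard :=
    fun β => by rw [← Set.ncard_coe_finset]; congr 1; ext u; simp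
  rw [Set.ncard_eq_toFinset_card', Finset.card_eq_sum_card_fiberwise (f := fun u => u • α)
    (t := Finset.univ) (fun _ _ => by simp), ← Finset.add_sum_erase _ _ (Finset.mem_univ α), k,
    Finset.sum_congr rfl (g := fun _ => s) fun β hβ => by rw [k, hs β (Finset.mem_erase.1 hβ).1]]
  simp [Finset.card_erase_of_mem]

variable [Finite G]

namespace LC

variable (H : LC A)
include H

theorem trans2 (h1 : β ≠ α) (h2 : γ ≠ α) : ∃ g : G, g • α = α ∧ g • β = γ := by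
  obtain ⟨c, hc, e⟩ := H.qtr α β γ h1 h2
  have e1 := H.geo.fix_of_cent hc
  obtain ⟨d, hd, e2⟩ := H.geo.L_trans (H.lr α γ h2.symm) le_sup_left
    (e ▸ H.geo.smul_le_smul.2 le_sup_right) le_sup_right
    (fun k => h1 (smul_left_cancel c (k.trans e1.symm))) h2
  exact ⟨d * c, by rw [mul_smul, e1, H.geo.fix_of_mem hd], by rw [mul_smul, e2]⟩

theorem two (a b c d : Ω) (h1 : a ≠ b) (h2 : c ≠ d) : ∃ g : G, g • a = c ∧ g • b = d := by
  obtain ⟨g, rfl⟩ := H.geo.trans a c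
  obtain ⟨k, e1, e2⟩ := H.trans2 (fun e => h1 (smul_left_cancel g e).symm) h2.symm
  exact ⟨k * g, by rw [mul_smul, e1], by rw [mul_smul, e2]⟩

theorem line_eq (h1 : α ≠ β) (h2 : γ ≠ δ) (hγ : A γ ≤ A α ⊔ A β) (hδ : A δ ≤ A α ⊔ A β) :
    A γ ⊔ A δ = A α ⊔ A β := H.geo.sup_eq (H.lr α β h1) hγ hδ h2

/-- an element conjugating some `y ∈ K#` into `K` normalizes the line -/
theorem norm_of_K (h1 : α ≠ β) (hy : y ∈ C[A α ⊔ A β]) (y1 : y ≠ 1)
    (hg : g⁻¹ * y * g ∈ C[A α ⊔ A β]) : g ∈ N[A α ⊔ A β] := by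
  have k : ∀ γ, A γ ≤ A α ⊔ A β → A (g • γ) ≤ A α ⊔ A β := fun γ hγ => H.kfix α β h1 y hy y1 _ (by
    have := H.geo.fix_of_centX hγ hg
    rwa [mul_smul, mul_smul, inv_smul_eq_iff] at this)
  exact mem_norm_of_conj_smul_le (by
    rw [H.geo.smul_sup]; exact sup_le (k α le_sup_left) (k β le_sup_right))

/-- two lines with a common nontrivial centralizing element are equal -/
theorem eq_of_K (h1 : α ≠ β) (h2 : γ ≠ δ) (hy : y ∈ C[A α ⊔ A β]) (y1 : y ≠ 1)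
    (hy' : y ∈ C[A γ ⊔ A δ]) : A γ ⊔ A δ = A α ⊔ A β :=
  H.line_eq h1 h2 (H.kfix α β h1 y hy y1 _ (H.geo.fix_of_centX le_sup_left hy'))
    (H.kfix α β h1 y hy y1 _ (H.geo.fix_of_centX le_sup_right hy'))

end LC

end Cfsg.Agent.H9.O11
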