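import Cfsg.Agent.H9.Tri

/-! Characters of small `p`-defect: the relations on `p`-regular elements. -/

set_option autoImplicit false

namespace Cfsg.Agent.H9.Def

open Cfsg Cfsg.Agent.H3 Cfsg.Agent.H2.D1 Finset
open Cfsg.Agent.H9.Tri (blk mem_blk val_idem_blk blk_eq dg_mul)
open scoped ComplexConjugate

variable {G : Type*} [Group G] [Fintype G] {p : ℕ}

/-- The inner product over the `p`-regular elements. -/
noncomputable def m (p : ℕ) (χ ψ : IrrCharacter G) : ℂ :=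
  classInner (regInd p G * (χ : G → ℂ)) ψ

theorem card_mul_m (χ ψ : IrrCharacter G) : (Nat.card G : ℂ) * m p χ ψ =
    ∑ g, regInd p G g * (χ : G → ℂ) g * conj ((ψ : G → ℂ) g) := card_mul_classInner _ _

omit [Fintype G] in
theorem conj_r (g : G) : conj (regInd p G g) = regInd p G g := by
  unfold regInd; split_ifs <;> simp

omit [Fintype G] in
theorem r_mul_r (g : G) : regInd p G g * regInd p G g = regInd p G g := by
  unfold regInd; split_ifs <;> simp

omit [Fintype G] in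
theorem r_int (g : G) : IsIntegral ℤ (regInd p G g) := by
  unfold regInd; split_ifs
  exacts [isIntegral_one, isIntegral_zero]

omit [Fintype G] in
theorem cf (χ : IrrCharacter G) : IsClassFunction G (regInd p G * (χ : G → ℂ)) :=
  isClassFunction_mul (regInd_isClassFunction p) (char_isClassFunction (irr_isCharacter χ.2))

theorem conj_m (χ ψ : IrrCharacter G) : conj (m p χ ψ) = m p ψ χ := by
  rw [m, conj_classInner, m, classInner, classInner]
  refine congrArg _ (sum_congr rfl fun g _ => ?_)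
  simp only [Pi.mul_apply, map_mul, conj_r]; ring

theorem expand (χ : IrrCharacter G) (g : G) :
    regInd p G g * (χ : G → ℂ) g = ∑ θ, m p χ θ * (θ : G → ℂ) g := by
  rw [← Pi.mul_apply, classFunction_apply (cf χ) g]; rfl

theorem inner_eq (χ ψ : IrrCharacter G) :
    classInner (regInd p G * (χ : G → ℂ)) (regInd p G * (ψ : G → ℂ)) = m p χ ψ := by
  rw [m, classInner, classInner]
  refine congrArg _ (sum_congr rfl fun g _ => ?_)
  simp only [Pi.mul_apply, map_mul, conj_r]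
  linear_combination ((χ : G → ℂ) g * conj ((ψ : G → ℂ) g)) * r_mul_r g

theorem m_self_ne (χ : IrrCharacter G) : m p χ χ ≠ 0 := fun h => by
  have h3 := congrFun (eq_zero_of_classInner_self ((inner_eq χ χ).trans h)) 1
  rw [Pi.mul_apply, regInd_of_isPReg (IsPReg.one p), one_mul] at h3
  exact irr_one_ne_zero χ.2 h3

/-- the class function `κ` -/
noncomputable def kap (p : ℕ) (χ : IrrCharacter G) : G → ℂ :=
  regInd p G * fun g => conj ((χ : G → ℂ) g)

theorem kap_cf (χ : IrrCharacter G) : IsClassFunction G (kap p χ) :=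
  isClassFunction_mul (regInd_isClassFunction p)
    (char_isClassFunction (isCharacter_conj (irr_isCharacter χ.2)))

theorem kap_int (χ : IrrCharacter G) (g : G) : IsIntegral ℤ (kap p χ g) :=
  (r_int g).mul (char_isIntegral (isCharacter_conj (irr_isCharacter χ.2)) g)

theorem omega_kap (χ ψ : IrrCharacter G) :
    omega ψ (kap p χ) = ((Nat.card G / dg ψ : ℕ) : ℂ) * m p ψ χ := by
  have h0 : (dg ψ : ℂ) ≠ 0 := Nat.cast_ne_zero.2 (dg_pos ψ).ne'
  rw [omega, dg_eq, div_eq_iff h0, mul_comm _ (dg ψ : ℂ), ← mul_assoc, ← Nat.cast_mul, dg_mul,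
    card_mul_m]
  exact sum_congr rfl fun g _ => by simp only [kap, Pi.mul_apply]; ring

variable [hp : Fact p.Prime]

theorem genChar_r :
    IsGeneralizedCharacter G (((p ^ (Nat.card G).factorization p : ℕ) : ℂ) • regInd p G) := by
  classical
  refine genChar_of_prod p (isClassFunction_smul _ (regInd_isClassFunction p)) fun Q R hQ hR hc => ?_
  obtain ⟨j, hj⟩ := IsPGroup.iff_card.1 hQ
  have h1 : p ^ j ∣ p ^ (Nat.card G).factorization p := pow_dvd_pow _
    ((hp.out.pow_dvd_iff_le_factorization Nat.card_pos.ne').1 (hj ▸ Q.card_subgroup_dvd_card))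
  obtain ⟨c, hc'⟩ := h1
  have h2 := genChar_natCast_smul (genChar_comp (MonoidHom.fst Q R)
    (genChar_of_char (isCharacter_reg (G := Q)))) c
  convert h2 using 1
  ext y
  have h3 : IsPReg p ((y.1 : G) * y.2) ↔ y.1 = 1 := by
    rw [← pPart_eq_one_iff, pPart_mul (IsPElt.of_mem hQ y.1.2) (IsPReg.of_mem hR y.2.2)
      (hc _ y.1.2 _ y.2.2), OneMemClass.coe_eq_one]
  simp only [Pi.smul_apply, regInd, h3, MonoidHom.coe_fst, smul_eq_mul, hj, hc']
  split_ifs <;> simp [mul_comm]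

theorem pow_mul_m (χ ψ : IrrCharacter G) :
    ∃ z : ℤ, ((p ^ (Nat.card G).factorization p : ℕ) : ℂ) * m p χ ψ = z := by
  obtain ⟨z, hz⟩ := classInner_genChar_int
    (genChar_mul (genChar_r (G := G) (p := p)) (genChar_of_irr χ.2)) (genChar_of_irr ψ.2)
  exact ⟨z, by rw [← hz, smul_mul_assoc, classInner_smul_left, m]⟩

theorem m_comm (χ ψ : IrrCharacter G) : m p ψ χ = m p χ ψ := by
  obtain ⟨z, hz⟩ := pow_mul_m (p := p) χ ψ
  have h0 : ((p ^ (Nat.card G).factorization p : ℕ) : ℂ) ≠ 0 :=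
    Nat.cast_ne_zero.2 (pow_ne_zero _ hp.out.ne_zero)
  rw [← conj_m, ← mul_right_inj' h0, hz, ← Complex.conj_natCast, ← map_mul, hz, map_intCast]

theorem sum_mul (χ ψ : IrrCharacter G) : ∑ θ, m p χ θ * m p ψ θ = m p χ ψ := by
  rw [← inner_eq, classInner_eq_sum (cf χ)]
  exact sum_congr rfl fun θ _ => by rw [← m, ← m, conj_m, m_comm ψ θ]

/-- `ω_ψ(κ_χ)` is a rational integer. -/
theorem omega_int (χ ψ : IrrCharacter G) :
    ∃ z : ℤ, ((Nat.card G / dg ψ : ℕ) : ℂ) * m p ψ χ = z := by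
  obtain ⟨z, hz⟩ := pow_mul_m (p := p) ψ χ
  have h0 : p ^ (Nat.card G).factorization p ≠ 0 := pow_ne_zero _ hp.out.ne_zero
  have h0' : ((p ^ (Nat.card G).factorization p : ℕ) : ℂ) ≠ 0 := Nat.cast_ne_zero.2 h0
  have h1 : IsIntegral ℤ (omega ψ (kap p χ)) := isIntegral_sum_mul_div ψ.2 (kap_cf χ) (kap_int χ)
  have h2 : omega ψ (kap p χ) = (((Nat.card G / dg ψ : ℕ) * z : ℤ) : ℂ) /
      (((p ^ (Nat.card G).factorization p : ℕ) : ℤ) : ℂ) := by
    rw [omega_kap, Int.cast_natCast, eq_div_iff h0', Int.cast_mul, Int.cast_natCast, ← hz]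
    ring
  rw [h2] at h1
  obtain ⟨c, hc⟩ := int_dvd_of_isIntegral_div (Int.natCast_ne_zero.2 h0) h1
  refine ⟨c, ?_⟩
  rw [← omega_kap, h2, hc, Int.cast_mul, mul_div_cancel_left₀ _ (by exact_mod_cast h0)]

theorem pow_m {k : ℕ} {χ : IrrCharacter G} (hk : ¬ p ^ (k + 1) ∣ Nat.card G / dg χ)
    (ψ : IrrCharacter G) : ∃ n : ℤ, (p : ℂ) ^ k * m p χ ψ = n := by
  obtain ⟨z, hz⟩ := pow_mul_m (p := p) χ ψ
  obtain ⟨y, hy⟩ := omega_int (p := p) ψ χ
  have hN : Nat.card G / dg χ ≠ 0 := fun e => hk (e ▸ dvd_zero _)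
  obtain ⟨j, c, hc, e⟩ := Nat.exists_eq_pow_mul_and_not_dvd hN p hp.out.ne_one
  have hj : j ≤ k := by
    by_contra h
    exact hk (e ▸ (pow_dvd_pow p (by omega)).mul_right c)
  obtain ⟨a, b, hab⟩ : IsCoprime ((p ^ (Nat.card G).factorization p : ℕ) : ℤ) (c : ℤ) :=
    Nat.isCoprime_iff_coprime.2 (Nat.Coprime.pow_left _ ((hp.out.coprime_iff_not_dvd).2 hc))
  obtain ⟨i, rfl⟩ := Nat.exists_eq_add_of_le hj
  refine ⟨p ^ i * (a * p ^ j * z + b * y), ?_⟩
  have h1 := congrArg (Int.cast : ℤ → ℂ) hab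
  rw [e] at hy
  push_cast at h1 hy hz ⊢
  linear_combination (p : ℂ) ^ i * (a * p ^ j * hz + b * hy - p ^ j * m p χ ψ * h1)

theorem not_vanish {χ : IrrCharacter G} (h : p ∣ Nat.card G / dg χ) :
    ¬ ∀ g, ¬ IsPReg p g → (χ : G → ℂ) g = 0 := fun hv => by
  classical
  obtain ⟨P⟩ : Nonempty (Sylow p G) := inferInstance
  obtain ⟨c, hc⟩ := classInner_genChar_int (genChar_res (P : Subgroup G) (genChar_of_irr χ.2))
    (genChar_of_char isCharacter_one)
  have h1 := card_mul_classInner (fun x : (P : Subgroup G) => (χ : G → ℂ) x) 1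
  rw [hc, sum_eq_single 1 (fun g _ hg => by
    rw [hv g fun e => hg (Subtype.ext ((IsPElt.of_mem P.2 g.2).eq_one e)), zero_mul]) (by simp)] at h1
  simp only [Pi.one_apply, map_one, mul_one, OneMemClass.coe_one, dg_eq] at h1
  have h2 : Nat.card P ∣ dg χ := Int.natCast_dvd_natCast.1 ⟨c, by exact_mod_cast h1.symm⟩
  have h3 : Nat.card P * p ∣ Nat.card P * (P : Subgroup G).index := by
    rw [Subgroup.card_mul_index, ← dg_mul χ]
    exact mul_dvd_mul h2 h
  exact P.not_dvd_index (Nat.dvd_of_mul_dvd_mul_left Nat.card_pos h3)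

theorem m_eq_zero {χ ψ : IrrCharacter G} (h : ¬ p ∣ Nat.card G / dg ψ) (hne : ψ ≠ χ) :
    m p χ ψ = 0 := by
  classical
  choose n hn using pow_m (k := 0) (χ := ψ) (by simpa using h)
  simp only [pow_zero, one_mul] at hn
  have h1 : ∑ θ, n θ * n θ = n ψ := by
    have := sum_mul (p := p) ψ ψ
    simp only [hn] at this
    exact_mod_cast this
  have h2 : ∑ θ ∈ {ψ, χ}, n θ * n θ ≤ ∑ θ, n θ * n θ :=
    sum_le_sum_of_subset_of_nonneg (subset_univ _) fun _ _ _ => mul_self_nonneg _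
  rw [sum_pair hne, h1] at h2
  have h3 : n χ = 0 := by
    have : n ψ ≤ n ψ * n ψ := Int.le_self_sq (n ψ) |>.trans (sq (n ψ)).le
    exact mul_self_eq_zero.1 (le_antisymm (by omega) (mul_self_nonneg _))
  rw [m_comm, hn, h3, Int.cast_zero]

section Val

variable {Γ : Type*} [LinearOrderedCommGroupWithZero Γ] {v : Valuation ℂ Γ}

theorem mem_blk_of_m (hv : v p < 1) {χ ψ : IrrCharacter G} (h : m p χ ψ ≠ 0) : ψ ∈ blk v χ :=
  by_contra fun hψ => h (classInner_mul_section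
    (fun x y => sum_eq_zero_of_val_idem hv (val_idem_blk χ))
    (s := regInd p G) (fun x y hxy => regInd_congr (by
      rw [← pPart_eq_one_iff, ← pPart_eq_one_iff]
      exact ⟨fun e => isConj_one_right.mp (e ▸ hxy), fun e => isConj_one_left.mp (e ▸ hxy)⟩))
    (char_isClassFunction (irr_isCharacter χ.2)) (fun θ hθ => classInner_irr_ne χ.2 θ.2
      (fun e => hθ (mem_blk.mpr (fun f _ _ => by rw [← e]; simp)))) hψ)

omit hp in
theorem self_mem_blk (χ : IrrCharacter G) : χ ∈ blk v χ := mem_blk.mpr fun f _ _ => by simp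

omit hp in
/-- The congruence between members of one block. -/
theorem congr_blk {θ ψ : IrrCharacter G} (h : ψ ∈ blk v θ) (χ : IrrCharacter G) :
    v (((Nat.card G / dg ψ : ℕ) : ℂ) * m p ψ χ - ((Nat.card G / dg θ : ℕ) : ℂ) * m p θ χ) < 1 := by
  rw [← omega_kap, ← omega_kap]
  exact mem_blk.1 h _ (kap_cf χ) fun g => val_le_of_isIntegral (kap_int χ g)

theorem dvd_of_val_lt (hv : v p < 1) {z : ℤ} (h : v z < 1) : (p : ℤ) ∣ z := by
  by_contra e
  have h1 := val_natCast_eq_one hp.out hv (n := z.natAbs) fun e' => e (Int.natCast_dvd.2 e')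
  rcases Int.natAbs_eq z with e' | e' <;> rw [e'] at h <;> simp only [Int.cast_neg,
    Int.cast_natCast, Valuation.map_neg] at h <;> exact h.ne h1

/-- Block orthogonality for an arbitrary block. -/
theorem blk_orth (hv : v p < 1) (θ : IrrCharacter G) {x y : G}
    (h : ¬ IsConj (pPart p x) (pPart p y)) :
    ∑ χ ∈ blk v θ, (χ : G → ℂ) x * conj ((χ : G → ℂ) y) = 0 :=
  sum_eq_zero_of_val_idem hv (val_idem_blk θ) h

end Val

/-- The relation on `p`-regular elements for a character of defect at most `k`. -/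
theorem defect {k : ℕ} (χ : IrrCharacter G) (hk : ¬ p ^ (k + 1) ∣ Nat.card G / dg χ) :
    ∃ n z : IrrCharacter G → ℤ, (∀ ψ, (p : ℂ) ^ k * m p χ ψ = n ψ) ∧
      (∀ g, IsPReg p g → (p : ℂ) ^ k * (χ : G → ℂ) g = ∑ ψ, (n ψ : ℂ) * (ψ : G → ℂ) g) ∧
      (∀ g, ¬ IsPReg p g → ∑ ψ, (n ψ : ℂ) * (ψ : G → ℂ) g = 0) ∧
      ∑ ψ, n ψ ^ 2 = p ^ k * n χ ∧ 0 < n χ ∧ n χ ≤ p ^ k ∧
      (p ∣ Nat.card G / dg χ → n χ < p ^ k) ∧
      (∀ ψ, n ψ ≠ 0 → ψ ≠ χ → p ∣ Nat.card G / dg ψ) ∧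
      (∀ ψ, ((Nat.card G / dg ψ : ℕ) : ℤ) * n ψ = p ^ k * z ψ) ∧
      (∀ ψ, n ψ ≠ 0 → (p : ℤ) ∣ z ψ - z χ) := by
  classical
  choose n hn using pow_m hk
  choose z hz using omega_int (p := p) χ
  have p0 : (p : ℂ) ^ k ≠ 0 := pow_ne_zero _ (Nat.cast_ne_zero.2 hp.out.ne_zero)
  have n0 : ∀ ψ, n ψ ≠ 0 ↔ m p χ ψ ≠ 0 := fun ψ => by
    rw [← Int.cast_ne_zero (α := ℂ), ← hn, mul_ne_zero_iff, and_iff_right p0]
  have e0 : ∀ g, (p : ℂ) ^ k * (regInd p G g * (χ : G → ℂ) g) =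
      ∑ ψ, (n ψ : ℂ) * (ψ : G → ℂ) g := fun g => by
    simp only [expand, mul_sum, ← hn, mul_assoc]
  have e1 : ∑ ψ, n ψ ^ 2 = p ^ k * n χ := by
    have : ∑ ψ, (n ψ : ℂ) ^ 2 = p ^ k * n χ := by
      simp only [← hn, mul_pow, ← mul_sum, sq (m p χ _), sum_mul]; ring
    exact_mod_cast this
  have e2 := e1
  rw [← add_sum_erase _ _ (mem_univ χ)] at e2
  have e3 : 0 ≤ ∑ θ ∈ univ.erase χ, n θ ^ 2 := sum_nonneg fun _ _ => sq_nonneg _
  have e4 := (n0 χ).2 (m_self_ne χ)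
  have pk : (0 : ℤ) < p ^ k := pow_pos (Int.natCast_pos.2 hp.out.pos) _
  have e5 : 0 < n χ := by
    have := sq_pos_of_ne_zero e4
    by_contra h
    nlinarith
  have e6 : n χ ≤ p ^ k := by nlinarith
  refine ⟨n, z, hn, fun g hg => ?_, fun g hg => ?_, e1, e5, e6, fun h => e6.lt_of_ne fun e => ?_,
    fun ψ h1 h2 => by_contra fun h3 => (n0 ψ).1 h1 (m_eq_zero h3 h2), fun ψ => ?_,
    fun ψ h => ?_⟩
  · rw [← e0, regInd_of_isPReg hg, one_mul]
  · rw [← e0, regInd_of_not hg, zero_mul, mul_zero]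
  · refine not_vanish h fun g hg => ?_
    have h5 : ∀ θ ∈ univ.erase χ, n θ = 0 := fun θ hθ => pow_eq_zero_iff two_ne_zero |>.1
      ((sum_eq_zero_iff_of_nonneg fun _ _ => sq_nonneg _).1
        (show ∑ θ ∈ univ.erase χ, n θ ^ 2 = 0 by rw [e] at e2; nlinarith) θ hθ)
    have h6 := e0 g
    rw [← add_sum_erase _ _ (mem_univ χ), sum_eq_zero fun θ hθ => by rw [h5 θ hθ]; simp,
      regInd_of_not hg, zero_mul, mul_zero, add_zero] at h6
    exact (mul_eq_zero.1 h6.symm).resolve_left (Int.cast_ne_zero.2 e4)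
  · have : ((Nat.card G / dg ψ : ℕ) : ℂ) * n ψ = p ^ k * z ψ := by
      rw [← hn, ← hz, m_comm χ ψ]; ring
    generalize Nat.card G / dg ψ = c at this
    exact_mod_cast this
  · obtain ⟨V, hv⟩ := exists_valuationSubring_prime hp.out
    refine dvd_of_val_lt hv ?_
    rw [Int.cast_sub, ← hz, ← hz]
    exact congr_blk (mem_blk_of_m hv ((n0 ψ).1 h)) χ

/-- Inner products of the coefficient vectors of two characters. -/
theorem defect_pair {k l : ℕ} {χ ψ : IrrCharacter G} {n n' : IrrCharacter G → ℤ}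
    (h : ∀ θ, (p : ℂ) ^ k * m p χ θ = n θ) (h' : ∀ θ, (p : ℂ) ^ l * m p ψ θ = n' θ) :
    ∑ θ, n θ * n' θ = p ^ l * n ψ ∧ p ^ l * n ψ = p ^ k * n' χ := by
  have h1 : ∑ θ, (n θ : ℂ) * n' θ = p ^ l * n ψ := by
    rw [← h, ← sum_mul, mul_sum, mul_sum]
    exact sum_congr rfl fun θ _ => by rw [← h, ← h']; ring
  have h2 : (p : ℂ) ^ l * n ψ = p ^ k * n' χ := by rw [← h, ← h', m_comm χ ψ]; ring
  exact ⟨by exact_mod_cast h1, by exact_mod_cast h2⟩

/-- If `χ` has defect exactly `k` and `p ∤ n χ`, the support of `n` is the block of `χ`. -/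
theorem ne_zero_of_blk {Γ : Type*} [LinearOrderedCommGroupWithZero Γ] {v : Valuation ℂ Γ}
    {χ ψ : IrrCharacter G} (h : v (((Nat.card G / dg χ : ℕ) : ℂ) * m p χ χ) = 1)
    (hψ : ψ ∈ blk v χ) : v (((Nat.card G / dg ψ : ℕ) : ℂ) * m p χ ψ) = 1 := by
  rw [m_comm ψ χ]
  exact val_eq_one_of_sub_lt h (congr_blk hψ χ)

end Cfsg.Agent.H9.Def
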