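import Cfsg.Agent.H9.M22d
import Cfsg.Agent.H9.MaCnt
import Cfsg.Agent.H4.NseSolve2

/-! The hypothesis `H22` from the set of the numbers of elements of each order. -/

set_option autoImplicit false

namespace Cfsg.Agent.Ma

open Cfsg.Agent.H4.Nse Cfsg.Spor

/-- The values of the counting function. -/
def S22v : List ℕ := [1, 1155, 12320, 36960, 41580, 55440, 80640, 88704, 126720]

theorem spec22 : (∀ k, mo M22 k ∈ 0 :: S22v) ∧ ∀ c ∈ S22v, 0 < c ∧ ∃ n, mo M22 n = c :=
  Md.spec_of Md.mo_M22 (by decide +kernel)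

/-- The divisors of the order. -/
def D22 : List ℕ :=
  [1, 2, 3, 5, 7, 11, 6, 10, 14, 15, 21, 22, 33, 35, 55, 77, 30, 42, 66, 70, 105, 110, 154, 165,
  231, 385, 210, 330, 462, 770, 1155, 2310, 4, 9, 8, 12, 18, 20, 28, 44, 45, 63, 99, 16, 24, 36,
  40, 56, 60, 84, 88, 90, 126, 132, 140, 198, 220, 308, 315, 495, 693, 32, 48, 72, 80, 112, 120,
  168, 176, 180, 252, 264, 280, 396, 420, 440, 616, 630, 660, 924, 990, 1386, 1540, 3465, 64, 96,
  144, 160, 224, 240, 336, 352, 360, 504, 528, 560, 792, 840, 880, 1232, 1260, 1320, 1848, 1980,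
  2772, 3080, 4620, 6930, 128, 192, 288, 320, 448, 480, 672, 704, 720, 1008, 1056, 1120, 1584,
  1680, 1760, 2464, 2520, 2640, 3696, 3960, 5544, 6160, 9240, 13860, 384, 576, 640, 896, 960,
  1344, 1408, 1440, 2016, 2112, 2240, 3168, 3360, 3520, 4928, 5040, 5280, 7392, 7920, 11088,
  12320, 18480, 27720, 1152, 1920, 2688, 2880, 4032, 4224, 4480, 6336, 6720, 7040, 9856, 10080,
  10560, 14784, 15840, 22176, 24640, 36960, 55440, 5760, 8064, 12672, 13440, 20160, 21120, 29568,
  31680, 44352, 49280, 73920, 110880, 40320, 63360, 88704, 147840, 221760, 443520]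

/-- The additional filter. -/
def ex22 (n v : ℕ) : Bool :=
  (n % 11 != 0 || n == 11 || v % 8064 == 0) && (n % 7 != 0 || n == 7 || v % 21120 == 0) &&
    (n % 5 != 0 || n == 5 || v % 22176 == 0)

theorem sols22 : (sols2 S22v ex22 D22 443520).all (fun s =>
    s.map Prod.fst == [8, 4, 6, 11, 7, 5, 3, 2, 1] &&
    [(2, 1155), (3, 12320), (6, 36960)].all s.contains) = true := by
  decide +kernel

theorem H22.of_nse {G : Type*} [Group G] [Finite G] (hc : Nat.card G = 443520)
    (h1 : ∀ n, mo G n ∈ 0 :: S22v) (h2 : ∀ c ∈ S22v, ∃ n, mo G n = c) : H22 G := by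
  have f5 : 5 ∣ mo G 1 + mo G 5 := frob (d := 5) (by rw [hc]; norm_num)
  have f7 : 7 ∣ mo G 1 + mo G 7 := frob (d := 7) (by rw [hc]; norm_num)
  have f11 : 11 ∣ mo G 1 + mo G 11 := frob (d := 11) (by rw [hc]; norm_num)
  rw [mo_one] at f5 f7 f11
  have m5 := h1 5
  have m7 := h1 7
  have m11 := h1 11
  simp only [S22v, List.mem_cons, List.not_mem_nil, or_false] at m5 m7 m11
  obtain ⟨s, hs, h3, h4⟩ := exists_mem_sols2 h1 h2 (by decide) (ex := ex22) (fun n => by
      have a := mo_prime_dvd (G := G) (p := 5) (n := n) (by norm_num) (by rw [hc]; norm_num)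
      have b := mo_prime_dvd (G := G) (p := 7) (n := n) (by norm_num) (by rw [hc]; norm_num)
      have c := mo_prime_dvd (G := G) (p := 11) (n := n) (by norm_num) (by rw [hc]; norm_num)
      rw [show mo G 5 = 88704 by omega] at a
      rw [show mo G 7 = 126720 by omega] at b
      rw [show mo G 11 = 80640 by omega] at c
      simp only [ex22, Bool.and_eq_true, Bool.or_eq_true, bne_iff_ne, beq_iff_eq]
      refine ⟨⟨?_, ?_⟩, ?_⟩ <;> omega) (D := D22) (by decide +kernel)
    fun e he => mem_of_dvd_mul (a := 1152) (b := 385) (by norm_num) (by norm_num)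
      (by decide +kernel) (by rwa [hc] at he)
  have h5 := List.all_eq_true.mp sols22 s (hc ▸ hs)
  simp only [Bool.and_eq_true, beq_iff_eq, List.all_cons, List.all_nil, List.contains_iff_mem] at h5
  obtain ⟨h6, a, b, c, -⟩ := h5
  refine ⟨hc, fun g => ?_, h3 _ a, h3 _ b, h3 _ c⟩
  have := h4 g
  rw [h6] at this
  revert this
  generalize orderOf g = n
  simp only [List.mem_cons, List.not_mem_nil, or_false]
  omega

theorem H22_M22 : H22 M22 := H22.of_nse Md.card_M22 spec22.1 fun c hc => (spec22.2 c hc).2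

end Cfsg.Agent.Ma
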