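import Cfsg.Agent.H7.B24Def

/-! The `3`-block of the character of degree `5544`, seen on the `5`-regular elements. -/

set_option autoImplicit false

namespace Cfsg.Agent.H7.B24

open Cfsg Cfsg.Agent.H3 Cfsg.Agent.H2.D1 Finset
open Cfsg.Agent.H9.Tri (cj T TyA TyB D1 tri' T_eq self_mem_T)
open Cfsg.Agent.H9.Def
open scoped ComplexConjugate Classical

variable {G : Type*} [Group G] [Fintype G] {x w : G} {β1 β2 β3 β4 : IrrCharacter G}

namespace T5

instance fact5 : Fact (Nat.Prime 5) := ⟨Nat.prime_five⟩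

/-- Kronecker delta -/
noncomputable def dl (χ ψ : IrrCharacter G) : ℂ := if χ = ψ then 1 else 0

theorem m_val (B : B5 β1 β2 β3 β4) (χ ψ : IrrCharacter G) (c : ℤ)
    (h : ∀ g, ¬ IsPReg 5 g → (ψ : G → ℂ) g = c) :
    5 * m 5 χ ψ = 5 * dl χ ψ - c * (dl χ triv + dl χ β1 + dl χ β2 - dl χ β3 - dl χ β4) := by
  simp only [dl, ← classInner_irr]
  refine mul_left_cancel₀ (card_ne_zero' (G := G)) ?_
  have e : ∀ θ : IrrCharacter G, (Nat.card G : ℂ) * classInner (χ : G → ℂ) θ =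
      ∑ g, (χ : G → ℂ) g * conj ((θ : G → ℂ) g) := fun θ => card_mul_classInner _ _
  have e0 := card_mul_m (p := 5) χ ψ
  have key : 5 * ∑ g, regInd 5 G g * (χ : G → ℂ) g * conj ((ψ : G → ℂ) g) =
      5 * ∑ g, (χ : G → ℂ) g * conj ((ψ : G → ℂ) g) -
      c * (∑ g, (χ : G → ℂ) g * conj (((triv : IrrCharacter G) : G → ℂ) g) +
        ∑ g, (χ : G → ℂ) g * conj ((β1 : G → ℂ) g) + ∑ g, (χ : G → ℂ) g * conj ((β2 : G → ℂ) g) -
        ∑ g, (χ : G → ℂ) g * conj ((β3 : G → ℂ) g) - ∑ g, (χ : G → ℂ) g * conj ((β4 : G → ℂ) g)) := by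
    simp only [mul_sum, ← sum_add_distrib, ← sum_sub_distrib]
    refine sum_congr rfl fun g _ => ?_
    by_cases hg : IsPReg 5 g
    · have := congrArg conj (B.reg g hg)
      simp only [map_add, map_one] at this
      rw [regInd_of_isPReg hg]
      simp only [Pi.one_apply, map_one]
      linear_combination (c * (χ : G → ℂ) g) * this
    · obtain ⟨a1, a2, a3, a4⟩ := B.sing g hg
      rw [regInd_of_not hg, h g hg, a1, a2, a3, a4]
      simp only [Pi.one_apply, map_one, map_neg, map_intCast]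
      ring
  linear_combination 5 * e0 + key - 5 * e ψ + c * (e triv + e β1 + e β2 - e β3 - e β4)

theorem tya_rel {c1 c2 c3 : IrrCharacter G} (h : TyA c1 c2 c3) :
    m 5 c1 c1 + m 5 c2 c1 - m 5 c3 c1 = m 5 c1 c2 + m 5 c2 c2 - m 5 c3 c2 ∧
    m 5 c1 c1 + m 5 c2 c1 - m 5 c3 c1 = -(m 5 c1 c3 + m 5 c2 c3 - m 5 c3 c3) := by
  constructor
  · refine mul_left_cancel₀ (card_ne_zero' (G := G)) ?_
    simp only [mul_add, mul_sub, card_mul_m, ← sum_add_distrib, ← sum_sub_distrib]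
    refine sum_congr rfl fun g _ => ?_
    by_cases hg : IsPReg 3 g
    · linear_combination (regInd 5 G g * (conj ((c1 : G → ℂ) g) - conj ((c2 : G → ℂ) g))) * h.1 g hg
    · rw [(h.2 g hg).1]
  · refine mul_left_cancel₀ (card_ne_zero' (G := G)) ?_
    simp only [mul_neg, mul_add, mul_sub, card_mul_m, ← sum_add_distrib, ← sum_sub_distrib,
      ← sum_neg_distrib]
    refine sum_congr rfl fun g _ => ?_
    by_cases hg : IsPReg 3 g
    · linear_combination (regInd 5 G g * (conj ((c1 : G → ℂ) g) + conj ((c3 : G → ℂ) g))) * h.1 g hg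
    · rw [(h.2 g hg).1, (h.2 g hg).2, map_neg]
      ring

theorem tya_swap {c1 c2 c3 : IrrCharacter G} (h : TyA c1 c2 c3) : TyA c2 c1 c3 :=
  ⟨fun g hg => by rw [add_comm, h.1 g hg], fun g hg =>
    ⟨(h.2 g hg).1.symm, (h.2 g hg).1.trans (h.2 g hg).2⟩⟩

theorem m_one {χ : IrrCharacter G} (h : ¬ 5 ∣ Nat.card G / dg χ) : m 5 χ χ = 1 := by
  have h1 := sum_mul (p := 5) χ χ
  rw [sum_eq_single χ (fun θ _ hθ => by rw [← m_comm χ θ, m_comm, ← m_comm, m_eq_zero h hθ.symm,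
    zero_mul]) (by simp)] at h1
  exact mul_left_cancel₀ (m_self_ne χ) (by rw [h1, mul_one])

theorem en1 : ∀ a ∈ 1 :: (DN ++ DZ), ∀ b ∈ 1 :: (DN ++ DZ), a + b = 5544 → ¬ 9 ∣ 244823040 / a →
    a = 990 ∧ b = 4554 ∨ a = 4554 ∧ b = 990 ∨ a = 2772 ∧ b = 2772 := by decide +kernel

theorem en2 : ∀ a ∈ 1 :: (DN ++ DZ), ∀ c ∈ 1 :: (DN ++ DZ), a + 5544 = c → ¬ 9 ∣ 244823040 / a →
    3 ∣ 244823040 / c → a = 252 ∧ c = 5796 := by decide +kernel

theorem dg_tr : dg (triv : IrrCharacter G) = 1 := by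
  have := dg_eq (triv : IrrCharacter G)
  simp only [Pi.one_apply] at this
  exact_mod_cast this.symm

theorem mem_L (D : Data G x w) (χ : IrrCharacter G) : dg χ ∈ 1 :: (DN ++ DZ) := by
  by_cases h : χ = triv
  · rw [h, dg_tr]; exact List.mem_cons_self
  · exact List.mem_cons_of_mem _ (List.mem_append.2 (D.deg χ h))

theorem dl_ne {χ ψ : IrrCharacter G} (h : dg χ ≠ dg ψ) : dl χ ψ = 0 :=
  if_neg fun e => h (by rw [e])

theorem dl_self (χ : IrrCharacter G) : dl χ χ = 1 := if_pos rfl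

/-- all inner products with `1, β2, β4` -/
theorem vals (B : B5 β1 β2 β3 β4) {χ : IrrCharacter G} (h1 : dg χ ≠ 1)
    (h2 : dg χ ∉ [1771, 2024, 506, 759, 6831, 7084]) :
    5 * m 5 χ triv = -(dl χ β2 - dl χ β4) ∧ 5 * m 5 χ β2 = 4 * dl χ β2 + dl χ β4 ∧
      5 * m 5 χ β4 = dl χ β2 + 4 * dl χ β4 := by
  have hb := B.d13
  simp only [List.mem_cons, Prod.mk.injEq, List.not_mem_nil, or_false, not_or] at hb h2
  have e0 : dl χ triv = 0 := dl_ne (by rwa [dg_tr])
  have e1 : dl χ β1 = 0 := dl_ne (by omega)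
  have e3 : dl χ β3 = 0 := dl_ne (by omega)
  have a0 := m_val B χ triv 1 (fun g _ => by simp)
  have a2 := m_val B χ β2 1 (fun g hg => by simp [(B.sing g hg).2.1])
  have a4 := m_val B χ β4 (-1) (fun g hg => by simp [(B.sing g hg).2.2.2])
  rw [e0, e1, e3] at a0 a2 a4
  push_cast at a0 a2 a4
  exact ⟨by linear_combination a0, by linear_combination a2, by linear_combination a4⟩

theorem no990 (D : Data G x w) (B : B5 β1 β2 β3 β4) {c1 c2 : IrrCharacter G} (h : TyA c1 c2 β4)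
    (h1 : dg c1 = 990) (h2 : dg c2 = 4554) : False := by
  have d0 : ¬ 5 ∣ Nat.card G / dg c1 := by rw [D.card, h1]; decide
  have r := (tya_rel h).2
  have n2 : c1 ≠ c2 := fun e => by rw [e, h2] at h1; omega
  have n4 : c1 ≠ β4 := fun e => by rw [e, B.d4] at h1; omega
  have v2 := (vals B (χ := c2) (by omega) (by rw [h2]; decide)).2.2
  have v4 := (vals B (χ := β4) (by rw [B.d4]; omega) (by rw [B.d4]; decide)).2.2
  rw [dl_ne (by rw [B.d2]; omega), dl_ne (by rw [B.d4]; omega)] at v2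
  rw [dl_ne (by rw [B.d2, B.d4]; omega), dl_self] at v4
  rw [m_one d0, m_eq_zero d0 n2, m_eq_zero d0 n4, m_comm β4 c1, m_eq_zero d0 n4] at r
  have : (1 : ℂ) = 0 := by linear_combination 5 * r - v2 + v4
  exact one_ne_zero this

theorem no2772 (D : Data G x w) (B : B5 β1 β2 β3 β4) {c1 c2 : IrrCharacter G} (h : TyA c1 c2 β4)
    (hne : c1 ≠ c2) (h1 : dg c1 = 2772) (h2 : dg c2 = 2772) : False := by
  obtain ⟨θ, -, hθ⟩ := D.ex
  obtain ⟨f, hf, hc⟩ := B.real
  have r3 : IsPReg 3 f := by rw [IsPReg, hf]; decide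
  have r5 : ¬ IsPReg 5 f := by rw [IsPReg, hf]; decide
  have e := h.1 f r3
  rw [(B.sing f r5).2.2.2] at e
  have e1 : conj ((θ : G → ℂ) f) = (θ : G → ℂ) f := by
    rw [← char_inv (irr_isCharacter θ.2),
      ← isClassFunction_isConj (char_isClassFunction (irr_isCharacter θ.2)) hc]
  have e2 : 2 * (θ : G → ℂ) f = -1 := by
    rcases (hθ c1).1 (by rw [h1]; decide) with rfl | rfl <;>
      rcases (hθ c2).1 (by rw [h2]; decide) with a | a
    · exact (hne a.symm).elim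
    · rw [a] at e; simp only [e1] at e; linear_combination e
    · rw [a] at e; simp only [e1] at e; linear_combination e
    · exact (hne a.symm).elim
  have e3 : (θ : G → ℂ) f = algebraMap ℚ ℂ (-1 / 2) := by
    simp only [map_div₀, map_neg, map_one, map_ofNat]
    linear_combination e2 / 2
  have i := char_isIntegral (irr_isCharacter θ.2) f
  rw [e3, isIntegral_algebraMap_iff (algebraMap ℚ ℂ).injective] at i
  obtain ⟨z, hz⟩ := IsIntegrallyClosed.isIntegral_iff.1 i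
  have : (2 * z : ℤ) = -1 := by
    have : (2 * z : ℚ) = -1 := by
      simp only [eq_intCast] at hz
      rw [hz]; norm_num
    exact_mod_cast this
  omega

theorem main252 (D : Data G x w) (B : B5 β1 β2 β3 β4) {c1 c3 : IrrCharacter G} (h : TyA c1 β4 c3)
    (h1 : dg c1 = 252) (h3 : dg c3 = 5796) :
    (5 * m 5 c1 c1 = 3 ∧ m 5 c1 β4 = 0 ∧ m 5 c1 c3 = 0 ∧ m 5 c1 triv = 0) ∨
      (c3 ≠ β2 ∧ 5 * m 5 c3 c3 = 4 ∧ m 5 c3 c1 = 0 ∧ m 5 c3 β4 = 0 ∧ m 5 c3 triv = 0 ∧
        m 5 c3 β2 = 0) := by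
  obtain ⟨r1, r2⟩ := tya_rel h
  obtain ⟨u0, u2, u4⟩ := vals B (χ := c1) (by omega) (by rw [h1]; decide)
  obtain ⟨v0, v2, v4⟩ := vals B (χ := c3) (by omega) (by rw [h3]; decide)
  have w4 := (vals B (χ := β4) (by rw [B.d4]; omega) (by rw [B.d4]; decide)).2.2
  rw [dl_ne (χ := c1) (ψ := β2) (by rw [B.d2]; omega),
    dl_ne (χ := c1) (ψ := β4) (by rw [B.d4]; omega)] at u0 u2 u4
  rw [dl_ne (χ := c3) (ψ := β4) (by rw [B.d4]; omega)] at v0 v2 v4
  rw [dl_ne (by rw [B.d2, B.d4]; omega), dl_self] at w4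
  rw [m_comm c1 β4, m_comm c1 c3] at r1 r2
  rw [m_comm c3 β4] at r2
  by_cases e : c3 = β2
  · left
    subst e
    rw [dl_self] at v4
    refine ⟨?_, by linear_combination u4 / 5, by linear_combination u2 / 5,
      by linear_combination u0 / 5⟩
    linear_combination 5 * r1 + w4 - v4 + u2
  · right
    rw [show dl c3 β2 = 0 from if_neg e] at v0 v2 v4
    obtain ⟨n, z, a1, -, -, -, -, -, -, -, a2, a3⟩ := defect (p := 5) (k := 1) c1
      (by rw [D.card, h1]; decide)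
    obtain ⟨n', z', b1, -, -, -, -, -, -, -, b2, b3⟩ := defect (p := 5) (k := 1) c3
      (by rw [D.card, h3]; decide)
    have a11 := a1 c1
    have a13 := a1 c3
    have b31 := b1 c1
    have b33 := b1 c3
    rw [m_comm c1 c3] at b31
    simp only [Nat.cast_ofNat, pow_one] at a11 a13 b31 b33 a2 b2 a3 b3
    have q1 : n c1 = n c3 + 4 := by
      have : (n c1 : ℂ) = n c3 + 4 := by linear_combination 5 * r1 - a11 + a13 + w4 - v4
      exact_mod_cast this
    have q2 : n' c3 = n c1 := by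
      have : (n' c3 : ℂ) = n c1 := by
        linear_combination -b33 + a11 - 5 * r2 + u4 + v4
      exact_mod_cast this
    have q3 : n' c1 = n c3 := by
      have : (n' c1 : ℂ) = n c3 := by linear_combination -b31 + a13
      exact_mod_cast this
    have q4 : n c3 = 0 := by
      by_contra hh
      have s1 := a3 c3 hh
      have s2 := b3 c1 (by rwa [q3])
      have s3 := a2 c1
      have s4 := a2 c3
      have s5 := b2 c1
      have s6 := b2 c3
      rw [D.card, h1] at s3 s5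
      rw [D.card, h3] at s4 s6
      norm_num at s3 s4 s5 s6
      omega
    refine ⟨e, ?_, ?_, by linear_combination v4 / 5, by linear_combination v0 / 5,
      by linear_combination v2 / 5⟩
    · rw [b33, q2, q1, q4]; norm_num
    · rw [m_comm c1 c3]
      rw [q4] at a13
      linear_combination a13 / 5

end T5

open T5 in
theorem t5 (D : Data G x w) (B : B5 β1 β2 β3 β4) :
    (∃ c2 c3, β4 ≠ c2 ∧ β4 ≠ c3 ∧ c2 ≠ c3 ∧ T β4 = {β4, c2, c3} ∧ dg c2 = 5544 ∧ dg c3 = 5544) ∨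
    ∃ c1 c3, dg c1 = 252 ∧ dg c3 = 5796 ∧ T β4 = {c1, β4, c3} ∧
      ((5 * m 5 c1 c1 = 3 ∧ m 5 c1 β4 = 0 ∧ m 5 c1 c3 = 0 ∧ m 5 c1 triv = 0) ∨
      (c3 ≠ β2 ∧ 5 * m 5 c3 c3 = 4 ∧ m 5 c3 c1 = 0 ∧ m 5 c3 β4 = 0 ∧ m 5 c3 triv = 0 ∧
        m 5 c3 β2 = 0)) := by
  have h4 := B.d4
  have d1 : D1 β4 := by rw [D1, D.card, h4]; decide
  obtain ⟨c1, c2, c3, n12, n13, n23, hT, hty⟩ := tri' d1
  have hm := self_mem_T β4
  have e1 : D1 c1 := (T_eq d1 (by rw [hT]; simp)).1
  have e2 : D1 c2 := (T_eq d1 (by rw [hT]; simp)).1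
  have e3 : D1 c3 := (T_eq d1 (by rw [hT]; simp)).1
  rw [D1, D.card] at e1 e2 e3
  rw [hT] at hm
  simp only [mem_insert, mem_singleton] at hm
  rcases hty with h | h
  · have hd := h.dg
    right
    rcases hm with rfl | rfl | rfl
    · obtain ⟨a, b⟩ := en2 _ (mem_L D c2) _ (mem_L D c3) (by omega) e2.2 e3.1
      exact ⟨c2, c3, a, b, by rw [hT, insert_comm], main252 D B (tya_swap h) a b⟩
    · obtain ⟨a, b⟩ := en2 _ (mem_L D c1) _ (mem_L D c3) (by omega) e1.2 e3.1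
      exact ⟨c1, c3, a, b, hT, main252 D B h a b⟩
    · rcases en1 _ (mem_L D c1) _ (mem_L D c2) (by omega) e1.2 with ⟨a, b⟩ | ⟨a, b⟩ | ⟨a, b⟩
      · exact (no990 D B h a b).elim
      · exact (no990 D B (tya_swap h) b a).elim
      · exact (no2772 D B h n12 a b).elim
  · obtain ⟨a, b⟩ := h.dg
    left
    rcases hm with rfl | rfl | rfl
    · exact ⟨c2, c3, n12, n13, n23, hT, by omega, by omega⟩
    · exact ⟨c1, c3, n12.symm, n23, n13, by rw [hT, insert_comm], by omega, by omega⟩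
    · refine ⟨c1, c2, n13.symm, n23.symm, n12, ?_, by omega, by omega⟩
      rw [hT]; ext; simp only [mem_insert, mem_singleton]; tauto

end Cfsg.Agent.H7.B24
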