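import Cfsg.Agent.H7.B24L
import Cfsg.Agent.H9.B24T

/-! The relations on `7`-regular elements at the degrees `45` and `990`. -/

set_option autoImplicit false

namespace Cfsg.Agent.H7.B24

open Cfsg Cfsg.Agent.H3 Cfsg.Agent.H2.D1 Finset
open Cfsg.Agent.H9.Def (m m_comm)

variable {G : Type*} [Group G] [Fintype G] {x w : G} {F : Finset (IrrCharacter G)}
  {bs : List (List (IrrCharacter G))}

namespace L45

instance fact7 : Fact (Nat.Prime 7) := ⟨by norm_num⟩

theorem rel7 (D : Data G x w) (h : BL F bs) (hF : ∀ ψ ∈ F, dg ψ ∈ [252, 5544, 5796])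
    {χ : IrrCharacter G} {d : ℕ} (hd : dg χ = d) (hd' : d = 45 ∨ d = 990) :
    ∃ (n : IrrCharacter G → ℤ) (n0 : ℕ), (∀ ψ, ((7 : ℕ) : ℂ) * m 7 χ ψ = n ψ) ∧ n χ = n0 ∧
      ∀ (W : ℕ → ℤ) (fin : ℕ → ℤ → Bool), (∀ z ∈ DZ, W z = 0) →
        fin n0 (∑ ψ, n ψ * W (dg ψ)) = true →
        relAll 7 d 5 W fin (1 :: (dgs bs).flatten.erase d) = true := by
  classical
  have hχ : χ ∈ bs.flatten := by
    refine h.cov χ ?_ fun e => ?_
    · rw [hd]; rcases hd' with rfl | rfl <;> decide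
    · have := hF χ e
      rw [hd] at this
      rcases hd' with rfl | rfl <;> exact absurd this (by decide)
  obtain ⟨n, n0, h1, h2, h3, h4, h5⟩ := rel_sound D (p := 7) (Or.inr rfl) hd (i := 5)
    (by rcases hd' with rfl | rfl <;> rfl) (l := triv :: bs.flatten.erase χ)
    (List.nodup_cons.2 ⟨fun e => (h.out _ (List.mem_of_mem_erase e)).2 rfl, h.nd.erase _⟩)
    (by
      rw [List.mem_cons, not_or]
      exact ⟨(h.out χ hχ).2, h.nd.not_mem_erase⟩)
    (fun ψ hψ _ => by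
      by_cases e : ψ = triv
      · exact Or.inl (e ▸ List.mem_cons_self)
      rcases D.deg ψ e with a | a
      · by_cases b : ψ ∈ F
        · have := hF ψ b
          simp only [List.mem_cons, List.not_mem_nil, or_false] at this
          refine Or.inr (Or.inr ?_)
          rcases this with c | c | c <;> rw [c] <;> norm_num
        · exact Or.inl (List.mem_cons_of_mem _ ((List.mem_erase_of_ne hψ).2 (h.cov ψ a b)))
      · exact Or.inr (Or.inl a))
    (L := 1 :: (dgs bs).flatten.erase d) (by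
      rw [List.map_cons, T5.dg_tr, dgs_flatten, ← hd]
      exact (erase_perm hχ).cons _)
  exact ⟨n, n0, h1, h2, fun W fin a b => relAll_of h3 h4 (h5 W fin a b)⟩

theorem exists_dg {d : ℕ} (h : (dgs bs).flatten.count d ≠ 0) : ∃ χ : IrrCharacter G, dg χ = d := by
  rw [Ne, List.count_eq_zero, not_not, dgs_flatten] at h
  obtain ⟨χ, -, e⟩ := List.mem_map.1 h
  exact ⟨χ, e⟩

end L45

open L45

theorem f990_sound (D : Data G x w) (h : BL F bs) (hF : ∀ ψ ∈ F, dg ψ ∈ [252, 5544, 5796]) :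
    f990 (dgs bs).flatten = true := by
  rw [f990, Bool.or_eq_true, beq_iff_eq, or_iff_not_imp_left]
  intro h0
  obtain ⟨χ, hχ⟩ := exists_dg h0
  obtain ⟨n, n0, -, -, h3⟩ := rel7 D h hF hχ (Or.inr rfl)
  exact h3 _ _ (fun _ _ => rfl) rfl

theorem f45_sound (D : Data G x w) (h : BL F bs) (hF : ∀ ψ ∈ F, dg ψ ∈ [252, 5544, 5796]) :
    f45 (dgs bs).flatten = true := by
  classical
  rw [f45, Bool.or_eq_true, beq_iff_eq, or_iff_not_imp_left]
  intro h0
  have hW : ∀ z ∈ DZ, W45 z = 0 := by decide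
  by_cases h3 : (dgs bs).flatten.count 45 = 3
  swap
  · obtain ⟨χ, hχ⟩ := exists_dg h0
    obtain ⟨n, n0, -, -, h4⟩ := rel7 D h hF hχ (Or.inl rfl)
    exact h4 _ _ hW (by simp [h3])
  have hc := h.count (d := 45) (by decide) fun ψ e e' => absurd (e' ▸ hF ψ e) (by decide)
  rw [h3, cnt] at hc
  obtain ⟨a, b, c, hab, hac, hbc, hA⟩ := card_eq_three.1 hc.symm
  have hs : ∀ n : IrrCharacter G → ℤ, ∑ ψ, n ψ * W45 (dg ψ) = n a + n b + n c := fun n => by
    simp only [W45, mul_ite, mul_one, mul_zero]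
    rw [← sum_filter, hA, sum_insert (by simp [hab, hac]), sum_pair hbc, add_assoc]
  have hd : ∀ ψ ∈ ({a, b, c} : Finset (IrrCharacter G)), dg ψ = 45 := fun ψ e => by
    rw [← hA] at e
    exact (mem_filter.1 e).2
  obtain ⟨na, a0, a1, a2, a3⟩ := rel7 D h hF (hd a (by simp)) (Or.inl rfl)
  obtain ⟨nb, b0, b1, b2, b3⟩ := rel7 D h hF (hd b (by simp)) (Or.inl rfl)
  obtain ⟨nc, c0, c1, c2, c3⟩ := rel7 D h hF (hd c (by simp)) (Or.inl rfl)
  have e1 : na b = nb a := by
    have : (na b : ℂ) = nb a := by rw [← a1, ← b1, m_comm]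
    exact_mod_cast this
  have e2 : na c = nc a := by
    have : (na c : ℂ) = nc a := by rw [← a1, ← c1, m_comm]
    exact_mod_cast this
  have e3 : nb c = nc b := by
    have : (nb c : ℂ) = nc b := by rw [← b1, ← c1, m_comm]
    exact_mod_cast this
  by_cases q1 : (na b + na c) % 2 = 0
  · refine a3 _ _ hW ?_
    rw [hs, Bool.or_eq_true, beq_iff_eq]
    right; omega
  by_cases q2 : (nb a + nb c) % 2 = 0
  · refine b3 _ _ hW ?_
    rw [hs, Bool.or_eq_true, beq_iff_eq]
    right; omega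
  · refine c3 _ _ hW ?_
    rw [hs, Bool.or_eq_true, beq_iff_eq]
    right; omega

end Cfsg.Agent.H7.B24
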