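import Cfsg.Agent.H7.C12Z6
import Cfsg.Agent.H7.C12NC
import Cfsg.Agent.H7.C12T3
import Cfsg.Agent.H4.C12P3
import Cfsg.Agent.H5.C12Solv
import Cfsg.Agent.L0.C12TI
import Cfsg.Agent.L0.C12CS

/-!
# Odd subgroups normalized by elementary abelian two-groups
-/

set_option autoImplicit false
set_option linter.dupNamespace false

namespace Cfsg.Agent.L0.C12

open Subgroup Cfsg.Agent.L0.SC3 Cfsg.Agent.H1.T3 Cfsg.Agent.H7
open MulAut (conj)
open scoped commutatorElement Pointwise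

universe u

section
variable {G : Type*} [Group G] [Finite G] {x : G} {A B D L K P Q V0 X : Subgroup G} {r : ℕ}

theorem Fpf.nil (f : Fpf x B ⊥) : Group.IsNilpotent B := by
  refine ⟨⟨2, ?_⟩⟩
  rw [eq_top_iff]
  intro v _
  rw [Subgroup.mem_upperCentralSeries_succ_iff]
  intro w
  rw [Subgroup.upperCentralSeries_one, Subgroup.mem_center_iff]
  intro a
  exact Subtype.ext (commutatorElement_eq_one_iff_commute.1 (mem_bot.1 (f.class_two a.2 v.2 w.2)))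

theorem odd_eq_one (ho : Odd (Nat.card B)) {b : G} (hb : b ∈ B) (h2 : b * b = 1) : b = 1 :=
  orderOf_eq_one_iff.1 (Nat.eq_one_of_dvd_coprimes (Nat.coprime_two_right.2 ho)
    (orderOf_dvd_card_of_mem hb) (orderOf_dvd_of_pow_eq_one (by rwa [pow_two])))

theorem T3.fpf_odd (h : T3 x) (hB : Inv x B) (ho : Odd (Nat.card B)) : Fpf x B ⊥ :=
  ⟨h.cube, h.ne, hB, bot_le, fun _ _ _ hd => by simp [mem_bot.1 hd],
    fun _ hd => by simp [mem_bot.1 hd],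
    fun b hb e => mem_bot.2 (odd_eq_one ho hb (h.sq_of_commute hB.cube hb e))⟩

omit [Finite G] in
theorem TI.nK (c : TI x L K) : NormalIn K L := ⟨c.le, le_norm_of_conj c.normal⟩

theorem TI.le_of_odd (c : TI x L K) (h : T3 x) (h3 : ∀ b ∈ B, b ^ 3 = 1 → b = 1)
    (ho : Odd (Nat.card B)) (hB : B ≤ L) : B ≤ K := fun b hb => by_contra fun e =>
  e (mem_of_pow_mem_of_coprime (n := 2) (Nat.coprime_two_right.2
    (ho.of_dvd_nat (orderOf_dvd_card_of_mem hb))) (pow_two b ▸ c.mul_mem_of_notMem h h3 hB hb hb e e))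

theorem isPi_odd (ho : Odd (Nat.card B)) : IsPi {2}ᶜ B :=
  (PiNat.compl_singleton_iff Nat.prime_two).2 (by rw [← even_iff_two_dvd, Nat.not_even_iff_odd]; exact ho)

variable [hr : Fact r.Prime]

theorem TI.le_pcore (c : TI x L K) (h : T3 x) (r2 : r ≠ 2) (r3 : r ≠ 3) (hB : IsPGroup r B)
    (h1 : B ≤ O[{2}ᶜ] L) : B ≤ O[{r}] L := by
  have hn : NormalIn (O[{2}ᶜ] L ⊓ K) L :=
    ⟨inf_le_right.trans c.le, le_norm_inf (core_normalIn _ L).2 c.nK.2⟩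
  exact (le_pcore_of_nil (h.fpf_odd ⟨fun b hb => conj_mem_of_norm (hn.2 c.mem) hb,
    fun b hb => c.cube b hb.2⟩ (odd_of_le (odd_core L) inf_le_left)).nil (le_inf h1
      (c.le_of_odd h (cube_of_pgroup hr.out r3 hB) (IsPGroup.odd_card hB (hr.out.odd_of_ne_two r2))
        (h1.trans (core_le _ L)))) hB).trans (hn.core_le _)

/-- The invariant `r`-subgroups of the centralizers lie in the odd cores. -/
def Good (r : ℕ) (A V0 : Subgroup G) : Prop :=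
  ∀ v ∈ V0, v ≠ 1 → ∀ B : Subgroup G, IsPGroup r B → A ≤ N[B] → B ≤ C₁[v] → B ≤ O[{2}ᶜ] C₁[v]

/-- Maximal invariant `r`-subgroups. -/
def Mx (r : ℕ) (A P : Subgroup G) : Prop :=
  IsPGroup r P ∧ A ≤ N[P] ∧ ∀ Q : Subgroup G, IsPGroup r Q → A ≤ N[Q] → P ≤ Q → Q = P

/-- The standing assumptions on `A` and `V0`. -/
structure OA (r : ℕ) (A V0 : Subgroup G) : Prop where
  r2 : r ≠ 2
  ab : IsMulCommutative A
  two : IsPGroup 2 A
  le : V0 ≤ A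
  nc : ¬ IsCyclic V0
  good : Good r A V0

theorem cop_two (r2 : r ≠ 2) (hB : IsPGroup r B) (hA : IsPGroup 2 A) :
    (Nat.card B).Coprime (Nat.card A) := by
  obtain ⟨k, hk⟩ := hA.exists_card_eq
  rw [hk]
  exact (Nat.coprime_two_right.2 (IsPGroup.odd_card hB (hr.out.odd_of_ne_two r2))).pow_right k

theorem OA.inO (o : OA r A V0) (hs : Group.IsSolvable X) (hA : A ≤ X) (hB : IsPGroup r B)
    (h1 : A ≤ N[B]) (h2 : B ≤ X) : B ≤ O[{2}ᶜ] X := by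
  refine coprime_abelian_gen_cent1 (abel_of_le o.ab o.le) o.nc (o.le.trans h1)
    (cop_two o.r2 hB (o.two.to_le o.le)) (sol_of_pgroup hB) fun a ha a1 => ?_
  have h3 := zpowers_le.2 (o.le ha)
  refine le_trans ?_ (p'core_cent_pgroup (h3.trans hA) (o.two.to_le h3) hs)
  rw [cent_zpowers]
  exact le_core_of_le (o.good a ha a1 _ (hB.to_le inf_le_left) (le_norm_inf h1 (le_norm_cent1
    ((le_cent_of_abel o.ab).trans (cent_le_cent1 (o.le ha))))) inf_le_right)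
    (inf_le_inf_right _ h2) inf_le_right

omit hr in
theorem exists_Mx (hB : IsPGroup r B) (h1 : A ≤ N[B]) : ∃ P, B ≤ P ∧ Mx r A P := by
  obtain ⟨P, k1, k2, k3⟩ := exists_maximal_ge (P := fun P => IsPGroup r P ∧ A ≤ N[P]) ⟨hB, h1⟩
  exact ⟨P, k1, k2.1, k2.2, fun Q q1 q2 => k3 Q ⟨q1, q2⟩⟩

omit [Finite G] hr in
theorem Mx.smul (h : Mx r A P) {c : G} (hc : c ∈ N[A]) : Mx r A (conj c • P) :=
  ⟨IsPGroup.conj_smul h.1 c, conj_smul_of_norm hc ▸ le_norm_smul h.2.1 c, fun Q q1 q2 q3 => by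
    rw [← h.2.2 (conj c⁻¹ • Q) (IsPGroup.conj_smul q1 _)
      (conj_smul_of_norm (inv_mem hc) ▸ le_norm_smul q2 c⁻¹) (conj_smul_le_iff_le_inv.1 q3),
      conj_smul_inv_smul]⟩

theorem OA.odd (o : OA r A V0)
    (sol : ∀ D : Subgroup G, IsPGroup r D → D ≠ ⊥ → Group.IsSolvable N[D]) (D : Subgroup G) :
    D ≠ ⊥ → ∀ P Q, Mx r A P → Mx r A Q → D ≤ P → D ≤ Q → ∃ c ∈ C[A], conj c • P = Q := by
  induction D using WellFoundedGT.induction with | _ D ih => ?_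
  intro D1 P Q hP hQ h1 h2
  by_cases e : P = Q
  · exact ⟨1, one_mem _, by rw [conj_one_smul, e]⟩
  have k0 : P ⊓ Q ≠ ⊥ := fun k => D1 (le_bot_iff.1 (k ▸ le_inf h1 h2))
  have hA : A ≤ N[P ⊓ Q] := le_norm_inf hP.2.1 hQ.2.1
  have hs := sol _ (hP.1.to_le inf_le_left) k0
  have hO := hA.trans (core_normalIn {2}ᶜ N[P ⊓ Q]).2
  have hc : (Nat.card (O[{2}ᶜ] N[P ⊓ Q])).Coprime (Nat.card A) := by
    obtain ⟨k, hk⟩ := o.two.exists_card_eq
    rw [hk]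
    exact (Nat.coprime_two_right.2 (odd_core _)).pow_right k
  have hsO := sol_of_le hs (core_le {2}ᶜ N[P ⊓ Q])
  have k : ∀ R, Mx r A R → P ⊓ Q < R → ∃ B S, D < B ∧ B ≤ R ∧ B ≤ S ∧
      H7.IsSylowIn r S (O[{2}ᶜ] N[P ⊓ Q]) ∧ A ≤ N[S] := fun R hR l => by
    have l1 := le_norm_inf hR.2.1 (le_norm_norm hA)
    obtain ⟨S, s1, s2, s3⟩ := coprime_Sylow_subset hO hc hsO (o.inO hs hA
      (hR.1.to_le inf_le_left) l1 inf_le_right) (hR.1.to_le inf_le_left) l1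
    exact ⟨_, S, (le_inf h1 h2).trans_lt (lt_inf_norm_of_nil (nil_of_pgroup hR.1) l), inf_le_left,
      s3, s1, s2⟩
  obtain ⟨B, S, b1, b2, b3, s1, s2⟩ := k P hP (inf_lt_left.2 fun l => e (hP.2.2 Q hQ.1 hQ.2.1 l).symm)
  obtain ⟨B', S', b1', b2', b3', s1', s2'⟩ :=
    k Q hQ (inf_lt_right.2 fun l => e (hQ.2.2 P hP.1 hP.2.1 l))
  obtain ⟨c, hc, rfl⟩ := coprime_Sylow_trans hO hc hsO s1' s2' s1 s2
  obtain ⟨R, r1, r2⟩ := exists_Mx s1.isPGroup s2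
  obtain ⟨c1, k1, rfl⟩ := ih B b1 (ne_bot_of_gt b1) P R hP r2 b2 (b3.trans r1)
  obtain ⟨c2, k2, rfl⟩ := ih B' b1' (ne_bot_of_gt b1') _ Q (r2.smul (cent_le_norm A hc.2)) hQ
    (b3'.trans (conj_smul_mono c r1)) b2'
  exact ⟨c2 * (c * c1), mul_mem k2 (mul_mem hc.2 k1), by rw [conj_smul_smul, conj_smul_smul,
    mul_assoc]⟩

theorem OA.mx (o : OA r A V0) (r3 : r ≠ 3) (h : T3 x) (c : TI x N[P] K) (hP : O[{r}] N[P] = P)
    (hA : A ≤ N[P]) : Mx r A P := by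
  refine ⟨hP ▸ isPGroup_core _, hA, fun Q q1 q2 q3 => (eq_of_nil_of_norm_le (nil_of_pgroup q1) q3
    (le_of_le_of_eq ?_ hP)).symm⟩
  exact c.le_pcore h o.r2 r3 (q1.to_le inf_le_left) (o.inO (TI.sol h c) hA (q1.to_le inf_le_left)
    (le_norm_inf q2 (le_norm_norm hA)) inf_le_right)

end

variable {G : Type u} [Group G] [Finite G] {x s v g : G} {V A B D L K M P V0 : Subgroup G} {r : ℕ}
  [hr : Fact r.Prime]

theorem Ctx.normTI (c : Ctx x s V) (r2 : r ≠ 2) (r3 : r ≠ 3) (hD : IsPGroup r D) (D1 : D ≠ ⊥)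
    (hx : x ∈ N[D]) : ∃ K, TI x N[D] K := by
  have h3 := cube_of_pgroup hr.out r3 hD
  refine (c.str_sub (c.normalizer_ne_top' D1 h3) hx).resolve_right fun ⟨K, M, h⟩ => D1 ?_
  exact IsPGroup.eq_bot_of_isPi ((c.Lodd h).to_le (h.max D (le_norm_self D)
    (fun _ hl _ => conj_mem_of_norm hl) fun e => c.t3.ne (h3 x e c.t3.cube)))
    (isPi_odd (IsPGroup.odd_card hD (hr.out.odd_of_ne_two r2)))

theorem Ctx.normSol (c : Ctx x s V) (r2 : r ≠ 2) (r3 : r ≠ 3) (D : Subgroup G) (hD : IsPGroup r D)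
    (D1 : D ≠ ⊥) : Group.IsSolvable N[D] := by
  by_cases h : ∀ b ∈ N[D], b ^ 3 = 1 → b = 1
  · exact solv3 c.t3.five h
  push Not at h
  obtain ⟨y, hy, y3, y1⟩ := h
  obtain ⟨g, c'⟩ := c.of_cube y1 y3
  obtain ⟨K, h⟩ := c'.normTI r2 r3 hD D1 hy
  exact TI.sol c'.t3 h

theorem Ctx.nsyl (c : Ctx x s V) (r2 : r ≠ 2) (r3 : r ≠ 3) (h : TI x L K) (sL : s ∈ L)
    (hc : Nat.card ↥(K ⊓ C₁[x]) ≤ 2 * Nat.card ↥(Z[K] ⊓ C₁[x])) :
    H7.IsSylowIn r (O[{r}] L) L := by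
  obtain ⟨j, hj⟩ := two_compl c.t3.cube c.t3.ne c.sx (solv3 c.t3.five h.cube)
    (not_dvd_card_iff.2 h.cube) (c.t3.not_five' K) (h.nK.2 h.mem) (h.nK.2 sL)
    (isPGroup_of_forall fun b hb => ⟨1, by
      rw [pow_one, pow_two]
      exact c.t3.sq_of_commute h.cube hb.1 (mem_cent1_iff.1 hb.2).symm⟩) hc
  have hn := h.nK.core {2}ᶜ
  obtain ⟨S, hS⟩ := H7.exists_isSylowIn (p := r) (O[{2}ᶜ] K)
  have h1 : H7.IsSylowIn r S L := hS.trans hn.1 fun e => by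
    have h2 := card_mul_relIndex hn.1
    rw [h.card c.t3 sL c.sx, hj, mul_left_comm] at h2
    rw [Nat.eq_of_mul_eq_mul_left (card_pos' _) h2] at e
    rcases (Nat.Prime.dvd_mul hr.out).1 e with e | e
    · have := Nat.le_of_dvd (by norm_num) e
      have := hr.out.two_le
      have := hr.out
      interval_cases r <;> first | omega | norm_num at this
    · exact r2 ((Nat.prime_dvd_prime_iff_eq hr.out Nat.prime_two).1 (hr.out.dvd_of_dvd_pow e))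
  have h2 := h.le_pcore c.t3 r2 r3 hS.isPGroup (hS.le.trans (h.nK.core_le _))
  rwa [h1.eq_of_le (isPGroup_core _) h2 (core_le _ _)]

theorem Ctx.ov (c : Ctx x s V) (o : OA r A V0) (r3 : r ≠ 3) (hv : v ∈ V) (vA : v ∈ A)
    (gA : g * v * g⁻¹ ∈ A) (gx : g * v * g⁻¹ * x * (g * v * g⁻¹)⁻¹ = x⁻¹)
    (hR : H7.IsSylowIn r (O[{r}] C₁[v]) C₁[v]) : O[{r}] C₁[v] = ⊥ := by
  by_contra R1
  have hn := core_normalIn {r} C₁[v]
  have k : ∀ a ∈ A, A ≤ C₁[a] := fun a ha => (le_cent_of_abel o.ab).trans (cent_le_cent1 ha)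
  obtain ⟨P, h1, h2⟩ := exists_Mx (A := C₁[v]) (isPGroup_core _) hn.2
  have P1 : P ≠ ⊥ := fun e => R1 (le_bot_iff.1 (e ▸ h1))
  obtain ⟨K, h⟩ := c.normTI o.r2 r3 h2.1 P1 (h2.2.1 (c.x_mem hv))
  have h3 : O[{r}] N[P] = P := h2.2.2 _ (isPGroup_core _) (h2.2.1.trans (core_normalIn _ _).2)
    ((NormalIn.norm P).le_pcore h2.1)
  have m1 := o.mx r3 c.t3 h h3 ((k v vA).trans h2.2.1)
  have m2 := o.mx (P := MulAut.conj g • P) r3 (c.t3.conj g) (conj_smul_norm g P ▸ h.conj g)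
    (by rw [← conj_smul_norm, ← core_smul, h3])
    ((k _ gA).trans (conj_smul_cent1 g v ▸ le_norm_smul h2.2.1 g))
  have f := c.t3.fpf_odd (B := O[{r}] C₁[v]) ⟨fun b hb => conj_mem_of_norm (hn.2 (c.x_mem hv)) hb,
    cube_of_pgroup hr.out r3 (isPGroup_core _)⟩
    (IsPGroup.odd_card (isPGroup_core _) (hr.out.odd_of_ne_two o.r2))
  have h4 := f.card_cent gx (c.sq_of_inverts gx) fun b hb => conj_mem_of_norm (hn.2 (k v vA gA)) hb
  obtain ⟨a, ha, e⟩ := o.odd (c.normSol o.r2 r3) (O[{r}] C₁[v] ⊓ C₁[g * v * g⁻¹]) (fun e => by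
    rw [e, card_bot] at h4
    exact R1 (eq_bot_iff_card'.2 h4)) P _ m1 m2 (inf_le_left.trans h1)
    (((hR.smul g).le_of_normal (le_norm_smul hn.2 g) (conj_smul_cent1 g v ▸ inf_le_right)
      ((isPGroup_core _).to_le inf_le_left)).trans (conj_smul_mono g h1))
  rw [conj_smul_of_norm (h2.2.1 (cent_le_cent1 vA ha))] at e
  exact h.notMem_of_inverts c.t3 gx (h.normal g (mem_norm_of_conj_smul_eq e.symm) v
    (h.cen v (h2.2.1 (mem_cent1_self v)) (c.cx hv) (c.sq hv)))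

end Cfsg.Agent.L0.C12
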