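import Cfsg.Agent.H9.C12V4O
import Cfsg.Agent.H9.FxRank2
import Cfsg.Agent.L0.C12S1
import Cfsg.Agent.L0.C12Sq

/-!
# The case `|V| = 2`: a type I centralizer has a two-group as kernel
-/

set_option autoImplicit false
set_option linter.dupNamespace false

namespace Cfsg.Agent.L0.C12

open Subgroup Cfsg.Agent.L0.SC3 Cfsg.Agent.H1.T3 Cfsg.Agent.H7
open scoped commutatorElement Pointwise

universe u

variable {G : Type u} [Group G] [Finite G] {x s t : G} {B F L K U : Subgroup G} {r : ℕ}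

theorem isConj_of_not_eight (hG : commutator G = ⊤) (tt : t * t = 1) (t1 : t ≠ 1)
    (h : ¬ 8 ∣ Nat.card C₁[t]) {u : G} (uu : u * u = 1) (u1 : u ≠ 1) : IsConj u t := by
  have h0 : IsPGroup 2 (zpowers t) := isPGroup_of_forall fun b hb => ⟨1, by
    rcases (Fx4.mem_zpowers_invol tt).1 hb with rfl | rfl <;> simp [pow_two, tt]⟩
  obtain ⟨S, hS, h1⟩ := H9.exists_isSylowIn_ge (L := ⊤) le_top h0
  have tS := h1 (mem_zpowers t)
  have h2 : Nat.card ↥(C₁[t] ⊓ S) ≤ 4 := by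
    obtain ⟨k, hk⟩ := (hS.isPGroup.to_le (inf_le_right (a := C₁[t]))).exists_card_eq
    have h3 := card_dvd_of_le (inf_le_left (a := C₁[t]) (b := S))
    rw [hk] at h3 ⊢
    exact Nat.pow_le_pow_right (n := 2) (j := 2) (by norm_num) (not_lt.1 fun l =>
      h ((pow_dvd_pow 2 (show 3 ≤ k from l)).trans h3))
  obtain ⟨c, hc⟩ := Fx4.taussky_aux _ S rfl hS.isPGroup
    ((Fx4.index_commutator_le (⟨t, tS⟩ : S)).trans ((Fx4.card_cent1_coe tS).trans_le h2))
  have h3 : Nat.card S ≤ 2 * Nat.card (zpowers (c : G)) := by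
    rw [← (zpowers c).card_mul_index, mul_comm, Nat.card_zpowers, Nat.card_zpowers, orderOf_coe]
    exact Nat.mul_le_mul_right _ hc
  have h4 := zpowers_le.2 c.2
  have k : ∀ v : G, v * v = 1 → ∃ g, g * v * g⁻¹ ∈ zpowers (c : G) := fun v hv =>
    transfer_coset hG hS (fun a ha b hb => by
      rw [commutatorElement_def, mul_assoc, ← mul_inv_rev, Fx4.mul_mem_iff_of_card h4 h3
        (mul_mem ha hb) (inv_mem (mul_mem hb ha)), inv_mem_iff, Fx4.mul_mem_iff_of_card h4 h3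
        ha hb, Fx4.mul_mem_iff_of_card h4 h3 hb ha]
      tauto) (fun a ha b hb a1 b1 _ _ _ => (Fx4.mul_mem_iff_of_card h4 h3 ha hb).2
        (iff_of_false a1 b1)) hv
  obtain ⟨g, hg⟩ := k u uu
  obtain ⟨g', hg'⟩ := k t tt
  have h5 : g * u * g⁻¹ = g' * t * g'⁻¹ := by
    by_contra e
    have cm : Commute (g * u * g⁻¹) (g' * t * g'⁻¹) :=
      congrArg Subtype.val ((abel_zpowers (c : G)).is_comm.comm ⟨_, hg⟩ ⟨_, hg'⟩)
    have h6 : klein _ _ (conj_sq uu g) (conj_sq tt g') cm ≤ zpowers (c : G) := by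
      rintro _ (rfl | rfl | rfl | rfl)
      exacts [one_mem _, hg, hg', mul_mem hg hg']
    have := card_dvd_two (isCyclic_of_le h6) fun b hb => klein_sq hb
    rw [card_klein (by simpa using u1) (by simpa using t1) e] at this
    omega
  exact (isConj_iff.2 ⟨g, h5⟩).trans (isConj_iff.2 ⟨g', rfl⟩).symm

theorem C2.tt9 (c : C2 x s t) : t * t = 1 := c.sq (mem_zpowers t)

theorem C2.card_V9 (c : C2 x s t) : Nat.card (zpowers t) = 2 := Fx4.card_zpowers_invol c.t1 c.tt9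

theorem C2.memt9 (c : C2 x s t) {d : G} : d ∈ zpowers t ↔ d = 1 ∨ d = t :=
  Fx4.mem_zpowers_invol c.tt9

/-- If every invariant subgroup of `U` without `t` is trivial then `U = ⟨t⟩` or `s ~ st`. -/
theorem C2.lemQ (c : C2 x s t) (h : ¬ IsConj t (s * t)) (hU : IsPGroup 2 U) (xU : x ∈ N[U])
    (sU : s ∈ N[U]) (tU : t ∈ U) (hC : U ≤ C₁[t])
    (hF : ∀ F ≤ U, x ∈ N[F] → t ∉ F → F = ⊥) : U ≤ zpowers t := by
  by_contra hn
  have cm : ∀ g, g ∈ C₁[t] → ∀ d ∈ zpowers t, g * d * g⁻¹ = d := fun g hg d hd => by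
    rcases c.memt9.1 hd with rfl | rfl
    · simp
    · rw [mem_cent1_iff.1 hg, mul_inv_cancel_right]
  have hx := c.x_mem (mem_zpowers t)
  have hs := c.s_mem (mem_zpowers t)
  obtain ⟨w, hw, w1, w2, w3⟩ := exists_central_mod' (S := U ⊔ zpowers s) (N := zpowers t)
    (isPGroup_sup_invol c.ss (fun k hk => conj_mem_of_norm sU hk) hU) le_sup_left
    (fun g hg a ha => by rwa [cm g (sup_le hC (zpowers_le.2 hs) hg) a ha])
    (fun g hg a ha => conj_mem_of_norm (sup_le (le_norm_self U) (zpowers_le.2 sU) hg) ha) hn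
  have si : s⁻¹ = s := inv_eq_of_mul_eq_one_right c.ss
  rcases c.memt9.1 (w3 s (mem_sup_right (mem_zpowers s))) with e | e
  swap
  · refine h (c.ts.trans (isConj_iff.2 ⟨w, ?_⟩))
    rw [← e, si]
    calc w * s * w⁻¹ = s * s * (w * s * w⁻¹) := by rw [c.ss, one_mul]
      _ = _ := by group
  have i3 := cube_of_pgroup Nat.prime_two (by norm_num) hU
  have f : Fpf x U (zpowers t) := c.fpf ⟨fun b hb => conj_mem_of_norm xU hb, i3⟩ le_rfl
    (zpowers_le.2 tU) (fun b hb d hd => by rwa [cm b (hC hb) d hd])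
    fun d hd => by rwa [cm x hx d hd]
  have hn := f.norm hw
  have xx := c.t3.mul_self
  have xx' : x⁻¹ * x⁻¹ = x := by rw [← mul_inv_rev, xx, inv_inv]
  have jU := f.inv.conj w hw
  have kU := f.conj' hw
  generalize hj : x * w * x⁻¹ = j at hn jU
  generalize hk : x⁻¹ * w * x = k at hn kU
  replace hj := hj.symm
  replace hk := hk.symm
  have xj : x * j * x⁻¹ = k := by
    rw [hj, hk, show x * (x * w * x⁻¹) * x⁻¹ = x * x * w * (x⁻¹ * x⁻¹) by group, xx', xx]
  have xk : x * k * x⁻¹ = w := by rw [hk]; group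
  have sw : s * w * s⁻¹ = w := mul_inv_eq_one.1 e
  have sj : s * j * s⁻¹ = k := by
    rw [show s * j * s⁻¹ = (s * x * s⁻¹) * (s * w * s⁻¹) * (s * x * s⁻¹)⁻¹ by rw [hj]; group,
      c.sx, sw, inv_inv, hk]
  have sk : s * k * s⁻¹ = j := by
    rw [show s * k * s⁻¹ = (s * x * s⁻¹)⁻¹ * (s * w * s⁻¹) * (s * x * s⁻¹) by rw [hk]; group,
      c.sx, sw, inv_inv, hj]
  have jk : Commute j k := by
    have := cm s hs _ hn
    rw [show s * (w * j * k) * s⁻¹ = (s * w * s⁻¹) * ((s * j * s⁻¹) * (s * k * s⁻¹)) by group,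
      sw, sj, sk, mul_assoc] at this
    exact (mul_left_cancel this).symm
  have kw : Commute k w := xj ▸ xk ▸ jk.conj x
  have wj : Commute w j := xk ▸ hj ▸ xk.symm ▸ kw.conj x
  have jj : j * j = w * w := by rw [← cm x hx _ w2, hj]; group
  have kk : k * k = w * w := by rw [← cm x hx _ w2, ← jj, ← xj]; group
  generalize hn' : w * j * k = n at hn
  have nn := c.sq hn
  have ww : w * w = 1 := by
    have : n * n = w * w * (j * j) * (k * k) := by
      rw [← hn']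
      simp only [mul_assoc]
      rw [← mul_assoc k w, kw.eq, mul_assoc, wj.symm.left_comm, jk.symm.left_comm]
    rw [nn, jj, kk, c.sq w2, one_mul] at this
    exact this.symm
  have cn : ∀ g ∈ C₁[t], Commute n g := fun g hg => (mul_inv_eq_iff_eq_mul.1 (cm g hg n hn)).symm
  have xn : ∀ g, x * (n * g) * x⁻¹ = n * (x * g * x⁻¹) := fun g => by
    rw [← mul_assoc, ← (cn x hx).eq]; group
  have sq : ∀ g ∈ U, g * g = 1 → n * g * (n * g) = 1 := fun g hg e => by
    rw [mul_assoc, (cn g (hC hg)).symm.left_comm, e, mul_one, nn]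
  have m : n * w * (n * j) = n * k := by
    rw [mul_assoc, (cn w (hC hw)).symm.left_comm, ← mul_assoc, nn, one_mul, ← hn', mul_assoc, kk,
      ww, mul_one]
  have nU := f.le hn
  have nt : x * t * x⁻¹ = t := cm x hx t (mem_zpowers t)
  have k0 : t ≠ n * w := fun e => w1 ((mul_mem_cancel_left hn).1 (e ▸ mem_zpowers t))
  have k2 : t ≠ n * k := fun e => k0 (by rw [← xk, ← xn, ← e, nt])
  have := hF (klein (n * w) (n * j) (sq w hw ww) (sq j jU (jj.trans ww))
    (((Commute.refl n).mul_right (cn j (hC jU))).mul_left ((cn w (hC hw)).symm.mul_right wj)))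
    (by
      rintro _ (rfl | rfl | rfl | rfl)
      exacts [one_mem _, mul_mem nU hw, mul_mem nU jU, mul_mem (mul_mem nU hw) (mul_mem nU jU)])
    (mem_normalizer_of_conj (by
      rintro _ (rfl | rfl | rfl | rfl)
      · simp
      · exact Or.inr (Or.inr (Or.inl (hj ▸ xn w)))
      · exact Or.inr (Or.inr (Or.inr (by rw [xn, xj, m])))
      · exact Or.inr (Or.inl (by rw [m, xn, xk]))))
    (by
      rintro (e | e | e | e)
      exacts [c.t1 e, k0 e, k2 (by rw [← xj, ← xn, ← e, nt]), k2 (m ▸ e)])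
  have h1 : n * w ∈ (⊥ : Subgroup G) := this ▸ Or.inr (Or.inl rfl)
  exact w1 ((mul_mem_cancel_left hn).1 (mem_bot.1 h1 ▸ one_mem _))

variable [hr : Fact r.Prime]

theorem C2.nsyl (c : C2 x s t) (r2 : r ≠ 2) (r3 : r ≠ 3) (h : TI x L K) (sL : s ∈ L) :
    H7.IsSylowIn r (O[{r}] L) L := by
  refine c.toCtx.nsyl r2 r3 h sL ?_
  have h1 : K ⊓ C₁[x] ≤ zpowers t := fun b hb =>
    c.mem_of_commute h.cube hb.1 (mem_cent1_iff.1 hb.2).symm
  have := card_le_of_le h1
  have := card_pos' (Z[K] ⊓ C₁[x])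
  rw [c.card_V9] at *
  omega

theorem C2.one_class (c : C2 x s t) (r2 : r ≠ 2) (r3 : r ≠ 3) (h : TI x C₁[t] K)
    (h1 : IsConj t (s * t)) : O[{r}] C₁[t] = ⊥ := by
  have st := c.sV t (mem_zpowers t)
  have hR := c.nsyl r2 r3 h (c.s_mem (mem_zpowers t))
  obtain ⟨g, hg⟩ := isConj_iff.1 c.ts
  refine c.toCtx.ov (A := klein s t c.ss c.tt9 st) (V0 := klein s t c.ss c.tt9 st) ⟨r2, ?_,
    isPGroup_klein, le_rfl, fun e => ?_, fun v hv v1 B hB _ hC => ?_⟩ r3 (mem_zpowers t)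
    (Or.inr (Or.inr (Or.inl rfl))) (g := g) (hg ▸ Or.inr (Or.inl rfl)) (hg ▸ c.sx) hR
  · exact abel_of_comm fun a ha b hb => by
      rw [← inv_eq_of_mul_eq_one_right (klein_sq (mul_mem ha hb)), mul_inv_rev,
        inv_eq_of_mul_eq_one_right (klein_sq ha), inv_eq_of_mul_eq_one_right (klein_sq hb)]
  · have := card_dvd_two e fun b hb => klein_sq hb
    rw [card_klein c.s_ne c.t1 fun e => c.s_notMem (e ▸ mem_zpowers t)] at this
    omega
  obtain ⟨k, rfl⟩ : ∃ k, k * t * k⁻¹ = v := by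
    rcases hv with rfl | rfl | rfl | rfl
    exacts [absurd rfl v1, ⟨g, hg⟩, ⟨1, by simp⟩, isConj_iff.1 h1]
  have := hR.smul k
  rw [core_smul, conj_smul_cent1] at this
  exact (this.le_of_normal (core_normalIn _ _).2 hC hB).trans (core_mono (by simpa using r2.symm) _)

theorem C2.caseEq (c : C2 x s t) (r2 : r ≠ 2) (r3 : r ≠ 3) (h : TI x C₁[t] K)
    (h1 : H7.IsSylowIn r (O[{r}] C₁[t]) N[O[{r}] C₁[t]]) : O[{r}] C₁[t] = ⊥ := by
  have hR := c.nsyl r2 r3 h (c.s_mem (mem_zpowers t))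
  have hn := core_normalIn {r} C₁[t]
  generalize O[{r}] C₁[t] = R at *
  by_contra R1
  have ro := hr.out.odd_of_ne_two r2
  have fp : ∀ {y : G} {B : Subgroup G}, T3 y → IsPGroup r B → y ∈ N[B] → Fpf y B ⊥ :=
    fun h3 hB hy => h3.fpf_odd ⟨fun b hb => conj_mem_of_norm hy hb, cube_of_pgroup hr.out r3 hB⟩
      (IsPGroup.odd_card hB ro)
  have hx := c.x_mem (mem_zpowers t)
  have hs := c.s_mem (mem_zpowers t)
  have k0 : ∀ B : Subgroup G, B ≤ R → x ∈ N[B] → s ∈ N[B] →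
      Nat.card B = Nat.card ↥(B ⊓ C₁[s]) ^ 2 := fun B hB b1 b2 =>
    (fp c.t3 (hR.isPGroup.to_le hB) b1).card_cent c.sx c.ss fun b hb => conj_mem_of_norm b2 hb
  obtain ⟨b, hb, b1⟩ := exists_ne_one_of_ne_bot (A := Z[R] ⊓ C₁[s]) fun e => by
    have := k0 Z[R] inf_le_left (le_norm_center hn.2 hx) (le_norm_center hn.2 hs)
    rw [e, card_bot] at this
    exact center_ne_bot_of_nil (nil_of_pgroup hR.isPGroup) R1 (eq_bot_iff_card'.2 this)
  have sol : Group.IsSolvable C₁[b] := solv3 c.t3.five fun y hy y3 => by_contra fun y1 =>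
    b1 (odd_eq_one (IsPGroup.odd_card hR.isPGroup ro) hb.1.1 ((c.t3.of_cube y1 y3).sq_of_commute
      (cube_of_pgroup hr.out r3 hR.isPGroup) hb.1.1 (mem_cent1_iff.1 hy)))
  obtain ⟨g, hg⟩ := isConj_iff.1 c.ts
  have hR' := hR.smul g
  have hn' := le_norm_smul hn.2 g
  have h' := h.conj g
  have c' := c.conj g
  have e0 := card_conj_smul g R
  rw [conj_smul_cent1, hg] at hR' hn' h'
  rw [hg] at c'
  generalize MulAut.conj g • R = R' at *
  have st := c.sV t (mem_zpowers t)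
  set A := klein s t c.ss c.tt9 st
  have sA : s ∈ A := Or.inr (Or.inl rfl)
  have tA : t ∈ A := Or.inr (Or.inr (Or.inl rfl))
  have le : ∀ {X : Subgroup G}, s ∈ X → t ∈ X → A ≤ X := fun a1 a2 => by
    rintro _ (rfl | rfl | rfl | rfl)
    exacts [one_mem _, a1, a2, mul_mem a1 a2]
  have Rb : R ≤ C₁[b] := fun a ha => mem_cent1_iff.2 (hb.1.2 a ha)
  have AY : A ≤ C₁[b] := le (mem_cent1_comm.1 hb.2) (mem_cent1_comm.1 (hn.1 hb.1.1))
  have At : A ≤ C₁[t] := le hs (mem_cent1_self t)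
  have As : A ≤ C₁[s] := le (mem_cent1_self s) (mem_cent1_comm.1 hs)
  have hc : (Nat.card (O[{2}ᶜ] C₁[b])).Coprime (Nat.card A) := by
    obtain ⟨k, hk⟩ := (isPGroup_klein : IsPGroup 2 A).exists_card_eq
    rw [hk]
    exact (Nat.coprime_two_right.2 (odd_core _)).pow_right k
  have hsO := sol_of_le sol (core_le {2}ᶜ C₁[b])
  have k : ∀ a ∈ A, ∀ Q, H7.IsSylowIn r Q C₁[a] → C₁[a] ≤ N[Q] → A ≤ C₁[a] →
      ∃ S, H7.IsSylowIn r S (O[{2}ᶜ] C₁[b]) ∧ A ≤ N[S] ∧ C₁[b] ⊓ Q ≤ S := fun a ha Q q1 q2 q3 => by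
    have h3 := zpowers_le.2 ha
    refine coprime_Sylow_subset (AY.trans (core_normalIn _ _).2) hc hsO (le_trans ?_
      (p'core_cent_pgroup (h3.trans AY) (isPGroup_klein.to_le h3) sol))
      (q1.isPGroup.to_le inf_le_right) (le_norm_inf (AY.trans (le_norm_self _)) (q3.trans q2))
    rw [cent_zpowers]
    exact NormalIn.le_core ⟨inf_le_inf_left _ q1.le, le_norm_inf (inf_le_left.trans
      (le_norm_self _)) (inf_le_right.trans q2)⟩
      (isPi_odd (IsPGroup.odd_card (q1.isPGroup.to_le inf_le_right) ro))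
  obtain ⟨S, s1, s2, s3⟩ := k t tA R hR hn.2 At
  obtain ⟨S', s1', s2', s3'⟩ := k s sA R' hR' hn' As
  have e1 : R = S := eq_of_nil_of_norm_le (nil_of_pgroup s1.isPGroup) ((le_inf Rb le_rfl).trans s3)
    (h1.eq_of_le (s1.isPGroup.to_le inf_le_left) (le_inf ((le_inf Rb le_rfl).trans s3)
      (le_norm_self R)) inf_le_right).le
  obtain ⟨a, ha, rfl⟩ := coprime_Sylow_trans (AY.trans (core_normalIn _ _).2) hc hsO s1' s2' s1 s2
  rw [← e1, conj_smul_of_norm (hn.2 (cent_le_cent1 tA ha.2))] at s3'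
  have bR : b ∈ R' := zpowers_le.1 (hR'.le_of_normal hn' (zpowers_le.2 hb.2)
    (hR.isPGroup.to_le (zpowers_le.2 hb.1.1)))
  have o' := IsPGroup.odd_card hR'.isPGroup ro
  have i3 := cube_of_pgroup hr.out r3 hR'.isPGroup
  have ts := As tA
  have tK : t ∉ MulAut.conj g • K := fun tK => by
    have cs : ∀ y ∈ C₁[s], ∀ d ∈ zpowers s, y * d * y⁻¹ ∈ zpowers s := fun y hy d hd =>
      conj_mem_of_norm (cent_le_norm _ (by rwa [cent_zpowers])) hd
    have f := c'.fpf h'.inv le_rfl (c'.le_TI h' (c'.le_cent (mem_zpowers s)))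
      (fun y hy => cs y (h'.le hy)) (cs _ h'.mem)
    have l : R' ≤ C₁[t] := fun u hu => by
      have := f.commute_of_coprime (h'.le_of_odd c'.t3 i3 o' hR'.le hu) tK (m := Nat.card R')
        (n := 2) (by rw [pow_card_eq_one_of_mem hu]; exact one_mem _)
        (by rw [pow_two, c.tt9]; exact one_mem _) (Nat.coprime_two_right.2 o')
      refine mem_cent1_iff.2 (commutatorElement_eq_one_iff_mul_comm.1
        (odd_eq_one o' ?_ (c'.sq this)))
      rw [commutatorElement_def, mul_assoc, mul_assoc, ← mul_assoc t]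
      exact mul_mem hu (conj_mem_of_norm (hn' ts) (inv_mem hu))
    have e2 := eq_of_le_of_card_le (hR.le_of_normal hn.2 l hR'.isPGroup) e0.ge
    have := k0 R le_rfl (hn.2 hx) (hn.2 hs)
    rw [inf_eq_left.2 (e2 ▸ hR'.le)] at this
    have := card_pos' R
    exact R1 (eq_bot_iff_card'.2 (by nlinarith))
  have f := fp c'.t3 hR'.isPGroup (hn' h'.mem)
  have := c'.sqrtV (A := C₁[b] ⊓ R') (B := C₁[b] ⊓ R') h'.inv (h'.outer_of_notMem c'.t3
    (cube_of_pgroup Nat.prime_two (by norm_num) isPGroup_klein) tA ts tK)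
    ⟨fun u hu => ⟨mem_cent1_comm.1 (mem_cent1_iff.2 (commutatorElement_eq_one_iff_mul_comm.1
      (mem_bot.1 (f.comm_conj bR hu.2 (mem_bot.2 (commutatorElement_eq_one_iff_mul_comm.2
        (mem_cent1_iff.1 hu.1).symm)))))), f.inv.conj u hu.2⟩, fun u hu => i3 u hu.2⟩ le_rfl
    fun u hu => (mem_cent1_iff.1 (hn.1 (s3' hu))).symm
  rw [c'.card_V9] at this
  have h4 := odd_of_le o' (inf_le_right (a := C₁[b]))
  have h5 : Nat.card ↥(C₁[b] ⊓ R') = 1 := by
    obtain ⟨m, hm⟩ := h4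
    rw [hm] at this ⊢
    rcases m with _ | m
    · rfl
    · nlinarith
  exact b1 (mem_bot.1 (eq_bot_iff_card'.2 h5 ▸ (⟨mem_cent1_self b, bR⟩ : b ∈ C₁[b] ⊓ R')))

theorem C2.caseLt (c : C2 x s t) (r2 : r ≠ 2) (r3 : r ≠ 3) (h : TI x C₁[t] K)
    (h1 : ¬ IsConj t (s * t)) {X K1 : Subgroup G} (h2 : TI x X K1) (hX : C₁[t] ≤ X)
    (h3 : ¬ O[{r}] X ≤ C₁[t]) : False := by
  have hx := c.x_mem (mem_zpowers t)
  have hs := c.s_mem (mem_zpowers t)
  have hn := core_normalIn {r} X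
  have hP : IsPGroup r (O[{r}] X) := isPGroup_core X
  generalize O[{r}] X = P at *
  have oP := IsPGroup.odd_card hP (hr.out.odd_of_ne_two r2)
  have i3 := cube_of_pgroup hr.out r3 hP
  have b1 : 5 * Nat.card C₁[t] ≤ Nat.card X := by
    have k : r ∣ C₁[t].relIndex P := by
      obtain ⟨j, hj⟩ := hP.exists_card_eq
      obtain ⟨i, -, hi⟩ := (Nat.dvd_prime_pow hr.out).1 (hj ▸ relIndex_dvd_card' C₁[t] P)
      rw [hi]
      exact dvd_pow_self _ fun e => h3 (relIndex_eq_one.1 (by rw [hi, e, pow_zero]))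
    have k1 := Nat.le_of_dvd (Nat.pos_of_ne_zero (relIndex_ne_zero' _ _))
      (k.trans (relIndex_dvd_relIndex_of_normal _ hn.1 hn.2))
    rw [← card_mul_relIndex hX, mul_comm]
    exact Nat.mul_le_mul_left _ ((hr.out.five_le_of_ne_two_of_ne_three r2 r3).trans k1)
  have b2 : O[{2}] X = ⊥ := by
    by_contra e
    obtain ⟨O, o1, o2, o3, j, o4⟩ := c.z6 h2 (hX hs)
    obtain ⟨T, hT⟩ := H7.exists_isSylowIn (p := 2) X
    have n2 := core_normalIn {2} X
    obtain ⟨z, z1, z2, z3⟩ := exists_mem_center_pgroup hT.isPGroup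
      ⟨hT.core_le, hT.le.trans n2.2⟩ e
    have k1 : O ≤ C₁[z] := (NormalIn.le_cent_core (π := {2}) ⟨o1.trans h2.le, le_norm_of_conj o2⟩
      (isPi_odd o3)).trans (cent_le_cent1 z1)
    have k2 : T ≤ C₁[z] := (le_cent_symm (zpowers_le.2 z2)).trans (cent_le_cent1 (mem_zpowers z))
    have k3 := relIndex_dvd_of_le_left' k1 X
    have k4 := relIndex_dvd_of_le_left' k2 X
    have k5 := card_mul_relIndex (o1.trans h2.le)
    rw [h2.card c.t3 (hX hs) c.sx, o4, mul_left_comm] at k5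
    rw [Nat.eq_of_mul_eq_mul_left (card_pos' _) k5, show 6 * 2 ^ j = 3 * 2 ^ (j + 1) by ring] at k3
    have k6 := Nat.le_of_dvd (by norm_num) (Nat.Coprime.dvd_of_dvd_mul_right
      (Nat.Coprime.pow_right _ ((Nat.Prime.coprime_iff_not_dvd Nat.prime_two).2
        fun e => hT.2.2 (e.trans k4)).symm) k3)
    have k7 : Nat.card X ≤ Nat.card C₁[z] * 3 := by
      rw [← card_inf_mul_relIndex C₁[z] X]
      exact Nat.mul_le_mul (card_le_of_le inf_le_left) k6
    have := card_pos' C₁[t]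
    rcases c.cls z (by rw [← pow_two, ← z3, pow_orderOf_eq_one])
      (fun e => by simp [e] at z3) with e | e
    all_goals
      obtain ⟨g, rfl⟩ := isConj_iff.1 e.symm
      rw [← conj_smul_cent1, card_conj_smul] at k7
      have := c.hi h1
      omega
  have xK := h.nK.2 hx
  have hc : (Nat.card K).Coprime (Nat.card (zpowers x)) := by
    rw [Nat.card_zpowers, c.t3.orderOf_eq]
    exact ((Nat.Prime.coprime_iff_not_dvd Nat.prime_three).2 (not_dvd_card_iff.2 h.cube)).symm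
  have sol := solv3 c.t3.five h.cube
  have tK := h.cen t (mem_cent1_self t) (c.cx (mem_zpowers t)) c.tt9
  obtain ⟨U, u1, u2, u3⟩ := coprime_Sylow_subset (p := 2) (zpowers_le.2 xK) hc sol (zpowers_le.2 tK)
    (isPGroup_of_forall fun b hb => ⟨1, by rw [pow_one, pow_two, c.sq hb]⟩)
    (zpowers_le.2 (cent_le_norm _ (by rwa [cent_zpowers])))
  have xU := u2 (mem_zpowers x)
  have sU : s ∈ N[U] := by
    have k1 := u1.smul s
    rw [conj_smul_of_norm (h.nK.2 hs)] at k1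
    obtain ⟨a, ha, e⟩ := coprime_Sylow_trans (zpowers_le.2 xK) hc sol k1 (zpowers_le.2 (by
      rw [← conj_smul_norm, mem_conj_smul, show s⁻¹ * x * s = s⁻¹ * x * s⁻¹⁻¹ by group,
        inv_eq_of_mul_eq_one_right c.ss, c.sx]
      exact inv_mem xU)) u1 u2
    rw [conj_smul_of_mem (u3 (c.mem_of_commute h.cube ha.1 (ha.2 x (mem_zpowers x))))] at e
    exact mem_norm_of_conj_smul_eq e
  have q := c.lemQ h1 u1.isPGroup xU sU (u3 (mem_zpowers t)) (u1.le.trans h.le) fun F f1 f2 f3 => by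
    have f4 := u1.isPGroup.to_le f1
    have j3 := cube_of_pgroup Nat.prime_two (by norm_num) f4
    have f5 := f1.trans (u1.le.trans (h.le.trans hX))
    have n0 : NormalIn (K1 ⊓ C[P]) X := ⟨inf_le_left.trans h2.le, le_norm_inf_cent h2.nK.2 hn.2⟩
    have k : ∀ {B : Subgroup G}, (∀ b ∈ B, b ^ 3 = 1 → b = 1) → t ∉ B →
        ∀ b ∈ B, Commute x b → b = 1 := fun i h b hb e =>
      (c.memt9.1 (c.mem_of_commute i hb e)).resolve_right fun e => h (e ▸ hb)
    have f : Fpf x (K1 ⊓ C[P]) ⊥ := ⟨c.t3.cube, c.t3.ne, ⟨fun b hb => conj_mem_of_norm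
      (n0.2 h2.mem) hb, fun b hb => h2.cube b hb.1⟩, bot_le, fun _ _ _ hd => by simp [mem_bot.1 hd],
      fun _ hd => by simp [mem_bot.1 hd], fun b hb e => mem_bot.2 (k (B := K1 ⊓ C[P])
        (fun b hb => h2.cube b hb.1)
        (fun e => h3 fun a ha => mem_cent1_iff.2 (e.2 a ha)) b hb e)⟩
    refine le_bot_iff.1 (b2 ▸ (le_pcore_of_nil f.nil (le_inf (h2.le_of_inv c.t3
      ⟨fun b hb => conj_mem_of_norm f2 hb, j3⟩ f5) fun b hb a ha => ?_) f4).trans (n0.core_le _))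
    exact commute_of_fpf Nat.prime_three c.t3.cube (hn.2 h2.mem) f2 (f5.trans hn.2) oP f4
      (fun a ha e => k i3 (fun e => c.t1 (odd_eq_one oP e c.tt9)) a ha e.symm)
      (fun a ha e => k j3 f3 a ha e.symm) a ha b hb
  refine h1 (isConj_of_not_eight (haveI := c.simple; comm_top_of_simple c.nab) c.tt9 c.t1 (fun e => ?_)
    (c.shift (mem_zpowers t)).ss (c.shift (mem_zpowers t)).s_ne).symm
  have k := card_dvd_of_le q
  rw [h.card c.t3 hs c.sx, ← card_mul_relIndex u1.le] at e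
  rw [c.card_V9] at k
  have := u1.2.2
  rcases (Nat.dvd_prime Nat.prime_two).1 k with k | k <;> rw [k] at e <;> omega

omit hr in
theorem C2.two (c : C2 x s t) {K : Subgroup G} (h : TI x (centralizer {t}) K) : IsPGroup 2 K := by
  by_contra h2
  obtain ⟨r, hr, r2, r3, hd⟩ := exists_odd_prime h2 h.cube
  have hs := c.s_mem (mem_zpowers t)
  have k := c.nsyl r2 r3 h hs
  have R1 : O[{r}] C₁[t] ≠ ⊥ := fun e =>
    k.2.2 (by rw [e, relIndex_bot_left]; exact hd.trans (card_dvd_of_le h.le))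
  by_cases h1 : IsConj t (s * t)
  · exact R1 (c.one_class r2 r3 h h1)
  have hn := core_normalIn {r} C₁[t]
  obtain ⟨K1, h3⟩ := c.normTI r2 r3 k.isPGroup R1 (hn.2 (c.x_mem (mem_zpowers t)))
  refine c.caseLt r2 r3 h h1 h3 hn.2 fun l => R1 (c.caseEq r2 r3 h ?_)
  have k1 := c.nsyl r2 r3 h3 (hn.2 hs)
  rwa [k.eq_of_le k1.isPGroup ((NormalIn.norm _).le_pcore k.isPGroup) l] at k1

end Cfsg.Agent.L0.C12
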