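import Cfsg.Agent.H9.C12Odd

/-!
# The case `|V| = 4`: type I centralizers have a two-group as kernel
-/

set_option autoImplicit false
set_option linter.dupNamespace false

namespace Cfsg.Agent.L0.C12

open Subgroup Cfsg.Agent.L0.SC3 Cfsg.Agent.H1.T3 Cfsg.Agent.H7
open scoped commutatorElement Pointwise

universe u

theorem SF.norm_p {S : Type} [Group S] {p r : ℕ} (h : SF S p) [hr : Fact r.Prime] (r2 : r ≠ 2)
    (r3 : r ≠ 3) {P F : Subgroup S} (hP : IsPGroup r P) (P1 : P ≠ ⊥) (hF : F ≤ N[P])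
    (hc : Nat.card F = 4 ∨ Nat.card S = 168 ∧ Nat.card F = 2) : False := by
  haveI := h.finite
  haveI := h.simple
  have h1 : r ∣ Nat.card P := by
    obtain ⟨k, hk⟩ := hP.exists_card_eq
    rw [hk]
    exact dvd_pow_self _ fun e => P1 (eq_bot_iff_card'.2 (by rw [hk, e, pow_zero]))
  have h0 := P.card_mul_index
  have h2 : r ∣ Nat.card S := h1.trans (Dvd.intro _ h0)
  have h7 : r = 7 ∨ r = 13 ∧ Nat.card S = 1092 := by
    have k : ∀ q, q.Prime → r ∣ q → r = q := fun q hq => (Nat.prime_dvd_prime_iff_eq hr.out hq).1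
    rcases h.card with ⟨-, e⟩ | ⟨-, e⟩
    · rw [e, show 168 = 2 * (2 * (2 * (3 * 7))) from rfl] at h2
      simp only [hr.out.dvd_mul] at h2
      rcases h2 with e | e | e | e | e <;> have := k _ (by norm_num) e <;> omega
    · rw [e, show 1092 = 2 * (2 * (3 * (7 * 13))) from rfl] at h2
      simp only [hr.out.dvd_mul] at h2
      rcases h2 with e | e | e | e | e <;> have := k _ (by norm_num) e <;> omega
  have h3 : ¬ r ∣ P.index := fun e => by
    have := h0 ▸ Nat.mul_dvd_mul h1 e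
    rcases h.card with ⟨-, k⟩ | ⟨-, k⟩ <;> rcases h7 with rfl | ⟨rfl, k'⟩ <;>
      rw [k] at this <;> omega
  have h4 := card_sylow_modEq_one r S
  rw [(hP.toSylow h3).card_eq_index_normalizer] at h4
  change (N[P]).index ≡ 1 [MOD r] at h4
  have h5 : (N[P]).index ≠ 1 := fun e => by
    rcases (normalizer_eq_top_iff.1 (index_eq_one.1 e)).eq_bot_or_eq_top with e | e
    · exact P1 e
    · have := IsPGroup.odd_card hP (hr.out.odd_of_ne_two r2)
      rw [e, card_top] at this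
      rcases h.card with ⟨-, k⟩ | ⟨-, k⟩ <;> rw [k] at this <;> exact absurd this (by decide)
  have h6 : Nat.card F * (N[P]).index ∣ Nat.card S :=
    (N[P]).card_mul_index ▸ Nat.mul_dvd_mul_right (card_dvd_of_le hF) _
  generalize (N[P]).index = m at h4 h5 h6
  have h8 : m ∣ 84 ∧ r = 7 ∨ m ∣ 273 := by
    rcases h.card with ⟨-, k⟩ | ⟨-, k⟩
    · refine Or.inl ⟨?_, by omega⟩
      rcases hc with e | ⟨-, e⟩ <;> rw [k, e] at h6
      · exact (Nat.dvd_of_mul_dvd_mul_left (by norm_num) (show 4 * m ∣ 4 * 42 from h6)).trans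
          (by norm_num)
      · exact Nat.dvd_of_mul_dvd_mul_left (by norm_num) (show 2 * m ∣ 2 * 84 from h6)
    · rw [k, hc.resolve_right (by omega)] at h6
      exact Or.inr (Nat.dvd_of_mul_dvd_mul_left (by norm_num) (show 4 * m ∣ 4 * 273 from h6))
  have k1 : ∀ m ∈ Nat.divisors 84, m % 7 = 1 → m = 1 := by decide
  have k2 : ∀ m ∈ Nat.divisors 273, m % 7 = 1 ∨ m % 13 = 1 → m = 1 := by decide +kernel
  rcases h8 with ⟨e, rfl⟩ | e
  · exact h5 (k1 m (Nat.mem_divisors.2 ⟨e, by norm_num⟩) h4)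
  · refine h5 (k2 m (Nat.mem_divisors.2 ⟨e, by norm_num⟩) ?_)
    rcases h7 with rfl | ⟨rfl, -⟩
    exacts [Or.inl h4, Or.inr h4]

theorem card_dvd_two {G : Type*} [Group G] {V : Subgroup G} (h : IsCyclic V)
    (h2 : ∀ b ∈ V, b * b = 1) : Nat.card V ∣ 2 :=
  IsCyclic.exponent_eq_card (α := V) ▸ Monoid.exponent_dvd_of_forall_pow_eq_one fun g =>
    Subtype.ext (by rw [pow_two]; exact h2 g g.2)

theorem exists_odd_prime {G : Type*} [Group G] [Finite G] {K : Subgroup G} (h : ¬ IsPGroup 2 K)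
    (h3 : ∀ b ∈ K, b ^ 3 = 1 → b = 1) : ∃ r, Fact r.Prime ∧ r ≠ 2 ∧ r ≠ 3 ∧ r ∣ Nat.card K := by
  by_contra k
  refine h (isPi_singleton_iff.1 fun r hr hd => by_contra fun r2 => k ⟨r, ⟨hr⟩, r2, ?_, hd⟩)
  rintro rfl
  exact not_dvd_card_iff.2 h3 hd

variable {G : Type u} [Group G] [Finite G] {x s v : G} {V B L K M : Subgroup G} {r : ℕ}

theorem Ctx.tii_bot [hr : Fact r.Prime] (c : Ctx x s V) (r2 : r ≠ 2) (r3 : r ≠ 3)
    (h : TII x L K M) (sL : s ∈ L) (hB : IsPGroup r B) (BL : B ≤ L) (h1 : V ≤ N[B])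
    (h2 : s ∈ N[B]) : B = ⊥ := by
  have ho := IsPGroup.odd_card hB (hr.out.odd_of_ne_two r2)
  have BM : B ≤ M := fun b hb => by
    obtain ⟨m, hm, a, ha, -, aa, e⟩ := h.fra b (BL hb)
    refine mem_of_pow_mem_of_coprime (n := 2) (Nat.coprime_two_right.2
      (ho.of_dvd_nat (orderOf_dvd_card_of_mem hb))) ?_
    rw [e, pow_two, show m * a * (m * a) = m * (a * m * a⁻¹) * (a * a) by group, aa, mul_one]
    exact mul_mem hm (h.nM a ha m hm)
  obtain ⟨σ, σM, a, -, xa, aa, e⟩ := h.fra s sL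
  have aV := (c.memV a).2 ⟨xa, aa⟩
  have e' : σ = s * a := by rw [e, mul_assoc, aa, mul_one]
  have c' := e' ▸ c.shift aV
  have σN : σ ∈ N[B] := e' ▸ mul_mem h2 (h1 aV)
  have k : ∀ w ∈ V, σ * w ∉ K := fun w hw e => by
    have := mul_mem (h.nK x (h.le' h.mem) _ e) (inv_mem e)
    rw [show x * (σ * w) * x⁻¹ * (σ * w)⁻¹ = x * (σ * w * x * (σ * w)⁻¹)⁻¹ by group,
      (c'.shift hw).sx, inv_inv, c.t3.mul_self] at this
    exact c.t3.ne (inv_eq_one.1 (h.cube _ this (by rw [inv_pow, c.t3.cube, inv_one])))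
  have main : ∀ (S : Type) [Group S] (p : ℕ), SF S p → Quo S K M →
      (Nat.card S = 168 ∨ ∃ w ∈ V, w ∈ M ∧ w ∉ K) → B = ⊥ := fun S _ p sf ⟨π, _, hπ⟩ hc => by
    by_contra B1
    have n : ∀ g : M, (g : G) ∈ N[B] → π g ∈ N[(B.subgroupOf M).map π] := fun g hg => by
      haveI := sf.finite
      refine mem_normalizer_of_conj ?_
      rintro _ ⟨b, hb, rfl⟩
      exact ⟨g * b * g⁻¹, conj_mem_of_norm (A := B) hg hb, by simp⟩
    have P1 : (B.subgroupOf M).map π ≠ ⊥ := fun e => B1 (IsPGroup.eq_bot_of_isPi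
      ((c.Lodd h).to_le fun b hb => (hπ ⟨b, BM hb⟩).1 (mem_bot.1 (e ▸ mem_map_of_mem π hb)))
      (isPi_odd ho))
    have s1 : π ⟨σ, σM⟩ ≠ 1 := fun e => k 1 (one_mem _) (by rw [mul_one]; exact (hπ _).1 e)
    have s2 : π ⟨σ, σM⟩ * π ⟨σ, σM⟩ = 1 := by
      rw [← map_mul, ← π.map_one]; exact congrArg π (Subtype.ext c'.ss)
    rcases hc with hc | ⟨w, hw, wM, wK⟩
    · exact sf.norm_p r2 r3 (hB.comap_subtype.map π) P1 (zpowers_le.2 (n _ σN)) (Or.inr ⟨hc, by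
        rw [Nat.card_zpowers, orderOf_eq_prime (by rwa [pow_two]) s1]⟩)
    · have w2 : π ⟨w, wM⟩ * π ⟨w, wM⟩ = 1 := by
        rw [← map_mul, ← π.map_one]; exact congrArg π (Subtype.ext (c.sq hw))
      refine sf.norm_p r2 r3 (F := klein _ _ s2 w2 (Commute.map (show Commute
        (⟨σ, σM⟩ : M) ⟨w, wM⟩ from Subtype.ext (c'.sV w hw)) π))
        (hB.comap_subtype.map π) P1 ?_ (Or.inl (card_klein s1 (fun e => wK ((hπ _).1 e))
          fun e => k w hw ((hπ (⟨σ, σM⟩ * ⟨w, wM⟩)).1 (by rw [map_mul, e, w2]))))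
      rintro _ (rfl | rfl | rfl | rfl)
      exacts [one_mem _, n _ σN, n _ (h1 hw), mul_mem (n _ σN) (n _ (h1 hw))]
  rcases h.quo with q | q
  · exact main _ 7 sf7 q (Or.inl (by rcases sf7.card with e | e; exacts [e.2, by omega]))
  · exact main _ 13 sf13 q (Or.inr (c.L13' h q).2)

theorem C4.nsyl [hr : Fact r.Prime] (c : C4 x s V) (r2 : r ≠ 2) (r3 : r ≠ 3) (hv : v ∈ V)
    (h1 : v ≠ 1) (h : TI x C₁[v] K) : H7.IsSylowIn r (O[{r}] C₁[v]) C₁[v] := by
  have hK := c.le_TI h (c.le_cent hv)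
  refine c.toCtx.nsyl r2 r3 h (c.s_mem hv) ?_
  rw [c.inf_eq h.cube hK, c.card]
  have : zpowers v ≤ Z[K] ⊓ C₁[x] := zpowers_le.2 ⟨⟨hK hv, fun k hk =>
    mem_cent1_iff.1 (h.le hk)⟩, mem_cent1_iff.2 (c.cx hv).symm⟩
  have := card_le_of_le this
  rw [Nat.card_zpowers, orderOf_eq_prime (by rw [pow_two, c.sq hv]) h1] at this
  omega

theorem C4.oa [hr : Fact r.Prime] (c : C4 x s V) (r2 : r ≠ 2) (r3 : r ≠ 3) :
    OA r (V ⊔ zpowers s) V := by
  have hs : ∀ k ∈ V, s * k * s⁻¹ ∈ V := fun k hk => by rwa [(c.sV k hk).eq, mul_inv_cancel_right]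
  have hV : IsPGroup 2 V := isPGroup_of_forall fun b hb => ⟨1, by rw [pow_one, pow_two, c.sq hb]⟩
  refine ⟨r2, ?_, isPGroup_sup_invol c.ss hs hV, le_sup_left, fun e => ?_,
    fun v hv v1 B hB hA hC => ?_⟩
  · exact abel_sup_zpowers (abel_of_comm fun a ha b hb => c.comm ha hb) fun k hk =>
      (c.sV k hk).symm
  · have := card_dvd_two e fun b hb => c.sq hb
    rw [c.card] at this
    omega
  rcases c.str_sub (c.centralizer_ne_top v1) (c.x_mem hv) with ⟨K, h⟩ | ⟨K, M, h⟩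
  · refine ((c.nsyl r2 r3 hv v1 h).le_of_normal (core_normalIn _ _).2 hC hB).trans ?_
    exact core_mono (by simpa using r2.symm) _
  · rw [c.tii_bot r2 r3 h (c.s_mem hv) hB hC (le_sup_left.trans hA)
      (hA (mem_sup_right (mem_zpowers s)))]
    exact bot_le

theorem C4.two (c : C4 x s V) {v : G} (hv : v ∈ V) (h1 : v ≠ 1) {K : Subgroup G}
    (h : TI x (centralizer {v}) K) : IsPGroup 2 K := by
  by_contra h2
  obtain ⟨r, hr, r2, r3, hd⟩ := exists_odd_prime h2 h.cube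
  obtain ⟨w, hw, e⟩ := c.fpos v (c.sq hv) h1
  obtain ⟨g, hg⟩ := isConj_iff.1 e
  have k := c.nsyl r2 r3 hv h1 h
  have := c.toCtx.ov (c.oa r2 r3) r3 hv (mem_sup_left hv) (g := g)
    (hg ▸ mul_mem (mem_sup_right (mem_zpowers s)) (mem_sup_left hw)) (hg ▸ (c.shift hw).sx) k
  exact k.2.2 (by rw [this, relIndex_bot_left]; exact hd.trans (card_dvd_of_le h.le))

end Cfsg.Agent.L0.C12
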