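import Cfsg.Agent.H1.ElDef

set_option autoImplicit false

namespace Cfsg.Agent.H9.ElM

open Classical in
/-- the operator attached to a relation -/
noncomputable def opM {Ω : Type*} [Fintype Ω] (K : Type*) [Field K] (Q : Ω → Ω → Prop) :
    (Ω → K) →ₗ[K] (Ω → K) where
  toFun f := fun a => ∑ b, if Q a b then f b else 0
  map_add' f g := by
    funext a
    simp only [Pi.add_apply, ← Finset.sum_add_distrib]
    refine Finset.sum_congr rfl fun b _ => ?_
    split_ifs <;> simp
  map_smul' c f := by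
    funext a
    simp only [Pi.smul_apply, smul_eq_mul, RingHom.id_apply, Finset.mul_sum]
    refine Finset.sum_congr rfl fun b _ => ?_
    split_ifs <;> simp

/-- translation of functions -/
def tr {G Ω : Type*} [Group G] [MulAction G Ω] (K : Type*) [Field K] (g : G) :
    (Ω → K) →ₗ[K] (Ω → K) where
  toFun f := fun a => f (g • a)
  map_add' _ _ := rfl
  map_smul' _ _ := rfl

variable {G Ω : Type*} [Group G] [MulAction G Ω] [Fintype Ω] {K : Type*} [Field K]

omit [Fintype Ω] in
theorem tr_apply (g : G) (f : Ω → K) (a : Ω) : tr K g f a = f (g • a) := rfl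

open Classical in
theorem opM_apply (Q : Ω → Ω → Prop) (f : Ω → K) (a : Ω) :
    opM K Q f a = ∑ b, if Q a b then f b else 0 := rfl

theorem opM_tr (Q : Ω → Ω → Prop) (inv : ∀ (g : G) a b, Q a b → Q (g • a) (g • b)) (g : G)
    (f : Ω → K) : opM K Q (tr K g f) = tr K g (opM K Q f) := by
  classical
  funext a
  rw [tr_apply, opM_apply, opM_apply]
  rw [← Equiv.sum_comp (MulAction.toPerm g) (fun b => if Q (g • a) b then f b else 0)]
  refine Finset.sum_congr rfl fun b _ => ?_
  have : Q a b ↔ Q (g • a) (g • b) :=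
    ⟨inv g a b, fun h => by simpa using inv g⁻¹ _ _ h⟩
  simp only [MulAction.toPerm_apply, tr_apply, this]

theorem opM_pow_tr (Q : Ω → Ω → Prop) (inv : ∀ (g : G) a b, Q a b → Q (g • a) (g • b)) (g : G)
    (n : ℕ) (f : Ω → K) : (opM K Q ^ n) (tr K g f) = tr K g ((opM K Q ^ n) f) := by
  induction n with
  | zero => rfl
  | succ n ih => rw [pow_succ', Module.End.mul_apply, Module.End.mul_apply, ih, opM_tr Q inv]

omit [Fintype Ω] in
theorem tr_pow (g : G) (n : ℕ) : (tr K g : Module.End K (Ω → K)) ^ n = tr K (g ^ n) := by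
  induction n with
  | zero => ext f a; simp [tr]
  | succ n ih =>
    rw [pow_succ, ih]
    refine LinearMap.ext fun f => funext fun a => ?_
    rw [Module.End.mul_apply, tr_apply, tr_apply, tr_apply, pow_succ', mul_smul]

omit [Fintype Ω] in
/-- an invariant subspace fixed by an element moving a point consists of constants -/
theorem const_of_fixed (hpr : MulAction.IsPreprimitive G Ω) (W : Submodule K (Ω → K))
    (hW : ∀ (g : G), ∀ f ∈ W, tr K g f ∈ W) (z : G) (a0 : Ω) (hz : z • a0 ≠ a0)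
    (hf : ∀ f ∈ W, tr K z f = f) : ∀ f ∈ W, ∀ a b, f a = f b := by
  let N : Subgroup G :=
    { carrier := {g | ∀ f ∈ W, ∀ a, f (g • a) = f a}
      one_mem' := fun f _ a => by rw [one_smul]
      mul_mem' := fun {g k} hg hk f hf a => by rw [mul_smul, hg f hf, hk f hf]
      inv_mem' := fun {g} hg f hf a => by rw [← hg f hf (g⁻¹ • a), smul_inv_smul] }
  haveI : N.Normal := ⟨fun n hn g f hf a => by
    have := hn (tr K g f) (hW g f hf) (g⁻¹ • a)
    rw [tr_apply, tr_apply, smul_inv_smul] at this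
    rw [mul_smul, mul_smul, this]⟩
  have hzN : z ∈ N := fun f hf' a => congrFun (hf f hf') a
  have ht : MulAction.IsPretransitive N Ω := by
    refine hpr.isQuasiPreprimitive.isPretransitive_of_normal fun h => hz ?_
    have : a0 ∈ MulAction.fixedPoints N Ω := by rw [h]; trivial
    exact this ⟨z, hzN⟩
  intro f hf' a b
  obtain ⟨n, rfl⟩ := ht.exists_smul_eq a b
  exact (n.2 f hf' a).symm

omit [Fintype Ω] in
/-- an `x`-invariant subspace not fixed by `z = x ^ p` contains the indicator of `Fᶜ` -/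
theorem ind_mem [DecidableEq Ω] {p : ℕ} [Fact p.Prime] [CharP K p] (x : G) (F : Finset Ω)
    (zF : ∀ a ∈ F, x ^ p • a = a) (xF : ∀ a ∈ F, x • a ∈ F) (a0 : Ω) (ha0 : a0 ∉ F)
    (trL : ∀ b ∉ F, ∃ k : ℕ, x ^ k • a0 = b) (ord : x ^ p ^ 2 = 1) (W : Submodule K (Ω → K))
    (hW : ∀ (g : G), ∀ f ∈ W, tr K g f ∈ W) (f : Ω → K) (hf : f ∈ W)
    (hne : tr K (x ^ p) f ≠ f) : (fun a => if a ∈ F then (0 : K) else 1) ∈ W := by
  classical
  haveI : Nonempty Ω := ⟨a0⟩
  set T : Module.End K (Ω → K) := tr K x - 1 with hT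
  haveI : CharP (Module.End K (Ω → K)) p := by
    haveI : Nontrivial (Module.End K (Ω → K)) := inferInstance
    exact charP_of_injective_algebraMap (algebraMap K _).injective p
  have hnil : T ^ p ^ 2 = 0 := by
    rw [hT, sub_pow_char_pow_of_commute _ _ (Commute.one_right _), tr_pow, ord, one_pow]
    ext f a
    simp [tr]
  set v0 := tr K (x ^ p) f - f with hv0
  have hv : v0 ≠ 0 := sub_ne_zero.2 hne
  have hex : ∃ k, (T ^ k) v0 = 0 := ⟨p ^ 2, by rw [hnil]; rfl⟩
  have h0 : Nat.find hex ≠ 0 := fun h => hv (by simpa [h] using Nat.find_spec hex)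
  obtain ⟨k, hk⟩ := Nat.exists_eq_succ_of_ne_zero h0
  have hk1 : (T ^ k) v0 ≠ 0 := Nat.find_min hex (by omega)
  have hk2 : T ((T ^ k) v0) = 0 := by
    have := Nat.find_spec hex
    rwa [hk, pow_succ', Module.End.mul_apply] at this
  have hall : ∀ j, (T ^ j) v0 ∈ W ∧ ∀ a ∈ F, (T ^ j) v0 a = 0 := by
    intro j
    induction j with
    | zero =>
      refine ⟨W.sub_mem (hW _ f hf) hf, fun a ha => ?_⟩
      simp [hv0, tr_apply, zF a ha]
    | succ j ih =>
      rw [pow_succ', Module.End.mul_apply]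
      refine ⟨W.sub_mem (hW _ _ ih.1) ih.1, fun a ha => ?_⟩
      show (T ^ j) v0 (x • a) - (T ^ j) v0 a = 0
      rw [ih.2 a ha, ih.2 _ (xF a ha), sub_self]
  set v := (T ^ k) v0 with hvd
  have hvx : ∀ a, v (x • a) = v a := fun a => sub_eq_zero.1 (congrFun hk2 a)
  have hvk : ∀ j : ℕ, v (x ^ j • a0) = v a0 := by
    intro j
    induction j with
    | zero => simp
    | succ j ih => rw [pow_succ', mul_smul, hvx, ih]
  have hveq : v = v a0 • fun a => if a ∈ F then (0 : K) else 1 := by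
    funext a
    by_cases ha : a ∈ F
    · simp [ha, (hall k).2 a ha, hvd]
    · obtain ⟨j, rfl⟩ := trL a ha
      simp [ha, hvk]
  have hc : v a0 ≠ 0 := fun h => hk1 (by rw [hveq, h, zero_smul])
  have := W.smul_mem (v a0)⁻¹ (hall k).1
  rw [← hvd, hveq, smul_smul] at this
  simpa [ha0, hc] using this

theorem sum_periodic {p : ℕ} (ψ : ℕ → K) (h : ∀ k, ψ (k + p) = ψ k) (m : ℕ) :
    ∑ k ∈ Finset.range (p * m), ψ k = m * ∑ k ∈ Finset.range p, ψ k := by
  have hp : ∀ m k, ψ (p * m + k) = ψ k := by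
    intro m k
    induction m with
    | zero => simp
    | succ m ih => rw [← ih, ← h (p * m + k)]; congr 1; ring
  induction m with
  | zero => simp
  | succ m ih =>
    rw [Nat.mul_succ, Finset.sum_range_add, ih]
    simp only [hp]
    push_cast
    ring

/-- the sum of a `z`-invariant function over `Fᶜ` vanishes -/
theorem sum_compl [DecidableEq Ω] {p : ℕ} [Fact p.Prime] [CharP K p] (x : G) (F : Finset Ω)
    (xF : ∀ a, x • a ∈ F → a ∈ F) (a0 : Ω) (ha0 : a0 ∉ F)
    (reg : ∀ k : ℕ, x ^ k • a0 = a0 → p ^ 2 ∣ k)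
    (trL : ∀ b ∉ F, ∃ k : ℕ, x ^ k • a0 = b) (ord : x ^ p ^ 2 = 1) (φ : Ω → K)
    (hφ : ∀ a, φ (x ^ p • a) = φ a) : ∑ b ∈ Fᶜ, φ b = 0 := by
  have hpos : 0 < p ^ 2 := pow_pos (Fact.out : p.Prime).pos 2
  have h0 : ∀ k : ℕ, x ^ k • a0 ∉ F := by
    intro k
    induction k with
    | zero => simpa using ha0
    | succ k ih => exact fun h => ih (xF _ (by rwa [pow_succ', mul_smul] at h))
  have h1 : ∑ k ∈ Finset.range (p ^ 2), φ (x ^ k • a0) = ∑ b ∈ Fᶜ, φ b := by
    refine Finset.sum_bij (fun k _ => x ^ k • a0) (fun k _ => ?_) ?_ ?_ (fun _ _ => rfl)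
    · exact Finset.mem_compl.2 (h0 k)
    · have key : ∀ i j, i ≤ j → j < p ^ 2 → x ^ i • a0 = x ^ j • a0 → i = j := by
        intro i j hij hj h
        obtain ⟨d, rfl⟩ := Nat.exists_eq_add_of_le hij
        rw [pow_add, mul_smul] at h
        have := reg d (smul_left_cancel _ h).symm
        have := Nat.eq_zero_of_dvd_of_lt this (by omega)
        omega
      intro i hi j hj h
      rw [Finset.mem_range] at hi hj
      rcases le_total i j with hij | hij
      · exact key i j hij hj h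
      · exact (key j i hij hi h.symm).symm
    · intro b hb
      obtain ⟨k, rfl⟩ := trL b (Finset.mem_compl.1 hb)
      refine ⟨k % p ^ 2, Finset.mem_range.2 (Nat.mod_lt _ hpos), ?_⟩
      conv_rhs => rw [← Nat.div_add_mod k (p ^ 2), pow_add, pow_mul, ord, one_pow, one_mul]
  rw [← h1, sq, sum_periodic (p := p) (fun k => φ (x ^ k • a0)), CharP.cast_eq_zero, zero_mul]
  intro k
  show φ (x ^ (k + p) • a0) = φ (x ^ k • a0)
  rw [add_comm, pow_add, mul_smul, hφ]

theorem mdAux [DecidableEq Ω] {p s : ℕ} (hp : p.Prime) (x : G) (F : Finset Ω)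
    (hpr : MulAction.IsPreprimitive G Ω) (zF : ∀ a ∈ F, x ^ p • a = a)
    (xF : ∀ a, x • a ∈ F ↔ a ∈ F) (a0 : Ω) (ha0 : a0 ∉ F) (za0 : x ^ p • a0 ≠ a0)
    (reg : ∀ k : ℕ, x ^ k • a0 = a0 → p ^ 2 ∣ k)
    (trL : ∀ b ∉ F, ∃ k : ℕ, x ^ k • a0 = b) (ord : x ^ p ^ 2 = 1)
    (Q : Ω → Ω → Prop) [DecidableRel Q] (inv : ∀ (g : G) a b, Q a b → Q (g • a) (g • b))
    (Qr : ∀ a ∈ F, Q a a) (Qs : ∀ a ∈ F, ∀ b ∈ F, Q a b → Q b a)
    (Qt : ∀ a ∈ F, ∀ b ∈ F, ∀ c ∈ F, Q a b → Q b c → Q a c)
    (Qc : ∀ a ∈ F, (F.filter (Q a)).card = s) (s1 : 1 < s) (sp : s < p) (hF : s < F.card) :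
    False := by
  classical
  haveI : Fact p.Prime := ⟨hp⟩
  set M : Module.End (ZMod p) (Ω → ZMod p) := opM (ZMod p) Q with hM
  set z := x ^ p with hz
  -- value of `M f` on `F`
  have hMF : ∀ f : Ω → ZMod p, tr (ZMod p) z f = f → ∀ a ∈ F,
      M f a = ∑ b ∈ F.filter (Q a), f b := by
    intro f hf a ha
    rw [hM, opM_apply, ← Finset.sum_add_sum_compl F, Finset.sum_filter,
      sum_compl (p := p) x F (fun a => (xF a).1) a0 ha0 reg trL ord, add_zero]
    · refine Finset.sum_congr rfl fun b _ => ?_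
      congr
    · intro b
      have h1 : Q a (z • b) ↔ Q a b := by
        refine ⟨fun h => ?_, fun h => by simpa [zF a ha] using inv z a b h⟩
        have := inv z⁻¹ _ _ h
        rwa [inv_smul_smul, inv_smul_eq_iff.2 (zF a ha).symm] at this
      have h2 : f (z • b) = f b := congrFun hf b
      rw [← hz, h2]
      by_cases hq : Q a b
      · rw [if_pos hq, if_pos (h1.2 hq)]
      · rw [if_neg hq, if_neg (fun h => hq (h1.1 h))]
  have hMz : ∀ (n : ℕ) (f : Ω → ZMod p), tr (ZMod p) z f = f →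
      tr (ZMod p) z ((M ^ n) f) = (M ^ n) f := by
    intro n f hf
    rw [hM, ← opM_pow_tr Q inv, hf]
  have hcl : ∀ a ∈ F, ∀ b ∈ F, Q a b → F.filter (Q a) = F.filter (Q b) := by
    intro a ha b hb hab
    refine Finset.filter_congr fun c hc => ⟨fun h => ?_, fun h => Qt a ha b hb c hc hab h⟩
    exact Qt b hb a ha c hc (Qs a ha b hb hab) h
  obtain ⟨N, hN⟩ := Filter.eventually_atTop.1 (LinearMap.eventually_isCompl_ker_pow_range_pow M)
  have hc := hN (N + 1) (Nat.le_succ N)
  have hK : ∀ g : G, ∀ f ∈ LinearMap.ker (M ^ (N + 1)),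
      tr (ZMod p) g f ∈ LinearMap.ker (M ^ (N + 1)) := by
    intro g f hf
    rw [LinearMap.mem_ker] at hf ⊢
    rw [hM, opM_pow_tr Q inv, ← hM, hf, map_zero]
  have hU : ∀ g : G, ∀ f ∈ LinearMap.range (M ^ (N + 1)),
      tr (ZMod p) g f ∈ LinearMap.range (M ^ (N + 1)) := by
    rintro g _ ⟨f, rfl⟩
    exact ⟨tr (ZMod p) g f, by rw [hM, opM_pow_tr Q inv]⟩
  obtain ⟨w, hw⟩ : F.Nonempty := Finset.card_pos.1 (by omega)
  set δ : Ω → ZMod p := fun a => if a = w then 1 else 0 with hδ
  have hδz : tr (ZMod p) z δ = δ := by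
    funext a
    have : z • a = w ↔ a = w :=
      ⟨fun h => smul_left_cancel z (h.trans (zF w hw).symm), fun h => by rw [h, zF w hw]⟩
    simp only [tr_apply, hδ, this]
  by_cases hKz : ∀ f ∈ LinearMap.ker (M ^ (N + 1)), tr (ZMod p) z f = f
  · -- the kernel consists of constants
    have hcst := const_of_fixed hpr _ hK z a0 za0 hKz
    have htop := hc.sup_eq_top
    obtain ⟨c, hc1, u, ⟨v, rfl⟩, hcu⟩ := Submodule.mem_sup.1 (htop ▸ Submodule.mem_top (x := δ))
    obtain ⟨k, hk1, u', hu', rfl⟩ := Submodule.mem_sup.1 (htop ▸ Submodule.mem_top (x := v))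
    rw [map_add, LinearMap.mem_ker.1 hk1, zero_add] at hcu
    have huz : tr (ZMod p) z ((M ^ (N + 1)) u') = (M ^ (N + 1)) u' := by
      have := congrArg (tr (ZMod p) z) hcu
      rw [map_add, hKz c hc1, hδz, ← hcu] at this
      exact add_left_cancel this
    have hu'z : tr (ZMod p) z u' = u' := by
      rw [← sub_eq_zero]
      refine Submodule.disjoint_def.1 hc.disjoint _ ?_ (Submodule.sub_mem _ (hU z u' hu') hu')
      rw [LinearMap.mem_ker, map_sub, hM, opM_pow_tr Q inv, ← hM, huz, sub_self]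
    obtain ⟨a, ha, haw⟩ : ∃ a ∈ F.filter (Q w), a ≠ w :=
      Finset.exists_mem_ne (by rw [Qc w hw]; exact s1) w
    rw [Finset.mem_filter] at ha
    have e1 := congrFun hcu a
    have e2 := congrFun hcu w
    rw [Pi.add_apply, pow_succ', Module.End.mul_apply, hMF _ (hMz N u' hu'z) _ ha.1] at e1
    rw [Pi.add_apply, pow_succ', Module.End.mul_apply, hMF _ (hMz N u' hu'z) _ hw,
      hcl w hw a ha.1 ha.2, hcst c hc1 w a, e1] at e2
    simp [hδ, haw] at e2
  · by_cases hUz : ∀ f ∈ LinearMap.range (M ^ (N + 1)), tr (ZMod p) z f = f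
    · have hcst := const_of_fixed hpr _ hU z a0 za0 hUz
      have key : ∀ n : ℕ, ∀ a ∈ F,
          (M ^ (n + 1)) δ a = if Q a w then (s : ZMod p) ^ n else 0 := by
        intro n
        induction n with
        | zero =>
          intro a ha
          rw [zero_add, pow_one, hMF δ hδz a ha, hδ]
          simp [Finset.sum_ite_eq', hw]
        | succ n ih =>
          intro a ha
          rw [pow_succ', Module.End.mul_apply, hMF _ (hMz _ δ hδz) a ha]
          have : ∀ b ∈ F.filter (Q a),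
              (M ^ (n + 1)) δ b = if Q a w then (s : ZMod p) ^ n else 0 := by
            intro b hb
            rw [Finset.mem_filter] at hb
            have : Q b w ↔ Q a w :=
              ⟨fun h => Qt a ha b hb.1 w hw hb.2 h,
                fun h => Qt b hb.1 a ha w hw (Qs a ha b hb.1 hb.2) h⟩
            rw [ih b hb.1]
            simp only [this]
          rw [Finset.sum_congr rfl this, Finset.sum_const, Qc a ha]
          split_ifs <;> simp [pow_succ']
      obtain ⟨a, ha, haw⟩ : ∃ a ∈ F, a ∉ F.filter (Q w) :=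
        Finset.exists_mem_notMem_of_card_lt_card (by rw [Qc w hw]; exact hF)
      have hna : ¬ Q a w := fun h => haw (Finset.mem_filter.2 ⟨ha, Qs a ha w hw h⟩)
      have := hcst _ ⟨δ, rfl⟩ w a
      rw [key N w hw, key N a ha, if_pos (Qr w hw), if_neg hna] at this
      have h0 : (s : ZMod p) = 0 := eq_zero_of_pow_eq_zero this
      rw [ZMod.natCast_eq_zero_iff] at h0
      have := Nat.le_of_dvd (by omega) h0
      omega
    · push Not at hKz hUz
      obtain ⟨f, hf, hf'⟩ := hKz
      obtain ⟨g, hg, hg'⟩ := hUz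
      have i1 := ind_mem (p := p) x F zF (fun a => (xF a).2) a0 ha0 trL ord _ hK f hf hf'
      have i2 := ind_mem (p := p) x F zF (fun a => (xF a).2) a0 ha0 trL ord _ hU g hg hg'
      have := congrFun (Submodule.disjoint_def.1 hc.disjoint _ i1 i2) a0
      simp [ha0] at this

end Cfsg.Agent.H9.ElM
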