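import Cfsg.Agent.H1.ElA
import Cfsg.Agent.H9.ElM1

set_option autoImplicit false

namespace Cfsg.Agent.H1.El

variable {G : Type*} [Group G] [Finite G] {Ω : Type*} [MulAction G Ω] [FaithfulSMul G Ω]
  [Fintype Ω] [DecidableEq Ω] {p q : ℕ}

variable {P : Sylow p G} {E : Subgroup G} {x : G} {F : Finset Ω}

/-- MOD, from the conclusion of BETA -/
theorem Cx.md_of_beta (h : Cx p q P E x F) (hpr : MulAction.IsPreprimitive G Ω)
    (hb : ∃ R : Ω → Ω → Prop, (∀ a ∈ F, R a a) ∧ (∀ a b, R a b → R b a) ∧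
      (∀ a b c, R a b → R b c → R a c) ∧
      (∀ n : G, (∀ e, e ∈ E ↔ n * e * n⁻¹ ∈ E) → ∀ a b, R a b → R (n • a) (n • b)) ∧
      ∀ a ∈ F, Nat.card {b // b ∈ F ∧ R a b} = 2 * q - p) : p + 1 = 2 * q := by
  classical
  obtain ⟨R, Rr, Rs, Rt, Rn, Rc⟩ := hb
  obtain ⟨h5, hqp, hp2⟩ := h.five
  by_contra hne
  let Q : Ω → Ω → Prop := fun a b => ∃ g : G, g • a ∈ F ∧ g • b ∈ F ∧ R (g • a) (g • b)
  have hQ : ∀ a ∈ F, ∀ b ∈ F, Q a b ↔ R a b := by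
    intro a ha b hb
    refine ⟨fun ⟨g, h1, h2, h3⟩ => ?_, fun hr => ⟨1, by simpa, by simpa, by simpa⟩⟩
    obtain ⟨n, hn, e1, e2⟩ := h.witt ha hb h1 h2
    rw [← e1, ← e2] at h3
    have := Rn n⁻¹ (fun e => by rw [hn (n⁻¹ * e * n⁻¹⁻¹)]; simp [mul_assoc]) _ _ h3
    simpa using this
  obtain ⟨a0, ha0⟩ : ∃ a0, a0 ∉ F := by
    by_contra hh
    push Not at hh
    have h1 : F = Finset.univ := Finset.eq_univ_of_forall hh
    have h2 := h.cardF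
    rw [h1, Finset.card_univ] at h2
    have : 0 < p ^ 2 := by positivity
    omega
  refine H9.ElM.mdAux (s := 2 * q - p) h.hp x F hpr (fun a ha => (h.memF a).1 ha _ h.zE)
    (h.invF (h.nrm x h.xP)) a0 ha0 (h.zmv a0 ha0) (fun k => (h.reg ha0).1)
    (fun b hb => h.trL ha0 hb) (by rw [← h.ord, pow_orderOf_eq_one]) Q ?_ ?_ ?_ ?_ ?_ (by omega)
    (by omega) ?_
  · rintro k a b ⟨g, h1, h2, h3⟩
    refine ⟨g * k⁻¹, ?_⟩
    simpa only [mul_smul, inv_smul_smul] using ⟨h1, h2, h3⟩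
  · exact fun a ha => (hQ a ha a ha).2 (Rr a ha)
  · exact fun a ha b hb hab => (hQ b hb a ha).2 (Rs _ _ ((hQ a ha b hb).1 hab))
  · exact fun a ha b hb c hc hab hbc =>
      (hQ a ha c hc).2 (Rt _ _ _ ((hQ a ha b hb).1 hab) ((hQ b hb c hc).1 hbc))
  · intro a ha
    rw [← Rc a ha, Nat.card_eq_fintype_card, Fintype.card_subtype]
    congr 1
    ext b
    simp only [Finset.mem_filter, Finset.mem_univ, true_and]
    exact ⟨fun hb => ⟨hb.1, (hQ a ha b hb.1).1 hb.2⟩, fun hb => ⟨hb.1, (hQ a ha b hb.1).2 hb.2⟩⟩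
  · rw [h.cF]
    have : 0 < 2 * q - p := by omega
    nlinarith

end Cfsg.Agent.H1.El
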