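import Cfsg.Agent.H5.ElBeta
import Cfsg.Agent.H9.ElM2

set_option autoImplicit false

namespace Cfsg.Agent.H1.El

variable {G : Type*} [Group G] [Finite G] {Ω : Type*} [MulAction G Ω] [FaithfulSMul G Ω]
  [Fintype Ω] [DecidableEq Ω] {p q : ℕ}

variable {P : Sylow p G} {E : Subgroup G} {x : G} {F : Finset Ω}

/-- MOD -/
theorem Cx.md (h : Cx p q P E x F) (hE : E = Subgroup.zpowers (x ^ p))
    (hpr : MulAction.IsPreprimitive G Ω) : p + 1 = 2 * q :=
  h.md_of_beta hpr (h.beta hE)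

end Cfsg.Agent.H1.El
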