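import Cfsg.Agent.H9.FxRank2

/-! 2-groups with an abelian subgroup of order 16 containing a TI subgroup of order 4. -/

set_option autoImplicit false

namespace Cfsg.Agent.Fx4

open Subgroup Cfsg.Agent.H7
open MulAut (conj)
open scoped Pointwise commutatorElement

universe u
variable {G : Type u} [Group G] [Finite G] {A B V W X Y : Subgroup G} {h r w : G}

omit [Finite G] in
theorem ncard_sdiff_one (A : Subgroup G) : ((A : Set G) \ {1}).ncard = Nat.card A - 1 :=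
  Set.ncard_sdiff_singleton_of_mem A.one_mem

omit [Finite G] in
theorem le_or_le_of_forall (h : ∀ x ∈ X, x ∈ A ∨ x ∈ B) : X ≤ A ∨ X ≤ B := by
  by_contra hn
  push Not at hn
  obtain ⟨a, ha, haA⟩ := SetLike.not_le_iff_exists.1 hn.1
  obtain ⟨b, hb, hbB⟩ := SetLike.not_le_iff_exists.1 hn.2
  rcases h _ (mul_mem ha hb) with k | k
  · exact haA ((mul_mem_cancel_right ((h b hb).resolve_right hbB)).1 k)
  · exact hbB ((mul_mem_cancel_left ((h a ha).resolve_left haA)).1 k)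

theorem exists_mem_inf_of_card (hA : A ≤ X) (hB : B ≤ X) (hn : B ≤ N[A])
    (h : Nat.card X < Nat.card A * Nat.card B) : ∃ x ∈ A, x ∈ B ∧ x ≠ 1 := by
  by_contra hc
  push Not at hc
  have := card_le_of_le' (sup_le hA hB)
  rw [card_sup_of_inf_eq_bot hn (inf_eq_bot_of_forall hc)] at this
  omega

theorem sq_mem_of_pair (hP : IsPGroup 2 G) (hA : A ≤ C[A]) (hB : B ≤ C[B]) (h1 : A ≤ N[B])
    (h2 : B ≤ N[A]) (hn : ¬ A ≤ B) (hc : ∀ h ∈ B, h ∉ A → C₁[h] ⊓ A ≤ B) (hh : h ∈ B) :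
    h * h ∈ A := by
  by_contra k
  obtain ⟨a, ha, -, haB, ha2⟩ := exists_norm_sq hP (inf_le_left : A ⊓ B ≤ A)
    fun k => hn (k.trans inf_le_right)
  have hm := comm_le_inf h1 h2 (comm_mem ha hh)
  have e1 := comm_pow_left (commute_of_mem_cent (hA ha) hm.1) 2
  have e2 := comm_pow_right (commute_of_mem_cent (hB hh) hm.2) 2
  rw [← e1, pow_two, pow_two, comm_of_mem_cent (hB hh) ha2.2] at e2
  refine haB ⟨ha, hc _ (mul_mem hh hh) k ⟨mem_cent1_iff.2 ?_, ha⟩⟩
  calc a * (h * h) = a * (h * h) * a⁻¹ * (h * h)⁻¹ * (h * h * a) := by group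
    _ = _ := by rw [e2]; group

structure TI16 (A V : Subgroup G) : Prop where
  hP : IsPGroup 2 G
  cardA : Nat.card A = 16
  comm : A ≤ C[A]
  le : V ≤ A
  cardV : Nat.card V = 4
  ti : ∀ h : G, ∀ v ∈ V, v ≠ 1 → h * v * h⁻¹ ∈ V → h ∈ N[V]

namespace TI16

variable (c : TI16 A V)
include c

theorem le_norm : A ≤ N[V] := le_norm_of_le_cent (c.comm.trans (cent_anti c.le))

theorem cent_le (hh : h ∉ N[V]) : Nat.card ↥(C₁[h] ⊓ A) ≤ 4 := by
  by_contra k
  obtain ⟨x, hx, hx', h1⟩ := exists_mem_inf_of_card c.le (inf_le_right : C₁[h] ⊓ A ≤ A)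
    (inf_le_right.trans c.le_norm) (by rw [c.cardA, c.cardV]; omega)
  exact hh (c.ti h x hx h1 (by rw [← mem_cent1_iff.1 hx'.1]; simpa))

theorem relIndex_le : (N[V]).relIndex N[A] ≤ 4 := by
  have h1 := Nat.card_le_card_of_injective
    (fun q : (N[A] ⧸ (N[V]).subgroupOf N[A]) × ↥((V : Set G) \ {1}) =>
      (⟨q.1.out * q.2 * (q.1.out : G)⁻¹, conj_mem_of_norm q.1.out.2 (c.le q.2.2.1), fun e =>
        q.2.2.2 (by simpa using e)⟩ : ↥((A : Set G) \ {1}))) (by
      rintro ⟨q, v⟩ ⟨q', v'⟩ e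
      have e : (q.out : G) * v * (q.out : G)⁻¹ = q'.out * v' * (q'.out : G)⁻¹ :=
        congrArg Subtype.val e
      have : q = q' := by
        rw [← q.out_eq', ← q'.out_eq', QuotientGroup.eq]
        refine c.ti _ _ v'.2.1 v'.2.2 ?_
        have e' : ((q.out : G)⁻¹ * q'.out) * v' * ((q.out : G)⁻¹ * q'.out)⁻¹ = v := by
          calc _ = (q.out : G)⁻¹ * (q'.out * v' * (q'.out : G)⁻¹) * q.out := by group
            _ = _ := by rw [← e]; group
        exact e' ▸ v.2.1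
      subst this
      rw [Subtype.ext (by simpa using e : (v : G) = v')])
  rw [Nat.card_prod, Nat.card_coe_set_eq, Nat.card_coe_set_eq, ncard_sdiff_one, ncard_sdiff_one,
    c.cardA, c.cardV] at h1
  refine pow_two_le_of_lt (k := 2) (relIndex_pow c.hP _ _) ?_
  change (N[V]).relIndex N[A] * _ ≤ _ at h1
  omega

theorem relIndex_le_three (hr : Nat.card ↥(C₁[r] ⊓ A) ≤ 4) (hW : W ≤ N[A])
    (hw : ∀ w ∈ W, w⁻¹ * r * w ∈ N[V]) : (N[V]).relIndex W ≤ 2 := by
  have hV : V ≠ ⊥ := fun e => by simpa [e] using c.cardV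
  have h1 : ∀ w : G, ∃ v, w ∈ W → v ∈ V ∧ v ≠ 1 ∧ v ∈ C₁[w⁻¹ * r * w] := fun w => by
    by_cases k : w ∈ W
    · obtain ⟨v, h1, h2, -, h3⟩ := exists_central c.hP hV (zpowers_le_of_mem (hw w k))
      exact ⟨v, fun _ => ⟨h1, h2, by rwa [cent_zpowers] at h3⟩⟩
    · exact ⟨1, fun k' => absurd k' k⟩
  choose v hv using h1
  have h2 := relIndex_le_of_fun W N[V] (fun w => w * v w * w⁻¹)
    (Set.toFinite (((C₁[r] ⊓ A : Subgroup G) : Set G) \ {1})) (fun w k => by
      obtain ⟨k1, k2, k3⟩ := hv w k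
      refine ⟨⟨mem_cent1_iff.2 ?_, conj_mem_of_norm (hW k) (c.le k1)⟩, by simpa using k2⟩
      calc w * v w * w⁻¹ * r = w * (v w * (w⁻¹ * r * w)) * w⁻¹ := by group
        _ = _ := by rw [mem_cent1_iff.1 k3]; group) fun w k w' k' e => by
      refine c.ti _ _ (hv w' k').1 (hv w' k').2.1 ?_
      have e' : (w⁻¹ * w') * v w' * (w⁻¹ * w')⁻¹ = v w := by
        calc _ = w⁻¹ * (w' * v w' * w'⁻¹) * w := by group
          _ = _ := by rw [← e]; group
      exact e' ▸ (hv w k).1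
  rw [ncard_sdiff_one] at h2
  exact pow_two_le_of_lt (k := 1) (relIndex_pow c.hP _ _) (by omega)

end TI16

/-- **Lemma B** -/
theorem relIndex_inf_le (hY : ∀ x ∈ X, x * x ∈ Y) (hh : h ∈ X) (hn : h ∈ N[A]) (hYX : Y ≤ X) :
    (Y ⊓ A).relIndex (X ⊓ A) ≤ Nat.card ↥(C₁[h] ⊓ A) := by
  refine relIndex_le_of_card_le ?_
  have k := card_le_cent_mul (X ⊓ A) h (T := (fun d => d * h) '' ((Y ⊓ A : Subgroup G) : Set G))
    fun a ha => ⟨a * h * a⁻¹ * h⁻¹, ⟨comm_mem_of_sq hY ha.1 hh, by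
      rw [mul_assoc, mul_assoc, ← mul_assoc h]
      exact mul_mem ha.2 (conj_mem_of_norm hn (inv_mem ha.2))⟩, by simp⟩
  rw [Set.ncard_image_of_injective _ (mul_left_injective h)] at k
  rw [inf_eq_left.2 (inf_le_inf_right A hYX), mul_comm]
  exact k.trans (Nat.mul_le_mul_right _ (card_le_of_le' (inf_le_inf_left _ inf_le_right)))

/-- the hypotheses common to Lemmas C and D -/
structure TI16' (A V : Subgroup G) : Prop extends TI16 A V where
  small : ∀ h ∈ N[A], h ∉ A → Nat.card ↥(C₁[h] ⊓ A) ≤ 4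

namespace TI16'

variable (c : TI16' A V)
include c

theorem lemB (hY : ∀ x ∈ X, x * x ∈ Y) (hX : X ≤ N[A]) (hYX : Y ≤ X)
    (h4 : (A ⊔ Y).relIndex (A ⊔ X) ≤ 4) : Y.relIndex X ≤ 16 := by
  by_cases k : X ≤ A
  · exact (relIndex_le_card _ _).trans (c.cardA ▸ card_le_of_le' k)
  obtain ⟨h, hh, hA⟩ := SetLike.not_le_iff_exists.1 k
  rw [relIndex_eq_mul hYX hX]
  exact Nat.mul_le_mul ((relIndex_inf_le hY hh (hX hh) hYX).trans (c.small h (hX hh) hA)) h4

/-- a second conjugate of `A` normalizing `A` -/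
structure Pair (A : Subgroup G) (w : G) : Prop where
  norm : w ∈ N[N[A]]
  notMem : w ∉ N[A]
  sq : w * w ∈ N[A]

omit c in
theorem Pair.norm_eq (p : Pair A w) : N[conj w • A] = N[A] := by
  rw [← conj_smul_norm, conj_smul_of_norm p.norm]

omit c in
theorem Pair.le (p : Pair A w) : conj w • A ≤ N[A] := p.norm_eq ▸ le_norm_self _

omit c in
theorem Pair.le' (p : Pair A w) : A ≤ N[conj w • A] := p.norm_eq ▸ le_norm_self _

omit c in
theorem Pair.not_le (p : Pair A w) : ¬ conj w • A ≤ A := fun k =>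
  p.notMem (mem_norm_of_conj_smul_le k)

omit c in
theorem Pair.smul_smul (p : Pair A w) : conj w • conj w • A = A := by
  rw [conj_smul_smul, conj_smul_of_norm p.sq]

omit c in
theorem Pair.not_le' (p : Pair A w) : ¬ A ≤ conj w • A := fun k =>
  p.not_le (by have := conj_smul_mono w k; rwa [p.smul_smul] at this)

theorem comm' (w : G) : conj w • A ≤ C[conj w • A] := le_cent_smul c.comm w

theorem inf_le_cent (hh : h ∈ conj w • A) : A ⊓ conj w • A ≤ C₁[h] ⊓ A :=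
  le_inf (inf_le_right.trans ((c.comm' w).trans (cent_le_cent1 hh))) inf_le_left

theorem card_sup_ge (p : Pair A w) : 64 ≤ Nat.card ↥(A ⊔ conj w • A) := by
  obtain ⟨h, hh, hA⟩ := SetLike.not_le_iff_exists.1 p.not_le
  have k1 := card_sup_mul_card_inf p.le
  have k2 := (card_le_of_le' (c.inf_le_cent hh)).trans (c.small h (p.le hh) hA)
  rw [card_conj_smul, c.cardA] at k1
  nlinarith

theorem cent_le_pair (p : Pair A w) (h64 : Nat.card ↥(A ⊔ conj w • A) ≤ 64) (hh : h ∈ conj w • A)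
    (hA : h ∉ A) : C₁[h] ⊓ A ≤ conj w • A := by
  have k1 := card_sup_mul_card_inf p.le
  have k2 := c.small h (p.le hh) hA
  rw [card_conj_smul, c.cardA] at k1
  rw [← eq_of_le_of_card_le (c.inf_le_cent hh) (by nlinarith)]
  exact inf_le_right

theorem cent_le_pair' (p : Pair A w) (h64 : Nat.card ↥(A ⊔ conj w • A) ≤ 64) (hh : h ∈ A)
    (hA : h ∉ conj w • A) : C₁[h] ⊓ conj w • A ≤ A := fun x hx => by
  by_contra k
  exact hA (c.cent_le_pair p h64 hx.2 k ⟨mem_cent1_comm.1 hx.1, hh⟩)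

theorem elem (p : Pair A w) (h64 : Nat.card ↥(A ⊔ conj w • A) ≤ 64) (hn : ¬ conj w • A ≤ N[V])
    {a : G} (ha : a ∈ A) : a * a = 1 := by
  obtain ⟨h, hh, hV⟩ := SetLike.not_le_iff_exists.1 hn
  have k1 : ∀ v ∈ V, v * v = 1 := fun v hv => by
    by_contra k
    have := sq_mem_of_pair c.hP (c.comm' w) c.comm p.le p.le' p.not_le
      (fun h h1 h2 => c.cent_le_pair' p h64 h1 h2) (c.le hv)
    exact hV (c.ti h _ (mul_mem hv hv) k (by
      rw [conj_eq_of_mem_cent (c.comm' w hh) this]; exact mul_mem hv hv))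
  have k2 : conj h • V ≤ A := conj_smul_le_of_norm (p.le hh) c.le
  have k3 : V ⊔ conj h • V = A := by
    refine eq_of_le_of_card_eq (sup_le c.le k2) ?_
    rw [card_sup_of_inf_eq_bot (k2.trans c.le_norm), card_conj_smul, c.cardV, c.cardA]
    refine inf_eq_bot_of_forall fun x hx hx' => ?_
    by_contra k
    exact hV (by simpa using inv_mem (c.ti h⁻¹ x hx k (by simpa using mem_conj_smul.1 hx')))
  rw [← k3] at ha
  obtain ⟨x, hx, y, hy, rfl⟩ := (mem_sup_of_norm (k2.trans c.le_norm)).1 ha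
  obtain ⟨v, hv, rfl⟩ := mem_conj_smul_iff_exists.1 hy
  rw [mul_assoc, ← mul_assoc _ x, comm_of_mem_cent (c.comm (c.le hx)) (k2 hy)]
  calc _ = x * x * (h * (v * v) * h⁻¹) := by group
    _ = 1 := by rw [k1 x hx, k1 v hv]; simp

theorem mem_or_mem (p : Pair A w) (h64 : Nat.card ↥(A ⊔ conj w • A) ≤ 64)
    (hn : ¬ conj w • A ≤ N[V]) {x : G} (hx : x ∈ A ⊔ conj w • A) (h2 : x * x = 1) :
    x ∈ A ∨ x ∈ conj w • A := by
  obtain ⟨a, ha, h, hh, rfl⟩ := (mem_sup_of_norm p.le).1 hx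
  by_cases k : h ∈ A
  · exact Or.inl (mul_mem ha k)
  refine Or.inr (mul_mem (c.cent_le_pair p h64 hh k ⟨mem_cent1_iff.2 ?_, ha⟩) hh)
  obtain ⟨b, hb, rfl⟩ := mem_conj_smul_iff_exists.1 hh
  have e1 := c.elem p h64 hn ha
  have e2 : w * b * w⁻¹ * (w * b * w⁻¹) = 1 := by
    rw [show w * b * w⁻¹ * (w * b * w⁻¹) = w * (b * b) * w⁻¹ by group, c.elem p h64 hn hb]; simp
  rw [← inv_eq_of_mul_eq_one_right h2, mul_inv_rev, inv_eq_of_mul_eq_one_right e1,
    inv_eq_of_mul_eq_one_right e2]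

theorem exists_pair (h : N[A] ≠ ⊤) : ∃ w, Pair A w := by
  obtain ⟨w, -, h1, h2, h3⟩ := exists_norm_sq c.hP (le_top : N[A] ≤ ⊤) fun k => h (top_le_iff.1 k)
  exact ⟨w, h1, h2, h3⟩

end TI16'

/-- **Lemma C** -/
theorem TI16.lemC (c : TI16 A V) (hN : N[V] ≤ A) : SR 4 (⊤ : Subgroup G) := by
  have c' : TI16' A V := ⟨c, fun h _ k => c.cent_le fun k' => k (hN k')⟩
  have hNV : N[V] = A := le_antisymm hN c.le_norm
  have i4 : A.relIndex N[A] ≤ 4 := by have := c.relIndex_le; rwa [hNV] at this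
  have sec : ∀ X Y : Subgroup G, X ≤ N[A] → (A ⊔ Y).relIndex (A ⊔ X) ≤ 4 := fun X Y hX =>
    ((relIndex_le_of_le_left le_sup_left (relIndex_ne_zero' _ _)).trans
      (relIndex_le_of_le_right (sup_le (le_norm_self A) hX) (relIndex_ne_zero' _ _))).trans i4
  by_cases hB : N[A] = ⊤
  · exact fun X Y h1 _ h3 => c'.lemB h3 (hB ▸ le_top) h1 (sec X Y (hB ▸ le_top))
  obtain ⟨w, p⟩ := c'.exists_pair hB
  set A' := conj w • A with hA'
  have c64 : Nat.card N[A] ≤ 64 := by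
    rw [← card_mul_relIndex (le_norm_self A), c.cardA]; omega
  have hB0 : A ⊔ A' = N[A] :=
    eq_of_le_of_card_le (sup_le (le_norm_self A) p.le) (c64.trans (c'.card_sup_ge p))
  have h64 : Nat.card ↥(A ⊔ A') ≤ 64 := hB0 ▸ c64
  have hn : ¬ A' ≤ N[V] := hNV ▸ p.not_le
  have cY := card_sup_zpowers p.norm p.notMem p.sq
  set Y0 := N[A] ⊔ zpowers w with hY0
  have cB : Nat.card N[A] = 64 := le_antisymm c64 (hB0 ▸ c'.card_sup_ge p)
  have key : ∀ E : Subgroup G, E ≤ C[E] → Nat.card E = 16 → 8 ≤ Nat.card ↥(E ⊓ N[A]) →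
      E ⊓ N[A] ≤ A → E = A := fun E hE h16 h8 k => by
    obtain ⟨x, hx, hx', h1⟩ := exists_mem_inf_of_card c.le k (k.trans c.le_norm)
      (by rw [c.cardA, c.cardV]; omega)
    refine eq_of_le_of_card_eq (fun e he => hN (c.ti e x hx h1 ?_)) (by rw [h16, c.cardA])
    rwa [conj_eq_of_mem_cent (hE he) hx'.1]
  have htop : Y0 = ⊤ := by
    by_contra k
    obtain ⟨v, -, hv, hvY, -⟩ := exists_norm_sq c.hP (le_top : Y0 ≤ ⊤) fun k' => k (top_le_iff.1 k')
    have k8 : ∀ g ∈ N[Y0], 8 ≤ Nat.card ↥(conj g • A ⊓ N[A]) := fun g hg => by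
      have k1 : conj g • A ≤ Y0 := conj_smul_le_of_norm hg ((le_norm_self A).trans le_sup_left)
      have k2 := card_inf_mul_relIndex N[A] (conj g • A)
      have k3 := relIndex_le_of_le_right k1 (relIndex_ne_zero' N[A] _)
      have k4 := card_mul_relIndex (le_sup_left : N[A] ≤ Y0)
      rw [card_conj_smul, c.cardA, inf_comm] at k2
      rw [cY, cB] at k4
      nlinarith
    have hw : w ∈ Y0 := mem_sup_right (mem_zpowers w)
    rcases le_or_le_of_forall (X := conj v • A ⊓ N[A]) (A := A) (B := A') (fun x hx =>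
      c'.mem_or_mem p h64 hn (hB0 ▸ hx.2) (by
        obtain ⟨b, hb, rfl⟩ := mem_conj_smul_iff_exists.1 hx.1
        rw [show v * b * v⁻¹ * (v * b * v⁻¹) = v * (b * b) * v⁻¹ by group, c'.elem p h64 hn hb]
        simp)) with k1 | k1
    · exact hvY (mem_sup_left (mem_norm_of_conj_smul_eq
        (key _ (c'.comm' v) (by rw [card_conj_smul, c.cardA]) (k8 v hv) k1)))
    · have k2 := conj_smul_mono w k1
      rw [p.smul_smul, conj_smul_inf, conj_smul_smul, conj_smul_of_norm p.norm] at k2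
      have := mem_norm_of_conj_smul_eq (key _ (c'.comm' _) (by rw [card_conj_smul, c.cardA])
        (k8 _ (mul_mem (le_norm_self _ hw) hv)) k2)
      exact hvY ((mul_mem_cancel_left hw).1 (mem_sup_left this))
  intro X Y h1 _ h3
  by_cases hX : X ≤ N[A]
  · exact c'.lemB h3 hX h1 (sec X Y hX)
  obtain ⟨h, hh, hhB⟩ := SetLike.not_le_iff_exists.1 hX
  have i2 : Nat.card (⊤ : Subgroup G) ≤ 2 * Nat.card N[A] := by rw [← htop, cY]
  have hA'h : conj h • A = A' := by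
    have : w⁻¹ * h ∈ N[A] := by
      rw [mul_mem_iff_of_card le_top i2 (mem_top _) (mem_top _), inv_mem_iff]
      exact iff_of_false p.notMem hhB
    calc conj h • A = conj w • conj (w⁻¹ * h) • A := by rw [conj_smul_smul, mul_inv_cancel_left]
      _ = A' := by rw [conj_smul_of_norm this]
  have hAh : conj h • A' = A := by
    rw [← hA'h, conj_smul_smul]
    exact conj_smul_of_norm ((mul_mem_iff_of_card le_top i2 (mem_top _) (mem_top _)).2 Iff.rfl)
  refine (relIndex_le_mul Y X N[A]).trans ?_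
  have k2 : (N[A]).relIndex X ≤ 2 := by
    have k3 := relIndex_le_of_le_right (le_top : X ≤ ⊤) (relIndex_ne_zero' N[A] _)
    have k4 := card_mul_relIndex (le_top : N[A] ≤ ⊤)
    rw [cB] at k4 i2
    omega
  refine (Nat.mul_le_mul (?_ : _ ≤ 8) k2).trans (by norm_num)
  have s3 : ∀ x ∈ X ⊓ N[A], x * x ∈ Y ⊓ N[A] := fun x hx => ⟨h3 x hx.1, mul_mem hx.2 hx.2⟩
  have cZ : Nat.card ↥(A ⊓ A') ≤ 4 := by
    obtain ⟨b, hb, hbA⟩ := SetLike.not_le_iff_exists.1 p.not_le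
    exact (card_le_of_le' (c'.inf_le_cent hb)).trans (c'.small b (p.le hb) hbA)
  by_cases k : X ⊓ A ≤ A'
  · have k' : X ⊓ A' ≤ A := by
      have := conj_smul_mono h k
      rwa [conj_smul_inf, hAh, hA'h, conj_smul_of_mem hh] at this
    by_contra hlt
    have k3 := card_inf_mul_relIndex A (X ⊓ N[A])
    have k4 := (relIndex_le_of_le_right (inf_le_right : X ⊓ N[A] ≤ _)
      (relIndex_ne_zero' A _)).trans i4
    have k5 := (card_le_of_le' (le_inf inf_le_left (le_trans (by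
      rw [inf_comm]; exact inf_le_inf_right _ inf_le_left) k) : A ⊓ (X ⊓ N[A]) ≤ A ⊓ A')).trans cZ
    have k6 := card_mul_relIndex (inf_le_inf_right N[A] h1)
    have k7 := card_pos' (Y ⊓ N[A])
    have k8 : Nat.card ↥(Y ⊓ N[A]) = 1 := by nlinarith
    have k9 : X ⊓ N[A] ≤ A ⊓ A' := by
      intro x hx
      have := s3 x hx
      rw [eq_bot_iff_card'.2 k8, mem_bot] at this
      rcases c'.mem_or_mem p h64 hn (hB0 ▸ hx.2) this with e | e
      · exact ⟨e, k ⟨hx.1, e⟩⟩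
      · exact ⟨k' ⟨hx.1, e⟩, e⟩
    have := card_le_of_le' k9
    nlinarith
  · obtain ⟨a, ha, haA⟩ := SetLike.not_le_iff_exists.1 k
    replace ha : a ∈ X ∧ a ∈ A := ha
    have ha' : h * a * h⁻¹ ∈ A' := hA'h ▸ conj_mem_conj_smul.2 ha.2
    have ha'' : h * a * h⁻¹ ∉ A := fun e => haA (by rwa [← hAh, conj_mem_conj_smul] at e)
    have hm : h * a * h⁻¹ ∈ X ⊓ N[A] := ⟨X.mul_mem (X.mul_mem hh ha.1) (X.inv_mem hh), p.le ha'⟩
    rw [relIndex_eq_mul (inf_le_inf_right _ h1) inf_le_right]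
    refine (Nat.mul_le_mul ((relIndex_inf_le s3 hm hm.2 (inf_le_inf_right _ h1)).trans
      (c'.small _ hm.2 ha'')) (?_ : _ ≤ 2)).trans (by norm_num)
    have k3 := two_mul_card_le (le_sup_left : A ≤ A ⊔ (Y ⊓ N[A])) fun e => ha'' (by
      have := e (mem_sup_right ⟨comm_mem_of_sq h3 hh ha.1,
        (N[A]).mul_mem hm.2 ((N[A]).inv_mem (le_norm_self A ha.2))⟩)
      exact (A.mul_mem_cancel_right (A.inv_mem ha.2)).1 this)
    have k4 := card_mul_relIndex (sup_le_sup_left (inf_le_inf_right N[A] h1) A)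
    have k5 := card_le_of_le' (sup_le (le_norm_self A) (inf_le_right : X ⊓ N[A] ≤ _))
    rw [c.cardA] at k3
    nlinarith

end Cfsg.Agent.Fx4
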