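import Cfsg.Agent.H9.FxLemC

/-! Lemmas D and E: two more configurations of sectional 2-rank at most 4. -/

set_option autoImplicit false

namespace Cfsg.Agent.Fx4

open Subgroup Cfsg.Agent.H7
open MulAut (conj)
open scoped Pointwise commutatorElement

universe u
variable {G : Type u} [Group G] [Finite G] {A B V W X Y T : Subgroup G} {h r w t z : G}

theorem TI16'.ncard_coset (c : TI16' A V) (he : ∀ a ∈ A, a * a = 1) (hh : h ∈ N[A]) (hA : h ∉ A) :
    {x | x * h⁻¹ ∈ A ∧ x * x = 1}.ncard ≤ 4 := by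
  rcases Set.eq_empty_or_nonempty {x | x * h⁻¹ ∈ A ∧ x * x = 1} with e | ⟨y, hy, hy2⟩
  · simp [e]
  have k1 : y ∈ N[A] := (mul_mem_cancel_right (inv_mem hh)).1 (le_norm_self A hy)
  have k2 : y ∉ A := fun k => hA (inv_mem_iff.1 ((mul_mem_cancel_left k).1 hy))
  refine le_trans ?_ (c.small y k1 k2)
  refine Set.ncard_le_ncard_of_injOn (t := ((C₁[y] ⊓ A : Subgroup G) : Set G)) (fun x => x * y⁻¹)
    (fun x hx => ?_) fun _ _ _ _ e => mul_right_cancel e
  have k3 : x * y⁻¹ ∈ A := by simpa [mul_assoc] using mul_mem hx.1 (inv_mem hy)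
  refine ⟨mem_cent1_iff.2 ?_, k3⟩
  have e := he _ k3
  rw [inv_eq_of_mul_eq_one_right hy2] at e ⊢
  have e' : x * y = y * x := (inv_eq_of_mul_eq_one_right e).symm.trans (by
    rw [mul_inv_rev, inv_eq_of_mul_eq_one_right hy2, inv_eq_of_mul_eq_one_right hx.2])
  rw [← mul_assoc, ← e']

/-- **Lemma D** -/
theorem TI16.lemD (c : TI16 A V) (hr : r ∈ N[V]) (hrA : r ∉ A) (hr2 : r * r = 1)
    (h32 : Nat.card N[V] ≤ 32) (h4 : Nat.card ↥(C₁[r] ⊓ A) ≤ 4) (h16 : Nat.card C₁[r] ≤ 16) :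
    SR 4 (⊤ : Subgroup G) := by
  have i2 : Nat.card N[V] ≤ 2 * Nat.card A := by rw [c.cardA]; exact h32
  have hR : N[V] ≤ N[A] := le_norm_of_card c.le_norm i2
  have hRA : ∀ h ∈ N[V], h ∉ A → h * r ∈ A := fun h k1 k2 =>
    (mul_mem_iff_of_card c.le_norm i2 k1 hr).2 (iff_of_false k2 hrA)
  have c' : TI16' A V := ⟨c, fun h _ k => by
    by_cases k' : h ∈ N[V]
    · refine (card_le_of_le' fun a ha => ?_).trans h4
      refine ⟨mem_cent1_iff.2 ?_, ha.2⟩
      have e1 := comm_of_mem_cent (c.comm ha.2) (hRA h k' k)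
      have e2 := mem_cent1_iff.1 ha.1
      apply mul_left_cancel (a := h)
      rw [← mul_assoc, ← e2, mul_assoc, ← e1, mul_assoc]
    · exact c.cent_le k'⟩
  have c128 : Nat.card N[A] ≤ 128 := by
    have := c.relIndex_le
    rw [← card_mul_relIndex hR]; nlinarith
  have three : ∀ W : Subgroup G, W ≤ N[A] → (∀ w ∈ W, w⁻¹ * r * w * r⁻¹ ∈ A) →
      Nat.card W ≤ Nat.card ↥(N[V] ⊓ W) * 2 := fun W hW k => by
    rw [← card_inf_mul_relIndex N[V] W]
    refine Nat.mul_le_mul_left _ (c.relIndex_le_three h4 hW fun w hw => ?_)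
    simpa using mul_mem (c.le_norm (k w hw)) hr
  have three' : ∀ W : Subgroup G, W ≤ N[A] → (∀ w ∈ W, w⁻¹ * r * w * r⁻¹ ∈ A) →
      Nat.card W ≤ 64 := fun W hW k => by
    have := three W hW k
    have := card_le_of_le' (inf_le_left : N[V] ⊓ W ≤ _)
    omega
  by_cases hB : N[A] = ⊤
  · refine fun X Y h1 _ h3 => c'.lemB h3 (hB ▸ le_top) h1 ?_
    refine pow_two_le_of_lt (k := 2) (relIndex_pow c.hP _ _) (lt_of_not_ge fun k => ?_)
    norm_num at k
    have k1 := card_mul_relIndex (sup_le_sup_left h1 A)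
    have k2 := card_le_of_le' (hB ▸ le_top : A ⊔ X ≤ N[A])
    have k3 := card_le_of_le' (le_sup_left : A ≤ A ⊔ Y)
    have k4 : A = A ⊔ Y := eq_of_le_of_card_le le_sup_left (by rw [c.cardA]; nlinarith)
    have k5 := sq_mem_sup (A := A) (hB ▸ le_top) h3
    rw [← k4] at k5
    have k6 : A ⊔ X = N[A] := eq_of_le_of_card_le (hB ▸ le_top) (by rw [c.cardA] at k3; nlinarith)
    have := three' (A ⊔ X) k6.le fun w hw => by
      simpa using comm_mem_of_sq k5 (inv_mem hw) (k6 ▸ hR hr)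
    rw [c.cardA] at k3
    nlinarith
  exfalso
  obtain ⟨w, p⟩ := c'.exists_pair hB
  set A' := conj w • A with hA'
  have g64 : 64 ≤ Nat.card ↥(A ⊔ A') := c'.card_sup_ge p
  have hB0 : A ⊔ A' ≤ N[A] := sup_le (le_norm_self A) p.le
  have hn : ¬ A' ≤ N[V] := fun k => by
    have := card_le_of_le' (sup_le c.le_norm k)
    omega
  have h64 : Nat.card ↥(A ⊔ A') ≤ 64 := by
    by_cases k : r ∈ A ⊔ A'
    · refine three' _ hB0 fun w hw => ?_
      have := der_sup_le_of_norm p.le (comm_mem (inv_mem hw) k)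
      rw [comm_eq_bot_iff.2 (c'.comm' _), sup_bot_eq] at this
      simpa using this
    · have := two_mul_card_le hB0 fun k' => k (k' (hR hr))
      omega
  have he := fun a => c'.elem p h64 hn (a := a)
  have hrB : r ∉ A ⊔ A' := fun k => by
    have k1 := card_sup_mul_card_inf p.le
    rw [card_conj_smul, c.cardA] at k1
    have k2 : A ⊓ A' ≤ C₁[r] ⊓ A := le_inf (le_cent1_iff.2 (sup_le
      (c.comm.trans (cent_anti inf_le_left)) ((c'.comm' w).trans (cent_anti inf_le_right)) k))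
      inf_le_left
    obtain ⟨v, h1, h2, -, h3⟩ := exists_central c.hP (A := V)
      (fun e => by simpa [e] using c.cardV) (zpowers_le_of_mem hr)
    rw [cent_zpowers] at h3
    have k3 := (eq_of_le_of_card_le k2 (by nlinarith)).ge ⟨h3, c.le h1⟩
    exact hn fun h hh => c.ti h v h1 h2 (by rwa [conj_eq_of_mem_cent (c'.comm' w hh) k3.2])
  have g128 := two_mul_card_le hB0 fun k' => hrB (k' (hR hr))
  have cY := card_sup_zpowers p.norm p.notMem p.sq
  let U : Subgroup G :=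
    { carrier := {b | b ∈ A ⊔ A' ∧ b⁻¹ * r * b * r⁻¹ ∈ A}
      one_mem' := ⟨one_mem _, by simp [one_mem]⟩
      mul_mem' := fun {a b} ha hb => ⟨mul_mem ha.1 hb.1, by
        have := mul_mem (conj_mem_of_norm' (hB0 hb.1) ha.2) hb.2
        rwa [show b⁻¹ * (a⁻¹ * r * a * r⁻¹) * b * (b⁻¹ * r * b * r⁻¹)
          = (a * b)⁻¹ * r * (a * b) * r⁻¹ by group] at this⟩
      inv_mem' := fun {a} ha => ⟨inv_mem ha.1, by
        have := conj_mem_of_norm (hB0 ha.1) (inv_mem ha.2)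
        rwa [show a * (a⁻¹ * r * a * r⁻¹)⁻¹ * a⁻¹ = a⁻¹⁻¹ * r * a⁻¹ * r⁻¹ by group] at this⟩ }
  have hAU : A ≤ U := fun a ha => ⟨mem_sup_left ha, by
    rw [mul_assoc, mul_assoc, ← mul_assoc r]
    exact mul_mem (inv_mem ha) (conj_mem_of_norm (hR hr) ha)⟩
  have cU : Nat.card U ≤ 2 * Nat.card A := by
    have k1 := three U (fun b hb => hB0 hb.1) fun b hb => hb.2
    have k2 : N[V] ⊓ U ≤ A := fun x hx => by
      by_contra k
      exact hrB ((mul_mem_cancel_left hx.2.1).1 (mem_sup_left (hRA x hx.1 k)))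
    have := card_le_of_le' k2
    omega
  set S : Set G := {x | x ∈ N[A] ∧ x ∉ A ⊔ A' ∧ x * x = 1} with hS
  have hSU : ∀ x ∈ S, x * r ∈ U := fun x hx => by
    have k1 : x * r ∈ A ⊔ A' :=
      (mul_mem_iff_of_card hB0 (by omega) hx.1 (hR hr)).2 (iff_of_false hx.2.1 hrB)
    refine ⟨k1, ?_⟩
    have k2 := sq_mem_sup (Y := ⊥) p.le (fun b hb => by
      obtain ⟨b, hb', rfl⟩ := mem_conj_smul_iff_exists.1 hb
      rw [show w * b * w⁻¹ * (w * b * w⁻¹) = w * (b * b) * w⁻¹ by group, he b hb']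
      simp) _ (inv_mem k1)
    rw [sup_bot_eq] at k2
    convert k2 using 1
    simp only [mul_inv_rev, inv_eq_of_mul_eq_one_right hr2, inv_eq_of_mul_eq_one_right hx.2.2,
      mul_assoc, hr2, mul_one]
  have c8 : S.ncard ≤ 8 := by
    have k1 := c'.ncard_coset he (hR hr) hrA
    by_cases k : ∃ y ∈ S, y * r ∉ A
    · obtain ⟨y, hy, hyA⟩ := k
      have k2 := c'.ncard_coset he hy.1 fun k => hy.2.1 (mem_sup_left k)
      refine (Set.ncard_le_ncard (fun x hx => ?_)).trans ((Set.ncard_union_le _ _).trans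
        (Nat.add_le_add k1 k2))
      by_cases k3 : x * r ∈ A
      · exact Or.inl ⟨by rwa [inv_eq_of_mul_eq_one_right hr2], hx.2.2⟩
      · refine Or.inr ⟨?_, hx.2.2⟩
        have := (mul_mem_iff_of_card hAU cU (hSU x hx) (inv_mem (hSU y hy))).2
          (iff_of_false k3 (by rwa [inv_mem_iff]))
        simpa [mul_assoc] using this
    · push Not at k
      refine (Set.ncard_le_ncard (fun x hx => ?_)).trans (k1.trans (by norm_num))
      exact ⟨by rw [inv_eq_of_mul_eq_one_right hr2]; exact k x hx, hx.2.2⟩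
  have k1 := card_le_cent_mul (N[A] ⊔ zpowers w) r (T := S) fun y hy => by
    have n1 : y ∈ N[N[A]] := sup_le (le_norm_self _) (zpowers_le_of_mem p.norm) hy
    have n2 : y ∈ N[A ⊔ A'] := by
      refine sup_le (le_norm_sup le_rfl p.norm_eq.ge) (zpowers_le_of_mem ?_) hy
      exact mem_norm_of_conj_smul_eq (by rw [conj_smul_sup, p.smul_smul, sup_comm])
    refine ⟨conj_mem_of_norm n1 (hR hr), fun k => hrB (mem_of_conj_mem_of_norm n2 k), ?_⟩
    rw [show y * r * y⁻¹ * (y * r * y⁻¹) = y * (r * r) * y⁻¹ by group, hr2]; simp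
  have k2 := card_le_of_le' (inf_le_left : C₁[r] ⊓ (N[A] ⊔ zpowers w) ≤ _)
  nlinarith

omit [Finite G] in
theorem comm_of_sq (h : ∀ x ∈ T, x * x = 1) {a b : G} (ha : a ∈ T) (hb : b ∈ T) : a * b = b * a :=
  (inv_eq_of_mul_eq_one_right (h _ (mul_mem ha hb))).symm.trans (by
    rw [mul_inv_rev, inv_eq_of_mul_eq_one_right (h a ha), inv_eq_of_mul_eq_one_right (h b hb)])

theorem mem_four (h4 : Nat.card T = 4) (h : ∀ x ∈ T, x * x = 1) {a b g : G} (ha : a ∈ T)
    (hb : b ∈ T) (ha1 : a ≠ 1) (hb1 : b ≠ 1) (hab : a ≠ b) (hg : g ∈ T) :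
    g = 1 ∨ g = a ∨ g = b ∨ g = a * b := by
  have hn : b ∈ N[zpowers a] := le_norm_zpowers le_rfl (mem_cent1_iff.2 (comm_of_sq h hb ha))
  have k := card_sup_zpowers hn (by rw [mem_zpowers_invol (h a ha)]; tauto)
    (by rw [h b hb]; exact one_mem _)
  rw [card_zpowers_invol ha1 (h a ha)] at k
  rw [← eq_of_le_of_card_eq (sup_le (zpowers_le_of_mem ha) (zpowers_le_of_mem hb))
    (by rw [k, h4])] at hg
  obtain ⟨x, hx, y, hy, rfl⟩ := (mem_sup_of_norm (zpowers_le_of_mem hn)).1 hg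
  rcases (mem_zpowers_invol (h a ha)).1 hx with rfl | rfl <;>
    rcases (mem_zpowers_invol (h b hb)).1 hy with rfl | rfl <;> simp

theorem exists_third (h4 : 2 < Nat.card T) (x : G) : ∃ y ∈ T, y ≠ 1 ∧ y ≠ x := by
  by_contra k
  push Not at k
  have := Set.ncard_le_ncard (s := (T : Set G)) (t := {1, x}) fun y hy => by
    by_cases e : y = 1
    · exact Or.inl e
    · exact Or.inr (k y hy e)
  have h2 := Set.ncard_insert_le (1 : G) {x}
  rw [Set.ncard_singleton] at h2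
  change Nat.card T ≤ _ at this
  omega

structure ConfE (T : Subgroup G) (z : G) : Prop where
  hP : IsPGroup 2 G
  card : Nat.card T = 4
  sq : ∀ x ∈ T, x * x = 1
  norm : Nat.card N[T] ≤ 8
  cent : ∀ x ∈ T, x ≠ 1 → Nat.card C₁[x] = 16
  fus : ∀ h : G, ∀ x ∈ T, h * x * h⁻¹ ∈ T → h * x * h⁻¹ = x
  z1 : z ≠ 1
  z2 : z * z = 1
  zc : ∀ g, g * z = z * g
  zT : z ∉ T

namespace ConfE

variable (c : ConfE T z) {x x' y g : G}
include c

omit [Finite G] in
theorem conj_z (h a : G) : h * (a * z) * h⁻¹ = h * a * h⁻¹ * z := by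
  rw [mul_assoc _ h⁻¹, c.zc h⁻¹]; group

omit [Finite G] in
theorem z_norm (A : Subgroup G) : z ∈ N[A] :=
  cent_le_norm _ (mem_cent_iff.2 fun a _ => c.zc a)

theorem card1 : Nat.card ↥(T ⊔ zpowers z) = 8 := by
  rw [card_sup_zpowers (c.z_norm T) c.zT (by rw [c.z2]; exact one_mem _), c.card]

theorem norm_eq : T ⊔ zpowers z = N[T] :=
  eq_of_le_of_card_le (sup_le (le_norm_self T) (zpowers_le_of_mem (c.z_norm T)))
    (c.card1 ▸ c.norm)

omit [Finite G] in
theorem mem1 (hg : g ∈ T ⊔ zpowers z) : ∃ x ∈ T, g = x ∨ g = x * z := by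
  obtain ⟨a, ha, b, hb, rfl⟩ := (mem_sup_of_norm (zpowers_le_of_mem (c.z_norm T))).1 hg
  rcases (mem_zpowers_invol c.z2).1 hb with rfl | rfl <;> exact ⟨a, ha, by simp⟩

omit [Finite G] in
theorem sq1 (hg : g ∈ T ⊔ zpowers z) : g * g = 1 := by
  obtain ⟨x, hx, rfl | rfl⟩ := c.mem1 hg
  · exact c.sq _ hx
  · rw [mul_assoc, ← mul_assoc z, ← c.zc, mul_assoc, c.z2, mul_one, c.sq x hx]

omit [Finite G] in
theorem comm1 : T ⊔ zpowers z ≤ C[T ⊔ zpowers z] :=
  le_cent_iff.2 fun _ hb _ ha => comm_of_sq (fun _ => c.sq1) ha hb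

theorem cent_le (hx : x ∈ T) (h1 : x ≠ 1) : C₁[x] ≤ N[T ⊔ zpowers z] :=
  le_norm_of_card (c.comm1.trans (cent_le_cent1 (mem_sup_left hx))) (by rw [c.cent x hx h1, c.card1])

theorem step (hx : x ∈ T) (h1 : x ≠ 1) (hx' : x' ∈ T) (h1' : x' ≠ 1) (hne : x ≠ x')
    (hy : y ∈ C₁[x]) (hyT : y ∉ T ⊔ zpowers z) :
    y * x' * y⁻¹ = x' * z ∨ y * x' * y⁻¹ = x * x' * z := by
  have hyx : y * x * y⁻¹ = x := by rw [mem_cent1_iff.1 hy]; simp
  obtain ⟨a, ha, e | e⟩ := c.mem1 (conj_mem_of_norm (c.cent_le hx h1 hy) (mem_sup_left hx'))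
  · refine absurd (c.norm_eq ▸ cent_le_norm T (mem_cent_of_conj_eq fun g hg => ?_)) hyT
    have e' := c.fus y x' hx' (e ▸ ha)
    rcases mem_four c.card c.sq hx hx' h1 h1' hne hg with rfl | rfl | rfl | rfl
    · simp
    · exact hyx
    · exact e'
    · rw [← conj_mul, hyx, e']
  · rcases mem_four c.card c.sq hx hx' h1 h1' hne ha with rfl | rfl | rfl | rfl
    · rw [← (by simp : y * 1 * y⁻¹ = 1), ← c.conj_z] at e
      have : x' = z := by simpa using e
      exact absurd (this ▸ hx') c.zT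
    · nth_rewrite 1 [← hyx] at e
      rw [← c.conj_z] at e
      have : x' = a * z := by simpa using e
      exact absurd ((mul_mem_cancel_left hx).1 (this ▸ hx')) c.zT
    · exact Or.inl e
    · exact Or.inr e

theorem exists_y (hx : x ∈ T) (h1 : x ≠ 1) : ∃ y ∈ C₁[x], y ∉ T ⊔ zpowers z :=
  SetLike.not_le_iff_exists.1 fun k => by
    have := card_le_of_le' k
    rw [c.cent x hx h1, c.card1] at this
    omega

omit [Finite G] in
theorem eq_of_isConj (hx : x ∈ T) (hx' : x' ∈ T) (h : IsConj x x') : x = x' := by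
  obtain ⟨h, e⟩ := isConj_iff.1 h
  rw [← e, c.fus h x hx (e ▸ hx')]

theorem exists_conj_z (hx' : x' ∈ T) (h1' : x' ≠ 1) :
    ∃ y ∈ N[T ⊔ zpowers z], y * x' * y⁻¹ = x' * z := by
  obtain ⟨x, hx, h1, hne⟩ := exists_third (T := T) (by rw [c.card]; norm_num) x'
  obtain ⟨y, hy, hyT⟩ := c.exists_y hx h1
  refine ⟨y, c.cent_le hx h1 hy, (c.step hx h1 hx' h1' hne hy hyT).resolve_right fun e => ?_⟩
  have k1 : IsConj x' (x * x' * z) := isConj_iff.2 ⟨y, e⟩
  obtain ⟨y', hy', hyT'⟩ := c.exists_y hx' h1'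
  rcases c.step hx' h1' hx h1 hne.symm hy' hyT' with e' | e'
  · have k2 : IsConj (x * x') (x * x' * z) := isConj_iff.2 ⟨y', by
      rw [← conj_mul, e', mem_cent1_iff.1 hy', mul_inv_cancel_right, mul_assoc, ← c.zc, mul_assoc]⟩
    exact h1 (by simpa using c.eq_of_isConj (mul_mem hx hx') hx' (k2.trans k1.symm))
  · rw [comm_of_sq c.sq hx' hx] at e'
    exact hne (c.eq_of_isConj hx hx' ((isConj_iff.2 ⟨y', e'⟩).trans k1.symm))

theorem conj_cases (hx : x ∈ T) (hh : h * x * h⁻¹ ∈ T ⊔ zpowers z) (h1 : x ≠ 1) :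
    h * x * h⁻¹ = x ∨ h * x * h⁻¹ = x * z := by
  obtain ⟨a, ha, e | e⟩ := c.mem1 hh
  · exact Or.inl (c.fus h x hx (e ▸ ha))
  · have ha1 : a ≠ 1 := by
      rintro rfl
      rw [← (by simp : h * 1 * h⁻¹ = 1), ← c.conj_z] at e
      have : x = z := by simpa using e
      exact c.zT (this ▸ hx)
    obtain ⟨y, -, hy⟩ := c.exists_conj_z ha ha1
    obtain rfl := c.eq_of_isConj hx ha ((isConj_iff.2 ⟨h, e⟩).trans (isConj_iff.2 ⟨y, hy⟩).symm)
    exact Or.inr e

theorem mem_norm (hg : g ∈ T ⊔ zpowers z) (hgz : g ∉ zpowers z)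
    (hh : h * g * h⁻¹ ∈ T ⊔ zpowers z) : h ∈ N[T ⊔ zpowers z] := by
  obtain ⟨x, hx, e⟩ := c.mem1 hg
  have h1 : x ≠ 1 := by
    rintro rfl
    rcases e with rfl | rfl <;> simp at hgz
  have k : h * x * h⁻¹ ∈ T ⊔ zpowers z := by
    rcases e with rfl | rfl
    · exact hh
    · rwa [c.conj_z, mul_mem_cancel_right (mem_sup_right (mem_zpowers z))] at hh
  rcases c.conj_cases hx k h1 with e | e
  · exact c.cent_le hx h1 (mem_cent1_iff.2 (mul_inv_eq_iff_eq_mul.1 e))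
  · obtain ⟨y, hy, e'⟩ := c.exists_conj_z hx h1
    refine (mul_mem_cancel_left (inv_mem hy)).1 (c.cent_le hx h1 (mem_cent1_iff.2 ?_))
    calc y⁻¹ * h * x = y⁻¹ * (h * x * h⁻¹) * h := by group
      _ = _ := by rw [e, ← e']; group

theorem inf_le {u u' : G} (hu : u⁻¹ * u' ∉ N[T ⊔ zpowers z]) :
    conj u • (T ⊔ zpowers z) ⊓ conj u' • (T ⊔ zpowers z) ≤ zpowers z := fun g hg => by
  by_contra k
  obtain ⟨a, ha, rfl⟩ := mem_conj_smul_iff_exists.1 hg.2
  refine hu (c.mem_norm ha (fun k' => k (conj_mem_of_norm ?_ k')) ?_)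
  · exact le_norm_zpowers le_rfl (mem_cent1_iff.2 (c.zc _))
  · simpa [mul_assoc] using mem_conj_smul.1 hg.1

theorem exists_mem : ∃ x ∈ T, x ≠ 1 := by
  obtain ⟨x, hx, h1, -⟩ := exists_third (T := T) (by rw [c.card]; norm_num) 1
  exact ⟨x, hx, h1⟩

omit [Finite G] in
theorem not_mem_z (hx : x ∈ T) (h1 : x ≠ 1) : x ∉ zpowers z := fun k => by
  rcases (mem_zpowers_invol c.z2).1 k with e | e
  · exact h1 e
  · exact c.zT (e ▸ hx)

theorem cardX : Nat.card N[T ⊔ zpowers z] = 32 := by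
  obtain ⟨x, hx, h1⟩ := c.exists_mem
  apply le_antisymm
  · have k := card_le_cent_mul N[T ⊔ zpowers z] x (T := {x, x * z}) fun w hw =>
      c.conj_cases hx (conj_mem_of_norm hw (mem_sup_left hx)) h1
    have k1 := card_le_of_le' (inf_le_left : C₁[x] ⊓ N[T ⊔ zpowers z] ≤ _)
    have k2 := Set.ncard_insert_le x {x * z}
    rw [Set.ncard_singleton] at k2
    rw [c.cent x hx h1] at k1
    nlinarith
  · obtain ⟨y, hy, e⟩ := c.exists_conj_z hx h1
    have := two_mul_card_le (c.cent_le hx h1) fun k => c.z1 (by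
      rw [mem_cent1_iff.1 (k hy)] at e
      simpa using e.symm)
    rwa [c.cent x hx h1] at this

theorem cent_eq (hg : g ∈ T ⊔ zpowers z) (hgz : g ∉ zpowers z) : Nat.card C₁[g] ≤ 16 := by
  obtain ⟨x, hx, e⟩ := c.mem1 hg
  have h1 : x ≠ 1 := by
    rintro rfl
    rcases e with rfl | rfl <;> simp at hgz
  rw [← c.cent x hx h1]
  refine card_le_of_le' fun w hw => ?_
  rcases e with rfl | rfl
  · exact hw
  · have := mem_cent1_iff.1 hw
    rw [← mul_assoc, mul_assoc x, ← c.zc, ← mul_assoc] at this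
    exact mem_cent1_iff.2 (mul_right_cancel this)

theorem exists_notMem_z {Y W : Subgroup G} (hW : W ≤ Y) (h1 : T ⊔ zpowers z ≤ Y)
    (hc : Nat.card Y ≤ 2 * Nat.card W) : ∃ g ∈ T ⊔ zpowers z, g ∈ W ∧ g ∉ zpowers z := by
  by_contra k
  push Not at k
  have k1 := card_sup_mul_card_inf (h1.trans (le_norm_of_card hW hc))
  have k2 := card_le_of_le' (sup_le hW h1)
  have k3 : Nat.card ↥(W ⊓ (T ⊔ zpowers z)) ≤ 2 := by
    rw [← card_zpowers_invol c.z1 c.z2]
    exact card_le_of_le' fun g hg => k g hg.2 hg.1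
  have := Nat.card_pos (α := W)
  rw [c.card1] at k1
  nlinarith

omit [Finite G] in
theorem z_le (u : G) : zpowers z ≤ conj u • (T ⊔ zpowers z) :=
  zpowers_le_of_mem (mem_conj_smul.2 (by
    rw [mul_assoc, ← c.zc, inv_mul_cancel_left]; exact mem_sup_right (mem_zpowers z)))

theorem sup_eq {u u' : G} (hu : u ∈ N[N[T ⊔ zpowers z]]) (hu' : u' ∈ N[N[T ⊔ zpowers z]])
    (h : u⁻¹ * u' ∉ N[T ⊔ zpowers z]) :
    conj u • (T ⊔ zpowers z) ⊔ conj u' • (T ⊔ zpowers z) = N[T ⊔ zpowers z] := by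
  have k : ∀ w ∈ N[N[T ⊔ zpowers z]], conj w • (T ⊔ zpowers z) ≤ N[T ⊔ zpowers z] ∧
      N[T ⊔ zpowers z] ≤ N[conj w • (T ⊔ zpowers z)] := fun w hw =>
    ⟨conj_smul_le_of_norm hw (le_norm_self _), by
      rw [← conj_smul_norm, conj_smul_of_norm hw]⟩
  refine eq_of_le_of_card_le (sup_le (k u hu).1 (k u' hu').1) ?_
  have k1 := card_sup_mul_card_inf ((k u' hu').1.trans (k u hu).2)
  have k2 := card_le_of_le' (c.inf_le h)
  rw [card_zpowers_invol c.z1 c.z2] at k2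
  rw [card_conj_smul, card_conj_smul, c.card1] at k1
  rw [c.cardX]
  nlinarith

theorem main : SR 4 (⊤ : Subgroup G) := by
  obtain ⟨t, ht, ht1⟩ := c.exists_mem
  set T1 := T ⊔ zpowers z with hT1
  have cX : Nat.card N[T1] = 32 := c.cardX
  by_cases hX : (⊤ : Subgroup G) ≤ N[T1]
  · obtain ⟨y, hy, e⟩ := c.exists_conj_z ht ht1
    refine SR.of_card_32 ((card_le_of_le' hX).trans cX.le) (mem_top y) (mem_top t) fun k => c.z1 ?_
    rw [k] at e
    simpa using e.symm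
  obtain ⟨v, -, hv, hvX, hv2⟩ := exists_norm_sq c.hP le_top hX
  have cY := card_sup_zpowers hv hvX hv2
  set Y := N[T1] ⊔ zpowers v with hY
  have hTY : T1 ≤ Y := (le_norm_self _).trans le_sup_left
  by_cases hG : (⊤ : Subgroup G) ≤ Y
  · intro X0 Y0 h1 _ h3
    refine pow_two_le_of_lt (k := 4) (relIndex_pow c.hP _ _) (lt_of_not_ge fun k => ?_)
    have k1 := (relIndex_le_card Y0 X0).trans' k
    obtain ⟨g, hg, hg0, hgz⟩ := c.exists_notMem_z (le_top.trans hG : X0 ≤ Y) hTY (by omega)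
    have k2 := card_le_cent_mul X0 g (T := (fun y => y * g) '' (Y0 : Set G)) fun w hw =>
      ⟨_, comm_mem_of_sq h3 hw hg0, by simp⟩
    rw [Set.ncard_image_of_injective _ (mul_left_injective g)] at k2
    have k3 := (card_le_of_le' (inf_le_left : C₁[g] ⊓ X0 ≤ _)).trans (c.cent_eq hg hgz)
    have k4 := card_mul_relIndex h1
    have k5 := Nat.card_pos (α := Y0)
    change _ ≤ _ * Nat.card Y0 at k2
    norm_num at k
    have k6 := Nat.mul_le_mul_left (Nat.card Y0) k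
    have k7 := Nat.mul_le_mul_right (Nat.card Y0) k3
    omega
  exfalso
  obtain ⟨u, -, hu, huY, -⟩ := exists_norm_sq c.hP le_top hG
  have hsup := c.sup_eq (one_mem _) hv (by simpa using hvX)
  have hinf := c.inf_le (u := 1) (u' := v) (by simpa using hvX)
  rw [map_one, one_smul] at hsup hinf
  have hn : conj v • T1 ≤ N[T1] := le_sup_right.trans hsup.le
  have sqv : ∀ w : G, ∀ b ∈ conj w • T1, b * b = 1 := fun w b hb => by
    obtain ⟨b, hb', rfl⟩ := mem_conj_smul_iff_exists.1 hb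
    rw [conj_mul, c.sq1 hb']; simp
  have hn' : N[T1] ≤ N[conj v • T1] := by rw [← conj_smul_norm, conj_smul_of_norm hv]
  have sqX : ∀ x ∈ N[T1], x * x ∈ zpowers z := fun x hx => by
    rw [← hsup] at hx
    obtain ⟨a, ha, b, hb, rfl⟩ := (mem_sup_of_norm hn).1 hx
    have e : a * b * (a * b) = a * b * a⁻¹ * b⁻¹ := by
      rw [inv_eq_of_mul_eq_one_right (c.sq1 ha), inv_eq_of_mul_eq_one_right (sqv v b hb)]
      simp only [mul_assoc]
    rw [e]
    refine hinf (mem_inf.2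
      ⟨?_, mul_mem (conj_mem_of_norm (hn' (le_norm_self _ ha)) hb) (inv_mem hb)⟩)
    rw [mul_assoc, mul_assoc, ← mul_assoc b]
    exact mul_mem ha (conj_mem_of_norm (hn hb) (inv_mem ha))
  have huX : u ∈ N[N[T1]] := by
    obtain ⟨g, hg, hg0, hgz⟩ := c.exists_notMem_z
      (conj_smul_le_of_norm hu (le_sup_left : N[T1] ≤ Y)) hTY (by rw [card_conj_smul]; omega)
    refine mem_norm_of_conj_smul_eq (eq_of_le_of_card_le (fun w hw => ?_) (by rw [card_conj_smul]))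
    refine c.mem_norm hg hgz ?_
    have k := comm_mem_of_sq sqX (mem_conj_smul.1 hw) (mem_conj_smul.1 hg0)
    have k' := conj_mem_of_norm (le_norm_zpowers le_rfl (mem_cent1_iff.2 (c.zc u))) k
    rw [show u * (u⁻¹ * w * u * (u⁻¹ * g * u) * (u⁻¹ * w * u)⁻¹ * (u⁻¹ * g * u)⁻¹) * u⁻¹
      = w * g * w⁻¹ * g⁻¹ by group] at k'
    simpa using mul_mem (mem_sup_right k' : _ ∈ T1) hg
  have key : ∀ w ∈ N[N[T1]], w ∉ Y → ∃ y ∈ C₁[t] ⊓ conj v • T1, y ∉ zpowers z ∧
      t * y⁻¹ ∈ conj w • T1 := fun w hw hwY => by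
    have k0 : w⁻¹ * v ∉ N[T1] := fun k => hwY (inv_mem_iff.1
      ((mul_mem_cancel_right (mem_sup_right (mem_zpowers v))).1 (mem_sup_left k)))
    have k1 : t ∈ conj w • T1 ⊔ conj v • T1 := by
      rw [c.sup_eq hw hv k0]; exact le_norm_self _ (mem_sup_left ht)
    obtain ⟨a, ha, y, hy, e⟩ := (mem_sup_of_norm (hn.trans (by
      rw [← conj_smul_norm, conj_smul_of_norm hw]))).1 k1
    have ea : t * y⁻¹ = a := by rw [← e]; simp
    refine ⟨y, ⟨mem_cent1_iff.2 ?_, hy⟩, fun k => ?_, ea ▸ ha⟩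
    · have k2 := sqv w a ha
      rw [← ea, inv_eq_of_mul_eq_one_right (sqv v y hy)] at k2
      rw [← inv_eq_of_mul_eq_one_right k2, mul_inv_rev, inv_eq_of_mul_eq_one_right (sqv v y hy),
        inv_eq_of_mul_eq_one_right (c.sq t ht)]
    · have k3 : a ∈ zpowers z := c.inf_le (u := 1) (u' := w) (by
        simpa using fun k => hwY (mem_sup_left k)) (mem_inf.2 ⟨by
          rw [map_one, one_smul, ← ea]
          exact mul_mem (mem_sup_left ht) (inv_mem (mem_sup_right k)), ha⟩)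
      exact c.not_mem_z ht ht1 (e ▸ mul_mem k3 k)
  have hvu : v * u ∉ Y := by rwa [mul_mem_cancel_left (mem_sup_right (mem_zpowers v))]
  obtain ⟨y, hy, hyz, hy1⟩ := key u huX huY
  obtain ⟨y', hy', hyz', hy1'⟩ := key _ (mul_mem hv huX) hvu
  have c4 : Nat.card ↥(C₁[t] ⊓ conj v • T1) ≤ 2 * Nat.card (zpowers z) := by
    have k1 := card_sup_mul_card_inf (inf_le_right.trans hn : C₁[t] ⊓ conj v • T1 ≤ _)
    have k2 := card_le_of_le' (sup_le (c.comm1.trans (cent_le_cent1 (mem_sup_left ht)))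
      (inf_le_left : C₁[t] ⊓ conj v • T1 ≤ _))
    have k3 := card_le_of_le' ((inf_le_inf_left T1 (inf_le_right : C₁[t] ⊓ conj v • T1 ≤ _)).trans hinf)
    rw [c.cent t ht ht1] at k2
    rw [c.card1] at k1
    rw [card_zpowers_invol c.z1 c.z2] at k3 ⊢
    nlinarith
  have k1 := (mul_mem_iff_of_card (le_inf (zpowers_le_of_mem (mem_cent1_iff.2 (c.zc t).symm))
    (c.z_le v)) c4 hy' (inv_mem hy)).2 (iff_of_false hyz' (by rwa [inv_mem_iff]))
  have k2 : t * y⁻¹ ∈ zpowers z := c.inf_le (u := u) (u' := v * u) (fun k => hvX (by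
    simpa [mul_assoc] using conj_mem_of_norm huX k)) (mem_inf.2 ⟨hy1, by
      simpa [mul_assoc] using mul_mem hy1' (c.z_le _ k1)⟩)
  exact c.not_mem_z ht ht1 (hinf (mem_inf.2
    ⟨mem_sup_left ht, by simpa using mul_mem (c.z_le v k2) hy.2⟩))

end ConfE

/-- **Lemma E** -/
theorem lemE (hP : IsPGroup 2 G) (h4 : Nat.card T = 4) (sq : ∀ x ∈ T, x * x = 1)
    (h8 : Nat.card N[T] ≤ 8) (h16 : ∀ x ∈ T, x ≠ 1 → Nat.card C₁[x] ≤ 16)
    (fus : (∀ x ∈ T, x ≠ 1 → Nat.card C₁[x] = 16) →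
      ∀ h : G, ∀ x ∈ T, h * x * h⁻¹ ∈ T → h * x * h⁻¹ = x) : SR 4 (⊤ : Subgroup G) := by
  by_cases k : ∃ x ∈ T, x ≠ 1 ∧ Nat.card C₁[x] < 16
  · obtain ⟨x, hx, h1, k⟩ := k
    exact lemA hP h1 (sq x hx) (pow_two_le_of_lt (k := 3) (card_pow hP _) k)
  push Not at k
  have k' := fun x hx h1 => le_antisymm (h16 x hx h1) (k x hx h1)
  obtain ⟨z, -, h1, h2, h3⟩ := exists_central hP (A := ⊤) (X := ⊤) (fun e => by
    have := card_le_of_le' (e ▸ le_top : T ≤ ⊥)
    simp [h4] at this) le_norm_top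
  have zc : ∀ g, g * z = z * g := fun g => mem_cent_iff.1 h3 g (mem_top g)
  by_cases hz : z ∈ T
  · refine SR.of_card ((card_le_of_le' fun g _ => ?_).trans (h16 z hz h1))
    exact mem_cent1_iff.2 (zc g)
  · exact ConfE.main ⟨hP, h4, sq, h8, k', fus k', h1, h2, zc, hz⟩

end Cfsg.Agent.Fx4
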