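import Cfsg.Agent.H7.BG.Basic
import Cfsg.Agent.H9.MaxClassTwo

/-! Sectional 2-rank of subgroups; Taussky's theorem; 2-groups with an involution whose
centralizer has order at most 8. -/

set_option autoImplicit false

namespace Cfsg.Agent.Fx4

open Subgroup Cfsg.Agent.H7
open MulAut (conj)
open scoped Pointwise commutatorElement

universe u
variable {G : Type u} [Group G]

instance fact2 : Fact (Nat.Prime 2) := ⟨Nat.prime_two⟩

/-- every elementary abelian section of `H` has order at most `2 ^ k` -/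
def SR (k : ℕ) (H : Subgroup G) : Prop :=
  ∀ X Y : Subgroup G, Y ≤ X → X ≤ H → (∀ x ∈ X, x * x ∈ Y) → Y.relIndex X ≤ 2 ^ k

variable {k : ℕ} {A B H K W X Y : Subgroup G}

theorem SR.mono (h : SR k H) (hK : K ≤ H) : SR k K :=
  fun X Y h1 h2 h3 => h X Y h1 (h2.trans hK) h3

theorem SR.le {l : ℕ} (h : SR k H) (hl : k ≤ l) : SR l H :=
  fun X Y h1 h2 h3 => (h X Y h1 h2 h3).trans (Nat.pow_le_pow_right two_pos hl)

theorem comm_mem_of_sq (h : ∀ x ∈ X, x * x ∈ Y) {a b : G} (ha : a ∈ X) (hb : b ∈ X) :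
    a * b * a⁻¹ * b⁻¹ ∈ Y := by
  have e : a * b * a⁻¹ * b⁻¹ = (a * a) * ((a⁻¹ * b) * (a⁻¹ * b)) * (b⁻¹ * b⁻¹) := by group
  rw [e]
  exact mul_mem (mul_mem (h a ha) (h _ (mul_mem (inv_mem ha) hb))) (h _ (inv_mem hb))

/-- counting by fibres -/
theorem relIndex_le_of_fun {β : Type*} (W K : Subgroup G) (f : G → β) {T : Set β} (hT : T.Finite)
    (h1 : ∀ w ∈ W, f w ∈ T) (h2 : ∀ w ∈ W, ∀ w' ∈ W, f w = f w' → w⁻¹ * w' ∈ K) :
    K.relIndex W ≤ T.ncard := by
  have := hT.to_subtype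
  rw [relIndex, index, ← Nat.card_coe_set_eq]
  refine Nat.card_le_card_of_injective
    (fun q : W ⧸ K.subgroupOf W => (⟨f q.out, h1 _ q.out.2⟩ : T)) fun q q' h => ?_
  rw [← q.out_eq', ← q'.out_eq', QuotientGroup.eq]
  exact h2 _ q.out.2 _ q'.out.2 (congrArg Subtype.val h)

variable [Finite G]

theorem card_le_of_fun {β : Type*} (W K : Subgroup G) (f : G → β) {T : Set β} (hT : T.Finite)
    (h1 : ∀ w ∈ W, f w ∈ T) (h2 : ∀ w ∈ W, ∀ w' ∈ W, f w = f w' → w⁻¹ * w' ∈ K) :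
    Nat.card W ≤ Nat.card ↥(K ⊓ W) * T.ncard := by
  rw [← card_inf_mul_relIndex K W]
  exact Nat.mul_le_mul_left _ (relIndex_le_of_fun W K f hT h1 h2)

/-- conjugates of `x` under `W` lie in `T` -/
theorem card_le_cent_mul (W : Subgroup G) (x : G) {T : Set G} (h : ∀ w ∈ W, w * x * w⁻¹ ∈ T) :
    Nat.card W ≤ Nat.card ↥(C₁[x] ⊓ W) * T.ncard := by
  refine card_le_of_fun W _ (fun w => w * x * w⁻¹) (Set.toFinite T) h fun w _ w' _ e => ?_
  rw [mem_cent1_iff]
  calc w⁻¹ * w' * x = w⁻¹ * (w' * x * w'⁻¹) * w' := by group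
    _ = w⁻¹ * (w * x * w⁻¹) * w' := by rw [← e]
    _ = x * (w⁻¹ * w') := by group

theorem relIndex_le_card (Y X : Subgroup G) : Y.relIndex X ≤ Nat.card X :=
  Nat.le_of_dvd (card_pos' X) (relIndex_dvd_card' Y X)

theorem relIndex_le_of_card_le {n : ℕ} (h : Nat.card X ≤ Nat.card ↥(Y ⊓ X) * n) :
    Y.relIndex X ≤ n := by
  rw [← card_inf_mul_relIndex Y X] at h
  exact Nat.le_of_mul_le_mul_left h (card_pos' _)

theorem SR.of_card (h : Nat.card H ≤ 2 ^ k) : SR k H :=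
  fun X Y _ h2 _ => (relIndex_le_card Y X).trans ((card_le_of_le' h2).trans h)

theorem relIndex_le_mul (Y X C : Subgroup G) :
    Y.relIndex X ≤ (Y ⊓ C).relIndex (X ⊓ C) * C.relIndex X := by
  have h1 := relIndex_mul_relIndex (Y ⊓ C ⊓ X) (X ⊓ C) X
    (le_inf inf_le_right (inf_le_left.trans inf_le_right)) inf_le_left
  rw [inf_relIndex_right, inf_relIndex_left] at h1
  have h2 : (Y ⊓ C ⊓ X).relIndex (X ⊓ C) = (Y ⊓ C).relIndex (X ⊓ C) := by
    rw [← inf_relIndex_right (Y ⊓ C ⊓ X), ← inf_relIndex_right (Y ⊓ C)]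
    congr 1
    apply le_antisymm
    · exact inf_le_inf_right _ inf_le_left
    · exact le_inf (le_inf inf_le_left (inf_le_right.trans inf_le_left)) inf_le_right
  rw [← h2, h1]
  exact relIndex_le_of_le_left inf_le_left (relIndex_ne_zero' _ _)

theorem SR.of_relIndex {b : ℕ} {C : Subgroup G} (h : SR k C) (hb : C.relIndex H ≤ 2 ^ b) :
    SR (k + b) H := by
  intro X Y h1 h2 h3
  refine (relIndex_le_mul Y X C).trans ?_
  rw [pow_add]
  refine Nat.mul_le_mul (h _ _ (inf_le_inf_right _ h1) inf_le_right fun x hx =>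
    ⟨h3 x hx.1, mul_mem hx.2 hx.2⟩) ?_
  exact (relIndex_le_of_le_right h2 (relIndex_ne_zero' _ _)).trans hb

theorem SR.zpowers (c : G) : SR 1 (zpowers c) := by
  intro X Y h1 h2 h3
  have hc : IsCyclic X := isCyclic_of_le h2
  obtain ⟨x, rfl⟩ := (Subgroup.isCyclic_iff_exists_zpowers_eq_top X).1 hc
  have hx := h3 x (mem_zpowers x)
  classical
  refine (relIndex_le_of_fun (Subgroup.zpowers x) Y (fun w => decide (w ∈ Y))
    (Set.toFinite Set.univ) (fun _ _ => trivial) ?_).trans (by simp)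
  rintro _ ⟨i, rfl⟩ _ ⟨j, rfl⟩ e
  simp only [decide_eq_decide] at e
  have key : ∀ n : ℤ, x ^ (2 * n) ∈ Y := fun n => by
    rw [zpow_mul, zpow_two]; exact zpow_mem hx n
  rcases Int.even_or_odd' i with ⟨a, rfl | rfl⟩
  · exact mul_mem (inv_mem (key a)) (e.1 (key a))
  · rcases Int.even_or_odd' j with ⟨b, rfl | rfl⟩
    · exact mul_mem (inv_mem (e.2 (key b))) (key b)
    · rw [← zpow_neg, ← zpow_add, show -(2 * a + 1) + (2 * b + 1) = 2 * (b - a) by ring]
      exact key _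

theorem relIndex_eq_mul (hY : Y ≤ X) (hX : X ≤ N[A]) :
    Y.relIndex X = (Y ⊓ A).relIndex (X ⊓ A) * (A ⊔ Y).relIndex (A ⊔ X) := by
  have h1 := card_mul_relIndex hY
  have h2 := card_mul_relIndex (inf_le_inf_right A hY)
  have h3 := card_mul_relIndex (sup_le_sup_left hY A)
  have h4 := card_sup_mul_card_inf hX
  have h5 := card_sup_mul_card_inf (hY.trans hX)
  rw [inf_comm] at h4 h5
  have p1 := card_pos' A
  have p2 := card_pos' Y
  apply Nat.eq_of_mul_eq_mul_left (Nat.mul_pos p1 p2)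
  calc Nat.card A * Nat.card Y * Y.relIndex X = Nat.card A * Nat.card X := by rw [mul_assoc, h1]
    _ = _ := by rw [← h4, ← h2, ← h3, ← h5]; ring

theorem sq_mem_sup (hX : X ≤ N[A]) (h : ∀ x ∈ X, x * x ∈ Y) : ∀ x ∈ A ⊔ X, x * x ∈ A ⊔ Y := by
  intro g hg
  obtain ⟨a, ha, x, hx, rfl⟩ := (mem_sup_of_norm hX).1 hg
  have e : a * x * (a * x) = a * (x * a * x⁻¹) * (x * x) := by group
  rw [e]
  exact mul_mem (mem_sup_left (mul_mem ha (conj_mem_of_norm (hX hx) ha))) (mem_sup_right (h x hx))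

theorem SR.of_top {H : Subgroup G} (h : SR k (⊤ : Subgroup H)) : SR k H := by
  intro X Y h1 h2 h3
  rw [← relIndex_subgroupOf h2]
  exact h _ _ (fun _ hx => h1 hx) le_top fun x hx => h3 x hx

theorem SR.conj (h : SR k H) (g : G) : SR k (conj g • H) := by
  intro X Y h1 h2 h3
  rw [← relIndex_conj_smul g⁻¹]
  refine h _ _ (conj_smul_mono _ h1) (le_conj_smul_iff.1 h2) fun x hx => ?_
  rw [mem_conj_smul] at hx ⊢
  have := h3 _ hx
  rwa [show g⁻¹⁻¹ * x * g⁻¹ * (g⁻¹⁻¹ * x * g⁻¹) = g⁻¹⁻¹ * (x * x) * g⁻¹ by group] at this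

theorem SR.ext {T : Type*} [Group T] [Finite T] {b : ℕ} (f : G →* T) (h : SR k (H ⊓ f.ker))
    (h' : SR b (H.map f)) : SR (k + b) H := by
  intro X Y h1 h2 h3
  rw [relIndex_eq_mul h1 (A := f.ker) (by rw [normalizer_eq_top]; exact le_top), pow_add]
  refine Nat.mul_le_mul (h _ _ (inf_le_inf_right _ h1) (inf_le_inf_right _ h2) fun x hx =>
    ⟨h3 x hx.1, mul_mem hx.2 hx.2⟩) ?_
  rw [sup_comm, sup_comm f.ker, ← comap_map_eq, ← comap_map_eq, relIndex_comap,
    map_comap_eq_self (map_le_range f X)]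
  refine h' _ _ (map_mono h1) (map_mono h2) ?_
  rintro _ ⟨x, hx, rfl⟩
  exact ⟨x * x, h3 x hx, map_mul f x x⟩

theorem sectional_of_SR (S : Sylow 2 G) (h : SR k (S : Subgroup G)) :
    Cfsg.SectionalPRankLE 2 k G := by
  intro H M _ E _ hE
  let f := QuotientGroup.mk' M
  let X0 : Subgroup G := (E.comap f).map H.subtype
  let M0 : Subgroup G := M.map H.subtype
  obtain ⟨X, hX⟩ := exists_isSylowIn (p := 2) X0
  obtain ⟨g, -, hg⟩ := (isSylowIn_top S).exists_le_conj hX.2.1 le_top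
  have hM : M ≤ E.comap f := fun m hm => by
    rw [mem_comap, show f m = 1 from (QuotientGroup.eq_one_iff m).2 hm]; exact one_mem _
  have hsq : ∀ x ∈ X0, x * x ∈ M0 := by
    rintro _ ⟨x, hx, rfl⟩
    refine ⟨x * x, ?_, rfl⟩
    have := hE _ hx
    rw [pow_two, ← map_mul] at this
    exact (QuotientGroup.eq_one_iff _).1 this
  have h1 := (h.conj g) X (M0 ⊓ X) inf_le_right hg fun x hx => ⟨hsq x (hX.1 hx), mul_mem hx hx⟩
  rw [inf_relIndex_right] at h1
  have h2 : M0.relIndex X0 = Nat.card E := by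
    rw [relIndex_map_map_of_injective _ _ H.subtype_injective]
    have := relIndex_ker (E.comap f) f
    rw [QuotientGroup.ker_mk', map_comap_eq_self_of_surjective (QuotientGroup.mk'_surjective M)]
      at this
    exact this
  have hn : X0 ≤ N[M0] := by
    rintro _ ⟨x, -, rfl⟩
    refine mem_norm_of_conj ?_
    rintro _ ⟨m, hm, rfl⟩
    exact ⟨x * m * x⁻¹, Normal.conj_mem inferInstance m hm x, rfl⟩
  have hEp : IsPGroup 2 E := fun e => ⟨1, Subtype.ext (by simpa using hE _ e.2)⟩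
  obtain ⟨n, hn'⟩ := hEp.exists_card_eq
  have h3 := relIndex_eq_mul hX.1 hn
  have h4 : (M0 ⊔ X).relIndex (M0 ⊔ X0) = 1 := by
    have k1 : (M0 ⊔ X).relIndex (M0 ⊔ X0) ∣ 2 ^ n := by
      rw [← hn', ← h2, ← relIndex_sup_of_norm hn]
      exact relIndex_dvd_of_le_left' le_sup_left _
    have k2 : ¬ 2 ∣ (M0 ⊔ X).relIndex (M0 ⊔ X0) := fun k => hX.2.2 (h3 ▸ k.mul_left _)
    obtain ⟨i, -, hi⟩ := (Nat.dvd_prime_pow Nat.prime_two).1 k1
    rcases i with _ | i
    · simpa using hi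
    · exact absurd (hi ▸ dvd_pow_self 2 i.succ_ne_zero) k2
  have h5 : M0 ⊔ X = M0 ⊔ X0 := le_antisymm (sup_le_sup_left hX.1 _) (relIndex_eq_one'.1 h4)
  rw [← h2, ← relIndex_sup_of_norm hn, ← h5, relIndex_sup_of_norm (hX.1.trans hn)]
  exact h1

end Cfsg.Agent.Fx4
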