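import Cfsg.Agent.H9.FxTransfer

/-! Fixity four: point stabilizers of odd order divisible by three. -/

set_option autoImplicit false

namespace Cfsg.Agent.Fx4

open Subgroup Cfsg.Agent.H7 MulAction
open MulAut (conj)
open scoped Pointwise commutatorElement

universe u
variable {G : Type u} [Group G] [Finite G] {N K R : Subgroup G} {c d g w y z : G}

instance fact3 : Fact (Nat.Prime 3) := ⟨by norm_num⟩

omit [Finite G] in
theorem mem_zpowers_three (h : c ^ 3 = 1) (hd : d ∈ zpowers c) : d = 1 ∨ d = c ∨ d = c⁻¹ := by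
  obtain ⟨n, rfl⟩ := mem_zpowers_iff.1 hd
  rw [zpow_eq_zpow_emod' n h]
  rcases (by omega : n % (3 : ℕ) = 0 ∨ n % (3 : ℕ) = 1 ∨ n % (3 : ℕ) = 2) with e | e | e <;> rw [e]
  · simp
  · simp
  · exact Or.inr (Or.inr (eq_inv_of_mul_eq_one_left (by rw [← h]; group)))

omit [Finite G] in
theorem conj_pow_eq_one {n : ℕ} (h : c ^ n = 1) (g : G) : (g * c * g⁻¹) ^ n = 1 := by
  rw [conj_pow, h]; simp

omit [Finite G] in
theorem exists_pow_order {p : ℕ} [hp : Fact p.Prime] (hR : IsPGroup p R) (hy : y ∈ R) (h1 : y ≠ 1) :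
    ∃ n : ℕ, y ^ n ≠ 1 ∧ (y ^ n) ^ p = 1 := by
  obtain ⟨k, hk⟩ := IsPGroup.pow_eq_one hR hy
  induction k with
  | zero => exact absurd (by simpa using hk) h1
  | succ k ih =>
    by_cases e : y ^ p ^ k = 1
    · exact ih e
    · exact ⟨_, e, by rw [← pow_mul, ← pow_succ, hk]⟩

theorem conj_conj {H : Type*} [Group H] (a b x : H) :
    a * (b * x * b⁻¹) * a⁻¹ = a * b * x * (a * b)⁻¹ := by group

theorem odd_inv {H : Type*} [Group H] {v c : H} {m : ℕ} (hm : Odd m) (hv : v ^ m = 1)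
    (h : v * c * v⁻¹ = c⁻¹) : c * c = 1 := by
  obtain ⟨j, rfl⟩ := hm
  have k : v ^ 2 ∈ C₁[c] := mem_cent1_iff.2 (by
    rw [← mul_inv_eq_iff_eq_mul, pow_two, ← conj_conj, h, ← conj_inv, h, inv_inv])
  have k2 : v ∈ C₁[c] := by
    rw [pow_succ, pow_mul] at hv
    rw [eq_inv_of_mul_eq_one_right hv]
    exact inv_mem (pow_mem k j)
  rw [mem_cent1_iff.1 k2, mul_inv_cancel_right] at h
  exact mul_eq_one_iff_eq_inv.2 h

omit [Finite G] in
theorem eq_one_of_sq_cube (h2 : c * c = 1) (h3 : c ^ 3 = 1) : c = 1 := by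
  rwa [pow_three', h2, one_mul] at h3

structure T3 (N K : Subgroup G) : Prop where
  le : K ≤ N
  norm : N ≤ N[K]
  ti : ∀ y ∈ K, y ≠ 1 → y ^ 3 = 1 → ∀ g, g * y * g⁻¹ ∈ K → g ∈ N
  idx : ∀ R ≤ N, IsPGroup 3 R → K.relIndex R ≤ 3
  odd : ∀ c ∈ N, c ∉ K → c ^ 3 = 1 → ∀ w ∈ N, ∃ i : ℕ, Odd (orderOf (c ^ i * w))

namespace T3

variable (t : T3 N K)
include t

theorem ti' (hR : IsPGroup 3 R) (hy : y ∈ R) (hK : y ∈ K) (h1 : y ≠ 1) (hg : g * y * g⁻¹ ∈ K) :
    g ∈ N := by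
  obtain ⟨n, h2, h3⟩ := exists_pow_order hR hy h1
  exact t.ti _ (pow_mem hK n) h2 h3 g (by rw [← conj_pow]; exact pow_mem hg n)

theorem relIndex_eq (hR : R ≤ N) (hP : IsPGroup 3 R) (hc : c ∈ R) (hK : c ∉ K) :
    K.relIndex R = 3 :=
  le_antisymm (t.idx R hR hP) (Nat.le_of_dvd (relIndex_pos' _ _)
    (IsPGroup.dvd_relIndex hP fun k => hK (k hc)))

theorem coset (hR : R ≤ N) (hP : IsPGroup 3 R) (hc : c ∈ R) (hK : c ∉ K) (h3 : c ^ 3 = 1)
    (hd : d ∈ R) : d ∈ K ∨ d * c⁻¹ ∈ K ∨ d * c ∈ K := by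
  have k := (eq_or_eq_of_relIndex_prime (le_sup_left (a := K ⊓ R) (b := zpowers c))
    (sup_le inf_le_right (zpowers_le_of_mem hc)) (by
      rw [inf_relIndex_right, t.relIndex_eq hR hP hc hK]; norm_num)).resolve_left
    fun e => hK (e.le (mem_sup_right (mem_zpowers c))).1
  rw [← k] at hd
  obtain ⟨a, ha, b, hb, rfl⟩ := (mem_sup_of_norm (zpowers_le_of_mem
    (le_norm_inf (hR.trans t.norm) (le_norm_self R) hc))).1 hd
  rcases mem_zpowers_three h3 hb with rfl | rfl | rfl <;> simp [(mem_inf.1 ha).1]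

omit [Finite G] in
theorem noinvK (hc : c ∈ N) (hK : c ∉ K) (h3 : c ^ 3 = 1) (hw : w ∈ N) : w * c * w⁻¹ * c ∉ K := by
  intro k
  obtain ⟨i, hi⟩ := t.odd c hc hK h3 w hw
  haveI : (K.subgroupOf N).Normal := normal_subgroupOf_of_le_normalizer t.norm
  let φ := QuotientGroup.mk' (K.subgroupOf N)
  have hφ : ∀ a : N, φ a = 1 ↔ (a : G) ∈ K := fun a => QuotientGroup.eq_one_iff a
  have k1 : φ ⟨w, hw⟩ * φ ⟨c, hc⟩ * (φ ⟨w, hw⟩)⁻¹ = (φ ⟨c, hc⟩)⁻¹ := by
    rw [← mul_eq_one_iff_eq_inv, ← map_inv, ← map_mul, ← map_mul, ← map_mul, hφ]; exact k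
  have k2 := odd_inv (v := φ ⟨c, hc⟩ ^ i * φ ⟨w, hw⟩) (c := φ ⟨c, hc⟩) hi (by
    rw [← map_pow, ← map_mul, ← map_pow, hφ]
    change (c ^ i * w) ^ _ ∈ K
    rw [pow_orderOf_eq_one]; exact one_mem K) (by
    rw [← conj_conj, k1]; group)
  rw [← map_mul, hφ] at k2
  refine hK (inv_mem_iff.1 ?_)
  rwa [inv_eq_of_mul_eq_one_left (pow_three' c ▸ h3)]

omit [Finite G] in
theorem noinv (hc : c ∈ N) (hK : c ∉ K) (h3 : c ^ 3 = 1) (hy : y ∈ K) (hy1 : y ≠ 1) (hy3 : y ^ 3 = 1)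
    (hcy : c * y = y * c) (g : G) : g * y * g⁻¹ ≠ y⁻¹ := fun e => by
  obtain ⟨i, hi⟩ := t.odd c hc hK h3 g (t.ti y hy hy1 hy3 g (e ▸ inv_mem hy))
  refine hy1 (eq_one_of_sq_cube (odd_inv hi (pow_orderOf_eq_one _) ?_) hy3)
  rw [← conj_conj, e, mem_cent1_iff.1 (inv_mem (mem_cent1_comm.1 (pow_mem (mem_cent1_iff.2 hcy) i)))
    |>.symm, mul_inv_cancel_right]

theorem exists_central (hR : IsSylowIn 3 R N) (h3 : 3 ∣ Nat.card K) :
    ∃ z ∈ K, z ∈ R ∧ z ∈ C[R] ∧ z ≠ 1 ∧ z ^ 3 = 1 := by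
  obtain ⟨z, hz, h1, h2⟩ := exists_mem_center_pgroup hR.isPGroup
    (NormalIn.inf_of_norm (hR.le.trans t.norm)) ((hR.inf_normal ⟨t.le, t.norm⟩).ne_bot h3)
  exact ⟨z, hz.2, hz.1, h1, fun e => by simp [e] at h2, h2 ▸ pow_orderOf_eq_one z⟩

/-- a transvection -/
theorem exists_transv (h9 : 9 ∣ Nat.card K) (hc : c ∈ N) (hK : c ∉ K) (h3 : c ^ 3 = 1) (hz : z ∈ K)
    (hz1 : z ≠ 1) (hz3 : z ^ 3 = 1) (hcz : c * z = z * c) (hg : g * c * g⁻¹ ∈ K) :
    ∃ u, u * z * u⁻¹ = z ∧ u * c * u⁻¹ = z * c := by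
  have c1 : c ≠ 1 := fun e => hK (e ▸ one_mem K)
  obtain ⟨R, hA, hR⟩ := exists_isSylowIn_ge (p := 3) (IsPGroup.sup_of_norm
    (isPGroup_zpowers (k := 1) (by simpa using h3)) (isPGroup_zpowers (k := 1) (by simpa using hz3))
    (zpowers_le_of_mem (le_norm_zpowers le_rfl (mem_cent1_iff.2 hcz.symm))))
    (sup_le (zpowers_le_of_mem hc) (zpowers_le_of_mem (t.le hz)))
  have hcR := hA (mem_sup_left (mem_zpowers c))
  have hzR := hA (mem_sup_right (mem_zpowers z))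
  have cz : Nat.card (zpowers z) = 3 := by rw [Nat.card_zpowers, orderOf_eq_prime hz3 hz1]
  have hB : zpowers z = C₁[c] ⊓ (R ⊓ K) := by
    refine eq_of_le_of_card_le (zpowers_le_of_mem ⟨mem_cent1_iff.2 hcz.symm, hzR, hz⟩) ?_
    have hP := IsPGroup.conj_smul (hR.isPGroup.to_le
      (inf_le_right.trans inf_le_left : C₁[c] ⊓ (R ⊓ K) ≤ R)) g
    have k := t.idx _ (fun b hb => t.ti _ hg (by simpa using c1) (conj_pow_eq_one h3 g) b (by
      have := conj_smul_mono g inf_le_left hb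
      rw [conj_smul_cent1] at this
      rw [mem_cent1_iff.1 this]
      simpa using hg)) hP
    rwa [relIndex_of_inf_eq_bot (inf_eq_bot_of_forall fun b h1 h2 => ?_), card_conj_smul, ← cz] at k
    by_contra h4
    obtain ⟨b, hb, rfl⟩ := mem_conj_smul_iff_exists.1 h2
    have := t.ti' hR.isPGroup hb.2.1 hb.2.2 (by simpa using h4) h1
    exact hK (mem_of_conj_mem_of_norm (t.norm this) hg)
  obtain ⟨z', h1, h2, h4, h5, h6⟩ := t.exists_central hR (dvd_trans (by norm_num) h9)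
  have hzc : zpowers z ≤ C[R] := by
    rw [← zpowers_eq_of_card_prime (B := zpowers z) (by rw [cz]; norm_num)
      (hB.ge ⟨cent_le_cent1 hcR h4, h2, h1⟩) h5]
    exact zpowers_le_of_mem h4
  obtain ⟨Q, q1, q2, -, q3, q4⟩ := exists_normal_step_lt hR.isPGroup
    (NormalIn.of_le_cent (zpowers_le_of_mem hzR) hzc) (NormalIn.inf_of_norm (hR.le.trans t.norm))
    (lt_of_le_of_ne (hB.le.trans inf_le_right) fun e => by
      have := (hR.inf_normal ⟨t.le, t.norm⟩).pow_dvd_card_iff (k := 2) |>.2 h9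
      rw [← e, cz] at this
      norm_num at this)
  obtain ⟨u, hu, huz⟩ := SetLike.not_le_iff_exists.1 (mt relIndex_eq_one'.2 (by rw [q3]; norm_num) :
    ¬ Q ≤ zpowers z)
  have e1 : u * z * u⁻¹ = z := by
    rw [comm_of_mem_cent (hzc (mem_zpowers z)) (q2 hu).1, mul_inv_cancel_right]
  rcases mem_zpowers_three hz3 (q4 (comm_mem hu hcR)) with e | e | e
  · exact absurd (hB.ge ⟨mem_cent1_iff.2 (by
      rwa [mul_inv_eq_one, mul_inv_eq_iff_eq_mul] at e), q2 hu⟩) huz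
  · exact ⟨u, e1, mul_inv_eq_iff_eq_mul.1 e⟩
  · rw [mul_inv_eq_iff_eq_mul] at e
    refine ⟨u * u, by rw [← conj_conj, e1, e1], ?_⟩
    rw [← conj_conj, e, ← conj_mul, e, ← conj_inv, e1, ← mul_assoc, ← mul_inv_rev,
      inv_eq_of_mul_eq_one_right (pow_three' z ▸ hz3)]

theorem not_conj (h9 : 9 ∣ Nat.card K) (hc : c ∈ N) (hK : c ∉ K) (h3 : c ^ 3 = 1) (g : G) :
    g * c * g⁻¹ ∉ K := fun hg => by
  have c1 : c ≠ 1 := fun e => hK (e ▸ one_mem K)
  obtain ⟨R, hA, hR⟩ := exists_isSylowIn_ge (p := 3)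
    (isPGroup_zpowers (k := 1) (by simpa using h3)) (zpowers_le_of_mem hc)
  obtain ⟨z, hz, -, h4, hz1, hz3⟩ := t.exists_central hR (dvd_trans (by norm_num) h9)
  have hcz : c * z = z * c := comm_of_mem_cent h4 (hA (mem_zpowers c))
  obtain ⟨u, u1, u2⟩ := t.exists_transv h9 hc hK h3 hz hz1 hz3 hcz hg
  have hcz' : z * c⁻¹ = c⁻¹ * z := (show Commute c z from hcz).inv_left.eq.symm
  have e : g * z * g⁻¹ * (g * c⁻¹ * g⁻¹) = g * c⁻¹ * g⁻¹ * (g * z * g⁻¹) := by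
    rw [conj_mul, conj_mul, hcz']
  have hg' : g * c⁻¹ * g⁻¹ ∈ K := by rw [← conj_inv]; exact inv_mem hg
  have c3 : (g * c⁻¹ * g⁻¹) ^ 3 = 1 := conj_pow_eq_one (by rw [inv_pow, h3, inv_one]) g
  obtain ⟨v, v1, v2⟩ := t.exists_transv (g := g⁻¹) h9 (c := g * z * g⁻¹)
    (t.ti _ hg' (by simpa using c1) c3 _ (by rw [e, mul_inv_cancel_right]; exact hg'))
    (fun k => hK (mem_of_conj_mem_of_norm (t.norm (t.ti z hz hz1 hz3 g k)) hg))
    (conj_pow_eq_one hz3 g) hg' (by simpa using c1) c3 e (by simpa [mul_assoc] using hz)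
  have w1 : conj (g⁻¹ * v * g) c = c := by
    rw [← inv_inj, ← map_inv]
    calc _ = g⁻¹ * (v * (g * c⁻¹ * g⁻¹) * v⁻¹) * g := by simp [mul_assoc]
      _ = _ := by rw [v1]; group
  have w2 : conj (g⁻¹ * v * g) z = c⁻¹ * z := by
    calc _ = g⁻¹ * (v * (g * z * g⁻¹) * v⁻¹) * g := by simp [mul_assoc]
      _ = _ := by rw [v2]; group
  generalize g⁻¹ * v * g = w at w1 w2
  change conj u z = z at u1
  change conj u c = z * c at u2
  have s1 : conj (u * w * u) c = z := by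
    simp only [map_mul, MulAut.mul_apply, u1, u2, w1, w2, map_inv]
    group
    rw [mul_assoc, ← hcz]; group
  have s2 : conj (u * w * u) z = c⁻¹ := by
    simp only [map_mul, MulAut.mul_apply, u1, u2, w1, w2, map_inv]
    rw [mul_inv_rev, inv_mul_cancel_right]
  refine t.noinv hc hK h3 hz hz1 hz3 hcz (u * w * u * (u * w * u)) ?_
  change conj _ z = _
  rw [map_mul, MulAut.mul_apply, s2, map_inv, s1]

theorem sylow_top (h9 : 9 ∣ Nat.card K) (hR : IsSylowIn 3 R N) : IsSylowIn 3 R ⊤ := by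
  refine IsSylowIn.of_norm (hR.mono (le_inf le_top (le_norm_self R)) fun s hs => ?_)
  have k1 := (hR.inf_normal ⟨t.le, t.norm⟩).pow_dvd_card_iff (k := 2) |>.2 h9
  have k2 : conj s • (R ⊓ K) ≤ R := conj_smul_le_of_norm hs.2 inf_le_left
  have k3 := card_inf_mul_relIndex K (conj s • (R ⊓ K))
  have k4 := t.idx _ (k2.trans hR.le) (hR.isPGroup.to_le k2)
  rw [card_conj_smul] at k3
  obtain ⟨y, hy, h1⟩ := exists_ne_one_of_ne_bot (A := K ⊓ conj s • (R ⊓ K)) fun e => by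
    rw [e, card_bot] at k3
    have := Nat.le_of_dvd (card_pos' _) k1
    omega
  obtain ⟨b, hb, rfl⟩ := mem_conj_smul_iff_exists.1 hy.2
  exact t.ti' hR.isPGroup hb.1 hb.2 (by simpa using h1) hy.1

theorem fuse (h9 : 9 ∣ Nat.card K) (hR : IsSylowIn 3 R N) (hc : c ∈ R)
    (hg : g⁻¹ * c * g ∈ R) : ∃ n ∈ N, n⁻¹ * c * n = g⁻¹ * c * g := by
  obtain ⟨z, hz, hzR, h4, hz1, hz3⟩ := t.exists_central hR (dvd_trans (by norm_num) h9)
  have key : ∀ h : G, h * z * h⁻¹ ∈ R → h ∈ N := fun h hh => t.ti z hz hz1 hz3 h (by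
    by_contra k
    exact t.not_conj h9 (hR.le hh) k (conj_pow_eq_one hz3 h) h⁻¹ (by simpa [mul_assoc] using hz))
  obtain ⟨T, hzT, hT⟩ := exists_isSylowIn_ge (p := 3)
    (isPGroup_zpowers (k := 1) (by simpa using hz3)) (zpowers_le_of_mem (cent_le_cent1 hc h4))
  obtain ⟨u, hu, hu'⟩ := hT.exists_conj_le (isPGroup_zpowers (x := g * z * g⁻¹) (k := 1)
    (by simpa using conj_pow_eq_one hz3 g)) (zpowers_le_of_mem (by
      have := conj_smul_mono g (zpowers_le_of_mem (cent_le_cent1 hg h4))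
      rw [conj_smul_cent1, conj_smul_zpowers] at this
      simpa [mul_assoc] using this (mem_zpowers _)))
  obtain ⟨h, -, hh⟩ := (t.sylow_top h9 hR).exists_conj_le hT.isPGroup le_top
  have k1 := key h (hh (conj_mem_conj_smul.2 (hzT (mem_zpowers z))))
  have k2 := key (h * (u * g)) (by
    rw [← conj_conj, ← conj_conj]
    exact hh (conj_mem_conj_smul.2 (hu' (conj_mem_conj_smul.2 (mem_zpowers _)))))
  refine ⟨u * g, (mul_mem_cancel_left k1).1 k2, ?_⟩
  rw [mul_inv_rev, ← mul_assoc, mul_assoc _ c u, ← mem_cent1_iff.1 hu]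
  group

theorem not_nine (hG : commutator G = ⊤) (hc : c ∈ N) (hK : c ∉ K) (h3 : c ^ 3 = 1) :
    ¬ 9 ∣ Nat.card K := fun h9 => by
  obtain ⟨R, hA, hR⟩ := exists_isSylowIn_ge (p := 3)
    (isPGroup_zpowers (k := 1) (by simpa using h3)) (zpowers_le_of_mem hc)
  have hcR := hA (mem_zpowers c)
  have key : ∀ c ∈ R, c ∉ K → c ^ 3 = 1 → ∀ n ∈ N, n * c * n⁻¹ ∈ R → n * c * n⁻¹ * c⁻¹ ∈ K := by
    intro c hc hK h3 n hn h
    rcases t.coset hR.le hR.isPGroup hc hK h3 h with e | e | e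
    · exact absurd (mem_of_conj_mem_of_norm (t.norm hn) e) hK
    · exact e
    · exact absurd e (t.noinvK (hR.le hc) hK h3 hn)
  have k := transfer_pow' (M := K) hG (comm_le_iff.2 fun a ha b hb => by
    have k1 := key c hcR hK h3 a (hR.le ha) (mul_mem (mul_mem ha hcR) (inv_mem ha))
    have k2 : ∀ q ∈ K, a * q * a⁻¹ * q⁻¹ ∈ K := fun q hq =>
      mul_mem (conj_mem_of_norm (t.norm (hR.le ha)) hq) (inv_mem hq)
    rcases t.coset hR.le hR.isPGroup hcR hK h3 hb with e | e | e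
    · exact k2 b e
    · convert mul_mem (k2 _ e) (mul_mem (mul_mem e k1) (inv_mem e)) using 1; group
    · convert mul_mem (k2 _ e) (mul_mem (mul_mem e (conj_mem_of_norm' (t.norm hc) (inv_mem k1)))
        (inv_mem e)) using 1; group) hcR fun k g hg => by
    by_cases e : c ^ k = 1
    · simp [e]
    obtain ⟨n, hn, e'⟩ := t.fuse h9 hR (pow_mem hcR k) hg
    rw [← e'] at hg ⊢
    have := key _ (pow_mem hcR k) (fun k' => ?_) (by rw [← pow_mul, mul_comm, pow_mul, h3, one_pow])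
      n⁻¹ (inv_mem hn) (by simpa using hg)
    · simpa using this
    · rcases mem_zpowers_three h3 (pow_mem (mem_zpowers c) k) with e1 | e1 | e1
      · exact e e1
      · exact hK (e1 ▸ k')
      · exact hK (inv_mem_iff.1 (e1 ▸ k'))
  have k2 := (t.sylow_top h9 hR).not_dvd
  rw [relIndex_top_right] at k2
  refine hK (mem_of_pow_mem_of_coprime ?_ k)
  rw [orderOf_eq_prime h3 fun e => hK (e ▸ one_mem K)]
  exact (Nat.Prime.coprime_iff_not_dvd Nat.prime_three).2 k2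

theorem main (hG : commutator G = ⊤) (hN : N ≠ ⊤) (h3 : 3 ∣ Nat.card K) (P : Sylow 3 G) :
    (∃ H : Subgroup G, H ≠ ⊤ ∧ 3 ∣ Nat.card H ∧ ∀ g : G, g ∉ H → ¬ 3 ∣ Nat.card ↥(H ⊓ conj g • H)) ∨
    (Nat.card P = 9 ∧ ∀ x ∈ (P : Subgroup G), x ^ 3 = 1) := by
  by_cases k : ∀ c ∈ N, c ^ 3 = 1 → c ∈ K
  · refine Or.inl ⟨N, hN, h3.trans (card_dvd_of_le t.le), fun g hg h => hg ?_⟩
    obtain ⟨y, hy, hy3⟩ := exists_orderOf_eq_prime Nat.prime_three h
    obtain ⟨b, hb, rfl⟩ := mem_conj_smul_iff_exists.1 hy.2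
    have b3 : b ^ 3 = 1 := by
      have := conj_pow_eq_one (hy3 ▸ pow_orderOf_eq_one _ : (g * b * g⁻¹) ^ 3 = 1) g⁻¹
      simpa [mul_assoc] using this
    exact t.ti b (k b hb b3) (by rintro rfl; simp at hy3) b3 g (k _ hy.1 (conj_pow_eq_one b3 g))
  push Not at k
  obtain ⟨c, hc, c3, hK⟩ := k
  have h9 := t.not_nine hG hc hK c3
  obtain ⟨R, hA, hR⟩ := exists_isSylowIn_ge (p := 3)
    (isPGroup_zpowers (k := 1) (by simpa using c3)) (zpowers_le_of_mem hc)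
  have hcR := hA (mem_zpowers c)
  obtain ⟨z, hz, hzR, h4, hz1, hz3⟩ := t.exists_central hR h3
  have hQ := hR.inf_normal' ⟨t.le, t.norm⟩
  have cQ : Nat.card ↥(K ⊓ R) = 3 := by
    obtain ⟨n, hn⟩ := hQ.isPGroup.exists_card_eq
    have k1 := (hQ.pow_dvd_card_iff (k := 1)).2 (by simpa using h3)
    have k2 := mt (hQ.pow_dvd_card_iff (k := 2)).1 h9
    rw [hn, Nat.pow_dvd_pow_iff_le_right (by norm_num)] at k1 k2
    rw [hn, show n = 1 by omega, pow_one]
  have cR : Nat.card R = 9 := by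
    rw [← card_inf_mul_relIndex K R, cQ, t.relIndex_eq hR.le hR.isPGroup hcR hK]
  have hcz : c * z = z * c := comm_of_mem_cent h4 hcR
  obtain ⟨S, hRS, hS⟩ := exists_isSylowIn_ge hR.isPGroup le_top
  by_cases e : Nat.card S ≤ 9
  · rw [← eq_of_le_of_card_le hRS (cR ▸ e)] at hS
    obtain ⟨g, -, hg⟩ := hS.exists_conj (isSylowIn_top P)
    refine Or.inr ⟨by change Nat.card (P : Subgroup G) = 9; rw [← hg, card_conj_smul, cR], ?_⟩
    rw [← hg]
    intro x hx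
    obtain ⟨b, hb, rfl⟩ := mem_conj_smul_iff_exists.1 hx
    refine conj_pow_eq_one ?_ g
    have k1 : ∀ q ∈ K, q ∈ R → q ^ 3 = 1 ∧ Commute q c := fun q h1 h2 => by
      have := zpowers_eq_of_card_prime (B := K ⊓ R) (by rw [cQ]; norm_num) ⟨hz, hzR⟩ hz1
      obtain ⟨n, rfl⟩ := mem_zpowers_iff.1 (this.ge ⟨h1, h2⟩)
      exact ⟨by rw [← zpow_natCast, ← zpow_mul, mul_comm, zpow_mul, zpow_natCast, hz3, one_zpow],
        (show Commute z c from hcz.symm).zpow_left n⟩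
    rcases t.coset hR.le hR.isPGroup hcR hK c3 hb with e | e | e
    · exact (k1 b e hb).1
    · obtain ⟨k2, k3⟩ := k1 _ e (mul_mem hb (inv_mem hcR))
      rw [← inv_mul_cancel_right b c, k3.mul_pow, k2, c3, one_mul]
    · obtain ⟨k2, k3⟩ := k1 _ e (mul_mem hb hcR)
      rw [← mul_inv_cancel_right b c, k3.inv_right.mul_pow, k2, inv_pow, c3, one_mul, inv_one]
  · exfalso
    refine count3 hG hS.isPGroup (by simpa using hS.not_dvd) (not_le.1 e) (hRS hzR) hz3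
      (fun g => by simpa using t.noinv hc hK c3 hz hz1 hz3 hcz g⁻¹) fun g _ => ?_
    rw [← card_conj_smul g, ← cR]
    refine Nat.le_of_dvd (card_pos' _) (hR.card_dvd (fun b hb => t.ti z hz hz1 hz3 b ?_)
      (IsPGroup.conj_smul (hS.isPGroup.to_le inf_le_right) g))
    have := conj_smul_mono g inf_le_left hb
    rw [conj_smul_cent1] at this
    have e' : b * z = z * b := by simpa [mul_assoc] using mem_cent1_iff.1 this
    rwa [e', mul_inv_cancel_right]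

end T3

variable {Ω : Type*} [MulAction G Ω] {D : Set Ω} {p q : Ω}

omit [Finite G] in
theorem smul_mem_stab (hg : g ∈ stabilizer G D) (hp : p ∈ D) : g • p ∈ D :=
  (mem_stabilizer_set.1 hg p).2 hp

omit [Finite G] in
theorem mem_of_smul_mem_stab (hg : g ∈ stabilizer G D) (hp : g • p ∈ D) : p ∈ D :=
  (mem_stabilizer_set.1 hg p).1 hp

theorem mem_stab_of (h : ∀ p ∈ D, g • p ∈ D) : g ∈ stabilizer G D :=
  mem_stabilizer_set.2 fun p => ⟨fun k => by
    have : ∀ n : ℕ, g ^ n • g • p ∈ D := fun n => by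
      induction n with
      | zero => simpa using k
      | succ n ih => rw [pow_succ', mul_smul]; exact h _ ih
    have e := this (orderOf g - 1)
    rwa [← mul_smul, ← pow_succ, Nat.sub_add_cancel (orderOf_pos g), pow_orderOf_eq_one, one_smul]
      at e, h p⟩

omit [Finite G] in
theorem mem_fixing : g ∈ fixingSubgroup G D ↔ ∀ p ∈ D, g • p = p := mem_fixingSubgroup_iff G

theorem fixing_le (D : Set Ω) : fixingSubgroup G D ≤ stabilizer G D := fun _ hg =>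
  mem_stab_of fun p hp => by rwa [mem_fixing.1 hg p hp]

omit [Finite G] in
theorem stab_le_norm (D : Set Ω) : stabilizer G D ≤ N[fixingSubgroup G D] :=
  le_norm_of_conj fun b hb a ha => mem_fixing.2 fun p hp => by
    rw [mul_smul, mul_smul, mem_fixing.1 ha _ (smul_mem_stab (inv_mem hb) hp), smul_inv_smul]

omit [Finite G] in
theorem conj_fixing (g : G) (D : Set Ω) :
    conj g • fixingSubgroup G D = fixingSubgroup G (g • D) := by
  ext x
  rw [mem_conj_smul, mem_fixing, mem_fixing]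
  refine ⟨fun h => ?_, fun h p hp => ?_⟩
  · rintro _ ⟨p, hp, rfl⟩
    have := h p hp
    rwa [mul_smul, mul_smul, inv_smul_eq_iff] at this
  · rw [mul_smul, mul_smul, h _ (Set.smul_mem_smul_set hp), inv_smul_smul]

omit [Finite G] in
theorem relIndex_fixing_dvd [Finite Ω] (hR : R ≤ stabilizer G D) :
    (fixingSubgroup G D).relIndex R ∣ D.ncard.factorial := by
  let ψ := (toPermHom (stabilizer G D) D).comp (inclusion hR)
  have : ψ.ker = (fixingSubgroup G D).subgroupOf R := by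
    ext x
    rw [MonoidHom.mem_ker, mem_subgroupOf, mem_fixing, Equiv.ext_iff]
    exact ⟨fun h p hp => congrArg Subtype.val (h ⟨p, hp⟩), fun h p => Subtype.ext (h p p.2)⟩
  rw [relIndex, ← this, index_ker, ← Nat.card_coe_set_eq, ← Nat.card_perm]
  exact card_subgroup_dvd_card _

omit [Finite G] in
theorem stab_ne_top [FaithfulSMul G Ω] [IsPretransitive G Ω] (hp : p ∈ D)
    (hy : y ∈ fixingSubgroup G D) (h1 : y ≠ 1) : stabilizer G D ≠ ⊤ := fun e =>
  h1 (eq_of_smul_eq_smul fun q => by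
    obtain ⟨g, rfl⟩ := exists_smul_eq G p q
    rw [one_smul, mem_fixing.1 hy _ (smul_mem_stab (e ▸ mem_top g) hp)])

omit [Finite G] in
theorem exists_fix [Finite Ω] (h4 : D.ncard ≤ 4) (hc : c ∈ stabilizer G D)
    (hK : c ∉ fixingSubgroup G D) (h3 : c ^ 3 = 1) (hw : w ∈ stabilizer G D) :
    ∃ (i : ℕ) (p : Ω), (c ^ i * w) • p = p := by
  classical
  obtain ⟨e, he, h1⟩ : ∃ e ∈ D, c • e ≠ e := by simpa [mem_fixing] using hK
  have h0 : c • c • c • e = e := by rw [← mul_smul, ← mul_smul, ← pow_three', h3, one_smul]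
  have h2 : c • c • e ≠ e := fun k => h1 (by rwa [k] at h0)
  have h3' : c • c • e ≠ c • e := by simpa using h1
  let O : Set Ω := {e, c • e, c • c • e}
  have hO : O ⊆ D := by
    rintro _ (rfl | rfl | rfl)
    exacts [he, smul_mem_stab hc he, smul_mem_stab hc (smul_mem_stab hc he)]
  have cO : O.ncard = 3 := Set.ncard_eq_three.2 ⟨_, _, _, h1.symm, h2.symm, h3'.symm, rfl⟩
  obtain ⟨p, hp, hp'⟩ : ∃ p ∈ O, w • p ∈ O := by
    by_contra k
    push Not at k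
    have := Set.ncard_le_ncard_of_injOn (s := O) (t := D \ O) (fun p => w • p)
      (fun p hp => ⟨smul_mem_stab hw (hO hp), k p hp⟩) fun _ _ _ _ e => MulAction.injective w e
    rw [Set.ncard_sdiff hO] at this
    omega
  have key : ∀ q ∈ O, ∃ i : ℕ, c ^ i • q = e := by
    rintro _ (rfl | rfl | rfl)
    exacts [⟨0, by simp⟩, ⟨2, by rw [pow_two, mul_smul, h0]⟩, ⟨1, by rw [pow_one, h0]⟩]
  obtain ⟨i, hi⟩ := key _ hp'
  obtain ⟨j, hj⟩ := key _ hp
  refine ⟨2 * j + i, p, ?_⟩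
  rw [mul_smul, pow_add, mul_smul, hi, ← hj, ← mul_smul, ← pow_add,
    show 2 * j + j = 3 * j by ring, pow_mul, h3, one_pow, one_smul]

theorem partB [Finite Ω] [FaithfulSMul G Ω] [IsPretransitive G Ω] (hG : commutator G = ⊤)
    (hfix : ∀ g : G, g ≠ 1 → (fixedBy Ω g).ncard ≤ 4) (a : Ω) (ho : Odd (Nat.card (stabilizer G a)))
    (h3 : 3 ∣ Nat.card (stabilizer G a)) (P : Sylow 3 G) :
    (∃ H : Subgroup G, H ≠ ⊤ ∧ 3 ∣ Nat.card H ∧ ∀ g : G, g ∉ H → ¬ 3 ∣ Nat.card ↥(H ⊓ conj g • H)) ∨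
    (Nat.card P = 9 ∧ ∀ x ∈ (P : Subgroup G), x ^ 3 = 1) := by
  obtain ⟨x0, hx0, h0⟩ := exists_orderOf_eq_prime Nat.prime_three h3
  obtain ⟨x, hx, hm⟩ := Set.exists_max_image {x : G | orderOf x = 3}
    (fun x => (fixedBy Ω x).ncard) (Set.toFinite _) ⟨x0, h0⟩
  have x1 : x ≠ 1 := by rintro rfl; simp at hx
  have h4 := hfix x x1
  have hxK : x ∈ fixingSubgroup G (fixedBy Ω x) := mem_fixing.2 fun _ h => h
  obtain ⟨p, hp⟩ : (fixedBy Ω x).Nonempty := Set.nonempty_of_ncard_ne_zero fun e => by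
    have := hm x0 h0
    exact ((Set.ncard_pos (s := fixedBy Ω x0) (Set.toFinite _)).2 ⟨a, hx0⟩).not_ge (e ▸ this)
  have key : ∀ y ∈ fixingSubgroup G (fixedBy Ω x), y ≠ 1 → y ^ 3 = 1 → fixedBy Ω y = fixedBy Ω x :=
    fun y hy h1 h3 => (Set.eq_of_subset_of_ncard_le (mem_fixing.1 hy)
      (hm y (orderOf_eq_prime h3 h1))).symm
  refine T3.main (K := fixingSubgroup G (fixedBy Ω x)) ⟨fixing_le _, stab_le_norm _,
    fun y hy h1 h3 g hg => ?_, fun R hR hP => ?_, fun c hc hK h3 w hw => ?_⟩ hG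
    (stab_ne_top hp hxK x1) (hx ▸ orderOf_dvd_card_of_mem hxK) P
  · rw [mem_stabilizer_iff, ← key y hy h1 h3, smul_fixedBy,
      key _ hg (by simpa using h1) (conj_pow_eq_one h3 g), key y hy h1 h3]
  · obtain ⟨k, hk⟩ := IsPGroup.relIndex_eq hP (fixingSubgroup G (fixedBy Ω x))
    have := (relIndex_fixing_dvd hR).trans (Nat.factorial_dvd_factorial h4)
    rw [hk] at this ⊢
    rcases Nat.lt_or_ge k 2 with k' | k'
    · interval_cases k <;> norm_num
    · exact absurd ((pow_dvd_pow 3 k').trans this) (by decide)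
  · obtain ⟨i, q, e⟩ := exists_fix h4 hc hK h3 hw
    obtain ⟨g, rfl⟩ := exists_smul_eq G a q
    refine ⟨i, ho.of_dvd_nat ?_⟩
    rw [← card_conj_smul g, ← stabilizer_smul_eq]
    exact orderOf_dvd_card_of_mem e

end Cfsg.Agent.Fx4
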