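import Cfsg.Agent.H9.FxThree
import Cfsg.Prelude.Def_Involutions

/-! Subgroup versions of the rank lemmas; counting lemmas for actions; the case `f ≤ 3`. -/

set_option autoImplicit false

namespace Cfsg.Agent.Fx4

open Subgroup Cfsg.Agent.H7 MulAction
open MulAut (conj)
open scoped Pointwise commutatorElement

universe u
variable {G : Type u} [Group G] [Finite G] {A N K R S T V W X : Subgroup G} {c d g r t w y z : G}

omit [Finite G] in
theorem card_subOf (H S : Subgroup G) : Nat.card (H.subgroupOf S) = Nat.card ↥(H ⊓ S) := by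
  rw [← subgroupOf_map_subtype, card_map_of_injective S.subtype_injective]

omit [Finite G] in
theorem card_subOf' (h : A ≤ S) : Nat.card (A.subgroupOf S) = Nat.card A := by
  rw [card_subOf, inf_of_le_left h]

omit [Finite G] in
theorem norm_subOf (h : A ≤ S) : N[A.subgroupOf S] = (N[A]).subgroupOf S :=
  (subgroupOf_normalizer_eq h).symm

theorem lemA' (hS : IsPGroup 2 S) (ht : t ∈ S) (h1 : t ≠ 1) (h2 : t * t = 1)
    (h : Nat.card ↥(C₁[t] ⊓ S) ≤ 8) : SR 4 S :=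
  SR.of_top (lemA hS (t := ⟨t, ht⟩) (by simpa using h1) (Subtype.ext h2) (by rwa [card_cent1_coe]))

omit [Finite G] in
theorem ti16 (hS : IsPGroup 2 S) (hA : A ≤ S) (c16 : Nat.card A = 16) (hc : A ≤ C[A]) (hV : V ≤ A)
    (c4 : Nat.card V = 4) (ti : ∀ h ∈ S, ∀ v ∈ V, v ≠ 1 → h * v * h⁻¹ ∈ V → h ∈ N[V]) :
    TI16 (A.subgroupOf S) (V.subgroupOf S) :=
  ⟨hS, by rw [card_subOf' hA, c16], le_cent_iff.2 fun _ hb _ ha =>
    Subtype.ext (le_cent_iff.1 hc _ hb _ ha), comap_mono hV, by rw [card_subOf' (hV.trans hA), c4],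
    fun h v hv h1 hh => by
      rw [norm_subOf (hV.trans hA)]
      exact ti h h.2 v hv (by simpa using h1) hh⟩

theorem lemE' (hS : IsPGroup 2 S) (hT : T ≤ S) (h4 : Nat.card T = 4) (sq : ∀ x ∈ T, x * x = 1)
    (h8 : Nat.card ↥(N[T] ⊓ S) ≤ 8) (h16 : ∀ x ∈ T, x ≠ 1 → Nat.card ↥(C₁[x] ⊓ S) ≤ 16)
    (fus : (∀ x ∈ T, x ≠ 1 → Nat.card ↥(C₁[x] ⊓ S) = 16) →
      ∀ h ∈ S, ∀ x ∈ T, h * x * h⁻¹ ∈ T → h * x * h⁻¹ = x) : SR 4 S :=
  SR.of_top (lemE hS (T := T.subgroupOf S) (by rw [card_subOf' hT, h4])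
    (fun x hx => Subtype.ext (sq x hx)) (by rwa [norm_subOf hT, card_subOf])
    (fun x hx h1 => by rw [card_cent1_coe x.2]; exact h16 x hx (by simpa using h1))
    fun k h x hx hh => Subtype.ext (fus (fun y hy h1 => by
      rw [← card_cent1_coe (hT hy)]; exact k _ hy (by simpa using h1)) h h.2 x hx hh))

theorem SR.of_unique (hS : IsPGroup 2 S)
    (h : ∀ x ∈ S, ∀ y ∈ S, x ≠ 1 → x * x = 1 → y ≠ 1 → y * y = 1 → x = y) : SR 2 S := by
  have key : ∀ a : S, (Subgroup.zpowers a).index ≤ 2 → SR 2 S := fun a ha =>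
    SR.of_top ((SR.zpowers a).of_relIndex (b := 1) (by simpa using ha))
  rcases H5.cyclic_or_maxClass hS (fun ⟨z, y, h1, h2, _, h3, h4, _⟩ => h3 (by
    by_cases e : y = 1
    · simp [e]
    · rw [show y = z from Subtype.ext (h _ y.2 _ z.2 (by simpa using e)
        (congrArg Subtype.val (pow_two y ▸ h4)) (by simpa using h1)
        (congrArg Subtype.val (pow_two z ▸ h2)))]
      exact mem_zpowers z)) with ⟨a, ha⟩ | ⟨-, n, a, x, -, ha, -⟩
  · exact key a (by rw [(eq_top_iff' (Subgroup.zpowers a)).2 ha, index_top]; norm_num)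
  · exact key a ha.le

theorem exists_invol (hS : IsPGroup 2 S) (h : S ≠ ⊥) : ∃ x ∈ S, x ≠ 1 ∧ x * x = 1 := by
  obtain ⟨y, hy, h1⟩ := exists_ne_one_of_ne_bot h
  obtain ⟨n, h2, h3⟩ := exists_pow_order hS hy h1
  exact ⟨_, pow_mem hy n, h2, pow_two (y ^ n) ▸ h3⟩

theorem exists_central' (hS : IsPGroup 2 S) (hA : A ≤ S) (hn : S ≤ N[A]) (h : A ≠ ⊥) :
    ∃ z ∈ A, z ≠ 1 ∧ z * z = 1 ∧ z ∈ C[S] := by
  obtain ⟨z, hz, h1, h2⟩ := exists_mem_center_pgroup hS ⟨hA, hn⟩ h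
  exact ⟨z, hz, fun e => by simp [e] at h2, by rw [← pow_two, ← h2, pow_orderOf_eq_one], h1⟩

theorem card_le_of_lt {k : ℕ} (hS : IsPGroup 2 S) (h : Nat.card S < 2 ^ (k + 1)) :
    Nat.card S ≤ 2 ^ k :=
  pow_two_le_of_lt hS.exists_card_eq h

omit [Finite G] in
theorem conj_sq (h : c * c = 1) (g : G) : g * c * g⁻¹ * (g * c * g⁻¹) = 1 := by
  rw [conj_mul, h]; simp

omit [Finite G] in
theorem pg_zpowers (h : c * c = 1) : IsPGroup 2 (zpowers c) :=
  isPGroup_zpowers (k := 1) (by rwa [pow_one, pow_two])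

omit [Finite G] in
theorem mem_conj_cent1 (hb : w ∈ conj g • C₁[c]) : w * (g * c * g⁻¹) * w⁻¹ = g * c * g⁻¹ := by
  rw [conj_smul_cent1] at hb
  rw [mem_cent1_iff.1 hb, mul_inv_cancel_right]

theorem odd_index (hS : IsSylowIn 2 S ⊤) : Odd S.index := by
  have := hS.not_dvd
  rw [relIndex_top_right] at this
  exact Nat.odd_iff.2 (by omega)

theorem stronglyEmbedded (hN : N ≠ ⊤) (ht : t ∈ N) (h1 : t ≠ 1) (h2 : t * t = 1)
    (h : ∀ g : G, ∀ c ∈ N, c ≠ 1 → c * c = 1 → g * c * g⁻¹ ∈ N → g ∈ N) :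
    Cfsg.IsStronglyEmbedded N := by
  refine ⟨hN, even_iff_two_dvd.2 (orderOf_eq_prime (pow_two t ▸ h2) h1 ▸ orderOf_dvd_card_of_mem ht),
    fun g hg => Nat.not_even_iff_odd.1 fun k => hg ?_⟩
  rw [← conj_smul_eq_map] at k
  obtain ⟨y, hy, hy2⟩ := exists_orderOf_eq_prime Nat.prime_two (even_iff_two_dvd.1 k)
  obtain ⟨b, hb, rfl⟩ := mem_conj_smul_iff_exists.1 hy.2
  refine h g b hb (by rintro rfl; simp at hy2) ?_ hy.1
  have := conj_sq (c := g * b * g⁻¹) (by rw [← pow_two, ← hy2, pow_orderOf_eq_one]) g⁻¹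
  simpa [mul_assoc] using this

theorem dih_or_qd (hS : IsPGroup 2 S) {a b : G} (ha : a ∈ S) (hb : b ∈ S) (a1 : a ≠ 1)
    (a2 : a * a = 1) (b1 : b ≠ 1) (b2 : b * b = 1) (hab : b ≠ a) (hab' : b * a = a * b)
    (h4 : Nat.card ↥(C₁[a] ⊓ S) ≤ 4) :
    (∃ n : ℕ, Nonempty (S ≃* DihedralGroup n)) ∨ Cfsg.IsQuasiDihedral S := by
  have k := card_sup_zpowers (le_norm_zpowers le_rfl (mem_cent1_iff.2 hab'))
    (by rw [mem_zpowers_invol a2]; tauto) (by rw [b2]; exact one_mem _)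
  rw [card_zpowers_invol a1 a2] at k
  have k1 : zpowers a ⊔ zpowers b ≤ C₁[a] ⊓ S := sup_le (zpowers_le_of_mem ⟨mem_cent1_self a, ha⟩)
    (zpowers_le_of_mem ⟨mem_cent1_iff.2 hab', hb⟩)
  have k2 := card_le_of_le' k1
  refine H9.dihedral_or_quasiDihedral_of_card_centralizer hS (fun hc => ?_) (a := ⟨_, ha⟩)
    (orderOf_eq_prime (by rw [pow_two]; exact Subtype.ext a2) (by simpa using a1)) ?_
  · refine Abelem.not_cyclic (p := 2) ((Abelem.zpowers (pow_two a ▸ a2)).sup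
      (Abelem.zpowers (pow_two b ▸ b2)) ?_) (by rw [k]; norm_num)
      (isCyclic_of_injective (inclusion (k1.trans inf_le_right)) (inclusion_injective _))
    rw [cent_zpowers]; exact zpowers_le_of_mem (mem_cent1_iff.2 hab')
  · rw [card_cent1_coe]; omega

/-- the case of involutions with at most three fixed points -/
theorem caseLE3 (hG : commutator G = ⊤) (hle : K ≤ N) (hn : N ≤ N[K]) (hN : N ≠ ⊤) (ht : t ∈ K)
    (h1 : t ≠ 1) (h2 : t * t = 1)
    (ti : ∀ y ∈ K, y ≠ 1 → y * y = 1 → ∀ g, g * y * g⁻¹ ∈ K → g ∈ N)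
    (idx : ∀ R ≤ N, IsPGroup 2 R → K.relIndex R ≤ 2) (S : Sylow 2 G) :
    Cfsg.IsStronglyEmbedded N ∨ (∃ n : ℕ, Nonempty ((S : Subgroup G) ≃* DihedralGroup n)) ∨
      Cfsg.IsQuasiDihedral (S : Subgroup G) := by
  by_cases k : ∀ c ∈ N, c * c = 1 → c ∈ K
  · exact Or.inl (stronglyEmbedded hN (hle ht) h1 h2 fun g c hc c1 c2 hg =>
      ti c (k c hc c2) c1 c2 g (k _ hg (conj_sq c2 g)))
  push Not at k
  obtain ⟨c, hc, c2, hK⟩ := k
  right
  have ti' : ∀ R : Subgroup G, IsPGroup 2 R → ∀ y ∈ R, y ∈ K → y ≠ 1 → ∀ g, g * y * g⁻¹ ∈ K → g ∈ N :=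
    fun R hR y hy hK h1 g hg => by
      obtain ⟨n, h2, h3⟩ := exists_pow_order hR hy h1
      exact ti _ (pow_mem hK n) h2 (pow_two (y ^ n) ▸ h3) g (by rw [← conj_pow]; exact pow_mem hg n)
  obtain ⟨R, hA, hR⟩ := exists_isSylowIn_ge (pg_zpowers c2) (zpowers_le_of_mem hc)
  have hcR := hA (mem_zpowers c)
  have hQ := hR.inf_normal' ⟨hle, hn⟩
  obtain ⟨z, hz, z1, z2, zc⟩ := exists_central' hR.isPGroup inf_le_right
    (le_norm_inf (hR.le.trans hn) (le_norm_self R))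
    (hQ.ne_bot (orderOf_eq_prime (pow_two t ▸ h2) h1 ▸ orderOf_dvd_card_of_mem ht))
  have c1 : c ≠ 1 := fun e => hK (e ▸ one_mem K)
  have hcz : c * z = z * c := comm_of_mem_cent zc hcR
  obtain ⟨S', hRS, hS'⟩ := exists_isSylowIn_ge hR.isPGroup le_top
  have iR := card_inf_mul_relIndex K R
  have iR' := idx R hR.le hR.isPGroup
  obtain ⟨a, b, ha, hb, a1, a2, b1, b2, hab, hab', h4⟩ : ∃ a b : G, a ∈ S' ∧ b ∈ S' ∧ a ≠ 1 ∧
      a * a = 1 ∧ b ≠ 1 ∧ b * b = 1 ∧ b ≠ a ∧ b * a = a * b ∧ Nat.card ↥(C₁[a] ⊓ S') ≤ 4 := by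
    by_cases e : Nat.card ↥(K ⊓ R) ≤ 2
    · refine ⟨z, c, hRS hz.2, hRS hcR, z1, z2, c1, c2, fun e => hK (e ▸ hz.1), hcz, ?_⟩
      refine (Nat.le_of_dvd (card_pos' _) (hR.card_dvd (fun b hb => ti z hz.1 z1 z2 b ?_)
        (hS'.isPGroup.to_le inf_le_right))).trans (by nlinarith)
      rw [mem_cent1_iff.1 hb.1, mul_inv_cancel_right]; exact hz.1
    have hS : IsSylowIn 2 R ⊤ := by
      refine IsSylowIn.of_norm (hR.mono (le_inf le_top (le_norm_self R)) fun s hs => ?_)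
      have k2 : conj s • (K ⊓ R) ≤ R := conj_smul_le_of_norm hs.2 inf_le_right
      have k3 := card_inf_mul_relIndex K (conj s • (K ⊓ R))
      have k4 := idx _ (k2.trans hR.le) (hR.isPGroup.to_le k2)
      rw [card_conj_smul] at k3
      obtain ⟨y, hy, h1⟩ := exists_ne_one_of_ne_bot (A := K ⊓ conj s • (K ⊓ R)) fun e => by
        rw [e, card_bot] at k3
        omega
      obtain ⟨b, hb, rfl⟩ := mem_conj_smul_iff_exists.1 hy.2
      exact ti' R hR.isPGroup b hb.2 hb.1 (by simpa using h1) s hy.1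
    obtain rfl := hS.eq_of_le hS'.isPGroup hRS le_top
    obtain ⟨g, hg⟩ := thompson hG (odd_index hS) inf_le_right (M := K ⊓ S') (by nlinarith) hcR c2
    refine ⟨c, z, hcR, hz.2, c1, c2, z1, z2, fun e => hK (e ▸ hz.1), hcz.symm, ?_⟩
    have k1 := card_inf_mul_relIndex K (C₁[c] ⊓ S')
    have k2 := idx _ (inf_le_right.trans hR.le) (hR.isPGroup.to_le (inf_le_right : C₁[c] ⊓ S' ≤ _))
    have hP := hR.isPGroup.to_le (inf_le_right.trans inf_le_right : K ⊓ (C₁[c] ⊓ S') ≤ _)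
    have hg' : g⁻¹ * c * g⁻¹⁻¹ ∈ K := by simpa using hg.1
    have k3 := idx _ (fun b hb => ti _ hg' (mt conj_eq_one_iff.1 c1) (conj_sq c2 _) b (by
      rwa [mem_conj_cent1 (conj_smul_mono _ (inf_le_right.trans inf_le_left) hb)]))
      (IsPGroup.conj_smul hP g⁻¹)
    rw [relIndex_of_inf_eq_bot (inf_eq_bot_of_forall fun b h1 h2 => ?_), card_conj_smul] at k3
    · nlinarith
    by_contra h4
    obtain ⟨b, hb, rfl⟩ := mem_conj_smul_iff_exists.1 h2
    exact hK (mem_of_conj_mem_of_norm (hn (ti' _ hP b hb hb.1 (mt conj_eq_one_iff.2 h4) _ h1)) hg')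
  obtain ⟨g, -, hg⟩ := hS'.exists_conj (isSylowIn_top S)
  have ha' : g * a * g⁻¹ ∈ (S : Subgroup G) := hg ▸ conj_mem_conj_smul.2 ha
  have hb' : g * b * g⁻¹ ∈ (S : Subgroup G) := hg ▸ conj_mem_conj_smul.2 hb
  rw [← card_conj_smul g, conj_smul_inf, conj_smul_cent1, hg] at h4
  exact dih_or_qd S.isPGroup' ha' hb' (by simpa using a1) (conj_sq a2 g) (by simpa using b1)
    (conj_sq b2 g) (by simpa using hab) (by rw [conj_mul, conj_mul, hab']) h4

end Cfsg.Agent.Fx4
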