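import Cfsg.Agent.H4.TC

/-!
# Coset enumerations for a presentation of a cover of `G₂(2)`
-/

set_option autoImplicit false
set_option maxRecDepth 100000
set_option linter.unusedSimpArgs false

namespace Cfsg.Agent.G22

open Cfsg.Agent.H4

/-- Certificate data. -/
def pb_par : Trie :=
    (.node (.node (.node (.node (.node (.node (.leaf (nat_lit 0)) (.leaf (nat_lit 1283))) (.node
    (.leaf (nat_lit 518)) (.leaf (nat_lit 3848)))) (.node (.node (.leaf (nat_lit 260)) (.leaf
    (nat_lit 2312))) (.node (.leaf (nat_lit 1025)) (.leaf (nat_lit 5379))))) (.node (.node (.node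
    (.leaf (nat_lit 6)) (.leaf (nat_lit 1541))) (.node (.leaf (nat_lit 774)) (.leaf (nat_lit
    5122)))) (.node (.node (.leaf (nat_lit 264)) (.leaf (nat_lit 3077))) (.leaf (nat_lit 1032)))))
    (.node (.node (.node (.node (.leaf (nat_lit 2)) (.leaf (nat_lit 1288))) (.node (.leaf (nat_lit
    520)) (.leaf (nat_lit 4101)))) (.node (.node (.leaf (nat_lit 262)) (.leaf (nat_lit 2565)))
    (.leaf (nat_lit 1027)))) (.node (.node (.node (.leaf (nat_lit 8)) (.leaf (nat_lit 2310)))
    (.node (.leaf (nat_lit 776)) (.leaf (nat_lit 5129)))) (.node (.node (.leaf (nat_lit 516))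
    (.leaf (nat_lit 3846))) (.leaf (nat_lit 1281)))))) (.node (.node (.node (.node (.node (.leaf
    (nat_lit 1)) (.leaf (nat_lit 1285))) (.node (.leaf (nat_lit 519)) (.leaf (nat_lit 3849))))
    (.node (.node (.leaf (nat_lit 261)) (.leaf (nat_lit 2313))) (.node (.leaf (nat_lit 1026))
    (.leaf (nat_lit 5385))))) (.node (.node (.node (.leaf (nat_lit 7)) (.leaf (nat_lit 1797)))
    (.node (.leaf (nat_lit 775)) (.leaf (nat_lit 5123)))) (.node (.node (.leaf (nat_lit 265))
    (.leaf (nat_lit 3333))) (.leaf (nat_lit 1033))))) (.node (.node (.node (.node (.leaf (nat_lit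
    5)) (.leaf (nat_lit 1289))) (.node (.leaf (nat_lit 521)) (.leaf (nat_lit 4357)))) (.node (.node
    (.leaf (nat_lit 263)) (.leaf (nat_lit 2821))) (.leaf (nat_lit 1029)))) (.node (.node (.node
    (.leaf (nat_lit 9)) (.leaf (nat_lit 2311))) (.node (.leaf (nat_lit 777)) (.leaf (nat_lit
    5377)))) (.node (.node (.leaf (nat_lit 517)) (.leaf (nat_lit 3847))) (.leaf (nat_lit
    1282)))))))

/-- Certificate data. -/
def pb_fact : Trie :=
    (.node (.node (.node (.node (.node (.node (.node (.node (.leaf (nat_lit 3)) (.leaf (nat_lit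
    715779))) (.node (.leaf (nat_lit 399881)) (.leaf (nat_lit 455430)))) (.node (.node (.leaf
    (nat_lit 102913)) (.leaf (nat_lit 845830))) (.leaf (nat_lit 286728)))) (.node (.node (.node
    (.leaf (nat_lit 147717)) (.leaf (nat_lit 717572))) (.node (.leaf (nat_lit 138498)) (.leaf
    (nat_lit 555011)))) (.node (.node (.leaf (nat_lit 410626)) (.leaf (nat_lit 766984))) (.leaf
    (nat_lit 591365))))) (.node (.node (.node (.node (.leaf (nat_lit 81927)) (.leaf (nat_lit
    667650))) (.node (.leaf (nat_lit 166660)) (.leaf (nat_lit 906497)))) (.node (.node (.leaf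
    (nat_lit 251140)) (.leaf (nat_lit 645897))) (.leaf (nat_lit 532994)))) (.node (.node (.node
    (.leaf (nat_lit 118018)) (.leaf (nat_lit 207109))) (.node (.leaf (nat_lit 496388)) (.leaf
    (nat_lit 784643)))) (.node (.node (.leaf (nat_lit 220164)) (.leaf (nat_lit 405253))) (.leaf
    (nat_lit 674057)))))) (.node (.node (.node (.node (.node (.leaf (nat_lit 49157)) (.leaf
    (nat_lit 757510))) (.node (.leaf (nat_lit 135176)) (.leaf (nat_lit 636417)))) (.node (.node
    (.leaf (nat_lit 119553)) (.leaf (nat_lit 632580))) (.leaf (nat_lit 541957)))) (.node (.node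
    (.node (.leaf (nat_lit 196872)) (.leaf (nat_lit 683008))) (.node (.leaf (nat_lit 492801))
    (.leaf (nat_lit 939273)))) (.node (.node (.leaf (nat_lit 234501)) (.leaf (nat_lit 551431)))
    (.leaf (nat_lit 624902))))) (.node (.node (.node (.node (.leaf (nat_lit 114697)) (.leaf
    (nat_lit 823301))) (.node (.leaf (nat_lit 166663)) (.leaf (nat_lit 849668)))) (.node (.node
    (.leaf (nat_lit 366340)) (.leaf (nat_lit 845320))) (.leaf (nat_lit 287490)))) (.node (.node
    (.node (.leaf (nat_lit 52993)) (.leaf (nat_lit 338697))) (.leaf (nat_lit 514308))) (.node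
    (.node (.leaf (nat_lit 400387)) (.leaf (nat_lit 537861))) (.leaf (nat_lit 354817))))))) (.node
    (.node (.node (.node (.node (.node (.leaf (nat_lit 32770)) (.leaf (nat_lit 740613))) (.node
    (.leaf (nat_lit 265220)) (.leaf (nat_lit 889865)))) (.node (.node (.leaf (nat_lit 311817))
    (.leaf (nat_lit 550401))) (.leaf (nat_lit 136453)))) (.node (.node (.node (.leaf (nat_lit
    164102)) (.leaf (nat_lit 104197))) (.node (.leaf (nat_lit 204036)) (.leaf (nat_lit 784392))))
    (.node (.node (.leaf (nat_lit 427011)) (.leaf (nat_lit 862468))) (.leaf (nat_lit 599299)))))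
    (.node (.node (.node (.node (.leaf (nat_lit 82950)) (.leaf (nat_lit 684290))) (.node (.leaf
    (nat_lit 232200)) (.leaf (nat_lit 489221)))) (.node (.node (.leaf (nat_lit 361224)) (.leaf
    (nat_lit 831747))) (.leaf (nat_lit 516611)))) (.node (.node (.node (.leaf (nat_lit 246277))
    (.leaf (nat_lit 223237))) (.leaf (nat_lit 499458))) (.node (.node (.leaf (nat_lit 268552))
    (.leaf (nat_lit 632583))) (.leaf (nat_lit 387330)))))) (.node (.node (.node (.node (.node
    (.leaf (nat_lit 65542)) (.leaf (nat_lit 790280))) (.node (.leaf (nat_lit 411656)) (.leaf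
    (nat_lit 636419)))) (.node (.node (.leaf (nat_lit 152580)) (.leaf (nat_lit 829186))) (.leaf
    (nat_lit 558344)))) (.node (.node (.node (.leaf (nat_lit 213257)) (.leaf (nat_lit 710150)))
    (.node (.leaf (nat_lit 400900)) (.leaf (nat_lit 456961)))) (.node (.node (.leaf (nat_lit
    252675)) (.leaf (nat_lit 454402))) (.leaf (nat_lit 657672))))) (.node (.node (.node (.node
    (.leaf (nat_lit 100099)) (.leaf (nat_lit 839941))) (.node (.leaf (nat_lit 282628)) (.leaf
    (nat_lit 922883)))) (.node (.node (.leaf (nat_lit 394241)) (.leaf (nat_lit 848898))) (.leaf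
    (nat_lit 303876)))) (.node (.node (.node (.leaf (nat_lit 279047)) (.leaf (nat_lit 762373)))
    (.leaf (nat_lit 525571))) (.node (.node (.leaf (nat_lit 268801)) (.leaf (nat_lit 718082)))
    (.leaf (nat_lit 723973)))))))) (.node (.node (.node (.node (.node (.node (.node (.leaf (nat_lit
    16385)) (.leaf (nat_lit 617223))) (.node (.leaf (nat_lit 202759)) (.leaf (nat_lit 636168))))
    (.node (.node (.leaf (nat_lit 201218)) (.leaf (nat_lit 762121))) (.leaf (nat_lit 139267))))
    (.node (.node (.node (.leaf (nat_lit 51458)) (.leaf (nat_lit 386048))) (.node (.leaf (nat_lit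
    171265)) (.leaf (nat_lit 653314)))) (.node (.node (.leaf (nat_lit 399618)) (.leaf (nat_lit
    860424))) (.leaf (nat_lit 608005))))) (.node (.node (.node (.node (.leaf (nat_lit 34052))
    (.leaf (nat_lit 806665))) (.node (.leaf (nat_lit 170504)) (.leaf (nat_lit 702209)))) (.node
    (.node (.leaf (nat_lit 349190)) (.leaf (nat_lit 717319))) (.leaf (nat_lit 320004)))) (.node
    (.node (.node (.leaf (nat_lit 229892)) (.leaf (nat_lit 715011))) (.node (.leaf (nat_lit
    509186)) (.leaf (nat_lit 940293)))) (.node (.node (.leaf (nat_lit 269314)) (.leaf (nat_lit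
    662278))) (.leaf (nat_lit 665865)))))) (.node (.node (.node (.node (.node (.leaf (nat_lit
    49923)) (.leaf (nat_lit 773895))) (.node (.leaf (nat_lit 219395)) (.leaf (nat_lit 669188))))
    (.node (.node (.leaf (nat_lit 328454)) (.leaf (nat_lit 646149))) (.leaf (nat_lit 155907))))
    (.node (.node (.node (.leaf (nat_lit 101378)) (.leaf (nat_lit 120325))) (.node (.leaf (nat_lit
    237065)) (.leaf (nat_lit 784642)))) (.node (.node (.leaf (nat_lit 443397)) (.leaf (nat_lit
    781828))) (.leaf (nat_lit 641287))))) (.node (.node (.node (.node (.leaf (nat_lit 100100))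
    (.leaf (nat_lit 700931))) (.node (.leaf (nat_lit 233730)) (.leaf (nat_lit 816899)))) (.node
    (.node (.leaf (nat_lit 366339)) (.leaf (nat_lit 857090))) (.leaf (nat_lit 238337)))) (.node
    (.node (.node (.leaf (nat_lit 262662)) (.leaf (nat_lit 716289))) (.leaf (nat_lit 286473)))
    (.node (.node (.leaf (nat_lit 433153)) (.leaf (nat_lit 455939))) (.leaf (nat_lit 707333)))))))
    (.node (.node (.node (.node (.node (.node (.leaf (nat_lit 16898)) (.leaf (nat_lit 617730)))
    (.node (.leaf (nat_lit 200198)) (.leaf (nat_lit 554498)))) (.node (.node (.leaf (nat_lit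
    217858)) (.leaf (nat_lit 630533))) (.leaf (nat_lit 532232)))) (.node (.node (.node (.leaf
    (nat_lit 180487)) (.leaf (nat_lit 369920))) (.node (.leaf (nat_lit 171267)) (.leaf (nat_lit
    833537)))) (.node (.node (.leaf (nat_lit 236035)) (.leaf (nat_lit 701444))) (.leaf (nat_lit
    599300))))) (.node (.node (.node (.node (.leaf (nat_lit 98312)) (.leaf (nat_lit 389377)))
    (.node (.leaf (nat_lit 184836)) (.leaf (nat_lit 456457)))) (.node (.node (.leaf (nat_lit
    377609)) (.leaf (nat_lit 807429))) (.leaf (nat_lit 574729)))) (.node (.node (.node (.leaf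
    (nat_lit 151298)) (.leaf (nat_lit 791301))) (.leaf (nat_lit 139015))) (.node (.node (.leaf
    (nat_lit 460294)) (.leaf (nat_lit 873475))) (.leaf (nat_lit 690693)))))) (.node (.node (.node
    (.node (.node (.leaf (nat_lit 17412)) (.leaf (nat_lit 372737))) (.node (.leaf (nat_lit 133633))
    (.leaf (nat_lit 892421)))) (.node (.node (.leaf (nat_lit 344839)) (.leaf (nat_lit 796419)))
    (.leaf (nat_lit 188929)))) (.node (.node (.node (.leaf (nat_lit 199945)) (.leaf (nat_lit
    666880))) (.node (.leaf (nat_lit 494345)) (.leaf (nat_lit 801028)))) (.node (.node (.leaf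
    (nat_lit 459784)) (.leaf (nat_lit 700168))) (.leaf (nat_lit 370690))))) (.node (.node (.node
    (.node (.leaf (nat_lit 131332)) (.leaf (nat_lit 340738))) (.node (.leaf (nat_lit 476169))
    (.leaf (nat_lit 440325)))) (.node (.node (.leaf (nat_lit 169993)) (.leaf (nat_lit 586757)))
    (.leaf (nat_lit 287491)))) (.node (.node (.node (.leaf (nat_lit 295432)) (.leaf (nat_lit
    667139))) (.leaf (nat_lit 188418))) (.node (.node (.leaf (nat_lit 396807)) (.leaf (nat_lit
    880130))) (.leaf (nat_lit 601090)))))))))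

/-- Certificate data. -/
def pb_just : Trie :=
    (.node (.node (.node (.node (.node (.node (.node (.node (.leaf (nat_lit 1)) (.leaf (nat_lit
    73870750367232202964996))) (.node (.leaf (nat_lit 103827411292061723)) (.leaf (nat_lit
    426429229597655047)))) (.node (.node (.leaf (nat_lit 24781063649951759)) (.leaf (nat_lit
    326076936474525703))) (.leaf (nat_lit 17711180191965527736359)))) (.node (.node (.node (.leaf
    (nat_lit 0)) (.leaf (nat_lit 73873693597269477359658))) (.node (.leaf (nat_lit
    158963675997339661)) (.leaf (nat_lit 59040593640555075141688)))) (.node (.node (.leaf (nat_lit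
    0)) (.leaf (nat_lit 355348255288262678))) (.leaf (nat_lit 0))))) (.node (.node (.node (.node
    (.leaf (nat_lit 0)) (.leaf (nat_lit 265832280617058315))) (.node (.leaf (nat_lit
    161069824880082950)) (.leaf (nat_lit 0)))) (.node (.node (.leaf (nat_lit 64200823248453638))
    (.leaf (nat_lit 377766270881431589))) (.leaf (nat_lit 223320488162820107)))) (.node (.node
    (.node (.leaf (nat_lit 27028388107714573)) (.leaf (nat_lit 557628489072642))) (.node (.leaf
    (nat_lit 3513619301546778106538368675938339)) (.leaf (nat_lit 473785783816486921)))) (.node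
    (.node (.leaf (nat_lit 49570858968219668)) (.leaf (nat_lit 50867133920883970998326))) (.leaf
    (nat_lit 0)))))) (.node (.node (.node (.node (.node (.leaf (nat_lit 0)) (.leaf (nat_lit 0)))
    (.node (.leaf (nat_lit 33867728389603357)) (.leaf (nat_lit 389068258277523472)))) (.node (.node
    (.leaf (nat_lit 27032889233440784)) (.leaf (nat_lit 366364880762241030))) (.leaf (nat_lit 0))))
    (.node (.node (.node (.leaf (nat_lit 0)) (.leaf (nat_lit 276484284842442754))) (.node (.leaf
    (nat_lit 0)) (.leaf (nat_lit 0)))) (.node (.node (.leaf (nat_lit 30162749364917118500883))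
    (.leaf (nat_lit 60052008130376618016799))) (.leaf (nat_lit 0))))) (.node (.node (.node (.node
    (.leaf (nat_lit 0)) (.leaf (nat_lit 0))) (.node (.leaf (nat_lit 42587343140191516033055))
    (.leaf (nat_lit 94674892227205520490529)))) (.node (.node (.leaf (nat_lit 94600155092942856))
    (.leaf (nat_lit 165527628271707226161))) (.leaf (nat_lit 209809732230381581)))) (.node (.node
    (.node (.leaf (nat_lit 9018422004482062)) (.leaf (nat_lit 87225575986626594))) (.leaf (nat_lit
    54029406918580780728353))) (.node (.node (.leaf (nat_lit 27160553012910501462039)) (.leaf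
    (nat_lit 55498816579216376922131))) (.leaf (nat_lit 222115603807404046))))))) (.node (.node
    (.node (.node (.node (.node (.leaf (nat_lit 0)) (.leaf (nat_lit 0))) (.node (.leaf (nat_lit
    128619233834893318)) (.leaf (nat_lit 0)))) (.node (.node (.leaf (nat_lit 0)) (.leaf (nat_lit
    186494182516418936876))) (.leaf (nat_lit 57367089735217552097299)))) (.node (.node (.node
    (.leaf (nat_lit 0)) (.leaf (nat_lit 496030068113410))) (.node (.leaf (nat_lit
    45067465499279368)) (.leaf (nat_lit 78542212475084874252327)))) (.node (.node (.leaf (nat_lit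
    0)) (.leaf (nat_lit 398145194916249620))) (.leaf (nat_lit 66129302123084622659588))))) (.node
    (.node (.node (.node (.leaf (nat_lit 21407551522537479)) (.leaf (nat_lit 270335906014232589)))
    (.node (.leaf (nat_lit 115165665392001054)) (.leaf (nat_lit 181702615841833003)))) (.node
    (.node (.leaf (nat_lit 0)) (.leaf (nat_lit 382354154947018799))) (.leaf (nat_lit
    224468378302218281)))) (.node (.node (.node (.leaf (nat_lit 0)) (.leaf (nat_lit
    575246444920834))) (.leaf (nat_lit 370204706209795))) (.node (.node (.leaf (nat_lit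
    128594898550194198)) (.leaf (nat_lit 97002622020035960700959))) (.leaf (nat_lit
    96903193866469389)))))) (.node (.node (.node (.node (.node (.leaf (nat_lit 0)) (.leaf (nat_lit
    0))) (.node (.leaf (nat_lit 156596977218551837)) (.leaf (nat_lit 435421469481304073)))) (.node
    (.node (.leaf (nat_lit 39431008118046725)) (.leaf (nat_lit 315504084201439242))) (.leaf
    (nat_lit 0)))) (.node (.node (.node (.leaf (nat_lit 0)) (.leaf (nat_lit 570814038671362)))
    (.node (.leaf (nat_lit 38759093080963600941089)) (.leaf (nat_lit 457996796841623568)))) (.node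
    (.node (.leaf (nat_lit 15377205629846206873604)) (.leaf (nat_lit 123307390081892405))) (.leaf
    (nat_lit 0))))) (.node (.node (.node (.node (.leaf (nat_lit 24769905324916745)) (.leaf (nat_lit
    0))) (.node (.leaf (nat_lit 174624690126651397)) (.leaf (nat_lit 0)))) (.node (.node (.leaf
    (nat_lit 0)) (.leaf (nat_lit 632610028126211))) (.leaf (nat_lit 69846300061007880)))) (.node
    (.node (.node (.leaf (nat_lit 0)) (.leaf (nat_lit 355209111232774189))) (.leaf (nat_lit 0)))
    (.node (.node (.leaf (nat_lit 251216932241433)) (.leaf (nat_lit 88592805682535760986150)))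
    (.leaf (nat_lit 0)))))))) (.node (.node (.node (.node (.node (.node (.node (.leaf (nat_lit 0))
    (.leaf (nat_lit 260642534194348058))) (.node (.leaf (nat_lit 24922065471872958492)) (.leaf
    (nat_lit 366629399208067094)))) (.node (.node (.leaf (nat_lit 45049460996374539)) (.leaf
    (nat_lit 359681907354697765))) (.leaf (nat_lit 2323283063214629607889633320)))) (.node (.node
    (.node (.leaf (nat_lit 9013938058625034)) (.leaf (nat_lit 13018253847476477517758503))) (.node
    (.leaf (nat_lit 106037584282714128)) (.leaf (nat_lit 110313103753145636683814)))) (.node (.node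
    (.leaf (nat_lit 202726751469571)) (.leaf (nat_lit 777638188810290))) (.leaf (nat_lit 0)))))
    (.node (.node (.node (.node (.leaf (nat_lit 4505871665266694)) (.leaf (nat_lit 0))) (.node
    (.leaf (nat_lit 161303286417391638)) (.leaf (nat_lit 549279072649241)))) (.node (.node (.leaf
    (nat_lit 91319165151019015)) (.leaf (nat_lit 92425944856452944691236))) (.leaf (nat_lit
    76601656552390676)))) (.node (.node (.node (.leaf (nat_lit 0)) (.leaf (nat_lit
    564225558839298))) (.node (.leaf (nat_lit 0)) (.leaf (nat_lit 128011892317330891669552))))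
    (.node (.node (.leaf (nat_lit 33439256297269886997)) (.leaf (nat_lit 157099654508437569591)))
    (.leaf (nat_lit 520004575559692)))))) (.node (.node (.node (.node (.node (.leaf (nat_lit
    2361183241473477640196)) (.leaf (nat_lit 0))) (.node (.leaf (nat_lit 53210263930994697)) (.leaf
    (nat_lit 265881174524755976)))) (.node (.node (.leaf (nat_lit 0)) (.leaf (nat_lit
    97291794480986123993134))) (.leaf (nat_lit 9462822087922284822532)))) (.node (.node (.node
    (.leaf (nat_lit 24776571114160139)) (.leaf (nat_lit 500445294493698))) (.node (.leaf (nat_lit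
    73314145239302406161)) (.leaf (nat_lit 413754647963172877)))) (.node (.node (.leaf (nat_lit 0))
    (.leaf (nat_lit 78555739656303692546100))) (.leaf (nat_lit 0))))) (.node (.node (.node (.node
    (.leaf (nat_lit 24772104348172296)) (.leaf (nat_lit 72702263226164771618820))) (.node (.leaf
    (nat_lit 77896647556248895520)) (.leaf (nat_lit 6927540211146307793019976127414329)))) (.node
    (.node (.leaf (nat_lit 94597956069687305)) (.leaf (nat_lit 0))) (.leaf (nat_lit
    191773343488344080)))) (.node (.node (.node (.leaf (nat_lit 0)) (.leaf (nat_lit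
    180515656347546812460))) (.leaf (nat_lit 175896266734239781))) (.node (.node (.leaf (nat_lit
    29521709223951466823704)) (.leaf (nat_lit 31294362183729257185336))) (.leaf (nat_lit 0)))))))
    (.node (.node (.node (.node (.node (.node (.leaf (nat_lit 4419521478659)) (.leaf (nat_lit
    254560053049360394))) (.node (.leaf (nat_lit 150017808875585543)) (.leaf (nat_lit
    400456999718027277)))) (.node (.node (.leaf (nat_lit 49553086393548813)) (.leaf (nat_lit
    366358043174305837))) (.leaf (nat_lit 219861338682490909)))) (.node (.node (.node (.leaf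
    (nat_lit 0)) (.leaf (nat_lit 99717887799001090))) (.node (.leaf (nat_lit 164601971624574985))
    (.leaf (nat_lit 5754131349594253279322890165616698)))) (.node (.node (.leaf (nat_lit
    1014279014030275960435496974876690)) (.leaf (nat_lit 83393267560046532034611))) (.leaf (nat_lit
    66128151448981782986794))))) (.node (.node (.node (.node (.leaf (nat_lit 0)) (.leaf (nat_lit
    96951718406979600))) (.node (.leaf (nat_lit 167869307865464852)) (.leaf (nat_lit
    221684246398990811153)))) (.node (.node (.leaf (nat_lit 0)) (.leaf (nat_lit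
    100807021932221997318192))) (.leaf (nat_lit 0)))) (.node (.node (.node (.leaf (nat_lit
    36042218791960586)) (.leaf (nat_lit 308050473401909291))) (.leaf (nat_lit
    40230687036849250435108))) (.node (.node (.leaf (nat_lit 127334566166986759)) (.leaf (nat_lit
    0))) (.leaf (nat_lit 0)))))) (.node (.node (.node (.node (.node (.leaf (nat_lit
    2254054671712261)) (.leaf (nat_lit 94699892823490575))) (.node (.leaf (nat_lit
    158969998189199376)) (.leaf (nat_lit 117361883716988355018800)))) (.node (.node (.leaf (nat_lit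
    0)) (.leaf (nat_lit 91598079204745390915588))) (.leaf (nat_lit 197402800072884239)))) (.node
    (.node (.node (.leaf (nat_lit 88154203881484)) (.leaf (nat_lit 269737715854147586))) (.node
    (.leaf (nat_lit 194990209568538658)) (.leaf (nat_lit 301918922255564808)))) (.node (.node
    (.leaf (nat_lit 0)) (.leaf (nat_lit 403849980932194333))) (.leaf (nat_lit
    94651376872914955))))) (.node (.node (.node (.node (.leaf (nat_lit 0)) (.leaf (nat_lit
    118559363865706506))) (.node (.leaf (nat_lit 0)) (.leaf (nat_lit 29523472764899325968403))))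
    (.node (.node (.leaf (nat_lit 20754867869471473681)) (.leaf (nat_lit 246802268370960429)))
    (.leaf (nat_lit 216587121903992841)))) (.node (.node (.node (.leaf (nat_lit 0)) (.leaf (nat_lit
    91280463043275096653828))) (.leaf (nat_lit 45241905399259203960870))) (.node (.node (.leaf
    (nat_lit 135378911063375898)) (.leaf (nat_lit 839176480227331))) (.leaf (nat_lit
    252295024736403466)))))))))

/-- Certificate data. -/
def pb_rel : Trie :=
    (.node (.node (.node (.node (.node (.node (.leaf (nat_lit 0)) (.leaf (nat_lit 67633928)))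
    (.node (.leaf (nat_lit 18963398153276695380996)) (.leaf (nat_lit 592137)))) (.node (.node
    (.leaf (nat_lit 84018433)) (.leaf (nat_lit 5514805380355))) (.node (.leaf (nat_lit 67240710))
    (.leaf (nat_lit 18963542266265748112386))))) (.node (.node (.node (.leaf (nat_lit 100925955))
    (.leaf (nat_lit 4428162139649))) (.node (.leaf (nat_lit 17302025)) (.leaf (nat_lit
    3320077091845)))) (.node (.node (.leaf (nat_lit 83952898)) (.leaf (nat_lit 4415293817605)))
    (.leaf (nat_lit 67699465))))) (.node (.node (.node (.node (.leaf (nat_lit 5510493570308))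
    (.leaf (nat_lit 1116809136134))) (.node (.leaf (nat_lit 151259395)) (.leaf (nat_lit
    8821879867139)))) (.node (.node (.leaf (nat_lit 526344)) (.leaf (nat_lit 30081943554))) (.leaf
    (nat_lit 34393751814)))) (.node (.node (.node (.leaf (nat_lit 134481923)) (.leaf (nat_lit
    289360691352306692))) (.node (.leaf (nat_lit 7735303602946)) (.leaf (nat_lit 4415310464260))))
    (.node (.node (.leaf (nat_lit 134285570)) (.leaf (nat_lit 3311470445573))) (.leaf (nat_lit
    25904154369)))))) (.node (.node (.node (.node (.node (.leaf (nat_lit 65793)) (.leaf (nat_lit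
    4777923735600698163971))) (.node (.leaf (nat_lit 4419571876613)) (.leaf (nat_lit
    3320077157123)))) (.node (.node (.leaf (nat_lit 151128065)) (.leaf (nat_lit 33882373))) (.leaf
    (nat_lit 34144520)))) (.node (.node (.node (.leaf (nat_lit 67175175)) (.leaf (nat_lit
    4423866779401))) (.node (.leaf (nat_lit 7709600907524)) (.leaf (nat_lit 4396155399)))) (.node
    (.node (.leaf (nat_lit 151062530)) (.leaf (nat_lit 33752580))) (.leaf (nat_lit
    3307242849286))))) (.node (.node (.node (.node (.leaf (nat_lit 117702915)) (.leaf (nat_lit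
    50856968))) (.node (.leaf (nat_lit 38772278785)) (.leaf (nat_lit 50791425)))) (.node (.node
    (.leaf (nat_lit 134351105)) (.leaf (nat_lit 17105413))) (.leaf (nat_lit 50922505)))) (.node
    (.node (.node (.leaf (nat_lit 134416388)) (.leaf (nat_lit 151193860))) (.node (.leaf (nat_lit
    131586)) (.leaf (nat_lit 9518809302716891005956)))) (.node (.node (.leaf (nat_lit 8707442184))
    (.leaf (nat_lit 30098718985))) (.leaf (nat_lit 2229239285251)))))))

/-- Certificate data. -/
def pb_rc : Trie :=
    (.node (.node (.node (.node (.node (.node (.leaf (nat_lit 24)) (.leaf (nat_lit 393236))) (.node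
    (.leaf (nat_lit 393227)) (.leaf (nat_lit 17)))) (.node (.node (.leaf (nat_lit 131078)) (.leaf
    (nat_lit 131080))) (.node (.leaf (nat_lit 13)) (.leaf (nat_lit 11))))) (.node (.node (.node
    (.leaf (nat_lit 131085)) (.leaf (nat_lit 23))) (.node (.leaf (nat_lit 262163)) (.leaf (nat_lit
    262152)))) (.node (.node (.leaf (nat_lit 393222)) (.leaf (nat_lit 8))) (.leaf (nat_lit 21)))))
    (.node (.node (.node (.node (.leaf (nat_lit 524297)) (.leaf (nat_lit 131095))) (.node (.leaf
    (nat_lit 131093)) (.leaf (nat_lit 393239)))) (.node (.node (.leaf (nat_lit 16)) (.leaf (nat_lit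
    524303))) (.leaf (nat_lit 131087)))) (.node (.node (.node (.leaf (nat_lit 20)) (.leaf (nat_lit
    3))) (.node (.leaf (nat_lit 655382)) (.leaf (nat_lit 655368)))) (.node (.node (.leaf (nat_lit
    262162)) (.leaf (nat_lit 393225))) (.leaf (nat_lit 262159)))))) (.node (.node (.node (.node
    (.node (.leaf (nat_lit 0)) (.leaf (nat_lit 10))) (.node (.leaf (nat_lit 655369)) (.leaf
    (nat_lit 131081)))) (.node (.node (.leaf (nat_lit 18)) (.leaf (nat_lit 6))) (.leaf (nat_lit
    19)))) (.node (.node (.node (.leaf (nat_lit 393228)) (.leaf (nat_lit 393238))) (.node (.leaf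
    (nat_lit 655383)) (.leaf (nat_lit 393231)))) (.node (.node (.leaf (nat_lit 393235)) (.leaf
    (nat_lit 393229))) (.leaf (nat_lit 131094))))) (.node (.node (.node (.node (.leaf (nat_lit 12))
    (.leaf (nat_lit 131092))) (.node (.leaf (nat_lit 14)) (.leaf (nat_lit 131084)))) (.node (.node
    (.leaf (nat_lit 131091)) (.leaf (nat_lit 262150))) (.leaf (nat_lit 262165)))) (.node (.node
    (.node (.leaf (nat_lit 262164)) (.leaf (nat_lit 393237))) (.node (.leaf (nat_lit 1)) (.leaf
    (nat_lit 131083)))) (.node (.node (.leaf (nat_lit 15)) (.leaf (nat_lit 524302))) (.leaf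
    (nat_lit 22)))))))

/-- Certificate data. -/
def pb_lv : Trie :=
    (.node (.node (.node (.node (.node (.node (.leaf (nat_lit 0)) (.leaf (nat_lit 32))) (.node
    (.leaf (nat_lit 16)) (.leaf (nat_lit 52)))) (.node (.node (.leaf (nat_lit 8)) (.leaf (nat_lit
    42))) (.leaf (nat_lit 24)))) (.node (.node (.node (.leaf (nat_lit 4)) (.leaf (nat_lit 38)))
    (.node (.leaf (nat_lit 20)) (.leaf (nat_lit 56)))) (.node (.node (.leaf (nat_lit 12)) (.leaf
    (nat_lit 48))) (.leaf (nat_lit 28))))) (.node (.node (.node (.node (.leaf (nat_lit 2)) (.leaf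
    (nat_lit 34))) (.node (.leaf (nat_lit 18)) (.leaf (nat_lit 54)))) (.node (.node (.leaf (nat_lit
    10)) (.leaf (nat_lit 46))) (.leaf (nat_lit 26)))) (.node (.node (.node (.leaf (nat_lit 6))
    (.leaf (nat_lit 40))) (.leaf (nat_lit 22))) (.node (.node (.leaf (nat_lit 14)) (.leaf (nat_lit
    50))) (.leaf (nat_lit 30)))))) (.node (.node (.node (.node (.node (.leaf (nat_lit 1)) (.leaf
    (nat_lit 33))) (.node (.leaf (nat_lit 17)) (.leaf (nat_lit 53)))) (.node (.node (.leaf (nat_lit
    9)) (.leaf (nat_lit 43))) (.leaf (nat_lit 25)))) (.node (.node (.node (.leaf (nat_lit 5))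
    (.leaf (nat_lit 39))) (.node (.leaf (nat_lit 21)) (.leaf (nat_lit 57)))) (.node (.node (.leaf
    (nat_lit 13)) (.leaf (nat_lit 49))) (.leaf (nat_lit 29))))) (.node (.node (.node (.node (.leaf
    (nat_lit 3)) (.leaf (nat_lit 35))) (.node (.leaf (nat_lit 19)) (.leaf (nat_lit 55)))) (.node
    (.node (.leaf (nat_lit 11)) (.leaf (nat_lit 47))) (.leaf (nat_lit 27)))) (.node (.node (.node
    (.leaf (nat_lit 7)) (.leaf (nat_lit 41))) (.leaf (nat_lit 23))) (.node (.node (.leaf (nat_lit
    15)) (.leaf (nat_lit 51))) (.leaf (nat_lit 31)))))))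

/-- Certificate data. -/
def pb_tb : Trie :=
    (.node (.node (.node (.node (.node (.node (.node (.node (.leaf (nat_lit 514)) (.leaf (nat_lit
    7272))) (.leaf (nat_lit 5777))) (.node (.node (.leaf (nat_lit 17617)) (.leaf (nat_lit 13726)))
    (.leaf (nat_lit 19774)))) (.node (.node (.node (.leaf (nat_lit 14451)) (.leaf (nat_lit 16199)))
    (.leaf (nat_lit 7270))) (.node (.leaf (nat_lit 10587)) (.leaf (nat_lit 13930))))) (.node (.node
    (.node (.node (.leaf (nat_lit 15009)) (.leaf (nat_lit 19274))) (.leaf (nat_lit 18141))) (.node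
    (.leaf (nat_lit 11000)) (.leaf (nat_lit 18828)))) (.node (.node (.node (.leaf (nat_lit 12899))
    (.leaf (nat_lit 10039))) (.leaf (nat_lit 16084))) (.node (.leaf (nat_lit 2579)) (.leaf (nat_lit
    20273)))))) (.node (.node (.node (.node (.node (.leaf (nat_lit 12380)) (.leaf (nat_lit 22385)))
    (.leaf (nat_lit 1075))) (.node (.leaf (nat_lit 17220)) (.leaf (nat_lit 20762)))) (.node (.node
    (.node (.leaf (nat_lit 24351)) (.leaf (nat_lit 5367))) (.leaf (nat_lit 9905))) (.node (.leaf
    (nat_lit 23974)) (.leaf (nat_lit 10949))))) (.node (.node (.node (.node (.leaf (nat_lit 9283))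
    (.leaf (nat_lit 25465))) (.leaf (nat_lit 11865))) (.node (.leaf (nat_lit 11534)) (.leaf
    (nat_lit 1544)))) (.node (.node (.node (.leaf (nat_lit 13434)) (.leaf (nat_lit 18270))) (.leaf
    (nat_lit 25995))) (.node (.leaf (nat_lit 3611)) (.leaf (nat_lit 23832))))))) (.node (.node
    (.node (.node (.node (.node (.leaf (nat_lit 5)) (.leaf (nat_lit 3882))) (.leaf (nat_lit
    15013))) (.node (.leaf (nat_lit 5838)) (.leaf (nat_lit 27567)))) (.node (.node (.node (.leaf
    (nat_lit 3136)) (.leaf (nat_lit 6964))) (.leaf (nat_lit 12408))) (.node (.leaf (nat_lit 18824))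
    (.leaf (nat_lit 12069))))) (.node (.node (.node (.node (.leaf (nat_lit 4238)) (.leaf (nat_lit
    25998))) (.leaf (nat_lit 25462))) (.node (.leaf (nat_lit 21306)) (.leaf (nat_lit 17312))))
    (.node (.node (.node (.leaf (nat_lit 8316)) (.leaf (nat_lit 8473))) (.leaf (nat_lit 19273)))
    (.node (.leaf (nat_lit 13412)) (.leaf (nat_lit 10345)))))) (.node (.node (.node (.node (.node
    (.leaf (nat_lit 6187)) (.leaf (nat_lit 27039))) (.leaf (nat_lit 6277))) (.node (.leaf (nat_lit
    22801)) (.leaf (nat_lit 20325)))) (.node (.node (.node (.leaf (nat_lit 19695)) (.leaf (nat_lit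
    17725))) (.leaf (nat_lit 4290))) (.node (.leaf (nat_lit 0)) (.leaf (nat_lit 20726))))) (.node
    (.node (.node (.node (.leaf (nat_lit 8859)) (.leaf (nat_lit 21820))) (.leaf (nat_lit 15533)))
    (.node (.leaf (nat_lit 19277)) (.leaf (nat_lit 7732)))) (.node (.node (.node (.leaf (nat_lit
    16053)) (.leaf (nat_lit 15759))) (.leaf (nat_lit 24935))) (.node (.leaf (nat_lit 543)) (.leaf
    (nat_lit 23382)))))))) (.node (.node (.node (.node (.node (.node (.node (.leaf (nat_lit 1031))
    (.leaf (nat_lit 4292))) (.leaf (nat_lit 9367))) (.node (.node (.leaf (nat_lit 25991)) (.leaf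
    (nat_lit 13235))) (.leaf (nat_lit 21867)))) (.node (.node (.node (.leaf (nat_lit 18137)) (.leaf
    (nat_lit 14667))) (.leaf (nat_lit 7788))) (.node (.leaf (nat_lit 21887)) (.leaf (nat_lit
    17096))))) (.node (.node (.node (.node (.leaf (nat_lit 7735)) (.leaf (nat_lit 26517))) (.leaf
    (nat_lit 17619))) (.node (.leaf (nat_lit 25469)) (.leaf (nat_lit 23450)))) (.node (.node (.node
    (.leaf (nat_lit 2145)) (.leaf (nat_lit 9559))) (.leaf (nat_lit 8926))) (.node (.leaf (nat_lit
    1546)) (.leaf (nat_lit 19765)))))) (.node (.node (.node (.node (.node (.leaf (nat_lit 15528))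
    (.leaf (nat_lit 27570))) (.leaf (nat_lit 10833))) (.node (.leaf (nat_lit 27043)) (.leaf
    (nat_lit 26521)))) (.node (.node (.node (.leaf (nat_lit 26512)) (.leaf (nat_lit 5883))) (.leaf
    (nat_lit 12985))) (.node (.leaf (nat_lit 14252)) (.leaf (nat_lit 545))))) (.node (.node (.node
    (.node (.leaf (nat_lit 9799)) (.leaf (nat_lit 2761))) (.leaf (nat_lit 11354))) (.node (.leaf
    (nat_lit 12054)) (.leaf (nat_lit 4640)))) (.node (.node (.node (.leaf (nat_lit 5282)) (.leaf
    (nat_lit 16760))) (.leaf (nat_lit 21298))) (.node (.leaf (nat_lit 3100)) (.leaf (nat_lit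
    24348))))))) (.node (.node (.node (.node (.node (.node (.leaf (nat_lit 4643)) (.leaf (nat_lit
    3364))) (.leaf (nat_lit 14449))) (.node (.leaf (nat_lit 7386)) (.leaf (nat_lit 23892)))) (.node
    (.node (.node (.leaf (nat_lit 3656)) (.leaf (nat_lit 6448))) (.leaf (nat_lit 5286))) (.node
    (.leaf (nat_lit 20882)) (.leaf (nat_lit 11563))))) (.node (.node (.node (.node (.leaf (nat_lit
    16575)) (.leaf (nat_lit 18758))) (.leaf (nat_lit 27036))) (.node (.leaf (nat_lit 27563)) (.leaf
    (nat_lit 22448)))) (.node (.node (.node (.leaf (nat_lit 22381)) (.leaf (nat_lit 8989))) (.leaf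
    (nat_lit 22862))) (.node (.leaf (nat_lit 16572)) (.leaf (nat_lit 1077)))))) (.node (.node
    (.node (.node (.node (.leaf (nat_lit 6705)) (.leaf (nat_lit 2155))) (.leaf (nat_lit 8349)))
    (.node (.leaf (nat_lit 23317)) (.leaf (nat_lit 14202)))) (.node (.node (.node (.leaf (nat_lit
    20213)) (.leaf (nat_lit 12656))) (.leaf (nat_lit 4810))) (.node (.leaf (nat_lit 2063)) (.leaf
    (nat_lit 21242))))) (.node (.node (.node (.node (.leaf (nat_lit 1592)) (.leaf (nat_lit 24927)))
    (.leaf (nat_lit 6794))) (.node (.leaf (nat_lit 24925)) (.leaf (nat_lit 9)))) (.node (.node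
    (.node (.leaf (nat_lit 2739)) (.leaf (nat_lit 15252))) (.leaf (nat_lit 24353))) (.node (.leaf
    (nat_lit 10317)) (.leaf (nat_lit 22838)))))))))

/-- Certificate data. -/
def pb_C : TC.Cert := ⟨6, 63, 9, 511, 37945386881020122432000, 24, pb_par, pb_fact, pb_just, pb_rel, 57⟩

/-- Certificate data. -/
def pb_rs : List (List ℕ) := [[1, 1, 1], [3, 3, 3, 3, 3, 3, 3, 3], [5, 5], [5, 1, 5, 2], [5, 3, 5, 4, 4, 4], [3, 3, 3, 3, 1, 3, 3, 3, 3, 1], [3, 1, 4, 7], [1, 6, 2, 7, 9], [8, 8, 8], [1, 8, 2, 9], [3, 8, 4, 8], [3, 6, 4, 9, 7, 2]]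

/-- Certificate data. -/
def pb_gl : List ℕ := [1, 13827, 27653]

theorem pb_h1 : allB pb_C.factChk 218 = true := by decide +kernel

theorem pb_h2 : pb_C.finChk 218 54 pb_lv pb_tb pb_gl = true := by decide +kernel

theorem pb_h3 : TC.relChk pb_C.ivc pb_rs pb_C.rel pb_rc pb_C.nrel = true := by decide +kernel

theorem pb_bound {G : Type*} [Group G] {a c w b z : G}
    (r0 : a * a * a = 1)
    (r1 : c * c * c * c * c * c * c * c = 1)
    (r2 : w * w = 1)
    (r3 : w * a * w * a⁻¹ = 1)
    (r4 : w * c * w * c⁻¹ * c⁻¹ * c⁻¹ = 1)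
    (r5 : c * c * c * c * a * c * c * c * c * a = 1)
    (r6 : c * a * c⁻¹ * b⁻¹ = 1)
    (r7 : a * b * a⁻¹ * b⁻¹ * z⁻¹ = 1)
    (r8 : z * z * z = 1)
    (r9 : a * z * a⁻¹ * z⁻¹ = 1)
    (r10 : c * z * c⁻¹ * z = 1)
    (r11 : c * b * c⁻¹ * z⁻¹ * b⁻¹ * a⁻¹ = 1)
    (H : Subgroup G) [Finite H] (m3 : c ∈ H) :
    Finite (Subgroup.closure ({a, c, w} : Set G)) ∧
      Nat.card (Subgroup.closure ({a, c, w} : Set G)) ≤ 54 * Nat.card H := by
  have hL : TC.Lett (TC.lett [a, a⁻¹, c, c⁻¹, w, b, b⁻¹, z, z⁻¹]) pb_C.ivc :=
    TC.lett_ok (show Nat.shiftRight pb_C.ivc (8 * 10) = 0 by decide +kernel) (by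
      intro a ha
      change a < 10 at ha
      interval_cases a
      · exact inv_one.symm
      · rfl
      · exact (inv_inv _).symm
      · rfl
      · exact (inv_inv _).symm
      · exact (inv_eq_of_mul_eq_one_right r2).symm
      · rfl
      · exact (inv_inv _).symm
      · rfl
      · exact (inv_inv _).symm)
  have h := TC.card_le pb_h1 pb_h2 pb_h3 (by decide) hL (by
    simp only [pb_rs, List.forall_mem_cons]
    refine ⟨?_, ?_, ?_, ?_, ?_, ?_, ?_, ?_, ?_, ?_, ?_, ?_, List.forall_mem_nil _⟩
    · show a * (a * (a * 1)) = 1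
      simp only [mul_assoc, mul_one] at r0 ⊢
      exact r0
    · show c * (c * (c * (c * (c * (c * (c * (c * 1))))))) = 1
      simp only [mul_assoc, mul_one] at r1 ⊢
      exact r1
    · show w * (w * 1) = 1
      simp only [mul_one] at r2 ⊢
      exact r2
    · show w * (a * (w * (a⁻¹ * 1))) = 1
      simp only [mul_assoc, mul_one] at r3 ⊢
      exact r3
    · show w * (c * (w * (c⁻¹ * (c⁻¹ * (c⁻¹ * 1))))) = 1
      simp only [mul_assoc, mul_one] at r4 ⊢
      exact r4
    · show c * (c * (c * (c * (a * (c * (c * (c * (c * (a * 1))))))))) = 1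
      simp only [mul_assoc, mul_one] at r5 ⊢
      exact r5
    · show c * (a * (c⁻¹ * (b⁻¹ * 1))) = 1
      simp only [mul_assoc, mul_one] at r6 ⊢
      exact r6
    · show a * (b * (a⁻¹ * (b⁻¹ * (z⁻¹ * 1)))) = 1
      simp only [mul_assoc, mul_one] at r7 ⊢
      exact r7
    · show z * (z * (z * 1)) = 1
      simp only [mul_assoc, mul_one] at r8 ⊢
      exact r8
    · show a * (z * (a⁻¹ * (z⁻¹ * 1))) = 1
      simp only [mul_assoc, mul_one] at r9 ⊢
      exact r9
    · show c * (z * (c⁻¹ * (z * 1))) = 1
      simp only [mul_assoc, mul_one] at r10 ⊢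
      exact r10
    · show c * (b * (c⁻¹ * (z⁻¹ * (b⁻¹ * (a⁻¹ * 1))))) = 1
      simp only [mul_assoc, mul_one] at r11 ⊢
      exact r11) H
    (TC.forall_subs (K := 10) (by decide +kernel) (by
      intro a ha hb
      interval_cases a
      · exact absurd hb (by decide +kernel)
      · exact absurd hb (by decide +kernel)
      · exact absurd hb (by decide +kernel)
      · exact m3
      · exact H.inv_mem m3
      · exact absurd hb (by decide +kernel)
      · exact absurd hb (by decide +kernel)
      · exact absurd hb (by decide +kernel)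
      · exact absurd hb (by decide +kernel)
      · exact absurd hb (by decide +kernel)))
  have e : {g₀ | ∃ ak ∈ pb_gl, TC.lett [a, a⁻¹, c, c⁻¹, w, b, b⁻¹, z, z⁻¹] (ak % 256) = g₀} =
      {a, c, w} := by
    ext g₀
    simp only [pb_gl, List.mem_cons, List.not_mem_nil, or_false, exists_eq_or_imp,
      exists_eq_left, Set.mem_ofPred_eq, Set.mem_insert_iff, Set.mem_singleton_iff]
    exact or_congr eq_comm (or_congr eq_comm (eq_comm))
  rw [e] at h
  exact h

theorem pb_card {G : Type*} [Group G] {a c w b z : G}
    (e0 : a ^ 3 = 1)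
    (e1 : c ^ 8 = 1)
    (e2 : w * w = 1)
    (e3 : w * a * w = a)
    (e4 : w * c * w = c ^ 3)
    (e5 : c ^ 4 * a * c ^ 4 = a⁻¹)
    (e6 : c * a * c⁻¹ = b)
    (e7 : a * b * a⁻¹ * b⁻¹ = z)
    (e8 : z ^ 3 = 1)
    (e9 : a * z = z * a)
    (e10 : c * z * c⁻¹ = z⁻¹)
    (e11 : c * b * c⁻¹ = a * b * z)
    (H : Subgroup G) [Finite H] (mc : c ∈ H) :
    Finite (Subgroup.closure ({a, c, w} : Set G)) ∧
      Nat.card (Subgroup.closure ({a, c, w} : Set G)) ≤ 54 * Nat.card H := by
  have iw : w⁻¹ = w := inv_eq_of_mul_eq_one_right e2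
  refine pb_bound (b := b) (z := z) ?_ ?_ ?_ ?_ ?_ ?_ ?_ ?_ ?_ ?_ ?_ ?_ H mc
  · have h := mul_inv_eq_one.mpr e0
    simp only [pow_succ, pow_zero, mul_inv_rev, inv_inv, inv_one, one_mul, mul_one, mul_assoc,
      mul_inv_cancel_left, inv_mul_cancel_left, mul_inv_cancel, inv_mul_cancel, iw] at h ⊢
    exact h
  · have h := mul_inv_eq_one.mpr e1
    simp only [pow_succ, pow_zero, mul_inv_rev, inv_inv, inv_one, one_mul, mul_one, mul_assoc,
      mul_inv_cancel_left, inv_mul_cancel_left, mul_inv_cancel, inv_mul_cancel, iw] at h ⊢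
    exact h
  · have h := mul_inv_eq_one.mpr e2
    simp only [pow_succ, pow_zero, mul_inv_rev, inv_inv, inv_one, one_mul, mul_one, mul_assoc,
      mul_inv_cancel_left, inv_mul_cancel_left, mul_inv_cancel, inv_mul_cancel, iw] at h ⊢
    exact h
  · have h := mul_inv_eq_one.mpr e3
    simp only [pow_succ, pow_zero, mul_inv_rev, inv_inv, inv_one, one_mul, mul_one, mul_assoc,
      mul_inv_cancel_left, inv_mul_cancel_left, mul_inv_cancel, inv_mul_cancel, iw] at h ⊢
    exact h
  · have h := mul_inv_eq_one.mpr e4
    simp only [pow_succ, pow_zero, mul_inv_rev, inv_inv, inv_one, one_mul, mul_one, mul_assoc,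
      mul_inv_cancel_left, inv_mul_cancel_left, mul_inv_cancel, inv_mul_cancel, iw] at h ⊢
    exact h
  · have h := mul_inv_eq_one.mpr e5
    simp only [pow_succ, pow_zero, mul_inv_rev, inv_inv, inv_one, one_mul, mul_one, mul_assoc,
      mul_inv_cancel_left, inv_mul_cancel_left, mul_inv_cancel, inv_mul_cancel, iw] at h ⊢
    exact h
  · have h := mul_inv_eq_one.mpr e6
    simp only [pow_succ, pow_zero, mul_inv_rev, inv_inv, inv_one, one_mul, mul_one, mul_assoc,
      mul_inv_cancel_left, inv_mul_cancel_left, mul_inv_cancel, inv_mul_cancel, iw] at h ⊢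
    exact h
  · have h := mul_inv_eq_one.mpr e7
    simp only [pow_succ, pow_zero, mul_inv_rev, inv_inv, inv_one, one_mul, mul_one, mul_assoc,
      mul_inv_cancel_left, inv_mul_cancel_left, mul_inv_cancel, inv_mul_cancel, iw] at h ⊢
    exact h
  · have h := mul_inv_eq_one.mpr e8
    simp only [pow_succ, pow_zero, mul_inv_rev, inv_inv, inv_one, one_mul, mul_one, mul_assoc,
      mul_inv_cancel_left, inv_mul_cancel_left, mul_inv_cancel, inv_mul_cancel, iw] at h ⊢
    exact h
  · have h := mul_inv_eq_one.mpr e9
    simp only [pow_succ, pow_zero, mul_inv_rev, inv_inv, inv_one, one_mul, mul_one, mul_assoc,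
      mul_inv_cancel_left, inv_mul_cancel_left, mul_inv_cancel, inv_mul_cancel, iw] at h ⊢
    exact h
  · have h := mul_inv_eq_one.mpr e10
    simp only [pow_succ, pow_zero, mul_inv_rev, inv_inv, inv_one, one_mul, mul_one, mul_assoc,
      mul_inv_cancel_left, inv_mul_cancel_left, mul_inv_cancel, inv_mul_cancel, iw] at h ⊢
    exact h
  · have h := mul_inv_eq_one.mpr e11
    simp only [pow_succ, pow_zero, mul_inv_rev, inv_inv, inv_one, one_mul, mul_one, mul_assoc,
      mul_inv_cancel_left, inv_mul_cancel_left, mul_inv_cancel, inv_mul_cancel, iw] at h ⊢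
    exact h

/-- Certificate data. -/
def p3_par : Trie :=
    (.node (.node (.node (.node (.node (.node (.leaf (nat_lit 0)) (.leaf (nat_lit 3590))) (.node
    (.leaf (nat_lit 777)) (.leaf (nat_lit 7688)))) (.node (.node (.leaf (nat_lit 516)) (.leaf
    (nat_lit 5894))) (.leaf (nat_lit 1282)))) (.node (.node (.node (.leaf (nat_lit 263)) (.leaf
    (nat_lit 4614))) (.leaf (nat_lit 1027))) (.node (.node (.leaf (nat_lit 522)) (.leaf (nat_lit
    7426))) (.leaf (nat_lit 1798))))) (.node (.node (.node (.node (.leaf (nat_lit 257)) (.leaf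
    (nat_lit 4102))) (.node (.leaf (nat_lit 1025)) (.leaf (nat_lit 7938)))) (.node (.node (.leaf
    (nat_lit 520)) (.leaf (nat_lit 6662))) (.leaf (nat_lit 1289)))) (.node (.node (.node (.leaf
    (nat_lit 265)) (.leaf (nat_lit 5382))) (.leaf (nat_lit 1034))) (.node (.node (.leaf (nat_lit
    775)) (.leaf (nat_lit 7434))) (.leaf (nat_lit 2566)))))) (.node (.node (.node (.node (.node
    (.leaf (nat_lit 6)) (.leaf (nat_lit 3846))) (.node (.leaf (nat_lit 778)) (.leaf (nat_lit
    7937)))) (.node (.node (.leaf (nat_lit 519)) (.leaf (nat_lit 6150))) (.leaf (nat_lit 1283))))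
    (.node (.node (.node (.leaf (nat_lit 264)) (.leaf (nat_lit 4870))) (.leaf (nat_lit 1033)))
    (.node (.node (.leaf (nat_lit 772)) (.leaf (nat_lit 7431))) (.leaf (nat_lit 2310))))) (.node
    (.node (.node (.node (.leaf (nat_lit 258)) (.leaf (nat_lit 4358))) (.node (.leaf (nat_lit
    1026)) (.leaf (nat_lit 7946)))) (.node (.node (.leaf (nat_lit 521)) (.leaf (nat_lit 6918)))
    (.leaf (nat_lit 1290)))) (.node (.node (.node (.leaf (nat_lit 266)) (.leaf (nat_lit 5638)))
    (.leaf (nat_lit 1281))) (.node (.node (.leaf (nat_lit 776)) (.leaf (nat_lit 7687))) (.leaf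
    (nat_lit 2822)))))))

/-- Certificate data. -/
def p3_fact : Trie :=
    (.node (.node (.node (.node (.node (.node (.node (.node (.leaf (nat_lit 1)) (.leaf (nat_lit
    577798))) (.node (.leaf (nat_lit 313353)) (.leaf (nat_lit 173824)))) (.node (.node (.leaf
    (nat_lit 230151)) (.leaf (nat_lit 518408))) (.node (.leaf (nat_lit 251914)) (.leaf (nat_lit
    21248))))) (.node (.node (.node (.leaf (nat_lit 50436)) (.leaf (nat_lit 661254))) (.node (.leaf
    (nat_lit 120328)) (.leaf (nat_lit 121856)))) (.node (.node (.leaf (nat_lit 214022)) (.leaf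
    (nat_lit 766464))) (.leaf (nat_lit 219905))))) (.node (.node (.node (.node (.leaf (nat_lit
    33286)) (.leaf (nat_lit 583171))) (.node (.leaf (nat_lit 216834)) (.leaf (nat_lit 222464))))
    (.node (.node (.leaf (nat_lit 119041)) (.leaf (nat_lit 782595))) (.leaf (nat_lit 427273))))
    (.node (.node (.node (.leaf (nat_lit 147975)) (.leaf (nat_lit 535045))) (.node (.leaf (nat_lit
    266501)) (.leaf (nat_lit 56832)))) (.node (.node (.leaf (nat_lit 234497)) (.leaf (nat_lit
    516610))) (.leaf (nat_lit 510726)))))) (.node (.node (.node (.node (.node (.leaf (nat_lit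
    16645)) (.leaf (nat_lit 611078))) (.node (.leaf (nat_lit 215561)) (.leaf (nat_lit 240384))))
    (.node (.node (.leaf (nat_lit 184322)) (.leaf (nat_lit 761098))) (.leaf (nat_lit 252169))))
    (.node (.node (.node (.leaf (nat_lit 100106)) (.leaf (nat_lit 665860))) (.node (.leaf (nat_lit
    379402)) (.leaf (nat_lit 36096)))) (.node (.node (.leaf (nat_lit 234249)) (.leaf (nat_lit
    484360))) (.leaf (nat_lit 447237))))) (.node (.node (.node (.node (.leaf (nat_lit 49926))
    (.leaf (nat_lit 550660))) (.node (.leaf (nat_lit 136706)) (.leaf (nat_lit 354304)))) (.node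
    (.node (.leaf (nat_lit 299778)) (.leaf (nat_lit 799235))) (.leaf (nat_lit 399875)))) (.node
    (.node (.node (.leaf (nat_lit 197130)) (.leaf (nat_lit 617221))) (.node (.leaf (nat_lit
    382978)) (.leaf (nat_lit 43520)))) (.node (.node (.leaf (nat_lit 232196)) (.leaf (nat_lit
    110080))) (.leaf (nat_lit 544518))))))) (.node (.node (.node (.node (.node (.node (.leaf
    (nat_lit 5)) (.leaf (nat_lit 594438))) (.node (.leaf (nat_lit 150020)) (.leaf (nat_lit
    122112)))) (.node (.node (.leaf (nat_lit 262921)) (.leaf (nat_lit 601090))) (.node (.leaf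
    (nat_lit 137475)) (.leaf (nat_lit 6))))) (.node (.node (.node (.leaf (nat_lit 98569)) (.leaf
    (nat_lit 677894))) (.node (.leaf (nat_lit 218890)) (.leaf (nat_lit 34304)))) (.node (.node
    (.leaf (nat_lit 201988)) (.leaf (nat_lit 798211))) (.leaf (nat_lit 252675))))) (.node (.node
    (.node (.node (.leaf (nat_lit 33538)) (.leaf (nat_lit 580872))) (.node (.leaf (nat_lit 249348))
    (.leaf (nat_lit 219648)))) (.node (.node (.leaf (nat_lit 152074)) (.leaf (nat_lit 827138)))
    (.leaf (nat_lit 416258)))) (.node (.node (.node (.leaf (nat_lit 180745)) (.leaf (nat_lit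
    502274))) (.node (.leaf (nat_lit 132357)) (.leaf (nat_lit 39424)))) (.node (.node (.leaf
    (nat_lit 300042)) (.leaf (nat_lit 270848))) (.leaf (nat_lit 527878)))))) (.node (.node (.node
    (.node (.node (.leaf (nat_lit 33025)) (.leaf (nat_lit 582916))) (.node (.leaf (nat_lit 150024))
    (.leaf (nat_lit 124416)))) (.node (.node (.leaf (nat_lit 266506)) (.leaf (nat_lit 794120)))
    (.leaf (nat_lit 83974)))) (.node (.node (.node (.leaf (nat_lit 100099)) (.leaf (nat_lit
    632584))) (.node (.leaf (nat_lit 381188)) (.leaf (nat_lit 54784)))) (.node (.node (.leaf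
    (nat_lit 300291)) (.leaf (nat_lit 729609))) (.leaf (nat_lit 477446))))) (.node (.node (.node
    (.node (.leaf (nat_lit 33796)) (.leaf (nat_lit 616194))) (.node (.leaf (nat_lit 185860)) (.leaf
    (nat_lit 125440)))) (.node (.node (.leaf (nat_lit 218115)) (.leaf (nat_lit 799492))) (.leaf
    (nat_lit 443658)))) (.node (.node (.node (.leaf (nat_lit 117762)) (.leaf (nat_lit 518915)))
    (.node (.leaf (nat_lit 137224)) (.leaf (nat_lit 16896)))) (.node (.node (.leaf (nat_lit
    134665)) (.leaf (nat_lit 450560))) (.leaf (nat_lit 561158)))))))) (.node (.node (.node (.node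
    (.node (.node (.node (.leaf (nat_lit 3)) (.leaf (nat_lit 566021))) (.node (.leaf (nat_lit
    133377)) (.leaf (nat_lit 188160)))) (.node (.node (.leaf (nat_lit 246536)) (.leaf (nat_lit
    728322))) (.node (.leaf (nat_lit 410883)) (.leaf (nat_lit 256))))) (.node (.node (.node (.leaf
    (nat_lit 82951)) (.leaf (nat_lit 649221))) (.node (.leaf (nat_lit 378113)) (.leaf (nat_lit
    101888)))) (.node (.node (.leaf (nat_lit 345097)) (.leaf (nat_lit 814594))) (.leaf (nat_lit
    269060))))) (.node (.node (.node (.node (.leaf (nat_lit 49410)) (.leaf (nat_lit 534017)))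
    (.node (.leaf (nat_lit 250373)) (.leaf (nat_lit 368128)))) (.node (.node (.leaf (nat_lit
    295937)) (.leaf (nat_lit 815366))) (.leaf (nat_lit 170497)))) (.node (.node (.node (.leaf
    (nat_lit 164360)) (.leaf (nat_lit 600580))) (.node (.leaf (nat_lit 169221)) (.leaf (nat_lit
    59904)))) (.node (.node (.leaf (nat_lit 298248)) (.leaf (nat_lit 536320))) (.leaf (nat_lit
    499459)))))) (.node (.node (.node (.node (.node (.leaf (nat_lit 16643)) (.leaf (nat_lit
    599299))) (.node (.leaf (nat_lit 167940)) (.leaf (nat_lit 118528)))) (.node (.node (.leaf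
    (nat_lit 279306)) (.leaf (nat_lit 777735))) (.leaf (nat_lit 334086)))) (.node (.node (.node
    (.leaf (nat_lit 100100)) (.leaf (nat_lit 551169))) (.node (.leaf (nat_lit 382469)) (.leaf
    (nat_lit 54528)))) (.node (.node (.leaf (nat_lit 345607)) (.leaf (nat_lit 614401))) (.leaf
    (nat_lit 460550))))) (.node (.node (.node (.node (.leaf (nat_lit 65799)) (.leaf (nat_lit
    567043))) (.node (.leaf (nat_lit 153089)) (.leaf (nat_lit 116992)))) (.node (.node (.leaf
    (nat_lit 328707)) (.leaf (nat_lit 843530))) (.leaf (nat_lit 429573)))) (.node (.node (.node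
    (.leaf (nat_lit 183306)) (.leaf (nat_lit 486148))) (.node (.leaf (nat_lit 153605)) (.leaf
    (nat_lit 40448)))) (.node (.node (.leaf (nat_lit 183559)) (.leaf (nat_lit 499720))) (.leaf
    (nat_lit 499972))))))) (.node (.node (.node (.node (.node (.node (.leaf (nat_lit 16390)) (.leaf
    (nat_lit 484354))) (.node (.leaf (nat_lit 152585)) (.leaf (nat_lit 126976)))) (.node (.node
    (.leaf (nat_lit 102401)) (.leaf (nat_lit 744711))) (.leaf (nat_lit 170242)))) (.node (.node
    (.node (.leaf (nat_lit 114954)) (.leaf (nat_lit 633091))) (.node (.leaf (nat_lit 300804))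
    (.leaf (nat_lit 43776)))) (.node (.node (.leaf (nat_lit 234754)) (.leaf (nat_lit 601344)))
    (.leaf (nat_lit 367368))))) (.node (.node (.node (.node (.leaf (nat_lit 49925)) (.leaf (nat_lit
    644614))) (.node (.leaf (nat_lit 361482)) (.leaf (nat_lit 119552)))) (.node (.node (.leaf
    (nat_lit 312322)) (.leaf (nat_lit 815618))) (.leaf (nat_lit 285188)))) (.node (.node (.node
    (.leaf (nat_lit 101122)) (.leaf (nat_lit 711430))) (.node (.leaf (nat_lit 394498)) (.leaf
    (nat_lit 33536)))) (.node (.node (.leaf (nat_lit 184840)) (.leaf (nat_lit 274688))) (.leaf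
    (nat_lit 483331)))))) (.node (.node (.node (.node (.node (.leaf (nat_lit 33285)) (.leaf
    (nat_lit 627974))) (.node (.leaf (nat_lit 283400)) (.leaf (nat_lit 322048)))) (.node (.node
    (.leaf (nat_lit 200962)) (.leaf (nat_lit 810753))) (.leaf (nat_lit 415753)))) (.node (.node
    (.node (.leaf (nat_lit 131588)) (.leaf (nat_lit 694790))) (.node (.leaf (nat_lit 199429))
    (.leaf (nat_lit 50944)))) (.node (.node (.leaf (nat_lit 333057)) (.leaf (nat_lit 569600)))
    (.leaf (nat_lit 494086))))) (.node (.node (.node (.node (.leaf (nat_lit 82184)) (.leaf (nat_lit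
    566279))) (.node (.leaf (nat_lit 153091)) (.leaf (nat_lit 45824)))) (.node (.node (.leaf
    (nat_lit 214021)) (.leaf (nat_lit 797449))) (.leaf (nat_lit 252674)))) (.node (.node (.node
    (.leaf (nat_lit 213764)) (.leaf (nat_lit 666369))) (.node (.leaf (nat_lit 398084)) (.leaf
    (nat_lit 25856)))) (.node (.node (.leaf (nat_lit 201475)) (.leaf (nat_lit 287488))) (.leaf
    (nat_lit 532995)))))))))

/-- Certificate data. -/
def p3_just : Trie :=
    (.node (.node (.node (.node (.node (.node (.node (.node (.leaf (nat_lit 1)) (.leaf (nat_lit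
    0))) (.node (.leaf (nat_lit 143112635334983712)) (.leaf (nat_lit 156193434976321538)))) (.node
    (.node (.leaf (nat_lit 0)) (.leaf (nat_lit 356487130291306525))) (.node (.leaf (nat_lit
    166862704970235947)) (.leaf (nat_lit 256442665505673969666))))) (.node (.node (.node (.leaf
    (nat_lit 20290520723161098)) (.leaf (nat_lit 0))) (.node (.leaf (nat_lit 46276927735585832991))
    (.leaf (nat_lit 236616603151689318402)))) (.node (.node (.leaf (nat_lit
    18313652774318278770710)) (.leaf (nat_lit 189433432660903198752))) (.leaf (nat_lit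
    185004775677558802))))) (.node (.node (.node (.node (.leaf (nat_lit
    124736819217503100922724999282425862)) (.leaf (nat_lit 75657779700005706465284))) (.node (.leaf
    (nat_lit 70985887147958206500)) (.leaf (nat_lit 253038767043182594)))) (.node (.node (.leaf
    (nat_lit 42826300024619026)) (.leaf (nat_lit 372080571700150326))) (.leaf (nat_lit 0)))) (.node
    (.node (.node (.leaf (nat_lit 0)) (.leaf (nat_lit 275202464737853443))) (.node (.leaf (nat_lit
    82575857276878853)) (.leaf (nat_lit 942908530360322)))) (.node (.node (.leaf (nat_lit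
    224777113567260)) (.leaf (nat_lit 738249043738626))) (.leaf (nat_lit 0)))))) (.node (.node
    (.node (.node (.node (.leaf (nat_lit 6766424622301187)) (.leaf (nat_lit 0))) (.node (.leaf
    (nat_lit 103880226504900641)) (.leaf (nat_lit 276684640771833858)))) (.node (.node (.leaf
    (nat_lit 58591071973867535)) (.leaf (nat_lit 0))) (.leaf (nat_lit 19490149363385056428078))))
    (.node (.node (.node (.leaf (nat_lit 79332341055500)) (.leaf (nat_lit
    85101989362076339208242))) (.node (.leaf (nat_lit 188212768355319846)) (.leaf (nat_lit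
    9122731061800075266)))) (.node (.node (.leaf (nat_lit 115057668439343129)) (.leaf (nat_lit
    720622497955842))) (.leaf (nat_lit 67673155375740550971413))))) (.node (.node (.node (.node
    (.leaf (nat_lit 218401462756322911797301807015395334)) (.leaf (nat_lit
    74221898262298554073141))) (.node (.leaf (nat_lit 145430852522934288)) (.leaf (nat_lit
    202381753795674114)))) (.node (.node (.leaf (nat_lit 180693569241095)) (.leaf (nat_lit
    374332397283639351))) (.leaf (nat_lit 233488788876361777)))) (.node (.node (.node (.leaf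
    (nat_lit 0)) (.leaf (nat_lit 297751283560022019))) (.node (.leaf (nat_lit 357027746545671))
    (.leaf (nat_lit 965036201869314)))) (.node (.node (.leaf (nat_lit 115081995134107658)) (.leaf
    (nat_lit 79636948595179522))) (.leaf (nat_lit 0))))))) (.node (.node (.node (.node (.node
    (.node (.leaf (nat_lit 1)) (.leaf (nat_lit 0))) (.node (.leaf (nat_lit 147594261909667850))
    (.leaf (nat_lit 46990137674104834)))) (.node (.node (.leaf (nat_lit 0)) (.leaf (nat_lit
    579730390777863))) (.node (.leaf (nat_lit 53145672104013642137644)) (.leaf (nat_lit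
    17330193170434))))) (.node (.node (.node (.leaf (nat_lit 0)) (.leaf (nat_lit 0))) (.node (.leaf
    (nat_lit 66385387973148672019)) (.leaf (nat_lit 239048550532472111106)))) (.node (.node (.leaf
    (nat_lit 63112392636301335)) (.leaf (nat_lit 757980123496450))) (.leaf (nat_lit
    225607541068070926))))) (.node (.node (.node (.node (.leaf (nat_lit 26469883576327)) (.leaf
    (nat_lit 306850566913589277))) (.node (.leaf (nat_lit 163392105107095561)) (.leaf (nat_lit
    230888011141340200962)))) (.node (.node (.leaf (nat_lit 27683686639556886547)) (.leaf (nat_lit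
    0))) (.leaf (nat_lit 232336500690452495)))) (.node (.node (.node (.leaf (nat_lit 0)) (.leaf
    (nat_lit 2475801141117310026832268239095595059))) (.node (.leaf (nat_lit 171513514601676808))
    (.leaf (nat_lit 934121027272706)))) (.node (.node (.leaf (nat_lit 92541972404961310)) (.leaf
    (nat_lit 146257394544784179202))) (.leaf (nat_lit 0)))))) (.node (.node (.node (.node (.node
    (.leaf (nat_lit 0)) (.leaf (nat_lit 75681471066139626111026))) (.node (.leaf (nat_lit
    39038637251355358855202)) (.leaf (nat_lit 227376322992526327810)))) (.node (.node (.leaf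
    (nat_lit 149855704055820)) (.leaf (nat_lit 0))) (.leaf (nat_lit 9754328848178891522095))))
    (.node (.node (.node (.leaf (nat_lit 40554554382811150)) (.leaf (nat_lit 331673283156181021)))
    (.node (.leaf (nat_lit 3391448548312873371260385233535016)) (.leaf (nat_lit
    76304595139362818)))) (.node (.node (.leaf (nat_lit 24217160209380749410330)) (.leaf (nat_lit
    187756771741731651642))) (.leaf (nat_lit 0))))) (.node (.node (.node (.node (.leaf (nat_lit
    13535104102236169)) (.leaf (nat_lit 2743342161915483314849722019808411699))) (.node (.leaf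
    (nat_lit 58609016347230221)) (.leaf (nat_lit 894512838868994)))) (.node (.node (.leaf (nat_lit
    1258223301638334938716036085121044)) (.leaf (nat_lit 98133555933170052169784))) (.leaf (nat_lit
    0)))) (.node (.node (.node (.leaf (nat_lit 42813028575674384)) (.leaf (nat_lit
    70905417255872549421060))) (.node (.leaf (nat_lit 36684307274881535639587)) (.leaf (nat_lit
    7990067139811999746)))) (.node (.node (.leaf (nat_lit 51908463638544416)) (.leaf (nat_lit
    256398410721198082))) (.leaf (nat_lit 0)))))))) (.node (.node (.node (.node (.node (.node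
    (.node (.leaf (nat_lit 1)) (.leaf (nat_lit 284114908424110083))) (.node (.leaf (nat_lit
    145437166124859410)) (.leaf (nat_lit 81884414786863106)))) (.node (.node (.leaf (nat_lit 0))
    (.leaf (nat_lit 0))) (.node (.leaf (nat_lit 0)) (.leaf (nat_lit 4537959095155818498))))) (.node
    (.node (.node (.leaf (nat_lit 37200996673454091)) (.leaf (nat_lit 313377448324694019))) (.node
    (.leaf (nat_lit 0)) (.leaf (nat_lit 25801814446430224386)))) (.node (.node (.leaf (nat_lit 0))
    (.leaf (nat_lit 753582076985346))) (.leaf (nat_lit 76632511597445133))))) (.node (.node (.node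
    (.node (.leaf (nat_lit 0)) (.leaf (nat_lit 2536120514302043164881287430250561588))) (.node
    (.leaf (nat_lit 163462551160684549)) (.leaf (nat_lit 259794235203715074)))) (.node (.node
    (.leaf (nat_lit 0)) (.leaf (nat_lit 3473324261991456494701597337433276422))) (.leaf (nat_lit
    190634223672164369)))) (.node (.node (.node (.leaf (nat_lit 0)) (.leaf (nat_lit
    78664699422345976414261))) (.node (.leaf (nat_lit 39345929339261807820842)) (.leaf (nat_lit
    947349526544386)))) (.node (.node (.leaf (nat_lit 121841680952524829)) (.leaf (nat_lit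
    286784866253733890))) (.leaf (nat_lit 70322048951209347579908)))))) (.node (.node (.node (.node
    (.node (.leaf (nat_lit 1772042608808649097220)) (.leaf (nat_lit 76800827101986192424964)))
    (.node (.leaf (nat_lit 154384923032223767)) (.leaf (nat_lit 223944582082219737090)))) (.node
    (.node (.leaf (nat_lit 0)) (.leaf (nat_lit 0))) (.leaf (nat_lit 26619298036115673776175))))
    (.node (.node (.node (.leaf (nat_lit 40556753406066701)) (.leaf (nat_lit
    2578324000937830624290124585184657460))) (.node (.leaf (nat_lit 49374606793279543771175))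
    (.leaf (nat_lit 12581508804119887874)))) (.node (.node (.leaf (nat_lit 113850224283418635))
    (.leaf (nat_lit 301410179084386361))) (.leaf (nat_lit 0))))) (.node (.node (.node (.node (.leaf
    (nat_lit 0)) (.leaf (nat_lit 74457550243098668630020))) (.node (.leaf (nat_lit
    94756560621994002)) (.leaf (nat_lit 228617075113752526850)))) (.node (.node (.leaf (nat_lit 0))
    (.leaf (nat_lit 0))) (.leaf (nat_lit 64155071822551927029781)))) (.node (.node (.node (.leaf
    (nat_lit 114594022555660)) (.leaf (nat_lit 72753089930297379979317))) (.node (.leaf (nat_lit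
    147889497961594888)) (.leaf (nat_lit 965027611934722)))) (.node (.node (.leaf (nat_lit
    136480578764734475)) (.leaf (nat_lit 729470130585602))) (.leaf (nat_lit
    70325007974528564133938))))))) (.node (.node (.node (.node (.node (.node (.leaf (nat_lit 0))
    (.leaf (nat_lit 2453893837102663581682514226282364979))) (.node (.leaf (nat_lit
    147766047716605977)) (.leaf (nat_lit 49242062041841666)))) (.node (.node (.leaf (nat_lit
    40574474441130001)) (.leaf (nat_lit 0))) (.leaf (nat_lit 41693201779892355924013)))) (.node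
    (.node (.node (.leaf (nat_lit 0)) (.leaf (nat_lit 79748299219068038479876))) (.node (.leaf
    (nat_lit 35212697556354240675877)) (.leaf (nat_lit 473798836222099458)))) (.node (.node (.leaf
    (nat_lit 36913814144572194840)) (.leaf (nat_lit 46332805659149567170838554))) (.leaf (nat_lit
    88410565456330752031))))) (.node (.node (.node (.node (.leaf (nat_lit 20286071137042440))
    (.leaf (nat_lit 0))) (.node (.leaf (nat_lit 0)) (.leaf (nat_lit 223979489003716214786))))
    (.node (.node (.leaf (nat_lit 0)) (.leaf (nat_lit 735938351333383))) (.leaf (nat_lit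
    83387859498893335)))) (.node (.node (.node (.leaf (nat_lit 40561211582119951)) (.leaf (nat_lit
    0))) (.node (.leaf (nat_lit 0)) (.leaf (nat_lit 251678992354261598210)))) (.node (.node (.leaf
    (nat_lit 31826057260813254687)) (.leaf (nat_lit 819608609226754))) (.leaf (nat_lit
    69746163454610663342084)))))) (.node (.node (.node (.node (.node (.leaf (nat_lit
    13530645926182917)) (.leaf (nat_lit 0))) (.node (.leaf (nat_lit 22806573100321999224867))
    (.leaf (nat_lit 263171612801695746)))) (.node (.node (.leaf (nat_lit 63094697371041808)) (.leaf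
    (nat_lit 0))) (.leaf (nat_lit 442828308217904)))) (.node (.node (.node (.leaf (nat_lit 0))
    (.leaf (nat_lit 0))) (.node (.leaf (nat_lit 29577812013829155258409)) (.leaf (nat_lit
    125889675971103014846466)))) (.node (.node (.leaf (nat_lit 26578311912424040890395)) (.leaf
    (nat_lit 210771439364117626905))) (.leaf (nat_lit 0))))) (.node (.node (.node (.node (.leaf
    (nat_lit 0)) (.leaf (nat_lit 318131642113916939))) (.node (.leaf (nat_lit 151069148150169614))
    (.leaf (nat_lit 60523008393150466)))) (.node (.node (.leaf (nat_lit 18312499852813671923733))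
    (.leaf (nat_lit 392575386837516320))) (.leaf (nat_lit 216573953534263312)))) (.node (.node
    (.node (.leaf (nat_lit 0)) (.leaf (nat_lit 2994056832226614251876896333703544884))) (.node
    (.leaf (nat_lit 55809531206061405831205)) (.leaf (nat_lit 500833662485594114)))) (.node (.node
    (.leaf (nat_lit 66694622994432014)) (.leaf (nat_lit 200103428263968770))) (.leaf (nat_lit
    72102238721298965790724)))))))))

/-- Certificate data. -/
def p3_rel : Trie :=
    (.node (.node (.node (.node (.node (.node (.leaf (nat_lit 0)) (.leaf (nat_lit 3307259692039)))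
    (.node (.leaf (nat_lit 151063042)) (.leaf (nat_lit 6614317008387)))) (.node (.node (.leaf
    (nat_lit 117703171)) (.leaf (nat_lit 4419571876613))) (.node (.leaf (nat_lit 8809129378052))
    (.leaf (nat_lit 34393751818))))) (.node (.node (.node (.leaf (nat_lit
    2446222948635142120669446)) (.leaf (nat_lit 67699465))) (.node (.leaf (nat_lit 3311470511110))
    (.leaf (nat_lit 33752836)))) (.node (.node (.leaf (nat_lit 151193860)) (.leaf (nat_lit
    4428161746954))) (.leaf (nat_lit 34210057))))) (.node (.node (.node (.node (.leaf (nat_lit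
    6610005198340)) (.leaf (nat_lit 30215899137))) (.node (.leaf (nat_lit 18963398153276695380996))
    (.leaf (nat_lit 7263055207906245441816066)))) (.node (.node (.leaf (nat_lit 592137)) (.leaf
    (nat_lit 4415310464260))) (.leaf (nat_lit 131586)))) (.node (.node (.node (.leaf (nat_lit
    17105413)) (.leaf (nat_lit 4777923735600698163971))) (.node (.leaf (nat_lit 43084023553))
    (.leaf (nat_lit 9925686462467)))) (.node (.node (.leaf (nat_lit 151128577)) (.leaf (nat_lit
    657930))) (.leaf (nat_lit 50988042)))))) (.node (.node (.node (.node (.node (.leaf (nat_lit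
    100992517)) (.leaf (nat_lit 1116825913607))) (.node (.leaf (nat_lit 8724219657)) (.leaf
    (nat_lit 7263110476080881072145921)))) (.node (.node (.leaf (nat_lit 67175176)) (.leaf (nat_lit
    50922505))) (.leaf (nat_lit 8839110263554)))) (.node (.node (.node (.leaf (nat_lit 65793))
    (.leaf (nat_lit 4415293817605))) (.node (.leaf (nat_lit 168036867)) (.leaf (nat_lit
    16975876)))) (.node (.node (.leaf (nat_lit 167905537)) (.leaf (nat_lit 4415293883142))) (.leaf
    (nat_lit 38688784647))))) (.node (.node (.node (.node (.leaf (nat_lit 33882373)) (.leaf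
    (nat_lit 2233551030019))) (.node (.leaf (nat_lit 3311470445573)) (.leaf (nat_lit
    6614350496515)))) (.node (.node (.leaf (nat_lit 151259395)) (.leaf (nat_lit 4432457172737)))
    (.leaf (nat_lit 67240711)))) (.node (.node (.node (.leaf (nat_lit 134480131)) (.leaf (nat_lit
    3320077091845))) (.node (.leaf (nat_lit 17367562)) (.leaf (nat_lit 50791426)))) (.node (.node
    (.leaf (nat_lit 167840002)) (.leaf (nat_lit 167971332))) (.leaf (nat_lit 67765002)))))))

/-- Certificate data. -/
def p3_rc : Trie :=
    (.node (.node (.node (.node (.node (.node (.leaf (nat_lit 32)) (.leaf (nat_lit 131094))) (.node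
    (.leaf (nat_lit 262162)) (.leaf (nat_lit 131102)))) (.node (.node (.leaf (nat_lit 131085))
    (.leaf (nat_lit 655369))) (.node (.leaf (nat_lit 655383)) (.leaf (nat_lit 524302))))) (.node
    (.node (.node (.leaf (nat_lit 1048605)) (.leaf (nat_lit 393236))) (.node (.leaf (nat_lit
    393247)) (.leaf (nat_lit 393229)))) (.node (.node (.leaf (nat_lit 262164)) (.leaf (nat_lit
    393238))) (.leaf (nat_lit 19))))) (.node (.node (.node (.node (.leaf (nat_lit 524319)) (.leaf
    (nat_lit 262159))) (.node (.leaf (nat_lit 393227)) (.leaf (nat_lit 917533)))) (.node (.node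
    (.leaf (nat_lit 16)) (.leaf (nat_lit 655368))) (.leaf (nat_lit 1)))) (.node (.node (.node
    (.leaf (nat_lit 262150)) (.leaf (nat_lit 10))) (.node (.leaf (nat_lit 14)) (.leaf (nat_lit
    393239)))) (.node (.node (.leaf (nat_lit 131091)) (.leaf (nat_lit 17))) (.leaf (nat_lit
    262165)))))) (.node (.node (.node (.node (.node (.leaf (nat_lit 26)) (.leaf (nat_lit 131095)))
    (.node (.leaf (nat_lit 15)) (.leaf (nat_lit 1179677)))) (.node (.node (.leaf (nat_lit 393228))
    (.leaf (nat_lit 131092))) (.leaf (nat_lit 655382)))) (.node (.node (.node (.leaf (nat_lit 0))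
    (.leaf (nat_lit 8))) (.node (.leaf (nat_lit 131093)) (.leaf (nat_lit 262156)))) (.node (.node
    (.leaf (nat_lit 18)) (.leaf (nat_lit 30))) (.leaf (nat_lit 131087))))) (.node (.node (.node
    (.node (.leaf (nat_lit 6)) (.leaf (nat_lit 22))) (.node (.leaf (nat_lit 393225)) (.leaf
    (nat_lit 31)))) (.node (.node (.leaf (nat_lit 20)) (.leaf (nat_lit 23))) (.leaf (nat_lit 13))))
    (.node (.node (.node (.leaf (nat_lit 12)) (.leaf (nat_lit 262152))) (.node (.leaf (nat_lit
    262163)) (.leaf (nat_lit 262157)))) (.node (.node (.leaf (nat_lit 393235)) (.leaf (nat_lit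
    393237))) (.leaf (nat_lit 21)))))))

/-- Certificate data. -/
def p3_lv : Trie :=
    (.leaf (nat_lit 0))

/-- Certificate data. -/
def p3_tb : Trie :=
    (.node (.node (.leaf (nat_lit 0)) (.leaf (nat_lit 5))) (.node (.leaf (nat_lit 2)) (.leaf
    (nat_lit 453))))

/-- Certificate data. -/
def p3_C : TC.Cert := ⟨6, 63, 9, 511, 10927685746723987665256960, 62, p3_par, p3_fact, p3_just, p3_rel, 57⟩

/-- Certificate data. -/
def p3_rs : List (List ℕ) := [[1, 1, 1], [3, 3, 3, 3, 3, 3, 3, 3], [5, 5], [5, 1, 5, 2], [5, 3, 5, 4, 4, 4], [3, 3, 3, 3, 1, 3, 3, 3, 3, 1], [3, 1, 4, 8], [1, 7, 2, 8, 10], [9, 9, 9], [1, 9, 2, 10], [3, 9, 4, 9], [3, 7, 4, 10, 8, 2], [6, 6], [5, 6, 5, 6], [6, 2, 6, 1, 6, 1, 4, 4, 4, 4, 2], [6, 3, 6, 4, 4, 4]]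

/-- Certificate data. -/
def p3_gl : List ℕ := [1, 259, 517, 774]

theorem p3_h1 : allB p3_C.factChk 227 = true := by decide +kernel

theorem p3_h2 : p3_C.finChk 227 1 p3_lv p3_tb p3_gl = true := by decide +kernel

theorem p3_h3 : TC.relChk p3_C.ivc p3_rs p3_C.rel p3_rc p3_C.nrel = true := by decide +kernel

theorem p3_bound {G : Type*} [Group G] {a c w t b z : G}
    (r0 : a * a * a = 1)
    (r1 : c * c * c * c * c * c * c * c = 1)
    (r2 : w * w = 1)
    (r3 : w * a * w * a⁻¹ = 1)
    (r4 : w * c * w * c⁻¹ * c⁻¹ * c⁻¹ = 1)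
    (r5 : c * c * c * c * a * c * c * c * c * a = 1)
    (r6 : c * a * c⁻¹ * b⁻¹ = 1)
    (r7 : a * b * a⁻¹ * b⁻¹ * z⁻¹ = 1)
    (r8 : z * z * z = 1)
    (r9 : a * z * a⁻¹ * z⁻¹ = 1)
    (r10 : c * z * c⁻¹ * z = 1)
    (r11 : c * b * c⁻¹ * z⁻¹ * b⁻¹ * a⁻¹ = 1)
    (r12 : t * t = 1)
    (r13 : w * t * w * t = 1)
    (r14 : t * a⁻¹ * t * a * t * a * c⁻¹ * c⁻¹ * c⁻¹ * c⁻¹ * a⁻¹ = 1)
    (r15 : t * c * t * c⁻¹ * c⁻¹ * c⁻¹ = 1)
    (H : Subgroup G) [Finite H] (m1 : a ∈ H) (m3 : c ∈ H) (m5 : w ∈ H) :
    Finite (Subgroup.closure ({a, c, w, t} : Set G)) ∧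
      Nat.card (Subgroup.closure ({a, c, w, t} : Set G)) ≤ 1 * Nat.card H := by
  have hL : TC.Lett (TC.lett [a, a⁻¹, c, c⁻¹, w, t, b, b⁻¹, z, z⁻¹]) p3_C.ivc :=
    TC.lett_ok (show Nat.shiftRight p3_C.ivc (8 * 11) = 0 by decide +kernel) (by
      intro a ha
      change a < 11 at ha
      interval_cases a
      · exact inv_one.symm
      · rfl
      · exact (inv_inv _).symm
      · rfl
      · exact (inv_inv _).symm
      · exact (inv_eq_of_mul_eq_one_right r2).symm
      · exact (inv_eq_of_mul_eq_one_right r12).symm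
      · rfl
      · exact (inv_inv _).symm
      · rfl
      · exact (inv_inv _).symm)
  have h := TC.card_le p3_h1 p3_h2 p3_h3 (by decide) hL (by
    simp only [p3_rs, List.forall_mem_cons]
    refine ⟨?_, ?_, ?_, ?_, ?_, ?_, ?_, ?_, ?_, ?_, ?_, ?_, ?_, ?_, ?_, ?_, List.forall_mem_nil _⟩
    · show a * (a * (a * 1)) = 1
      simp only [mul_assoc, mul_one] at r0 ⊢
      exact r0
    · show c * (c * (c * (c * (c * (c * (c * (c * 1))))))) = 1
      simp only [mul_assoc, mul_one] at r1 ⊢
      exact r1
    · show w * (w * 1) = 1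
      simp only [mul_one] at r2 ⊢
      exact r2
    · show w * (a * (w * (a⁻¹ * 1))) = 1
      simp only [mul_assoc, mul_one] at r3 ⊢
      exact r3
    · show w * (c * (w * (c⁻¹ * (c⁻¹ * (c⁻¹ * 1))))) = 1
      simp only [mul_assoc, mul_one] at r4 ⊢
      exact r4
    · show c * (c * (c * (c * (a * (c * (c * (c * (c * (a * 1))))))))) = 1
      simp only [mul_assoc, mul_one] at r5 ⊢
      exact r5
    · show c * (a * (c⁻¹ * (b⁻¹ * 1))) = 1
      simp only [mul_assoc, mul_one] at r6 ⊢
      exact r6
    · show a * (b * (a⁻¹ * (b⁻¹ * (z⁻¹ * 1)))) = 1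
      simp only [mul_assoc, mul_one] at r7 ⊢
      exact r7
    · show z * (z * (z * 1)) = 1
      simp only [mul_assoc, mul_one] at r8 ⊢
      exact r8
    · show a * (z * (a⁻¹ * (z⁻¹ * 1))) = 1
      simp only [mul_assoc, mul_one] at r9 ⊢
      exact r9
    · show c * (z * (c⁻¹ * (z * 1))) = 1
      simp only [mul_assoc, mul_one] at r10 ⊢
      exact r10
    · show c * (b * (c⁻¹ * (z⁻¹ * (b⁻¹ * (a⁻¹ * 1))))) = 1
      simp only [mul_assoc, mul_one] at r11 ⊢
      exact r11
    · show t * (t * 1) = 1
      simp only [mul_one] at r12 ⊢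
      exact r12
    · show w * (t * (w * (t * 1))) = 1
      simp only [mul_assoc, mul_one] at r13 ⊢
      exact r13
    · show t * (a⁻¹ * (t * (a * (t * (a * (c⁻¹ * (c⁻¹ * (c⁻¹ * (c⁻¹ * (a⁻¹ * 1)))))))))) = 1
      simp only [mul_assoc, mul_one] at r14 ⊢
      exact r14
    · show t * (c * (t * (c⁻¹ * (c⁻¹ * (c⁻¹ * 1))))) = 1
      simp only [mul_assoc, mul_one] at r15 ⊢
      exact r15) H
    (TC.forall_subs (K := 11) (by decide +kernel) (by
      intro a ha hb
      interval_cases a
      · exact absurd hb (by decide +kernel)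
      · exact m1
      · exact H.inv_mem m1
      · exact m3
      · exact H.inv_mem m3
      · exact m5
      · exact absurd hb (by decide +kernel)
      · exact absurd hb (by decide +kernel)
      · exact absurd hb (by decide +kernel)
      · exact absurd hb (by decide +kernel)
      · exact absurd hb (by decide +kernel)))
  have e : {g₀ | ∃ ak ∈ p3_gl, TC.lett [a, a⁻¹, c, c⁻¹, w, t, b, b⁻¹, z, z⁻¹] (ak % 256) = g₀} =
      {a, c, w, t} := by
    ext g₀
    simp only [p3_gl, List.mem_cons, List.not_mem_nil, or_false, exists_eq_or_imp,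
      exists_eq_left, Set.mem_ofPred_eq, Set.mem_insert_iff, Set.mem_singleton_iff]
    exact or_congr eq_comm (or_congr eq_comm (or_congr eq_comm (eq_comm)))
  rw [e] at h
  exact h

theorem p3_card {G : Type*} [Group G] {a c w t b z : G}
    (e0 : a ^ 3 = 1)
    (e1 : c ^ 8 = 1)
    (e2 : w * w = 1)
    (e3 : w * a * w = a)
    (e4 : w * c * w = c ^ 3)
    (e5 : c ^ 4 * a * c ^ 4 = a⁻¹)
    (e6 : c * a * c⁻¹ = b)
    (e7 : a * b * a⁻¹ * b⁻¹ = z)
    (e8 : z ^ 3 = 1)
    (e9 : a * z = z * a)
    (e10 : c * z * c⁻¹ = z⁻¹)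
    (e11 : c * b * c⁻¹ = a * b * z)
    (e12 : t * t = 1)
    (e13 : w * t = t * w)
    (e14 : t * a⁻¹ * t * a * t = a * c ^ 4 * a⁻¹)
    (e15 : t * c * t = c ^ 3)
    (H : Subgroup G) [Finite H] (ma : a ∈ H) (mc : c ∈ H) (mw : w ∈ H) :
    Finite (Subgroup.closure ({a, c, w, t} : Set G)) ∧
      Nat.card (Subgroup.closure ({a, c, w, t} : Set G)) ≤ 1 * Nat.card H := by
  have iw : w⁻¹ = w := inv_eq_of_mul_eq_one_right e2
  have it : t⁻¹ = t := inv_eq_of_mul_eq_one_right e12
  refine p3_bound (b := b) (z := z) ?_ ?_ ?_ ?_ ?_ ?_ ?_ ?_ ?_ ?_ ?_ ?_ ?_ ?_ ?_ ?_ H ma mc mw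
  · have h := mul_inv_eq_one.mpr e0
    simp only [pow_succ, pow_zero, mul_inv_rev, inv_inv, inv_one, one_mul, mul_one, mul_assoc,
      mul_inv_cancel_left, inv_mul_cancel_left, mul_inv_cancel, inv_mul_cancel, iw, it] at h ⊢
    exact h
  · have h := mul_inv_eq_one.mpr e1
    simp only [pow_succ, pow_zero, mul_inv_rev, inv_inv, inv_one, one_mul, mul_one, mul_assoc,
      mul_inv_cancel_left, inv_mul_cancel_left, mul_inv_cancel, inv_mul_cancel, iw, it] at h ⊢
    exact h
  · have h := mul_inv_eq_one.mpr e2
    simp only [pow_succ, pow_zero, mul_inv_rev, inv_inv, inv_one, one_mul, mul_one, mul_assoc,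
      mul_inv_cancel_left, inv_mul_cancel_left, mul_inv_cancel, inv_mul_cancel, iw, it] at h ⊢
    exact h
  · have h := mul_inv_eq_one.mpr e3
    simp only [pow_succ, pow_zero, mul_inv_rev, inv_inv, inv_one, one_mul, mul_one, mul_assoc,
      mul_inv_cancel_left, inv_mul_cancel_left, mul_inv_cancel, inv_mul_cancel, iw, it] at h ⊢
    exact h
  · have h := mul_inv_eq_one.mpr e4
    simp only [pow_succ, pow_zero, mul_inv_rev, inv_inv, inv_one, one_mul, mul_one, mul_assoc,
      mul_inv_cancel_left, inv_mul_cancel_left, mul_inv_cancel, inv_mul_cancel, iw, it] at h ⊢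
    exact h
  · have h := mul_inv_eq_one.mpr e5
    simp only [pow_succ, pow_zero, mul_inv_rev, inv_inv, inv_one, one_mul, mul_one, mul_assoc,
      mul_inv_cancel_left, inv_mul_cancel_left, mul_inv_cancel, inv_mul_cancel, iw, it] at h ⊢
    exact h
  · have h := mul_inv_eq_one.mpr e6
    simp only [pow_succ, pow_zero, mul_inv_rev, inv_inv, inv_one, one_mul, mul_one, mul_assoc,
      mul_inv_cancel_left, inv_mul_cancel_left, mul_inv_cancel, inv_mul_cancel, iw, it] at h ⊢
    exact h
  · have h := mul_inv_eq_one.mpr e7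
    simp only [pow_succ, pow_zero, mul_inv_rev, inv_inv, inv_one, one_mul, mul_one, mul_assoc,
      mul_inv_cancel_left, inv_mul_cancel_left, mul_inv_cancel, inv_mul_cancel, iw, it] at h ⊢
    exact h
  · have h := mul_inv_eq_one.mpr e8
    simp only [pow_succ, pow_zero, mul_inv_rev, inv_inv, inv_one, one_mul, mul_one, mul_assoc,
      mul_inv_cancel_left, inv_mul_cancel_left, mul_inv_cancel, inv_mul_cancel, iw, it] at h ⊢
    exact h
  · have h := mul_inv_eq_one.mpr e9
    simp only [pow_succ, pow_zero, mul_inv_rev, inv_inv, inv_one, one_mul, mul_one, mul_assoc,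
      mul_inv_cancel_left, inv_mul_cancel_left, mul_inv_cancel, inv_mul_cancel, iw, it] at h ⊢
    exact h
  · have h := mul_inv_eq_one.mpr e10
    simp only [pow_succ, pow_zero, mul_inv_rev, inv_inv, inv_one, one_mul, mul_one, mul_assoc,
      mul_inv_cancel_left, inv_mul_cancel_left, mul_inv_cancel, inv_mul_cancel, iw, it] at h ⊢
    exact h
  · have h := mul_inv_eq_one.mpr e11
    simp only [pow_succ, pow_zero, mul_inv_rev, inv_inv, inv_one, one_mul, mul_one, mul_assoc,
      mul_inv_cancel_left, inv_mul_cancel_left, mul_inv_cancel, inv_mul_cancel, iw, it] at h ⊢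
    exact h
  · have h := mul_inv_eq_one.mpr e12
    simp only [pow_succ, pow_zero, mul_inv_rev, inv_inv, inv_one, one_mul, mul_one, mul_assoc,
      mul_inv_cancel_left, inv_mul_cancel_left, mul_inv_cancel, inv_mul_cancel, iw, it] at h ⊢
    exact h
  · have h := mul_inv_eq_one.mpr e13
    simp only [pow_succ, pow_zero, mul_inv_rev, inv_inv, inv_one, one_mul, mul_one, mul_assoc,
      mul_inv_cancel_left, inv_mul_cancel_left, mul_inv_cancel, inv_mul_cancel, iw, it] at h ⊢
    exact h
  · have h := mul_inv_eq_one.mpr e14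
    simp only [pow_succ, pow_zero, mul_inv_rev, inv_inv, inv_one, one_mul, mul_one, mul_assoc,
      mul_inv_cancel_left, inv_mul_cancel_left, mul_inv_cancel, inv_mul_cancel, iw, it] at h ⊢
    exact h
  · have h := mul_inv_eq_one.mpr e15
    simp only [pow_succ, pow_zero, mul_inv_rev, inv_inv, inv_one, one_mul, mul_one, mul_assoc,
      mul_inv_cancel_left, inv_mul_cancel_left, mul_inv_cancel, inv_mul_cancel, iw, it] at h ⊢
    exact h

/-- Certificate data. -/
def p5_par : Trie :=
    (.node (.node (.node (.node (.node (.node (.node (.leaf (nat_lit 0)) (.leaf (nat_lit 7946)))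
    (.node (.leaf (nat_lit 2822)) (.leaf (nat_lit 11783)))) (.node (.node (.leaf (nat_lit 777))
    (.leaf (nat_lit 9473))) (.node (.leaf (nat_lit 7175)) (.leaf (nat_lit 13316))))) (.node (.node
    (.node (.leaf (nat_lit 516)) (.leaf (nat_lit 8455))) (.node (.leaf (nat_lit 5382)) (.leaf
    (nat_lit 12042)))) (.node (.node (.leaf (nat_lit 1282)) (.leaf (nat_lit 10242))) (.leaf
    (nat_lit 7433))))) (.node (.node (.node (.node (.leaf (nat_lit 263)) (.leaf (nat_lit 8201)))
    (.node (.leaf (nat_lit 4102)) (.leaf (nat_lit 12036)))) (.node (.node (.leaf (nat_lit 1027))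
    (.leaf (nat_lit 9482))) (.node (.leaf (nat_lit 7425)) (.leaf (nat_lit 14855))))) (.node (.node
    (.node (.leaf (nat_lit 522)) (.leaf (nat_lit 8713))) (.node (.leaf (nat_lit 6662)) (.leaf
    (nat_lit 12545)))) (.node (.node (.leaf (nat_lit 1542)) (.leaf (nat_lit 11017))) (.leaf
    (nat_lit 7689)))))) (.node (.node (.node (.node (.node (.leaf (nat_lit 257)) (.leaf (nat_lit
    8194))) (.node (.leaf (nat_lit 3590)) (.leaf (nat_lit 11785)))) (.node (.node (.leaf (nat_lit
    1025)) (.leaf (nat_lit 9480))) (.node (.leaf (nat_lit 7177)) (.leaf (nat_lit 13572))))) (.node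
    (.node (.node (.leaf (nat_lit 520)) (.leaf (nat_lit 8458))) (.node (.leaf (nat_lit 5894))
    (.leaf (nat_lit 12290)))) (.node (.node (.leaf (nat_lit 1289)) (.leaf (nat_lit 10249))) (.leaf
    (nat_lit 7682))))) (.node (.node (.node (.node (.leaf (nat_lit 265)) (.leaf (nat_lit 8449)))
    (.node (.leaf (nat_lit 4614)) (.leaf (nat_lit 12040)))) (.node (.node (.leaf (nat_lit 1034))
    (.leaf (nat_lit 9737))) (.node (.leaf (nat_lit 7431)) (.leaf (nat_lit 29702))))) (.node (.node
    (.node (.leaf (nat_lit 775)) (.leaf (nat_lit 8970))) (.node (.leaf (nat_lit 7169)) (.leaf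
    (nat_lit 12553)))) (.node (.node (.leaf (nat_lit 2310)) (.leaf (nat_lit 11530))) (.leaf
    (nat_lit 7938))))))) (.node (.node (.node (.node (.node (.node (.leaf (nat_lit 6)) (.leaf
    (nat_lit 8193))) (.node (.leaf (nat_lit 3078)) (.leaf (nat_lit 11784)))) (.node (.node (.leaf
    (nat_lit 778)) (.leaf (nat_lit 9474))) (.node (.leaf (nat_lit 7176)) (.leaf (nat_lit 13319)))))
    (.node (.node (.node (.leaf (nat_lit 519)) (.leaf (nat_lit 8457))) (.node (.leaf (nat_lit
    5638)) (.leaf (nat_lit 12289)))) (.node (.node (.leaf (nat_lit 1283)) (.leaf (nat_lit 10247)))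
    (.leaf (nat_lit 7434))))) (.node (.node (.node (.node (.leaf (nat_lit 264)) (.leaf (nat_lit
    8202))) (.node (.leaf (nat_lit 4358)) (.leaf (nat_lit 12039)))) (.node (.node (.leaf (nat_lit
    1033)) (.leaf (nat_lit 9735))) (.node (.leaf (nat_lit 7426)) (.leaf (nat_lit 18434))))) (.node
    (.node (.node (.leaf (nat_lit 772)) (.leaf (nat_lit 8714))) (.node (.leaf (nat_lit 6918))
    (.leaf (nat_lit 12546)))) (.node (.node (.leaf (nat_lit 1798)) (.leaf (nat_lit 11273))) (.leaf
    (nat_lit 7690)))))) (.node (.node (.node (.node (.node (.leaf (nat_lit 258)) (.leaf (nat_lit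
    8200))) (.node (.leaf (nat_lit 3846)) (.leaf (nat_lit 11786)))) (.node (.node (.leaf (nat_lit
    1026)) (.leaf (nat_lit 9481))) (.node (.leaf (nat_lit 7178)) (.leaf (nat_lit 13576))))) (.node
    (.node (.node (.leaf (nat_lit 521)) (.leaf (nat_lit 8712))) (.node (.leaf (nat_lit 6150))
    (.leaf (nat_lit 12297)))) (.node (.node (.leaf (nat_lit 1290)) (.leaf (nat_lit 10506))) (.leaf
    (nat_lit 7688))))) (.node (.node (.node (.node (.leaf (nat_lit 266)) (.leaf (nat_lit 8450)))
    (.node (.leaf (nat_lit 4870)) (.leaf (nat_lit 12041)))) (.node (.node (.leaf (nat_lit 1281))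
    (.leaf (nat_lit 9993))) (.node (.leaf (nat_lit 7432)) (.leaf (nat_lit 29958))))) (.node (.node
    (.node (.leaf (nat_lit 776)) (.leaf (nat_lit 9225))) (.node (.leaf (nat_lit 7170)) (.leaf
    (nat_lit 12806)))) (.node (.node (.leaf (nat_lit 2566)) (.leaf (nat_lit 11780))) (.leaf
    (nat_lit 7945))))))))

/-- Certificate data. -/
def p5_fact : Trie :=
    (.node (.node (.node (.node (.node (.node (.node (.node (.node (.node (.leaf (nat_lit 1))
    (.leaf (nat_lit 3929350))) (.leaf (nat_lit 1198849))) (.node (.leaf (nat_lit 1024514)) (.leaf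
    (nat_lit 3236618)))) (.node (.node (.leaf (nat_lit 624649)) (.leaf (nat_lit 2447106))) (.node
    (.leaf (nat_lit 1875210)) (.leaf (nat_lit 3403268))))) (.node (.node (.node (.leaf (nat_lit
    492296)) (.leaf (nat_lit 2664970))) (.node (.leaf (nat_lit 1125381)) (.leaf (nat_lit
    1586697)))) (.node (.node (.leaf (nat_lit 661765)) (.leaf (nat_lit 2610181))) (.node (.leaf
    (nat_lit 1948422)) (.leaf (nat_lit 3141889)))))) (.node (.node (.node (.node (.leaf (nat_lit
    99588)) (.leaf (nat_lit 2248193))) (.node (.leaf (nat_lit 1026053)) (.leaf (nat_lit 3452931))))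
    (.node (.node (.leaf (nat_lit 726789)) (.leaf (nat_lit 2644228))) (.node (.leaf (nat_lit
    2146566)) (.leaf (nat_lit 3631879))))) (.node (.node (.node (.leaf (nat_lit 263429)) (.leaf
    (nat_lit 2370056))) (.node (.leaf (nat_lit 1645577)) (.leaf (nat_lit 3173380)))) (.node (.node
    (.leaf (nat_lit 531204)) (.leaf (nat_lit 1595142))) (.node (.leaf (nat_lit 2334978)) (.leaf
    (nat_lit 3795205))))))) (.node (.node (.node (.node (.node (.leaf (nat_lit 66054)) (.leaf
    (nat_lit 2080518))) (.node (.leaf (nat_lit 1249798)) (.leaf (nat_lit 1664769)))) (.node (.node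
    (.leaf (nat_lit 496133)) (.leaf (nat_lit 2905348))) (.node (.leaf (nat_lit 2006538)) (.leaf
    (nat_lit 3629314))))) (.node (.node (.node (.leaf (nat_lit 299530)) (.leaf (nat_lit 2729225)))
    (.node (.leaf (nat_lit 994563)) (.leaf (nat_lit 3238660)))) (.node (.node (.leaf (nat_lit
    334337)) (.leaf (nat_lit 3030277))) (.node (.leaf (nat_lit 2211332)) (.leaf (nat_lit
    1798661)))))) (.node (.node (.node (.node (.leaf (nat_lit 328200)) (.leaf (nat_lit 2543364)))
    (.node (.leaf (nat_lit 1092099)) (.leaf (nat_lit 1651203)))) (.node (.node (.leaf (nat_lit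
    198405)) (.leaf (nat_lit 2644483))) (.node (.leaf (nat_lit 2269194)) (.leaf (nat_lit
    3141642))))) (.node (.node (.node (.leaf (nat_lit 463873)) (.leaf (nat_lit 2827785))) (.node
    (.leaf (nat_lit 1619203)) (.leaf (nat_lit 3584258)))) (.node (.node (.leaf (nat_lit 985350))
    (.leaf (nat_lit 3124740))) (.node (.leaf (nat_lit 1263369)) (.leaf (nat_lit 3852290))))))))
    (.node (.node (.node (.node (.node (.node (.leaf (nat_lit 33029)) (.leaf (nat_lit 2499081)))
    (.node (.leaf (nat_lit 1123332)) (.leaf (nat_lit 3289093)))) (.node (.node (.leaf (nat_lit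
    428553)) (.leaf (nat_lit 2893826))) (.node (.leaf (nat_lit 1358338)) (.leaf (nat_lit
    1564931))))) (.node (.node (.node (.leaf (nat_lit 557834)) (.leaf (nat_lit 2413060))) (.node
    (.leaf (nat_lit 1256199)) (.leaf (nat_lit 3485698)))) (.node (.node (.leaf (nat_lit 825606))
    (.leaf (nat_lit 2939905))) (.node (.leaf (nat_lit 2179076)) (.leaf (nat_lit 3723014))))))
    (.node (.node (.node (.node (.leaf (nat_lit 198404)) (.leaf (nat_lit 2509830))) (.node (.leaf
    (nat_lit 1190148)) (.leaf (nat_lit 924937)))) (.node (.node (.leaf (nat_lit 363525)) (.leaf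
    (nat_lit 2935300))) (.node (.leaf (nat_lit 2048772)) (.leaf (nat_lit 3665667))))) (.node (.node
    (.node (.leaf (nat_lit 463625)) (.leaf (nat_lit 2377734))) (.node (.leaf (nat_lit 1586179))
    (.leaf (nat_lit 3401477)))) (.node (.node (.leaf (nat_lit 952070)) (.leaf (nat_lit 2252292)))
    (.node (.leaf (nat_lit 2367751)) (.leaf (nat_lit 2225161))))))) (.node (.node (.node (.node
    (.node (.leaf (nat_lit 99078)) (.leaf (nat_lit 2215169))) (.node (.leaf (nat_lit 1255172))
    (.leaf (nat_lit 1697793)))) (.node (.node (.leaf (nat_lit 300545)) (.leaf (nat_lit 2802438)))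
    (.node (.leaf (nat_lit 1129986)) (.leaf (nat_lit 3171845))))) (.node (.node (.node (.leaf
    (nat_lit 431107)) (.leaf (nat_lit 2731015))) (.node (.leaf (nat_lit 1547266)) (.leaf (nat_lit
    3498500)))) (.node (.node (.leaf (nat_lit 855557)) (.leaf (nat_lit 2972930))) (.node (.leaf
    (nat_lit 2174726)) (.leaf (nat_lit 1831684)))))) (.node (.node (.node (.node (.leaf (nat_lit
    363530)) (.leaf (nat_lit 2663682))) (.node (.leaf (nat_lit 1321732)) (.leaf (nat_lit
    3388682)))) (.node (.node (.leaf (nat_lit 268296)) (.leaf (nat_lit 2022146))) (.node (.leaf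
    (nat_lit 2272514)) (.leaf (nat_lit 3684101))))) (.node (.node (.node (.leaf (nat_lit 461572))
    (.leaf (nat_lit 2838021))) (.node (.leaf (nat_lit 1809672)) (.leaf (nat_lit 3584259)))) (.node
    (.node (.leaf (nat_lit 1084422)) (.leaf (nat_lit 3190280))) (.node (.leaf (nat_lit 2433290))
    (.leaf (nat_lit 3863812))))))))) (.node (.node (.node (.node (.node (.node (.node (.node (.leaf
    (nat_lit 5)) (.leaf (nat_lit 3929859))) (.leaf (nat_lit 2472961))) (.node (.leaf (nat_lit
    1024771)) (.leaf (nat_lit 3288836)))) (.node (.node (.leaf (nat_lit 297476)) (.leaf (nat_lit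
    2774787))) (.node (.leaf (nat_lit 1652995)) (.leaf (nat_lit 1666567))))) (.node (.node (.node
    (.leaf (nat_lit 200705)) (.leaf (nat_lit 2674950))) (.node (.leaf (nat_lit 1256451)) (.leaf
    (nat_lit 3170310)))) (.node (.node (.leaf (nat_lit 334082)) (.leaf (nat_lit 1785862))) (.node
    (.leaf (nat_lit 1918214)) (.leaf (nat_lit 3730177)))))) (.node (.node (.node (.node (.leaf
    (nat_lit 196873)) (.leaf (nat_lit 2084355))) (.node (.leaf (nat_lit 1349126)) (.leaf (nat_lit
    963328)))) (.node (.node (.leaf (nat_lit 595716)) (.leaf (nat_lit 2677001))) (.node (.leaf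
    (nat_lit 2146818)) (.leaf (nat_lit 3650054))))) (.node (.node (.node (.leaf (nat_lit 398596))
    (.leaf (nat_lit 2375429))) (.node (.leaf (nat_lit 1711361)) (.leaf (nat_lit 3236357)))) (.node
    (.node (.leaf (nat_lit 889605)) (.leaf (nat_lit 2252290))) (.node (.leaf (nat_lit 2180869))
    (.leaf (nat_lit 3815943))))))) (.node (.node (.node (.node (.node (.leaf (nat_lit 66306))
    (.leaf (nat_lit 2510090))) (.node (.leaf (nat_lit 1282822)) (.leaf (nat_lit 3419914)))) (.node
    (.node (.leaf (nat_lit 721930)) (.leaf (nat_lit 2905347))) (.node (.leaf (nat_lit 1948932))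
    (.leaf (nat_lit 3631878))))) (.node (.node (.node (.leaf (nat_lit 594690)) (.leaf (nat_lit
    1397506))) (.node (.leaf (nat_lit 990984)) (.leaf (nat_lit 3140354)))) (.node (.node (.leaf
    (nat_lit 563716)) (.leaf (nat_lit 3058697))) (.node (.leaf (nat_lit 1194505)) (.leaf (nat_lit
    1831426)))))) (.node (.node (.node (.node (.leaf (nat_lit 199426)) (.leaf (nat_lit 1986565)))
    (.node (.leaf (nat_lit 994053)) (.leaf (nat_lit 3224586)))) (.node (.node (.leaf (nat_lit
    759810)) (.leaf (nat_lit 1628422))) (.node (.leaf (nat_lit 2082052)) (.leaf (nat_lit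
    3600391))))) (.node (.node (.node (.leaf (nat_lit 594954)) (.leaf (nat_lit 2708996))) (.node
    (.leaf (nat_lit 1776903)) (.leaf (nat_lit 3370250)))) (.node (.node (.leaf (nat_lit 1051398))
    (.leaf (nat_lit 3125509))) (.node (.leaf (nat_lit 1296641)) (.leaf (nat_lit 3831045))))))))
    (.node (.node (.node (.node (.node (.node (.leaf (nat_lit 65793)) (.leaf (nat_lit 2018308)))
    (.node (.leaf (nat_lit 1216774)) (.leaf (nat_lit 3354376)))) (.node (.node (.leaf (nat_lit
    297480)) (.leaf (nat_lit 2054149))) (.node (.leaf (nat_lit 1489674)) (.leaf (nat_lit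
    1597701))))) (.node (.node (.node (.leaf (nat_lit 233729)) (.leaf (nat_lit 2706437))) (.node
    (.leaf (nat_lit 1289477)) (.leaf (nat_lit 1763848)))) (.node (.node (.leaf (nat_lit 825353))
    (.leaf (nat_lit 2382852))) (.node (.leaf (nat_lit 2211842)) (.leaf (nat_lit 3371521))))))
    (.node (.node (.node (.node (.leaf (nat_lit 262660)) (.leaf (nat_lit 1920777))) (.node (.leaf
    (nat_lit 1382150)) (.leaf (nat_lit 1763328)))) (.node (.node (.leaf (nat_lit 561157)) (.leaf
    (nat_lit 2808322))) (.node (.leaf (nat_lit 2236425)) (.leaf (nat_lit 3683332))))) (.node (.node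
    (.node (.leaf (nat_lit 595203)) (.leaf (nat_lit 2741258))) (.node (.leaf (nat_lit 1717506))
    (.leaf (nat_lit 1651205)))) (.node (.node (.leaf (nat_lit 924931)) (.leaf (nat_lit 3102469)))
    (.node (.leaf (nat_lit 1263874)) (.leaf (nat_lit 3820545))))))) (.node (.node (.node (.node
    (.node (.leaf (nat_lit 66564)) (.leaf (nat_lit 1363208))) (.node (.leaf (nat_lit 1222408))
    (.leaf (nat_lit 3172618)))) (.node (.node (.leaf (nat_lit 300547)) (.leaf (nat_lit 2905354)))
    (.node (.leaf (nat_lit 2105098)) (.leaf (nat_lit 3139080))))) (.node (.node (.node (.leaf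
    (nat_lit 164870)) (.leaf (nat_lit 2413318))) (.node (.leaf (nat_lit 1580039)) (.leaf (nat_lit
    3533829)))) (.node (.node (.leaf (nat_lit 498434)) (.leaf (nat_lit 2350339))) (.node (.leaf
    (nat_lit 1951237)) (.leaf (nat_lit 3633921)))))) (.node (.node (.node (.node (.leaf (nat_lit
    426756)) (.leaf (nat_lit 2478341))) (.node (.leaf (nat_lit 1384712)) (.leaf (nat_lit
    3138816)))) (.node (.node (.leaf (nat_lit 497674)) (.leaf (nat_lit 2611972))) (.node (.leaf
    (nat_lit 1949952)) (.leaf (nat_lit 3716103))))) (.node (.node (.node (.leaf (nat_lit 265737))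
    (.leaf (nat_lit 2860809))) (.node (.leaf (nat_lit 1842441)) (.leaf (nat_lit 1830409)))) (.node
    (.node (.leaf (nat_lit 1117702)) (.leaf (nat_lit 1663490))) (.node (.leaf (nat_lit 2466312))
    (.leaf (nat_lit 3896835)))))))))) (.node (.node (.node (.node (.node (.node (.node (.node
    (.node (.leaf (nat_lit 3)) (.leaf (nat_lit 3897093))) (.leaf (nat_lit 1362698))) (.node (.leaf
    (nat_lit 1150726)) (.leaf (nat_lit 1696514)))) (.node (.node (.leaf (nat_lit 264449)) (.leaf
    (nat_lit 2348804))) (.node (.leaf (nat_lit 1849610)) (.leaf (nat_lit 3370499))))) (.node (.node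
    (.node (.leaf (nat_lit 525065)) (.leaf (nat_lit 1429513))) (.node (.leaf (nat_lit 1092612))
    (.leaf (nat_lit 1794050)))) (.node (.node (.leaf (nat_lit 268547)) (.leaf (nat_lit 3004677)))
    (.node (.leaf (nat_lit 2177793)) (.leaf (nat_lit 3207427)))))) (.node (.node (.node (.node
    (.leaf (nat_lit 164871)) (.leaf (nat_lit 2477572))) (.node (.leaf (nat_lit 1222660)) (.leaf
    (nat_lit 931840)))) (.node (.node (.leaf (nat_lit 431882)) (.leaf (nat_lit 2775297))) (.node
    (.leaf (nat_lit 2170882)) (.leaf (nat_lit 3203079))))) (.node (.node (.node (.leaf (nat_lit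
    689161)) (.leaf (nat_lit 2369546))) (.node (.leaf (nat_lit 1678346)) (.leaf (nat_lit
    3501062)))) (.node (.node (.leaf (nat_lit 498435)) (.leaf (nat_lit 3091722))) (.node (.leaf
    (nat_lit 2311938)) (.leaf (nat_lit 3785734))))))) (.node (.node (.node (.node (.node (.leaf
    (nat_lit 98562)) (.leaf (nat_lit 2531850))) (.node (.leaf (nat_lit 1156613)) (.leaf (nat_lit
    3237634)))) (.node (.node (.leaf (nat_lit 495108)) (.leaf (nat_lit 2904072))) (.node (.leaf
    (nat_lit 1981706)) (.leaf (nat_lit 3501573))))) (.node (.node (.node (.leaf (nat_lit 623618))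
    (.leaf (nat_lit 1430273))) (.node (.leaf (nat_lit 1158401)) (.leaf (nat_lit 3173123)))) (.node
    (.node (.leaf (nat_lit 825858)) (.leaf (nat_lit 3036678))) (.node (.leaf (nat_lit 1975297))
    (.leaf (nat_lit 2978310)))))) (.node (.node (.node (.node (.leaf (nat_lit 360969)) (.leaf
    (nat_lit 2630913))) (.node (.leaf (nat_lit 1415174)) (.leaf (nat_lit 1520649)))) (.node (.node
    (.leaf (nat_lit 787714)) (.leaf (nat_lit 2965509))) (.node (.leaf (nat_lit 2245898)) (.leaf
    (nat_lit 3600388))))) (.node (.node (.node (.leaf (nat_lit 593160)) (.leaf (nat_lit 2446849)))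
    (.node (.leaf (nat_lit 1585416)) (.leaf (nat_lit 3566850)))) (.node (.node (.leaf (nat_lit
    1018374)) (.leaf (nat_lit 3006214))) (.node (.leaf (nat_lit 2303754)) (.leaf (nat_lit
    2716930)))))))) (.node (.node (.node (.node (.node (.node (.leaf (nat_lit 33027)) (.leaf
    (nat_lit 2083842))) (.node (.leaf (nat_lit 1187847)) (.leaf (nat_lit 3321607)))) (.node (.node
    (.leaf (nat_lit 331780)) (.leaf (nat_lit 1464322))) (.node (.leaf (nat_lit 1941000)) (.leaf
    (nat_lit 3105030))))) (.node (.node (.node (.leaf (nat_lit 397570)) (.leaf (nat_lit 2698250)))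
    (.node (.leaf (nat_lit 1481478)) (.leaf (nat_lit 3467778)))) (.node (.node (.leaf (nat_lit
    660486)) (.leaf (nat_lit 2776066))) (.node (.leaf (nat_lit 2108680)) (.leaf (nat_lit
    3749124)))))) (.node (.node (.node (.node (.leaf (nat_lit 198403)) (.leaf (nat_lit 2597897)))
    (.node (.leaf (nat_lit 993538)) (.leaf (nat_lit 1729280)))) (.node (.node (.leaf (nat_lit
    758020)) (.leaf (nat_lit 2959369))) (.node (.leaf (nat_lit 2204679)) (.leaf (nat_lit
    3665666))))) (.node (.node (.node (.leaf (nat_lit 689671)) (.leaf (nat_lit 2761994))) (.node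
    (.leaf (nat_lit 1744130)) (.leaf (nat_lit 3401478)))) (.node (.node (.leaf (nat_lit 924933))
    (.leaf (nat_lit 1990147))) (.node (.leaf (nat_lit 2400521)) (.leaf (nat_lit 3816969)))))))
    (.node (.node (.node (.node (.node (.leaf (nat_lit 131335)) (.leaf (nat_lit 1985796))) (.node
    (.leaf (nat_lit 1255169)) (.leaf (nat_lit 3452929)))) (.node (.node (.leaf (nat_lit 366084))
    (.leaf (nat_lit 2796296))) (.node (.leaf (nat_lit 2072329)) (.leaf (nat_lit 3368454))))) (.node
    (.node (.node (.leaf (nat_lit 427013)) (.leaf (nat_lit 2734597))) (.node (.leaf (nat_lit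
    1519362)) (.leaf (nat_lit 3551489)))) (.node (.node (.leaf (nat_lit 886026)) (.leaf (nat_lit
    2448644))) (.node (.leaf (nat_lit 2302209)) (.leaf (nat_lit 3207938)))))) (.node (.node (.node
    (.node (.leaf (nat_lit 232450)) (.leaf (nat_lit 2642178))) (.node (.leaf (nat_lit 1387265))
    (.leaf (nat_lit 1619721)))) (.node (.node (.leaf (nat_lit 791300)) (.leaf (nat_lit 2611969)))
    (.node (.leaf (nat_lit 1164546)) (.leaf (nat_lit 3683842))))) (.node (.node (.node (.leaf
    (nat_lit 363783)) (.leaf (nat_lit 2247173))) (.node (.leaf (nat_lit 1554180)) (.leaf (nat_lit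
    3617033)))) (.node (.node (.leaf (nat_lit 1057029)) (.leaf (nat_lit 3223049))) (.node (.leaf
    (nat_lit 2411018)) (.leaf (nat_lit 3896326))))))))) (.node (.node (.node (.node (.node (.node
    (.node (.node (.leaf (nat_lit 32774)) (.leaf (nat_lit 3929858))) (.leaf (nat_lit 2476806)))
    (.node (.leaf (nat_lit 1183750)) (.leaf (nat_lit 3105798)))) (.node (.node (.leaf (nat_lit
    300041)) (.leaf (nat_lit 2862088))) (.node (.leaf (nat_lit 1908226)) (.leaf (nat_lit
    3204096))))) (.node (.node (.node (.leaf (nat_lit 364546)) (.leaf (nat_lit 2696456))) (.node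
    (.leaf (nat_lit 1321986)) (.leaf (nat_lit 1828353)))) (.node (.node (.leaf (nat_lit 497929))
    (.leaf (nat_lit 3025673))) (.node (.leaf (nat_lit 1163786)) (.leaf (nat_lit 3730693))))))
    (.node (.node (.node (.node (.leaf (nat_lit 229642)) (.leaf (nat_lit 2571526))) (.node (.leaf
    (nat_lit 1157379)) (.leaf (nat_lit 1652992)))) (.node (.node (.leaf (nat_lit 756234)) (.leaf
    (nat_lit 2927113))) (.node (.leaf (nat_lit 2203656)) (.leaf (nat_lit 3665669))))) (.node (.node
    (.node (.leaf (nat_lit 464130)) (.leaf (nat_lit 2705409))) (.node (.leaf (nat_lit 1520645))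
    (.leaf (nat_lit 3565316)))) (.node (.node (.leaf (nat_lit 919046)) (.leaf (nat_lit 2579969)))
    (.node (.leaf (nat_lit 2340102)) (.leaf (nat_lit 2094081))))))) (.node (.node (.node (.node
    (.node (.leaf (nat_lit 99077)) (.leaf (nat_lit 2116866))) (.node (.leaf (nat_lit 1222403))
    (.leaf (nat_lit 3401738)))) (.node (.node (.leaf (nat_lit 267778)) (.leaf (nat_lit 2802437)))
    (.node (.leaf (nat_lit 2039554)) (.leaf (nat_lit 3369476))))) (.node (.node (.node (.leaf
    (nat_lit 656387)) (.leaf (nat_lit 2315012))) (.node (.leaf (nat_lit 1514497)) (.leaf (nat_lit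
    3140105)))) (.node (.node (.leaf (nat_lit 793091)) (.leaf (nat_lit 2809089))) (.node (.leaf
    (nat_lit 1522694)) (.leaf (nat_lit 3781896)))))) (.node (.node (.node (.node (.leaf (nat_lit
    393738)) (.leaf (nat_lit 1724422))) (.node (.leaf (nat_lit 1387267)) (.leaf (nat_lit
    1553673)))) (.node (.node (.leaf (nat_lit 301061)) (.leaf (nat_lit 2992394))) (.node (.leaf
    (nat_lit 1950979)) (.leaf (nat_lit 3076102))))) (.node (.node (.node (.leaf (nat_lit 365064))
    (.leaf (nat_lit 2315779))) (.node (.leaf (nat_lit 1521156)) (.leaf (nat_lit 2780422)))) (.node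
    (.node (.leaf (nat_lit 1024004)) (.leaf (nat_lit 3157511))) (.node (.leaf (nat_lit 2409733))
    (.leaf (nat_lit 3044615)))))))) (.node (.node (.node (.node (.node (.node (.leaf (nat_lit
    66053)) (.leaf (nat_lit 1920003))) (.node (.leaf (nat_lit 1189125)) (.leaf (nat_lit 3387145))))
    (.node (.node (.leaf (nat_lit 429826)) (.leaf (nat_lit 2054150))) (.node (.leaf (nat_lit
    1973769)) (.leaf (nat_lit 3563786))))) (.node (.node (.node (.leaf (nat_lit 590849)) (.leaf
    (nat_lit 2707974))) (.node (.leaf (nat_lit 1060100)) (.leaf (nat_lit 3518473)))) (.node (.node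
    (.leaf (nat_lit 853257)) (.leaf (nat_lit 2677763))) (.node (.leaf (nat_lit 2048777)) (.leaf
    (nat_lit 3469828)))))) (.node (.node (.node (.node (.leaf (nat_lit 295431)) (.leaf (nat_lit
    2019073))) (.node (.leaf (nat_lit 1354245)) (.leaf (nat_lit 963081)))) (.node (.node (.leaf
    (nat_lit 690693)) (.leaf (nat_lit 2775556))) (.node (.leaf (nat_lit 2114564)) (.leaf (nat_lit
    3174402))))) (.node (.node (.node (.leaf (nat_lit 660737)) (.leaf (nat_lit 2795015))) (.node
    (.leaf (nat_lit 1553669)) (.leaf (nat_lit 3304457)))) (.node (.node (.leaf (nat_lit 924932))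
    (.leaf (nat_lit 1821958))) (.node (.leaf (nat_lit 1329415)) (.leaf (nat_lit 3830787)))))))
    (.node (.node (.node (.node (.node (.leaf (nat_lit 164104)) (.leaf (nat_lit 2564874))) (.node
    (.leaf (nat_lit 1316102)) (.leaf (nat_lit 2451718)))) (.node (.node (.leaf (nat_lit 754945))
    (.leaf (nat_lit 2926599))) (.node (.leaf (nat_lit 2138113)) (.leaf (nat_lit 3236358))))) (.node
    (.node (.node (.leaf (nat_lit 428038)) (.leaf (nat_lit 2738180))) (.node (.leaf (nat_lit
    1612808)) (.leaf (nat_lit 1731591)))) (.node (.node (.leaf (nat_lit 432897)) (.leaf (nat_lit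
    3067141))) (.node (.leaf (nat_lit 2311686)) (.leaf (nat_lit 3142403)))))) (.node (.node (.node
    (.node (.leaf (nat_lit 459527)) (.leaf (nat_lit 2412803))) (.node (.leaf (nat_lit 1448454))
    (.leaf (nat_lit 1564424)))) (.node (.node (.leaf (nat_lit 820483)) (.leaf (nat_lit 2185987)))
    (.node (.leaf (nat_lit 1063682)) (.leaf (nat_lit 1798404))))) (.node (.node (.node (.leaf
    (nat_lit 398083)) (.leaf (nat_lit 2840321))) (.node (.leaf (nat_lit 1685507)) (.leaf (nat_lit
    3304961)))) (.node (.node (.leaf (nat_lit 991748)) (.leaf (nat_lit 3255818))) (.node (.leaf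
    (nat_lit 1919748)) (.leaf (nat_lit 3896834)))))))))))

/-- Certificate data. -/
def p5_just : Trie :=
    (.node (.node (.node (.node (.node (.node (.node (.node (.node (.node (.leaf (nat_lit 1))
    (.leaf (nat_lit 0))) (.leaf (nat_lit 15761863705246031937600))) (.node (.leaf (nat_lit
    659063280081181590093858026864113204461620)) (.leaf (nat_lit 6705917122969615)))) (.node (.node
    (.leaf (nat_lit 2288303793001136161)) (.leaf (nat_lit 9137709622805856270))) (.node (.leaf
    (nat_lit 0)) (.leaf (nat_lit 14847113956954406936))))) (.node (.node (.node (.leaf (nat_lit 0))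
    (.leaf (nat_lit 10362590534203277355))) (.node (.leaf (nat_lit 4541538546670043139)) (.leaf
    (nat_lit 6492389069916667938)))) (.node (.node (.leaf (nat_lit 6499047003078085163941932))
    (.leaf (nat_lit 52916448950954433267957801))) (.node (.leaf (nat_lit 8002062820260904962))
    (.leaf (nat_lit 31522264259320663507004)))))) (.node (.node (.node (.node (.leaf (nat_lit
    324356063338102794)) (.leaf (nat_lit 7822147954491457554))) (.node (.leaf (nat_lit
    4361024988229337091)) (.leaf (nat_lit 253318637917270379890256569106436)))) (.node (.node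
    (.leaf (nat_lit 2721019282761908229)) (.leaf (nat_lit 10126645711228567561))) (.node (.leaf
    (nat_lit 1127339565285403077176959862448880605593606)) (.leaf (nat_lit
    32960989121641563029574))))) (.node (.node (.node (.leaf (nat_lit 1712159906204942339)) (.leaf
    (nat_lit 10939974906338803742))) (.node (.leaf (nat_lit 0)) (.leaf (nat_lit
    57286673878062394090258469)))) (.node (.node (.leaf (nat_lit 1189232717200556044)) (.leaf
    (nat_lit 114176189078305239505028205969475))) (.node (.leaf (nat_lit 0)) (.leaf (nat_lit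
    74905741067264388757782549))))))) (.node (.node (.node (.node (.node (.leaf (nat_lit
    32675082593018936924034853705778987663366)) (.leaf (nat_lit
    138241877929251420630085454463024))) (.node (.leaf (nat_lit 0)) (.leaf (nat_lit
    6344106290389909521)))) (.node (.node (.leaf (nat_lit 2576850974530535429)) (.leaf (nat_lit
    11730234835669811209))) (.node (.leaf (nat_lit 0)) (.leaf (nat_lit 7876381610475522))))) (.node
    (.node (.node (.leaf (nat_lit 1697316865397206810643)) (.leaf (nat_lit 0))) (.node (.leaf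
    (nat_lit 76083187560395468693640118206468)) (.leaf (nat_lit 14774985805193740312)))) (.node
    (.node (.leaf (nat_lit 3009795222839427089)) (.leaf (nat_lit 54347253197627507817644053)))
    (.node (.leaf (nat_lit 8344398041901629464)) (.leaf (nat_lit 72420088559003337755000853))))))
    (.node (.node (.node (.node (.leaf (nat_lit 0)) (.leaf (nat_lit 9549955762290360344))) (.node
    (.leaf (nat_lit 78613848906988529413958639484932)) (.leaf (nat_lit 3416350131355650)))) (.node
    (.node (.leaf (nat_lit 1226501153450295301)) (.leaf (nat_lit 10433092847568879666))) (.node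
    (.leaf (nat_lit 0)) (.leaf (nat_lit 13554026924787040299))))) (.node (.node (.node (.leaf
    (nat_lit 897678229766173)) (.leaf (nat_lit 0))) (.node (.leaf (nat_lit 6307116915345260600))
    (.leaf (nat_lit 0)))) (.node (.node (.leaf (nat_lit 0)) (.leaf (nat_lit 0))) (.node (.leaf
    (nat_lit 8867396218125484058)) (.leaf (nat_lit 0)))))))) (.node (.node (.node (.node (.node
    (.node (.leaf (nat_lit 108130401586970627)) (.leaf (nat_lit 0))) (.node (.leaf (nat_lit
    79880568556673403543960060100659)) (.leaf (nat_lit 13967741487820242947)))) (.node (.node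
    (.leaf (nat_lit 1586455108328292386)) (.leaf (nat_lit 0))) (.node (.leaf (nat_lit
    2631711145984007)) (.leaf (nat_lit 6803258261766146))))) (.node (.node (.node (.leaf (nat_lit
    0)) (.leaf (nat_lit 9027670267169800202))) (.node (.leaf (nat_lit 5839542779520417803)) (.leaf
    (nat_lit 0)))) (.node (.node (.leaf (nat_lit 60218514625780813059602776522774)) (.leaf (nat_lit
    12216527216359702545))) (.node (.leaf (nat_lit 8198848875914788876)) (.leaf (nat_lit
    305327289763418016354693473042455)))))) (.node (.node (.node (.node (.leaf (nat_lit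
    648615270868516876)) (.leaf (nat_lit 167091926532429644246508567461936))) (.node (.leaf
    (nat_lit 83065793793072694581483729780787)) (.leaf (nat_lit 3126070471688194)))) (.node (.node
    (.leaf (nat_lit 11641816945220558766014485)) (.leaf (nat_lit 12200807717660721176))) (.node
    (.leaf (nat_lit 7316011450504511498)) (.leaf (nat_lit 295488921422521152941956304142340)))))
    (.node (.node (.node (.leaf (nat_lit 1838331021565820954)) (.leaf (nat_lit
    11029467653826871357))) (.node (.leaf (nat_lit 6271088092556492855)) (.leaf (nat_lit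
    65842679936422996108181544)))) (.node (.node (.leaf (nat_lit 0)) (.leaf (nat_lit
    7713103631108734988))) (.node (.leaf (nat_lit 0)) (.leaf (nat_lit
    19784658888960816447554))))))) (.node (.node (.node (.node (.node (.leaf (nat_lit
    57188713082266182999622324454952857632774)) (.leaf (nat_lit 8344266392564072466))) (.node
    (.leaf (nat_lit 86225631438987077223041628307507)) (.leaf (nat_lit 6380135113178677266))))
    (.node (.node (.leaf (nat_lit 1441838615964614674)) (.leaf (nat_lit
    209580653178526144555794683068439))) (.node (.leaf (nat_lit 2262343958528007)) (.leaf (nat_lit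
    65314107742831666740396073))))) (.node (.node (.node (.leaf (nat_lit
    79765365902768805460604657751539908628)) (.leaf (nat_lit 10794795438251900939))) (.node (.leaf
    (nat_lit 0)) (.leaf (nat_lit 15408928664620040216)))) (.node (.node (.leaf (nat_lit
    16251695021012638820007957)) (.leaf (nat_lit 12288690423643439118))) (.node (.leaf (nat_lit
    1225613634483390546168923798934413835370502)) (.leaf (nat_lit 17662646971476934666)))))) (.node
    (.node (.node (.node (.leaf (nat_lit 440040874442767)) (.leaf (nat_lit 0))) (.node (.leaf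
    (nat_lit 90653897247119030493232633413683)) (.leaf (nat_lit 6952405296087042)))) (.node (.node
    (.leaf (nat_lit 9374599597974795095179306)) (.leaf (nat_lit 7208383624515878928))) (.node
    (.leaf (nat_lit 7911788049422549050)) (.leaf (nat_lit 17138152540316303363))))) (.node (.node
    (.node (.leaf (nat_lit 1838427933207887882)) (.leaf (nat_lit 47694618099051050435936277)))
    (.node (.leaf (nat_lit 0)) (.leaf (nat_lit 281201223384497926499270249611268)))) (.node (.node
    (.leaf (nat_lit 0)) (.leaf (nat_lit 0))) (.node (.leaf (nat_lit 0)) (.leaf (nat_lit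
    18164816055258775562))))))))) (.node (.node (.node (.node (.node (.node (.node (.node (.leaf
    (nat_lit 1)) (.leaf (nat_lit 324676003665807297044707805691908))) (.leaf (nat_lit
    9280046977889009681))) (.node (.leaf (nat_lit 76713453859708411179462874824708)) (.leaf
    (nat_lit 0)))) (.node (.node (.leaf (nat_lit 2360273443288711178)) (.leaf (nat_lit
    11135346328614404146))) (.node (.leaf (nat_lit 6343145806853505037)) (.leaf (nat_lit
    57757840831357206917349438))))) (.node (.node (.node (.leaf (nat_lit 648685759871778833))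
    (.leaf (nat_lit 10326809178840170557))) (.node (.leaf (nat_lit
    86216960642046138335663703392260)) (.leaf (nat_lit
    2274027603793750993111089052115707988934662)))) (.node (.node (.leaf (nat_lit
    10658604062312629172240430)) (.leaf (nat_lit 118915013419508176650495483904067))) (.node (.leaf
    (nat_lit 1070242714389876832979105290960096742473787)) (.leaf (nat_lit
    17356049781864202313)))))) (.node (.node (.node (.node (.leaf (nat_lit 0)) (.leaf (nat_lit
    7388192705240825869))) (.node (.leaf (nat_lit 0)) (.leaf (nat_lit 6870550619523055618))))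
    (.node (.node (.leaf (nat_lit 8997070046998032588013605)) (.leaf (nat_lit
    21078058923544258281538))) (.node (.leaf (nat_lit 3643382102622215)) (.leaf (nat_lit 0)))))
    (.node (.node (.node (.leaf (nat_lit 973024235318607896)) (.leaf (nat_lit
    45885842353643005178871848))) (.node (.leaf (nat_lit 0)) (.leaf (nat_lit
    64104812429317162886561813)))) (.node (.node (.leaf (nat_lit 17156949674519765352513557))
    (.leaf (nat_lit 7822122408025980944))) (.node (.leaf (nat_lit 7532219666098487304)) (.leaf
    (nat_lit 0))))))) (.node (.node (.node (.node (.node (.leaf (nat_lit 105634720776199)) (.leaf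
    (nat_lit 4576248999313423))) (.node (.leaf (nat_lit 0)) (.leaf (nat_lit 0)))) (.node (.node
    (.leaf (nat_lit 0)) (.leaf (nat_lit 49212050832033434640384027))) (.node (.leaf (nat_lit
    7154682213894914060)) (.leaf (nat_lit 16490795750700286013))))) (.node (.node (.node (.leaf
    (nat_lit 686451738148871)) (.leaf (nat_lit 10399306667723522062))) (.node (.leaf (nat_lit
    6055820895707136030)) (.leaf (nat_lit 30664688677066838900761)))) (.node (.node (.leaf (nat_lit
    1297319056717840408)) (.leaf (nat_lit 0))) (.node (.leaf (nat_lit 8416226628283334682)) (.leaf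
    (nat_lit 504364444965937161165064393135927918666)))))) (.node (.node (.node (.node (.leaf
    (nat_lit 648632914594168846)) (.leaf (nat_lit 8397087068601384965))) (.node (.leaf (nat_lit
    4325057849760874499)) (.leaf (nat_lit 6758882659663874)))) (.node (.node (.leaf (nat_lit
    1390551496785927)) (.leaf (nat_lit 116699263352845778294783951175747))) (.node (.leaf (nat_lit
    7388069087492112396)) (.leaf (nat_lit 71512543306151282012913732))))) (.node (.node (.node
    (.leaf (nat_lit 1405994373690359839)) (.leaf (nat_lit 10559298941143416856))) (.node (.leaf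
    (nat_lit 0)) (.leaf (nat_lit 15121358502251135039)))) (.node (.node (.leaf (nat_lit 0)) (.leaf
    (nat_lit 13607083892745109507))) (.node (.leaf (nat_lit 8993356313153175569)) (.leaf (nat_lit
    18001780449617313800)))))))) (.node (.node (.node (.node (.node (.node (.leaf (nat_lit 0))
    (.leaf (nat_lit 7207995849098592280))) (.node (.leaf (nat_lit 0)) (.leaf (nat_lit 0)))) (.node
    (.node (.leaf (nat_lit 9978694636084227287089187)) (.leaf (nat_lit 7316381857074053128)))
    (.node (.leaf (nat_lit 25321740244410346378690617)) (.leaf (nat_lit 6838442633854978)))))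
    (.node (.node (.node (.leaf (nat_lit 684714582660546578)) (.leaf (nat_lit
    44219878722586701396770856))) (.node (.leaf (nat_lit 4973989715553484803)) (.leaf (nat_lit
    13362169410767307407429)))) (.node (.node (.leaf (nat_lit 1751229965402161)) (.leaf (nat_lit
    10991530525528883224))) (.node (.leaf (nat_lit 15577089913966410596388)) (.leaf (nat_lit
    16544654700721668169)))))) (.node (.node (.node (.node (.leaf (nat_lit 0)) (.leaf (nat_lit
    4127751334395953))) (.node (.leaf (nat_lit 0)) (.leaf (nat_lit 6528287720836628482)))) (.node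
    (.node (.leaf (nat_lit 12926337378145326753710120)) (.leaf (nat_lit 12057335404584697870)))
    (.node (.leaf (nat_lit 0)) (.leaf (nat_lit 0))))) (.node (.node (.node (.leaf (nat_lit
    5894473304235791368912923)) (.leaf (nat_lit 5209945654034447))) (.node (.leaf (nat_lit
    3132968189165575)) (.leaf (nat_lit 14130961996098764805)))) (.node (.node (.leaf (nat_lit
    72896411797752117057958040764420)) (.leaf (nat_lit 56462544530525000357445653))) (.node (.leaf
    (nat_lit 12106741429558176907289)) (.leaf (nat_lit 18037129903069134866))))))) (.node (.node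
    (.node (.node (.node (.leaf (nat_lit 216269655101341705)) (.leaf (nat_lit
    11037280105651977322528))) (.node (.leaf (nat_lit 5010493282552315934)) (.leaf (nat_lit
    27971428013284887101459)))) (.node (.node (.leaf (nat_lit 2414686504220819469)) (.leaf (nat_lit
    49892766727452408980766777))) (.node (.leaf (nat_lit 0)) (.leaf (nat_lit
    64560334792097670097076266))))) (.node (.node (.node (.leaf (nat_lit
    10467563396947814006496933904406)) (.leaf (nat_lit 9047215271764492349))) (.node (.leaf
    (nat_lit 0)) (.leaf (nat_lit 15372935464290025477)))) (.node (.node (.leaf (nat_lit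
    3388273564938600464)) (.leaf (nat_lit 8956009107203227698))) (.node (.leaf (nat_lit
    8054637197103661061)) (.leaf (nat_lit 33255717752813560004672)))))) (.node (.node (.node (.node
    (.leaf (nat_lit 0)) (.leaf (nat_lit 9243763824316841992))) (.node (.leaf (nat_lit
    5587235617206632478)) (.leaf (nat_lit 116392217446717578517099708443)))) (.node (.node (.leaf
    (nat_lit 2631017779217760299)) (.leaf (nat_lit 9982583402790060044))) (.node (.leaf (nat_lit
    14654662945962662821919)) (.leaf (nat_lit 0))))) (.node (.node (.node (.leaf (nat_lit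
    793082654852579361)) (.leaf (nat_lit 0))) (.node (.leaf (nat_lit 0)) (.leaf (nat_lit
    7278195745357873)))) (.node (.node (.leaf (nat_lit 0)) (.leaf (nat_lit 6344088612304519182)))
    (.node (.leaf (nat_lit 0)) (.leaf (nat_lit 322772824766368407934739199492100)))))))))) (.node
    (.node (.node (.node (.node (.node (.node (.node (.node (.leaf (nat_lit 1)) (.leaf (nat_lit
    18347563731132809219))) (.leaf (nat_lit 22456447408316198596968505))) (.node (.leaf (nat_lit
    0)) (.leaf (nat_lit 6380117426503352336)))) (.node (.node (.leaf (nat_lit 2324605423522611218))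
    (.leaf (nat_lit 8955621701153128472))) (.node (.leaf (nat_lit 3344168910979087)) (.leaf
    (nat_lit 15932543039801851954))))) (.node (.node (.node (.leaf (nat_lit 0)) (.leaf (nat_lit
    5679613328587161626))) (.node (.leaf (nat_lit 96389439454219923986426330808374)) (.leaf
    (nat_lit 15012990275440279568)))) (.node (.node (.leaf (nat_lit 7254772817410100912521261))
    (.leaf (nat_lit 53134009381683999401115689))) (.node (.leaf (nat_lit 3705066422927362)) (.leaf
    (nat_lit 69018581982112425003253787)))))) (.node (.node (.node (.node (.leaf (nat_lit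
    594659989025652747)) (.leaf (nat_lit 9280012411992211468))) (.node (.leaf (nat_lit
    84965411878137611054016092373043)) (.leaf (nat_lit 54065685362370895851301503044)))) (.node
    (.node (.leaf (nat_lit 4244156568583092305939)) (.leaf (nat_lit 22921667657857293877308)))
    (.node (.leaf (nat_lit 0)) (.leaf (nat_lit 68392682429313838729199684))))) (.node (.node (.node
    (.leaf (nat_lit 0)) (.leaf (nat_lit 10939948427865423910))) (.node (.leaf (nat_lit 0)) (.leaf
    (nat_lit 2295926742180098950377688397220492813664262)))) (.node (.node (.leaf (nat_lit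
    3568523103149686797)) (.leaf (nat_lit 0))) (.node (.leaf (nat_lit 4171413971927047)) (.leaf
    (nat_lit 314177319784520827026776414158871))))))) (.node (.node (.node (.node (.node (.leaf
    (nat_lit 0)) (.leaf (nat_lit 0))) (.node (.leaf (nat_lit 4648982625367818243)) (.leaf (nat_lit
    13730018475370545166)))) (.node (.node (.leaf (nat_lit 2576587023020392457)) (.leaf (nat_lit
    24028492673631874449440))) (.node (.leaf (nat_lit 3502567304855567)) (.leaf (nat_lit
    15140085521734369288))))) (.node (.node (.node (.leaf (nat_lit 0)) (.leaf (nat_lit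
    10417268289674870801))) (.node (.leaf (nat_lit 702532945978925115396574229481825768177717))
    (.leaf (nat_lit 14346501725802922034)))) (.node (.node (.leaf (nat_lit 3676503889550704654))
    (.leaf (nat_lit 227950000320882151208607105351703))) (.node (.leaf (nat_lit
    14690727903084385927228)) (.leaf (nat_lit 218440626024500765122783896600599)))))) (.node (.node
    (.node (.node (.leaf (nat_lit 0)) (.leaf (nat_lit 0))) (.node (.leaf (nat_lit 0)) (.leaf
    (nat_lit 6750086566641666)))) (.node (.node (.leaf (nat_lit 0)) (.leaf (nat_lit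
    52084172786568391121240105))) (.node (.leaf (nat_lit 3766587534475279)) (.leaf (nat_lit
    67123324909120237454295112))))) (.node (.node (.node (.leaf (nat_lit 1946531787601805342))
    (.leaf (nat_lit 9137639202522071057))) (.node (.leaf (nat_lit 6488386826116726814)) (.leaf
    (nat_lit 7550831679373319)))) (.node (.node (.leaf (nat_lit 0)) (.leaf (nat_lit
    222860188089694202215434228793392))) (.node (.leaf (nat_lit 8687312950983327807)) (.leaf
    (nat_lit 5405134737768455)))))))) (.node (.node (.node (.node (.node (.node (.leaf (nat_lit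
    1901785536541715921856534872068)) (.leaf (nat_lit 7388157426379456526))) (.node (.leaf (nat_lit
    4776077257481584651)) (.leaf (nat_lit 0)))) (.node (.node (.leaf (nat_lit 2468500649143369752))
    (.leaf (nat_lit 2879109852168199))) (.node (.leaf (nat_lit 0)) (.leaf (nat_lit
    6812054354788354))))) (.node (.node (.node (.leaf (nat_lit 972953754905280528)) (.leaf (nat_lit
    10542734596607508518))) (.node (.leaf (nat_lit 0)) (.leaf (nat_lit 6987709927260167)))) (.node
    (.node (.leaf (nat_lit 28214512830274553644494931558448)) (.leaf (nat_lit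
    11192178203458469902))) (.node (.leaf (nat_lit 8236258320235823134)) (.leaf (nat_lit 0))))))
    (.node (.node (.node (.node (.leaf (nat_lit 648606474775494669)) (.leaf (nat_lit 0))) (.node
    (.leaf (nat_lit 653544287782681986064077880565994323836980)) (.leaf (nat_lit
    6420201235290456066)))) (.node (.node (.leaf (nat_lit 219392747329411902177313618745914621991))
    (.leaf (nat_lit 0))) (.node (.leaf (nat_lit 7659718102447489035)) (.leaf (nat_lit
    2538188008096794068212804748224949541011508))))) (.node (.node (.node (.leaf (nat_lit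
    1819973403629781003)) (.leaf (nat_lit 0))) (.node (.leaf (nat_lit 0)) (.leaf (nat_lit
    276165144660286870451564124241987)))) (.node (.node (.leaf (nat_lit 4144860770280341507))
    (.leaf (nat_lit 7172689268010319885))) (.node (.leaf (nat_lit 0)) (.leaf (nat_lit
    8806877685219377))))))) (.node (.node (.node (.node (.node (.leaf (nat_lit 0)) (.leaf (nat_lit
    7171967095029301260))) (.node (.leaf (nat_lit 740558170620844795758161707237355482120245))
    (.leaf (nat_lit 0)))) (.node (.node (.leaf (nat_lit 900966856029044748)) (.leaf (nat_lit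
    11841161029038047262))) (.node (.leaf (nat_lit 0)) (.leaf (nat_lit 16598618512369582141)))))
    (.node (.node (.node (.leaf (nat_lit 4534321473434984676392981)) (.leaf (nat_lit
    45276765848097412662755368))) (.node (.leaf (nat_lit 3009745577443335)) (.leaf (nat_lit 0))))
    (.node (.node (.leaf (nat_lit 0)) (.leaf (nat_lit 9082092304583557144))) (.node (.leaf (nat_lit
    0)) (.leaf (nat_lit 28045291208533216591908)))))) (.node (.node (.node (.node (.leaf (nat_lit
    684661728793002000)) (.leaf (nat_lit 4945848115003399))) (.node (.leaf (nat_lit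
    816887758371332905150933875665284048224309)) (.leaf (nat_lit 6636539459544481826)))) (.node
    (.node (.leaf (nat_lit 13979829022545260010864677)) (.leaf (nat_lit 10037479819341660178)))
    (.node (.leaf (nat_lit 2974973522214919)) (.leaf (nat_lit
    2589837700836111061781615763687090078482484))))) (.node (.node (.node (.leaf (nat_lit
    2180727764318093323)) (.leaf (nat_lit 9805403408985948165))) (.node (.leaf (nat_lit
    6199048176603955210)) (.leaf (nat_lit 0)))) (.node (.node (.leaf (nat_lit 4396992049388388355))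
    (.leaf (nat_lit 0))) (.node (.leaf (nat_lit 4312254539497487)) (.leaf (nat_lit 0)))))))))
    (.node (.node (.node (.node (.node (.node (.node (.node (.leaf (nat_lit 0)) (.leaf (nat_lit
    2788937379188793243447706093395189835628596))) (.leaf (nat_lit
    1405311899081167761629447943764553857892358))) (.node (.leaf (nat_lit 0)) (.leaf (nat_lit
    236817043398505579045438859182128)))) (.node (.node (.leaf (nat_lit 2360977401313427482))
    (.leaf (nat_lit 48757627397469706199040035))) (.node (.leaf (nat_lit 0)) (.leaf (nat_lit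
    57452139952086554044072006))))) (.node (.node (.node (.leaf (nat_lit 900896135097548814))
    (.leaf (nat_lit 0))) (.node (.leaf (nat_lit 778703061478784912802845535005394996953140)) (.leaf
    (nat_lit 13886528229830216122432)))) (.node (.node (.leaf (nat_lit 4836367541662654560272431))
    (.leaf (nat_lit 0))) (.node (.leaf (nat_lit 6092351886072152095)) (.leaf (nat_lit
    72795765442246151699234837)))))) (.node (.node (.node (.node (.leaf (nat_lit 0)) (.leaf
    (nat_lit 174066790349816590257891473555479))) (.node (.leaf (nat_lit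
    81798452526480538860967980105732)) (.leaf (nat_lit 6348124399799042050)))) (.node (.node (.leaf
    (nat_lit 2973088804535205926)) (.leaf (nat_lit 5957428877328433))) (.node (.leaf (nat_lit 0))
    (.leaf (nat_lit 16797137591622369283))))) (.node (.node (.node (.leaf (nat_lit
    2287720762232868700185)) (.leaf (nat_lit 10597069313041170497))) (.node (.leaf (nat_lit
    6162984109313556485)) (.leaf (nat_lit 1150334167072451155532273033384758411303)))) (.node
    (.node (.leaf (nat_lit 0)) (.leaf (nat_lit 9766780245561770002))) (.node (.leaf (nat_lit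
    8741136604963471421)) (.leaf (nat_lit 15132476493888020021308))))))) (.node (.node (.node
    (.node (.node (.leaf (nat_lit 324338419612450824)) (.leaf (nat_lit 7424186266348093456)))
    (.node (.leaf (nat_lit 84959063654664926963186595725316)) (.leaf (nat_lit 6881933472694287))))
    (.node (.node (.leaf (nat_lit 2324579327301320720)) (.leaf (nat_lit
    49967847751025276058140693))) (.node (.leaf (nat_lit 0)) (.leaf (nat_lit
    67884070819194425387057223))))) (.node (.node (.node (.leaf (nat_lit 0)) (.leaf (nat_lit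
    8973627114591027224))) (.node (.leaf (nat_lit 0)) (.leaf (nat_lit 15355712636843130906))))
    (.node (.node (.leaf (nat_lit 3694623841176453170)) (.leaf (nat_lit 12057361973252390929)))
    (.node (.leaf (nat_lit 931318322513312915136426230444240031842310)) (.leaf (nat_lit 0))))))
    (.node (.node (.node (.node (.leaf (nat_lit 0)) (.leaf (nat_lit
    969432611266892604344110964261222940803078))) (.node (.leaf (nat_lit
    95099335694405262242458938834948)) (.leaf (nat_lit 6943609203064834)))) (.node (.node (.leaf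
    (nat_lit 2360731398471614472)) (.leaf (nat_lit 0))) (.node (.leaf (nat_lit
    7154664759147823117)) (.leaf (nat_lit 232396365940119142587198968627248))))) (.node (.node
    (.node (.leaf (nat_lit 1957283389322563944480)) (.leaf (nat_lit 8973644844216025138))) (.node
    (.leaf (nat_lit 6163019362405122057)) (.leaf (nat_lit
    1835697539634211970442678835020985604374587)))) (.node (.node (.leaf (nat_lit
    76714232712824479173330950619187)) (.leaf (nat_lit 0))) (.node (.leaf (nat_lit
    9028135850214621192)) (.leaf (nat_lit 26317276172453522178124)))))))) (.node (.node (.node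
    (.node (.node (.node (.leaf (nat_lit 216252002785755141)) (.leaf (nat_lit
    8451086103276093490))) (.node (.leaf (nat_lit 4721295288923521027)) (.leaf (nat_lit 0))))
    (.node (.node (.leaf (nat_lit 4539160630849526038564)) (.leaf (nat_lit
    1113743075886907842982451845932429815185467))) (.node (.leaf (nat_lit 0)) (.leaf (nat_lit
    7735644122120194))))) (.node (.node (.node (.leaf (nat_lit 0)) (.leaf (nat_lit
    10597333092752621629))) (.node (.leaf (nat_lit 78317679840343963544106159243318)) (.leaf
    (nat_lit 0)))) (.node (.node (.leaf (nat_lit 0)) (.leaf (nat_lit 10379023384020451378))) (.node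
    (.leaf (nat_lit 7317480561247977498)) (.leaf (nat_lit 60479806574223506821939272)))))) (.node
    (.node (.node (.node (.leaf (nat_lit 0)) (.leaf (nat_lit 7263903962376634385))) (.node (.leaf
    (nat_lit 5261613032437645315)) (.leaf (nat_lit 3389961852289026)))) (.node (.node (.leaf
    (nat_lit 8241860742142109598154793)) (.leaf (nat_lit 11135452079299166232))) (.node (.leaf
    (nat_lit 7424097867331207192)) (.leaf (nat_lit 15572035382035021882))))) (.node (.node (.node
    (.leaf (nat_lit 6498935709604763318681628)) (.leaf (nat_lit 0))) (.node (.leaf (nat_lit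
    6199012932102324232)) (.leaf (nat_lit 13914006731073191969)))) (.node (.node (.leaf (nat_lit
    72896102463784272199627957534771)) (.leaf (nat_lit 120183122046710952106370967994435))) (.node
    (.leaf (nat_lit 24643785884568930511814718)) (.leaf (nat_lit 18036155555378298930))))))) (.node
    (.node (.node (.node (.node (.leaf (nat_lit 0)) (.leaf (nat_lit 0))) (.node (.leaf (nat_lit 0))
    (.leaf (nat_lit 1705095589646735352153648205422780782084102)))) (.node (.node (.leaf (nat_lit
    0)) (.leaf (nat_lit 0))) (.node (.leaf (nat_lit 0)) (.leaf (nat_lit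
    271736417344981840240035966156822))))) (.node (.node (.node (.leaf (nat_lit
    19018632178324071567108004577303)) (.leaf (nat_lit 10757280818771722249))) (.node (.leaf
    (nat_lit 0)) (.leaf (nat_lit 30221930808144516350022)))) (.node (.node (.leaf (nat_lit
    2919723281831624722)) (.leaf (nat_lit 55401820105122921673195541))) (.node (.leaf (nat_lit
    1290680422213342565220919001848469124677638)) (.leaf (nat_lit 71361651133426894566129739))))))
    (.node (.node (.node (.node (.leaf (nat_lit 0)) (.leaf (nat_lit 8919689369099632696))) (.node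
    (.leaf (nat_lit 0)) (.leaf (nat_lit 6855716992319490)))) (.node (.node (.leaf (nat_lit 0))
    (.leaf (nat_lit 8199140358165299213))) (.node (.leaf (nat_lit 3652289864794114)) (.leaf
    (nat_lit 17212023014280069129))))) (.node (.node (.node (.leaf (nat_lit 1027885488972955661))
    (.leaf (nat_lit 11243467904043384849))) (.node (.leaf (nat_lit 6379174586692599858)) (.leaf
    (nat_lit 15824192765954293777)))) (.node (.node (.leaf (nat_lit
    76079472459595398939314399674419)) (.leaf (nat_lit 0))) (.node (.leaf (nat_lit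
    7027851812464164874)) (.leaf (nat_lit 2772594481984789676858495268842593220952116)))))))))))

/-- Certificate data. -/
def p5_rel : Trie :=
    (.node (.node (.node (.node (.node (.node (.node (.leaf (nat_lit 0)) (.leaf (nat_lit
    34393751818))) (.leaf (nat_lit 67765002))) (.node (.leaf (nat_lit 151063042)) (.leaf (nat_lit
    167971332)))) (.node (.node (.node (.leaf (nat_lit 117703171)) (.leaf (nat_lit
    14222656699149555270401))) (.leaf (nat_lit 1116825913607))) (.node (.leaf (nat_lit 17367562))
    (.leaf (nat_lit 50856961))))) (.node (.node (.node (.node (.leaf (nat_lit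
    2446222948635142120669446)) (.leaf (nat_lit 8707443208))) (.leaf (nat_lit 67699465))) (.node
    (.leaf (nat_lit 289922537482289926)) (.leaf (nat_lit 433478074139607811)))) (.node (.node
    (.leaf (nat_lit 167905537)) (.leaf (nat_lit 4432457172737))) (.node (.leaf (nat_lit 67240711))
    (.leaf (nat_lit 11012413784584)))))) (.node (.node (.node (.node (.node (.leaf (nat_lit
    433193300628014596)) (.leaf (nat_lit 3337307096072))) (.leaf (nat_lit 30215899137))) (.node
    (.leaf (nat_lit 18963398153276695380996)) (.leaf (nat_lit 7263110476080881072145921)))) (.node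
    (.node (.node (.leaf (nat_lit 151259395)) (.leaf (nat_lit 4412998152))) (.leaf (nat_lit
    4419571876613))) (.node (.leaf (nat_lit 8839110263554)) (.leaf (nat_lit 34376976642))))) (.node
    (.node (.node (.node (.leaf (nat_lit 17105413)) (.leaf (nat_lit 3320077157123))) (.leaf
    (nat_lit 4415293817605))) (.node (.leaf (nat_lit 168036867)) (.leaf (nat_lit 16975876))))
    (.node (.node (.leaf (nat_lit 151128577)) (.leaf (nat_lit 217866047267800070))) (.node (.leaf
    (nat_lit 38688784647)) (.leaf (nat_lit 30082205698))))))) (.node (.node (.node (.node (.node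
    (.node (.leaf (nat_lit 100992517)) (.leaf (nat_lit 289360691352437510))) (.leaf (nat_lit
    3307259692039))) (.node (.leaf (nat_lit 8724219657)) (.leaf (nat_lit 433475879428163075))))
    (.node (.node (.node (.leaf (nat_lit 67175176)) (.leaf (nat_lit 7709500377604))) (.leaf
    (nat_lit 50922505))) (.node (.leaf (nat_lit 8809129378052)) (.leaf (nat_lit
    1237297344911820116394246))))) (.node (.node (.node (.node (.leaf (nat_lit 65793)) (.leaf
    (nat_lit 5514822091523))) (.leaf (nat_lit 4777923735600698163971))) (.node (.leaf (nat_lit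
    217020518514426886)) (.leaf (nat_lit 33752836)))) (.node (.node (.leaf (nat_lit 592137)) (.leaf
    (nat_lit 4428161746954))) (.node (.leaf (nat_lit 34210057)) (.leaf (nat_lit 17433097))))))
    (.node (.node (.node (.node (.node (.leaf (nat_lit 33882373)) (.leaf (nat_lit 4463264263)))
    (.leaf (nat_lit 2233551030019))) (.node (.leaf (nat_lit 3311470445573)) (.leaf (nat_lit
    7263055207906245441816066)))) (.node (.node (.leaf (nat_lit 151193860)) (.leaf (nat_lit
    4415310464260))) (.node (.leaf (nat_lit 131586)) (.leaf (nat_lit 84280582))))) (.node (.node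
    (.node (.node (.leaf (nat_lit 134480131)) (.leaf (nat_lit 50791426))) (.leaf (nat_lit
    3320077091845))) (.node (.leaf (nat_lit 43084023553)) (.leaf (nat_lit 7700943995657)))) (.node
    (.node (.leaf (nat_lit 167840002)) (.leaf (nat_lit 657930))) (.node (.leaf (nat_lit 50988042))
    (.leaf (nat_lit 83952898))))))))

/-- Certificate data. -/
def p5_rc : Trie :=
    (.node (.node (.node (.node (.node (.node (.node (.leaf (nat_lit 32)) (.leaf (nat_lit 524302)))
    (.leaf (nat_lit 21))) (.node (.leaf (nat_lit 262162)) (.leaf (nat_lit 393237)))) (.node (.node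
    (.node (.leaf (nat_lit 131085)) (.leaf (nat_lit 524298))) (.leaf (nat_lit 131095))) (.node
    (.leaf (nat_lit 262163)) (.leaf (nat_lit 131084))))) (.node (.node (.node (.node (.leaf
    (nat_lit 1048605)) (.leaf (nat_lit 393230))) (.leaf (nat_lit 393236))) (.node (.leaf (nat_lit
    917535)) (.leaf (nat_lit 31)))) (.node (.node (.leaf (nat_lit 18)) (.leaf (nat_lit 23))) (.node
    (.leaf (nat_lit 13)) (.leaf (nat_lit 524310)))))) (.node (.node (.node (.node (.node (.leaf
    (nat_lit 786463)) (.leaf (nat_lit 524311))) (.leaf (nat_lit 262159))) (.node (.leaf (nat_lit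
    393227)) (.leaf (nat_lit 1179677)))) (.node (.node (.node (.leaf (nat_lit 20)) (.leaf (nat_lit
    393231))) (.leaf (nat_lit 655369))) (.node (.leaf (nat_lit 655382)) (.leaf (nat_lit 524303)))))
    (.node (.node (.node (.node (.leaf (nat_lit 262150)) (.leaf (nat_lit 131081))) (.leaf (nat_lit
    8))) (.node (.leaf (nat_lit 131093)) (.leaf (nat_lit 262156)))) (.node (.node (.leaf (nat_lit
    131091)) (.leaf (nat_lit 262174))) (.node (.leaf (nat_lit 131087)) (.leaf (nat_lit
    262158))))))) (.node (.node (.node (.node (.node (.node (.leaf (nat_lit 26)) (.leaf (nat_lit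
    30))) (.leaf (nat_lit 131094))) (.node (.leaf (nat_lit 15)) (.leaf (nat_lit 131102)))) (.node
    (.node (.node (.leaf (nat_lit 393228)) (.leaf (nat_lit 262166))) (.leaf (nat_lit 131092)))
    (.node (.leaf (nat_lit 655383)) (.leaf (nat_lit 1310749))))) (.node (.node (.node (.node (.leaf
    (nat_lit 0)) (.leaf (nat_lit 9))) (.leaf (nat_lit 10))) (.node (.leaf (nat_lit 655391)) (.leaf
    (nat_lit 393229)))) (.node (.node (.leaf (nat_lit 16)) (.leaf (nat_lit 393238))) (.node (.leaf
    (nat_lit 19)) (.leaf (nat_lit 131090)))))) (.node (.node (.node (.node (.node (.leaf (nat_lit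
    6)) (.leaf (nat_lit 131086))) (.leaf (nat_lit 22))) (.node (.leaf (nat_lit 393225)) (.leaf
    (nat_lit 917533)))) (.node (.node (.leaf (nat_lit 262164)) (.leaf (nat_lit 655368))) (.node
    (.leaf (nat_lit 1)) (.leaf (nat_lit 131098))))) (.node (.node (.node (.node (.leaf (nat_lit
    12)) (.leaf (nat_lit 262157))) (.leaf (nat_lit 262152))) (.node (.leaf (nat_lit 14)) (.leaf
    (nat_lit 262167)))) (.node (.node (.leaf (nat_lit 393235)) (.leaf (nat_lit 17))) (.node (.leaf
    (nat_lit 262165)) (.leaf (nat_lit 393222))))))))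

/-- Certificate data. -/
def p5_lv : Trie :=
    (.node (.node (.node (.node (.node (.node (.node (.leaf (nat_lit 0)) (.leaf (nat_lit 68)))
    (.node (.leaf (nat_lit 32)) (.leaf (nat_lit 103)))) (.node (.node (.leaf (nat_lit 16)) (.leaf
    (nat_lit 84))) (.leaf (nat_lit 48)))) (.node (.node (.node (.leaf (nat_lit 8)) (.leaf (nat_lit
    76))) (.node (.leaf (nat_lit 40)) (.leaf (nat_lit 112)))) (.node (.node (.leaf (nat_lit 24))
    (.leaf (nat_lit 92))) (.leaf (nat_lit 59))))) (.node (.node (.node (.node (.leaf (nat_lit 4))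
    (.leaf (nat_lit 72))) (.node (.leaf (nat_lit 36)) (.leaf (nat_lit 108)))) (.node (.node (.leaf
    (nat_lit 20)) (.leaf (nat_lit 88))) (.leaf (nat_lit 53)))) (.node (.node (.node (.leaf (nat_lit
    12)) (.leaf (nat_lit 80))) (.node (.leaf (nat_lit 44)) (.leaf (nat_lit 116)))) (.node (.node
    (.leaf (nat_lit 28)) (.leaf (nat_lit 96))) (.leaf (nat_lit 63)))))) (.node (.node (.node (.node
    (.node (.leaf (nat_lit 2)) (.leaf (nat_lit 70))) (.node (.leaf (nat_lit 34)) (.leaf (nat_lit
    106)))) (.node (.node (.leaf (nat_lit 18)) (.leaf (nat_lit 86))) (.leaf (nat_lit 50)))) (.node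
    (.node (.node (.leaf (nat_lit 10)) (.leaf (nat_lit 78))) (.node (.leaf (nat_lit 42)) (.leaf
    (nat_lit 114)))) (.node (.node (.leaf (nat_lit 26)) (.leaf (nat_lit 94))) (.leaf (nat_lit
    61))))) (.node (.node (.node (.node (.leaf (nat_lit 6)) (.leaf (nat_lit 74))) (.node (.leaf
    (nat_lit 38)) (.leaf (nat_lit 110)))) (.node (.node (.leaf (nat_lit 22)) (.leaf (nat_lit 90)))
    (.leaf (nat_lit 55)))) (.node (.node (.node (.leaf (nat_lit 14)) (.leaf (nat_lit 82))) (.node
    (.leaf (nat_lit 46)) (.leaf (nat_lit 118)))) (.node (.node (.leaf (nat_lit 30)) (.leaf (nat_lit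
    98))) (.leaf (nat_lit 66))))))) (.node (.node (.node (.node (.node (.node (.leaf (nat_lit 1))
    (.leaf (nat_lit 69))) (.node (.leaf (nat_lit 33)) (.leaf (nat_lit 105)))) (.node (.node (.leaf
    (nat_lit 17)) (.leaf (nat_lit 85))) (.leaf (nat_lit 49)))) (.node (.node (.node (.leaf (nat_lit
    9)) (.leaf (nat_lit 77))) (.node (.leaf (nat_lit 41)) (.leaf (nat_lit 113)))) (.node (.node
    (.leaf (nat_lit 25)) (.leaf (nat_lit 93))) (.leaf (nat_lit 60))))) (.node (.node (.node (.node
    (.leaf (nat_lit 5)) (.leaf (nat_lit 73))) (.node (.leaf (nat_lit 37)) (.leaf (nat_lit 109))))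
    (.node (.node (.leaf (nat_lit 21)) (.leaf (nat_lit 89))) (.leaf (nat_lit 54)))) (.node (.node
    (.node (.leaf (nat_lit 13)) (.leaf (nat_lit 81))) (.node (.leaf (nat_lit 45)) (.leaf (nat_lit
    117)))) (.node (.node (.leaf (nat_lit 29)) (.leaf (nat_lit 97))) (.leaf (nat_lit 64))))))
    (.node (.node (.node (.node (.node (.leaf (nat_lit 3)) (.leaf (nat_lit 71))) (.node (.leaf
    (nat_lit 35)) (.leaf (nat_lit 107)))) (.node (.node (.leaf (nat_lit 19)) (.leaf (nat_lit 87)))
    (.leaf (nat_lit 52)))) (.node (.node (.node (.leaf (nat_lit 11)) (.leaf (nat_lit 79))) (.node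
    (.leaf (nat_lit 43)) (.leaf (nat_lit 115)))) (.node (.node (.leaf (nat_lit 27)) (.leaf (nat_lit
    95))) (.leaf (nat_lit 62))))) (.node (.node (.node (.node (.leaf (nat_lit 7)) (.leaf (nat_lit
    75))) (.node (.leaf (nat_lit 39)) (.leaf (nat_lit 111)))) (.node (.node (.leaf (nat_lit 23))
    (.leaf (nat_lit 91))) (.leaf (nat_lit 58)))) (.node (.node (.node (.leaf (nat_lit 15)) (.leaf
    (nat_lit 83))) (.node (.leaf (nat_lit 47)) (.leaf (nat_lit 119)))) (.node (.node (.leaf
    (nat_lit 31)) (.leaf (nat_lit 102))) (.leaf (nat_lit 67))))))))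

/-- Certificate data. -/
def p5_tb : Trie :=
    (.node (.node (.node (.node (.node (.node (.node (.node (.node (.leaf (nat_lit 0)) (.leaf
    (nat_lit 67835))) (.node (.leaf (nat_lit 55521)) (.leaf (nat_lit 170721)))) (.node (.node
    (.leaf (nat_lit 185061)) (.leaf (nat_lit 197481))) (.leaf (nat_lit 176815)))) (.node (.node
    (.node (.leaf (nat_lit 115135)) (.leaf (nat_lit 143995))) (.node (.leaf (nat_lit 199456))
    (.leaf (nat_lit 207735)))) (.node (.node (.leaf (nat_lit 103184)) (.leaf (nat_lit 73990)))
    (.leaf (nat_lit 5))))) (.node (.node (.node (.node (.leaf (nat_lit 12356)) (.leaf (nat_lit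
    191373))) (.node (.leaf (nat_lit 92495)) (.leaf (nat_lit 220130)))) (.node (.node (.leaf
    (nat_lit 180939)) (.leaf (nat_lit 2054))) (.leaf (nat_lit 209793)))) (.node (.node (.node
    (.leaf (nat_lit 199450)) (.leaf (nat_lit 154304))) (.node (.leaf (nat_lit 185065)) (.leaf
    (nat_lit 197483)))) (.node (.node (.leaf (nat_lit 2)) (.leaf (nat_lit 22773))) (.leaf (nat_lit
    34988)))))) (.node (.node (.node (.node (.node (.leaf (nat_lit 45207)) (.leaf (nat_lit 63776)))
    (.node (.leaf (nat_lit 39099)) (.leaf (nat_lit 115137)))) (.node (.node (.leaf (nat_lit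
    222188)) (.leaf (nat_lit 111545))) (.leaf (nat_lit 158414)))) (.node (.node (.node (.leaf
    (nat_lit 90439)) (.leaf (nat_lit 160332))) (.node (.leaf (nat_lit 119189)) (.leaf (nat_lit
    168659)))) (.node (.node (.leaf (nat_lit 109499)) (.leaf (nat_lit 88370))) (.leaf (nat_lit
    10337))))) (.node (.node (.node (.node (.leaf (nat_lit 10419)) (.leaf (nat_lit 135645))) (.node
    (.leaf (nat_lit 88377)) (.leaf (nat_lit 148009)))) (.node (.node (.leaf (nat_lit 174792))
    (.leaf (nat_lit 26718))) (.leaf (nat_lit 105389)))) (.node (.node (.node (.leaf (nat_lit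
    127426)) (.leaf (nat_lit 119505))) (.node (.leaf (nat_lit 113166)) (.leaf (nat_lit 183222))))
    (.node (.node (.leaf (nat_lit 4141)) (.leaf (nat_lit 43295))) (.leaf (nat_lit 18614)))))))
    (.node (.node (.node (.node (.node (.node (.leaf (nat_lit 36942)) (.leaf (nat_lit 76047)))
    (.node (.leaf (nat_lit 26712)) (.leaf (nat_lit 137702)))) (.node (.node (.leaf (nat_lit
    160358)) (.leaf (nat_lit 203612))) (.leaf (nat_lit 166545)))) (.node (.node (.node (.leaf
    (nat_lit 117202)) (.leaf (nat_lit 123493))) (.node (.leaf (nat_lit 100720)) (.leaf (nat_lit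
    121486)))) (.node (.node (.leaf (nat_lit 207731)) (.leaf (nat_lit 41163))) (.leaf (nat_lit
    26714))))) (.node (.node (.node (.node (.leaf (nat_lit 28784)) (.leaf (nat_lit 96622))) (.node
    (.leaf (nat_lit 84265)) (.leaf (nat_lit 139881)))) (.node (.node (.leaf (nat_lit 82569)) (.leaf
    (nat_lit 10332))) (.leaf (nat_lit 197479)))) (.node (.node (.node (.leaf (nat_lit 59755))
    (.leaf (nat_lit 121484))) (.node (.leaf (nat_lit 180941)) (.leaf (nat_lit 201570)))) (.node
    (.node (.leaf (nat_lit 41046)) (.leaf (nat_lit 33031))) (.leaf (nat_lit 51393)))))) (.node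
    (.node (.node (.node (.node (.leaf (nat_lit 34891)) (.leaf (nat_lit 69952))) (.node (.leaf
    (nat_lit 59631)) (.leaf (nat_lit 123409)))) (.node (.node (.leaf (nat_lit 158267)) (.leaf
    (nat_lit 224245))) (.leaf (nat_lit 205665)))) (.node (.node (.node (.leaf (nat_lit 172683))
    (.leaf (nat_lit 117300))) (.node (.leaf (nat_lit 133557)) (.leaf (nat_lit 189253)))) (.node
    (.node (.leaf (nat_lit 123878)) (.leaf (nat_lit 12519))) (.leaf (nat_lit 22696))))) (.node
    (.node (.node (.node (.leaf (nat_lit 94550)) (.leaf (nat_lit 139876))) (.node (.leaf (nat_lit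
    78148)) (.leaf (nat_lit 105014)))) (.node (.node (.leaf (nat_lit 213935)) (.leaf (nat_lit
    67832))) (.leaf (nat_lit 222190)))) (.node (.node (.node (.leaf (nat_lit 147979)) (.leaf
    (nat_lit 195481))) (.node (.leaf (nat_lit 174753)) (.leaf (nat_lit 226298)))) (.node (.node
    (.leaf (nat_lit 43109)) (.leaf (nat_lit 53567))) (.leaf (nat_lit 59627)))))))) (.node (.node
    (.node (.node (.node (.node (.node (.leaf (nat_lit 6165)) (.leaf (nat_lit 90433))) (.node
    (.leaf (nat_lit 47269)) (.leaf (nat_lit 211876)))) (.node (.node (.leaf (nat_lit 137699))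
    (.leaf (nat_lit 209811))) (.leaf (nat_lit 135798)))) (.node (.node (.node (.leaf (nat_lit
    121241)) (.leaf (nat_lit 115164))) (.node (.leaf (nat_lit 103216)) (.leaf (nat_lit 180946))))
    (.node (.node (.leaf (nat_lit 99145)) (.leaf (nat_lit 78096))) (.leaf (nat_lit 4111))))) (.node
    (.node (.node (.node (.leaf (nat_lit 38997)) (.leaf (nat_lit 103277))) (.node (.leaf (nat_lit
    73993)) (.leaf (nat_lit 135647)))) (.node (.node (.leaf (nat_lit 143986)) (.leaf (nat_lit
    4113))) (.leaf (nat_lit 193369)))) (.node (.node (.node (.leaf (nat_lit 193277)) (.leaf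
    (nat_lit 152185))) (.node (.leaf (nat_lit 162391)) (.leaf (nat_lit 205667)))) (.node (.node
    (.leaf (nat_lit 8221)) (.leaf (nat_lit 28925))) (.leaf (nat_lit 30864)))))) (.node (.node
    (.node (.node (.node (.leaf (nat_lit 51397)) (.leaf (nat_lit 84270))) (.node (.leaf (nat_lit
    49366)) (.leaf (nat_lit 152102)))) (.node (.node (.leaf (nat_lit 131616)) (.leaf (nat_lit
    109520))) (.leaf (nat_lit 117482)))) (.node (.node (.node (.leaf (nat_lit 162389)) (.leaf
    (nat_lit 168568))) (.node (.leaf (nat_lit 147981)) (.leaf (nat_lit 191371)))) (.node (.node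
    (.leaf (nat_lit 195532)) (.leaf (nat_lit 90430))) (.leaf (nat_lit 43182))))) (.node (.node
    (.node (.node (.leaf (nat_lit 20688)) (.leaf (nat_lit 180944))) (.node (.leaf (nat_lit 67888))
    (.leaf (nat_lit 119335)))) (.node (.node (.leaf (nat_lit 152294)) (.leaf (nat_lit 63730)))
    (.leaf (nat_lit 107467)))) (.node (.node (.node (.leaf (nat_lit 178873)) (.leaf (nat_lit
    170733))) (.node (.leaf (nat_lit 123428)) (.leaf (nat_lit 177106)))) (.node (.node (.leaf
    (nat_lit 32907)) (.leaf (nat_lit 47405))) (.leaf (nat_lit 28889))))))) (.node (.node (.node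
    (.node (.node (.node (.leaf (nat_lit 22581)) (.leaf (nat_lit 71954))) (.node (.leaf (nat_lit
    18588)) (.leaf (nat_lit 150255)))) (.node (.node (.leaf (nat_lit 170625)) (.leaf (nat_lit
    201618))) (.leaf (nat_lit 156336)))) (.node (.node (.node (.leaf (nat_lit 141805)) (.leaf
    (nat_lit 131706))) (.node (.leaf (nat_lit 220121)) (.leaf (nat_lit 218067)))) (.node (.node
    (.leaf (nat_lit 191377)) (.leaf (nat_lit 84260))) (.leaf (nat_lit 14513))))) (.node (.node
    (.node (.node (.leaf (nat_lit 18584)) (.leaf (nat_lit 213944))) (.node (.leaf (nat_lit 80153))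
    (.leaf (nat_lit 199455)))) (.node (.node (.leaf (nat_lit 183001)) (.leaf (nat_lit 57574)))
    (.leaf (nat_lit 195458)))) (.node (.node (.node (.leaf (nat_lit 218069)) (.leaf (nat_lit
    125619))) (.node (.leaf (nat_lit 183003)) (.leaf (nat_lit 203669)))) (.node (.node (.leaf
    (nat_lit 14377)) (.leaf (nat_lit 37137))) (.leaf (nat_lit 47265)))))) (.node (.node (.node
    (.node (.node (.leaf (nat_lit 43111)) (.leaf (nat_lit 104807))) (.node (.leaf (nat_lit 69887))
    (.leaf (nat_lit 96729)))) (.node (.node (.leaf (nat_lit 224243)) (.leaf (nat_lit 228355)))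
    (.leaf (nat_lit 203601)))) (.node (.node (.node (.leaf (nat_lit 96603)) (.leaf (nat_lit
    148045))) (.node (.leaf (nat_lit 125385)) (.leaf (nat_lit 193439)))) (.node (.node (.leaf
    (nat_lit 226303)) (.leaf (nat_lit 18673))) (.leaf (nat_lit 53464))))) (.node (.node (.node
    (.node (.leaf (nat_lit 84267)) (.leaf (nat_lit 137701))) (.node (.leaf (nat_lit 108919)) (.leaf
    (nat_lit 160335)))) (.node (.node (.leaf (nat_lit 197395)) (.leaf (nat_lit 69884))) (.leaf
    (nat_lit 226300)))) (.node (.node (.node (.leaf (nat_lit 65955)) (.leaf (nat_lit 193381)))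
    (.node (.leaf (nat_lit 168565)) (.leaf (nat_lit 222203)))) (.node (.node (.leaf (nat_lit
    22649)) (.leaf (nat_lit 117207))) (.leaf (nat_lit 88373))))))))) (.node (.node (.node (.node
    (.node (.node (.node (.node (.leaf (nat_lit 4108)) (.leaf (nat_lit 65786))) (.node (.leaf
    (nat_lit 53461)) (.leaf (nat_lit 174773)))) (.node (.node (.leaf (nat_lit 92601)) (.leaf
    (nat_lit 220128))) (.leaf (nat_lit 172692)))) (.node (.node (.node (.leaf (nat_lit 135642))
    (.leaf (nat_lit 141814))) (.node (.leaf (nat_lit 207736)) (.leaf (nat_lit 129689)))) (.node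
    (.node (.leaf (nat_lit 201547)) (.leaf (nat_lit 76044))) (.leaf (nat_lit 2057))))) (.node
    (.node (.node (.node (.leaf (nat_lit 14412)) (.leaf (nat_lit 187124))) (.node (.leaf (nat_lit
    90435)) (.leaf (nat_lit 113092)))) (.node (.node (.leaf (nat_lit 176813)) (.leaf (nat_lit 7)))
    (.leaf (nat_lit 218063)))) (.node (.node (.node (.leaf (nat_lit 205658)) (.leaf (nat_lit
    129687))) (.node (.leaf (nat_lit 115126)) (.leaf (nat_lit 144158)))) (.node (.node (.leaf
    (nat_lit 2058)) (.leaf (nat_lit 24825))) (.leaf (nat_lit 32941)))))) (.node (.node (.node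
    (.node (.node (.leaf (nat_lit 16514)) (.leaf (nat_lit 86319))) (.node (.leaf (nat_lit 16578))
    (.leaf (nat_lit 94678)))) (.node (.node (.leaf (nat_lit 129560)) (.leaf (nat_lit 207815)))
    (.leaf (nat_lit 137948)))) (.node (.node (.node (.leaf (nat_lit 113033)) (.leaf (nat_lit
    183006))) (.node (.leaf (nat_lit 150043)) (.leaf (nat_lit 213943)))) (.node (.node (.leaf
    (nat_lit 187328)) (.leaf (nat_lit 51401))) (.leaf (nat_lit 49335))))) (.node (.node (.node
    (.node (.leaf (nat_lit 53459)) (.leaf (nat_lit 156213))) (.node (.leaf (nat_lit 71974)) (.leaf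
    (nat_lit 111342)))) (.node (.node (.leaf (nat_lit 166614)) (.leaf (nat_lit 61680))) (.leaf
    (nat_lit 191426)))) (.node (.node (.node (.leaf (nat_lit 145924)) (.leaf (nat_lit 150239)))
    (.node (.leaf (nat_lit 154161)) (.leaf (nat_lit 154569)))) (.node (.node (.leaf (nat_lit
    20613)) (.leaf (nat_lit 45349))) (.leaf (nat_lit 41152))))))) (.node (.node (.node (.node
    (.node (.node (.leaf (nat_lit 47262)) (.leaf (nat_lit 73998))) (.node (.leaf (nat_lit 36972))
    (.leaf (nat_lit 125637)))) (.node (.node (.leaf (nat_lit 80372)) (.leaf (nat_lit 216006)))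
    (.leaf (nat_lit 144041)))) (.node (.node (.node (.leaf (nat_lit 156210)) (.leaf (nat_lit
    133623))) (.node (.leaf (nat_lit 215999)) (.leaf (nat_lit 101044)))) (.node (.node (.leaf
    (nat_lit 101233)) (.leaf (nat_lit 82206))) (.leaf (nat_lit 16480))))) (.node (.node (.node
    (.node (.leaf (nat_lit 41070)) (.leaf (nat_lit 218065))) (.node (.leaf (nat_lit 82211)) (.leaf
    (nat_lit 162397)))) (.node (.node (.leaf (nat_lit 164514)) (.leaf (nat_lit 8285))) (.leaf
    (nat_lit 213939)))) (.node (.node (.node (.leaf (nat_lit 189251)) (.leaf (nat_lit 178882)))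
    (.node (.leaf (nat_lit 160329)) (.leaf (nat_lit 164726)))) (.node (.node (.leaf (nat_lit
    51390)) (.leaf (nat_lit 35085))) (.leaf (nat_lit 20655)))))) (.node (.node (.node (.node (.node
    (.leaf (nat_lit 30863)) (.leaf (nat_lit 80204))) (.node (.leaf (nat_lit 57580)) (.leaf (nat_lit
    109252)))) (.node (.node (.leaf (nat_lit 76345)) (.leaf (nat_lit 222196))) (.leaf (nat_lit
    97160)))) (.node (.node (.node (.leaf (nat_lit 72018)) (.leaf (nat_lit 145980))) (.node (.leaf
    (nat_lit 131503)) (.leaf (nat_lit 185226)))) (.node (.node (.leaf (nat_lit 140273)) (.leaf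
    (nat_lit 14569))) (.leaf (nat_lit 8283))))) (.node (.node (.node (.node (.leaf (nat_lit
    104804)) (.leaf (nat_lit 176818))) (.node (.leaf (nat_lit 61776)) (.leaf (nat_lit 158277))))
    (.node (.node (.leaf (nat_lit 220123)) (.leaf (nat_lit 16479))) (.leaf (nat_lit 224249))))
    (.node (.node (.node (.leaf (nat_lit 150039)) (.leaf (nat_lit 99212))) (.node (.leaf (nat_lit
    141886)) (.leaf (nat_lit 228352)))) (.node (.node (.leaf (nat_lit 6205)) (.leaf (nat_lit
    55627))) (.leaf (nat_lit 57578)))))))) (.node (.node (.node (.node (.node (.node (.node (.leaf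
    (nat_lit 2067)) (.leaf (nat_lit 78099))) (.node (.leaf (nat_lit 24702)) (.leaf (nat_lit
    156215)))) (.node (.node (.leaf (nat_lit 68065)) (.leaf (nat_lit 205661))) (.leaf (nat_lit
    164484)))) (.node (.node (.node (.leaf (nat_lit 133563)) (.leaf (nat_lit 127460))) (.node
    (.leaf (nat_lit 98664)) (.leaf (nat_lit 99040)))) (.node (.node (.leaf (nat_lit 216004)) (.leaf
    (nat_lit 80148))) (.leaf (nat_lit 6167))))) (.node (.node (.node (.node (.leaf (nat_lit 8275))
    (.leaf (nat_lit 94566))) (.node (.leaf (nat_lit 63748)) (.leaf (nat_lit 106983)))) (.node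
    (.node (.leaf (nat_lit 168574)) (.leaf (nat_lit 6169))) (.leaf (nat_lit 189266)))) (.node
    (.node (.node (.leaf (nat_lit 106861)) (.leaf (nat_lit 185068))) (.node (.leaf (nat_lit
    170627)) (.leaf (nat_lit 209812)))) (.node (.node (.leaf (nat_lit 10273)) (.leaf (nat_lit
    30979))) (.leaf (nat_lit 55524)))))) (.node (.node (.node (.node (.node (.leaf (nat_lit 32839))
    (.leaf (nat_lit 61748))) (.node (.leaf (nat_lit 30946)) (.leaf (nat_lit 172687)))) (.node
    (.node (.leaf (nat_lit 119342)) (.leaf (nat_lit 199649))) (.leaf (nat_lit 94961)))) (.node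
    (.node (.node (.leaf (nat_lit 86330)) (.leaf (nat_lit 164545))) (.node (.leaf (nat_lit 129449))
    (.leaf (nat_lit 178930)))) (.node (.node (.leaf (nat_lit 209884)) (.leaf (nat_lit 92490)))
    (.leaf (nat_lit 24745))))) (.node (.node (.node (.node (.leaf (nat_lit 26846)) (.leaf (nat_lit
    172685))) (.node (.leaf (nat_lit 86326)) (.leaf (nat_lit 216008)))) (.node (.node (.leaf
    (nat_lit 203605)) (.leaf (nat_lit 65780))) (.leaf (nat_lit 187358)))) (.node (.node (.node
    (.leaf (nat_lit 63895)) (.leaf (nat_lit 101109))) (.node (.leaf (nat_lit 178877)) (.leaf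
    (nat_lit 132067)))) (.node (.node (.leaf (nat_lit 45211)) (.leaf (nat_lit 49459))) (.leaf
    (nat_lit 39141))))))) (.node (.node (.node (.node (.node (.node (.leaf (nat_lit 24635)) (.leaf
    (nat_lit 92493))) (.node (.leaf (nat_lit 34987)) (.leaf (nat_lit 133573)))) (.node (.node
    (.leaf (nat_lit 74240)) (.leaf (nat_lit 211879))) (.leaf (nat_lit 127678)))) (.node (.node
    (.node (.leaf (nat_lit 78106)) (.leaf (nat_lit 158269))) (.node (.leaf (nat_lit 145919)) (.leaf
    (nat_lit 187123)))) (.node (.node (.leaf (nat_lit 211883)) (.leaf (nat_lit 86316))) (.leaf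
    (nat_lit 12464))))) (.node (.node (.node (.node (.leaf (nat_lit 49333)) (.leaf (nat_lit
    162394))) (.node (.leaf (nat_lit 76054)) (.leaf (nat_lit 145927)))) (.node (.node (.leaf
    (nat_lit 154298)) (.leaf (nat_lit 59624))) (.leaf (nat_lit 211880)))) (.node (.node (.node
    (.leaf (nat_lit 61831)) (.leaf (nat_lit 174787))) (.node (.leaf (nat_lit 152099)) (.leaf
    (nat_lit 103333)))) (.node (.node (.leaf (nat_lit 12330)) (.leaf (nat_lit 39189))) (.leaf
    (nat_lit 45216)))))) (.node (.node (.node (.node (.node (.leaf (nat_lit 55517)) (.leaf (nat_lit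
    106863))) (.node (.leaf (nat_lit 65783)) (.leaf (nat_lit 166552)))) (.node (.node (.leaf
    (nat_lit 88658)) (.leaf (nat_lit 226306))) (.leaf (nat_lit 201623)))) (.node (.node (.node
    (.leaf (nat_lit 57689)) (.leaf (nat_lit 113243))) (.node (.leaf (nat_lit 121297)) (.leaf
    (nat_lit 195483)))) (.node (.node (.leaf (nat_lit 228359)) (.leaf (nat_lit 20723))) (.leaf
    (nat_lit 37009))))) (.node (.node (.node (.node (.leaf (nat_lit 69889)) (.leaf (nat_lit
    166550))) (.node (.leaf (nat_lit 110971)) (.leaf (nat_lit 141916)))) (.node (.node (.leaf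
    (nat_lit 111430)) (.leaf (nat_lit 71938))) (.leaf (nat_lit 228356)))) (.node (.node (.node
    (.leaf (nat_lit 125389)) (.leaf (nat_lit 189336))) (.node (.leaf (nat_lit 139871)) (.leaf
    (nat_lit 224257)))) (.node (.node (.leaf (nat_lit 28819)) (.leaf (nat_lit 127448))) (.leaf
    (nat_lit 82209))))))))))

/-- Certificate data. -/
def p5_C : TC.Cert := ⟨7, 127, 11, 2047, 10927685746723987665256960, 62, p5_par, p5_fact, p5_just, p5_rel, 75⟩

/-- Certificate data. -/
def p5_rs : List (List ℕ) := [[1, 1, 1], [3, 3, 3, 3, 3, 3, 3, 3], [5, 5], [5, 1, 5, 2], [5, 3, 5, 4, 4, 4], [3, 3, 3, 3, 1, 3, 3, 3, 3, 1], [3, 1, 4, 8], [1, 7, 2, 8, 10], [9, 9, 9], [1, 9, 2, 10], [3, 9, 4, 9], [3, 7, 4, 10, 8, 2], [6, 6], [5, 6, 5, 6], [6, 2, 6, 1, 6, 1, 4, 4, 4, 4, 2], [6, 3, 6, 4, 4, 4, 4, 4]]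

/-- Certificate data. -/
def p5_gl : List ℕ := [1, 28675, 57349, 86022]

theorem p5_h1 : allB p5_C.factChk 516 = true := by decide +kernel

theorem p5_h2 : p5_C.finChk 516 112 p5_lv p5_tb p5_gl = true := by decide +kernel

theorem p5_h3 : TC.relChk p5_C.ivc p5_rs p5_C.rel p5_rc p5_C.nrel = true := by decide +kernel

theorem p5_bound {G : Type*} [Group G] {a c w t b z : G}
    (r0 : a * a * a = 1)
    (r1 : c * c * c * c * c * c * c * c = 1)
    (r2 : w * w = 1)
    (r3 : w * a * w * a⁻¹ = 1)
    (r4 : w * c * w * c⁻¹ * c⁻¹ * c⁻¹ = 1)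
    (r5 : c * c * c * c * a * c * c * c * c * a = 1)
    (r6 : c * a * c⁻¹ * b⁻¹ = 1)
    (r7 : a * b * a⁻¹ * b⁻¹ * z⁻¹ = 1)
    (r8 : z * z * z = 1)
    (r9 : a * z * a⁻¹ * z⁻¹ = 1)
    (r10 : c * z * c⁻¹ * z = 1)
    (r11 : c * b * c⁻¹ * z⁻¹ * b⁻¹ * a⁻¹ = 1)
    (r12 : t * t = 1)
    (r13 : w * t * w * t = 1)
    (r14 : t * a⁻¹ * t * a * t * a * c⁻¹ * c⁻¹ * c⁻¹ * c⁻¹ * a⁻¹ = 1)
    (r15 : t * c * t * c⁻¹ * c⁻¹ * c⁻¹ * c⁻¹ * c⁻¹ = 1)
    (H : Subgroup G) [Finite H] (m1 : a ∈ H) (m3 : c ∈ H) (m5 : w ∈ H) :
    Finite (Subgroup.closure ({a, c, w, t} : Set G)) ∧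
      Nat.card (Subgroup.closure ({a, c, w, t} : Set G)) ≤ 112 * Nat.card H := by
  have hL : TC.Lett (TC.lett [a, a⁻¹, c, c⁻¹, w, t, b, b⁻¹, z, z⁻¹]) p5_C.ivc :=
    TC.lett_ok (show Nat.shiftRight p5_C.ivc (8 * 11) = 0 by decide +kernel) (by
      intro a ha
      change a < 11 at ha
      interval_cases a
      · exact inv_one.symm
      · rfl
      · exact (inv_inv _).symm
      · rfl
      · exact (inv_inv _).symm
      · exact (inv_eq_of_mul_eq_one_right r2).symm
      · exact (inv_eq_of_mul_eq_one_right r12).symm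
      · rfl
      · exact (inv_inv _).symm
      · rfl
      · exact (inv_inv _).symm)
  have h := TC.card_le p5_h1 p5_h2 p5_h3 (by decide) hL (by
    simp only [p5_rs, List.forall_mem_cons]
    refine ⟨?_, ?_, ?_, ?_, ?_, ?_, ?_, ?_, ?_, ?_, ?_, ?_, ?_, ?_, ?_, ?_, List.forall_mem_nil _⟩
    · show a * (a * (a * 1)) = 1
      simp only [mul_assoc, mul_one] at r0 ⊢
      exact r0
    · show c * (c * (c * (c * (c * (c * (c * (c * 1))))))) = 1
      simp only [mul_assoc, mul_one] at r1 ⊢
      exact r1
    · show w * (w * 1) = 1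
      simp only [mul_one] at r2 ⊢
      exact r2
    · show w * (a * (w * (a⁻¹ * 1))) = 1
      simp only [mul_assoc, mul_one] at r3 ⊢
      exact r3
    · show w * (c * (w * (c⁻¹ * (c⁻¹ * (c⁻¹ * 1))))) = 1
      simp only [mul_assoc, mul_one] at r4 ⊢
      exact r4
    · show c * (c * (c * (c * (a * (c * (c * (c * (c * (a * 1))))))))) = 1
      simp only [mul_assoc, mul_one] at r5 ⊢
      exact r5
    · show c * (a * (c⁻¹ * (b⁻¹ * 1))) = 1
      simp only [mul_assoc, mul_one] at r6 ⊢
      exact r6
    · show a * (b * (a⁻¹ * (b⁻¹ * (z⁻¹ * 1)))) = 1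
      simp only [mul_assoc, mul_one] at r7 ⊢
      exact r7
    · show z * (z * (z * 1)) = 1
      simp only [mul_assoc, mul_one] at r8 ⊢
      exact r8
    · show a * (z * (a⁻¹ * (z⁻¹ * 1))) = 1
      simp only [mul_assoc, mul_one] at r9 ⊢
      exact r9
    · show c * (z * (c⁻¹ * (z * 1))) = 1
      simp only [mul_assoc, mul_one] at r10 ⊢
      exact r10
    · show c * (b * (c⁻¹ * (z⁻¹ * (b⁻¹ * (a⁻¹ * 1))))) = 1
      simp only [mul_assoc, mul_one] at r11 ⊢
      exact r11
    · show t * (t * 1) = 1
      simp only [mul_one] at r12 ⊢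
      exact r12
    · show w * (t * (w * (t * 1))) = 1
      simp only [mul_assoc, mul_one] at r13 ⊢
      exact r13
    · show t * (a⁻¹ * (t * (a * (t * (a * (c⁻¹ * (c⁻¹ * (c⁻¹ * (c⁻¹ * (a⁻¹ * 1)))))))))) = 1
      simp only [mul_assoc, mul_one] at r14 ⊢
      exact r14
    · show t * (c * (t * (c⁻¹ * (c⁻¹ * (c⁻¹ * (c⁻¹ * (c⁻¹ * 1))))))) = 1
      simp only [mul_assoc, mul_one] at r15 ⊢
      exact r15) H
    (TC.forall_subs (K := 11) (by decide +kernel) (by
      intro a ha hb
      interval_cases a
      · exact absurd hb (by decide +kernel)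
      · exact m1
      · exact H.inv_mem m1
      · exact m3
      · exact H.inv_mem m3
      · exact m5
      · exact absurd hb (by decide +kernel)
      · exact absurd hb (by decide +kernel)
      · exact absurd hb (by decide +kernel)
      · exact absurd hb (by decide +kernel)
      · exact absurd hb (by decide +kernel)))
  have e : {g₀ | ∃ ak ∈ p5_gl, TC.lett [a, a⁻¹, c, c⁻¹, w, t, b, b⁻¹, z, z⁻¹] (ak % 256) = g₀} =
      {a, c, w, t} := by
    ext g₀
    simp only [p5_gl, List.mem_cons, List.not_mem_nil, or_false, exists_eq_or_imp,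
      exists_eq_left, Set.mem_ofPred_eq, Set.mem_insert_iff, Set.mem_singleton_iff]
    exact or_congr eq_comm (or_congr eq_comm (or_congr eq_comm (eq_comm)))
  rw [e] at h
  exact h

theorem p5_card {G : Type*} [Group G] {a c w t b z : G}
    (e0 : a ^ 3 = 1)
    (e1 : c ^ 8 = 1)
    (e2 : w * w = 1)
    (e3 : w * a * w = a)
    (e4 : w * c * w = c ^ 3)
    (e5 : c ^ 4 * a * c ^ 4 = a⁻¹)
    (e6 : c * a * c⁻¹ = b)
    (e7 : a * b * a⁻¹ * b⁻¹ = z)
    (e8 : z ^ 3 = 1)
    (e9 : a * z = z * a)
    (e10 : c * z * c⁻¹ = z⁻¹)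
    (e11 : c * b * c⁻¹ = a * b * z)
    (e12 : t * t = 1)
    (e13 : w * t = t * w)
    (e14 : t * a⁻¹ * t * a * t = a * c ^ 4 * a⁻¹)
    (e15 : t * c * t = c ^ 5)
    (H : Subgroup G) [Finite H] (ma : a ∈ H) (mc : c ∈ H) (mw : w ∈ H) :
    Finite (Subgroup.closure ({a, c, w, t} : Set G)) ∧
      Nat.card (Subgroup.closure ({a, c, w, t} : Set G)) ≤ 112 * Nat.card H := by
  have iw : w⁻¹ = w := inv_eq_of_mul_eq_one_right e2
  have it : t⁻¹ = t := inv_eq_of_mul_eq_one_right e12
  refine p5_bound (b := b) (z := z) ?_ ?_ ?_ ?_ ?_ ?_ ?_ ?_ ?_ ?_ ?_ ?_ ?_ ?_ ?_ ?_ H ma mc mw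
  · have h := mul_inv_eq_one.mpr e0
    simp only [pow_succ, pow_zero, mul_inv_rev, inv_inv, inv_one, one_mul, mul_one, mul_assoc,
      mul_inv_cancel_left, inv_mul_cancel_left, mul_inv_cancel, inv_mul_cancel, iw, it] at h ⊢
    exact h
  · have h := mul_inv_eq_one.mpr e1
    simp only [pow_succ, pow_zero, mul_inv_rev, inv_inv, inv_one, one_mul, mul_one, mul_assoc,
      mul_inv_cancel_left, inv_mul_cancel_left, mul_inv_cancel, inv_mul_cancel, iw, it] at h ⊢
    exact h
  · have h := mul_inv_eq_one.mpr e2
    simp only [pow_succ, pow_zero, mul_inv_rev, inv_inv, inv_one, one_mul, mul_one, mul_assoc,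
      mul_inv_cancel_left, inv_mul_cancel_left, mul_inv_cancel, inv_mul_cancel, iw, it] at h ⊢
    exact h
  · have h := mul_inv_eq_one.mpr e3
    simp only [pow_succ, pow_zero, mul_inv_rev, inv_inv, inv_one, one_mul, mul_one, mul_assoc,
      mul_inv_cancel_left, inv_mul_cancel_left, mul_inv_cancel, inv_mul_cancel, iw, it] at h ⊢
    exact h
  · have h := mul_inv_eq_one.mpr e4
    simp only [pow_succ, pow_zero, mul_inv_rev, inv_inv, inv_one, one_mul, mul_one, mul_assoc,
      mul_inv_cancel_left, inv_mul_cancel_left, mul_inv_cancel, inv_mul_cancel, iw, it] at h ⊢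
    exact h
  · have h := mul_inv_eq_one.mpr e5
    simp only [pow_succ, pow_zero, mul_inv_rev, inv_inv, inv_one, one_mul, mul_one, mul_assoc,
      mul_inv_cancel_left, inv_mul_cancel_left, mul_inv_cancel, inv_mul_cancel, iw, it] at h ⊢
    exact h
  · have h := mul_inv_eq_one.mpr e6
    simp only [pow_succ, pow_zero, mul_inv_rev, inv_inv, inv_one, one_mul, mul_one, mul_assoc,
      mul_inv_cancel_left, inv_mul_cancel_left, mul_inv_cancel, inv_mul_cancel, iw, it] at h ⊢
    exact h
  · have h := mul_inv_eq_one.mpr e7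
    simp only [pow_succ, pow_zero, mul_inv_rev, inv_inv, inv_one, one_mul, mul_one, mul_assoc,
      mul_inv_cancel_left, inv_mul_cancel_left, mul_inv_cancel, inv_mul_cancel, iw, it] at h ⊢
    exact h
  · have h := mul_inv_eq_one.mpr e8
    simp only [pow_succ, pow_zero, mul_inv_rev, inv_inv, inv_one, one_mul, mul_one, mul_assoc,
      mul_inv_cancel_left, inv_mul_cancel_left, mul_inv_cancel, inv_mul_cancel, iw, it] at h ⊢
    exact h
  · have h := mul_inv_eq_one.mpr e9
    simp only [pow_succ, pow_zero, mul_inv_rev, inv_inv, inv_one, one_mul, mul_one, mul_assoc,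
      mul_inv_cancel_left, inv_mul_cancel_left, mul_inv_cancel, inv_mul_cancel, iw, it] at h ⊢
    exact h
  · have h := mul_inv_eq_one.mpr e10
    simp only [pow_succ, pow_zero, mul_inv_rev, inv_inv, inv_one, one_mul, mul_one, mul_assoc,
      mul_inv_cancel_left, inv_mul_cancel_left, mul_inv_cancel, inv_mul_cancel, iw, it] at h ⊢
    exact h
  · have h := mul_inv_eq_one.mpr e11
    simp only [pow_succ, pow_zero, mul_inv_rev, inv_inv, inv_one, one_mul, mul_one, mul_assoc,
      mul_inv_cancel_left, inv_mul_cancel_left, mul_inv_cancel, inv_mul_cancel, iw, it] at h ⊢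
    exact h
  · have h := mul_inv_eq_one.mpr e12
    simp only [pow_succ, pow_zero, mul_inv_rev, inv_inv, inv_one, one_mul, mul_one, mul_assoc,
      mul_inv_cancel_left, inv_mul_cancel_left, mul_inv_cancel, inv_mul_cancel, iw, it] at h ⊢
    exact h
  · have h := mul_inv_eq_one.mpr e13
    simp only [pow_succ, pow_zero, mul_inv_rev, inv_inv, inv_one, one_mul, mul_one, mul_assoc,
      mul_inv_cancel_left, inv_mul_cancel_left, mul_inv_cancel, inv_mul_cancel, iw, it] at h ⊢
    exact h
  · have h := mul_inv_eq_one.mpr e14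
    simp only [pow_succ, pow_zero, mul_inv_rev, inv_inv, inv_one, one_mul, mul_one, mul_assoc,
      mul_inv_cancel_left, inv_mul_cancel_left, mul_inv_cancel, inv_mul_cancel, iw, it] at h ⊢
    exact h
  · have h := mul_inv_eq_one.mpr e15
    simp only [pow_succ, pow_zero, mul_inv_rev, inv_inv, inv_one, one_mul, mul_one, mul_assoc,
      mul_inv_cancel_left, inv_mul_cancel_left, mul_inv_cancel, inv_mul_cancel, iw, it] at h ⊢
    exact h

/-- Certificate data. -/
def p7_par : Trie :=
    (.node (.node (.node (.node (.node (.node (.leaf (nat_lit 0)) (.leaf (nat_lit 3078))) (.leaf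
    (nat_lit 777))) (.node (.node (.leaf (nat_lit 516)) (.leaf (nat_lit 5894))) (.leaf (nat_lit
    1281)))) (.node (.node (.node (.leaf (nat_lit 263)) (.leaf (nat_lit 4358))) (.leaf (nat_lit
    1027))) (.node (.node (.leaf (nat_lit 522)) (.leaf (nat_lit 7174))) (.leaf (nat_lit 1290)))))
    (.node (.node (.node (.node (.leaf (nat_lit 257)) (.leaf (nat_lit 3846))) (.leaf (nat_lit
    1025))) (.node (.node (.leaf (nat_lit 520)) (.leaf (nat_lit 6406))) (.leaf (nat_lit 1283))))
    (.node (.node (.node (.leaf (nat_lit 265)) (.leaf (nat_lit 4870))) (.leaf (nat_lit 1033)))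
    (.node (.leaf (nat_lit 775)) (.leaf (nat_lit 2566)))))) (.node (.node (.node (.node (.node
    (.leaf (nat_lit 6)) (.leaf (nat_lit 3590))) (.leaf (nat_lit 778))) (.node (.node (.leaf
    (nat_lit 519)) (.leaf (nat_lit 6150))) (.leaf (nat_lit 1282)))) (.node (.node (.node (.leaf
    (nat_lit 264)) (.leaf (nat_lit 4614))) (.leaf (nat_lit 1030))) (.node (.leaf (nat_lit 772))
    (.leaf (nat_lit 2310))))) (.node (.node (.node (.node (.leaf (nat_lit 258)) (.leaf (nat_lit
    4102))) (.leaf (nat_lit 1026))) (.node (.node (.leaf (nat_lit 521)) (.leaf (nat_lit 6918)))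
    (.leaf (nat_lit 1289)))) (.node (.node (.node (.leaf (nat_lit 266)) (.leaf (nat_lit 5638)))
    (.leaf (nat_lit 1034))) (.node (.leaf (nat_lit 776)) (.leaf (nat_lit 2822)))))))

/-- Certificate data. -/
def p7_fact : Trie :=
    (.node (.node (.node (.node (.node (.node (.node (.node (.leaf (nat_lit 1)) (.leaf (nat_lit
    594182))) (.node (.leaf (nat_lit 152585)) (.leaf (nat_lit 253184)))) (.node (.node (.leaf
    (nat_lit 246536)) (.leaf (nat_lit 583432))) (.leaf (nat_lit 252425)))) (.node (.node (.node
    (.leaf (nat_lit 50436)) (.leaf (nat_lit 616455))) (.leaf (nat_lit 398343))) (.node (.node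
    (.leaf (nat_lit 234249)) (.leaf (nat_lit 134656))) (.leaf (nat_lit 220161))))) (.node (.node
    (.node (.node (.leaf (nat_lit 33286)) (.leaf (nat_lit 550657))) (.node (.leaf (nat_lit 377866))
    (.leaf (nat_lit 151302)))) (.node (.node (.leaf (nat_lit 299778)) (.leaf (nat_lit 567808)))
    (.leaf (nat_lit 432898)))) (.node (.node (.node (.leaf (nat_lit 164360)) (.leaf (nat_lit
    600835))) (.leaf (nat_lit 399618))) (.node (.node (.leaf (nat_lit 232196)) (.leaf (nat_lit
    152576))) (.leaf (nat_lit 510726)))))) (.node (.node (.node (.node (.node (.leaf (nat_lit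
    16645)) (.leaf (nat_lit 534020))) (.node (.leaf (nat_lit 216834)) (.leaf (nat_lit 248321))))
    (.node (.node (.leaf (nat_lit 119041)) (.leaf (nat_lit 500993))) (.leaf (nat_lit 214278))))
    (.node (.node (.node (.leaf (nat_lit 100100)) (.leaf (nat_lit 666113))) (.leaf (nat_lit
    199429))) (.node (.node (.leaf (nat_lit 234497)) (.leaf (nat_lit 85761))) (.leaf (nat_lit
    463621))))) (.node (.node (.node (.node (.leaf (nat_lit 49926)) (.leaf (nat_lit 677894)))
    (.leaf (nat_lit 153347))) (.node (.node (.leaf (nat_lit 345094)) (.leaf (nat_lit 219136)))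
    (.leaf (nat_lit 448007)))) (.node (.node (.node (.leaf (nat_lit 183306)) (.leaf (nat_lit
    633861))) (.leaf (nat_lit 252170))) (.node (.node (.leaf (nat_lit 330759)) (.leaf (nat_lit
    67585))) (.leaf (nat_lit 560902))))))) (.node (.node (.node (.node (.node (.node (.leaf
    (nat_lit 5)) (.leaf (nat_lit 566533))) (.node (.leaf (nat_lit 167940)) (.leaf (nat_lit
    89600)))) (.node (.node (.leaf (nat_lit 184322)) (.leaf (nat_lit 502026))) (.leaf (nat_lit
    67590)))) (.node (.node (.node (.leaf (nat_lit 98569)) (.leaf (nat_lit 485893))) (.leaf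
    (nat_lit 399109))) (.node (.node (.leaf (nat_lit 300547)) (.leaf (nat_lit 167168))) (.leaf
    (nat_lit 252931))))) (.node (.node (.node (.node (.leaf (nat_lit 33538)) (.leaf (nat_lit
    518147))) (.node (.leaf (nat_lit 153345)) (.leaf (nat_lit 165126)))) (.node (.node (.leaf
    (nat_lit 218115)) (.leaf (nat_lit 89088))) (.leaf (nat_lit 416515)))) (.node (.node (.node
    (.leaf (nat_lit 101122)) (.leaf (nat_lit 712456))) (.leaf (nat_lit 137480))) (.node (.node
    (.leaf (nat_lit 134665)) (.leaf (nat_lit 156160))) (.leaf (nat_lit 544262)))))) (.node (.node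
    (.node (.node (.node (.leaf (nat_lit 33025)) (.leaf (nat_lit 534275))) (.node (.leaf (nat_lit
    249348)) (.leaf (nat_lit 67842)))) (.node (.node (.leaf (nat_lit 152074)) (.leaf (nat_lit
    449536))) (.leaf (nat_lit 443657)))) (.node (.node (.node (.leaf (nat_lit 131588)) (.leaf
    (nat_lit 551685))) (.leaf (nat_lit 132357))) (.node (.node (.leaf (nat_lit 300042)) (.leaf
    (nat_lit 152064))) (.leaf (nat_lit 494086))))) (.node (.node (.node (.node (.leaf (nat_lit
    33796)) (.leaf (nat_lit 600324))) (.leaf (nat_lit 219146))) (.node (.node (.leaf (nat_lit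
    202244)) (.leaf (nat_lit 71424))) (.leaf (nat_lit 449546)))) (.node (.node (.node (.leaf
    (nat_lit 213764)) (.leaf (nat_lit 584707))) (.leaf (nat_lit 137731))) (.node (.node (.leaf
    (nat_lit 133377)) (.leaf (nat_lit 247815))) (.leaf (nat_lit 577542)))))))) (.node (.node (.node
    (.node (.node (.node (.node (.leaf (nat_lit 3)) (.leaf (nat_lit 610822))) (.node (.leaf
    (nat_lit 215561)) (.leaf (nat_lit 255232)))) (.node (.node (.leaf (nat_lit 262921)) (.leaf
    (nat_lit 598794))) (.leaf (nat_lit 136448)))) (.node (.node (.node (.leaf (nat_lit 82951))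
    (.leaf (nat_lit 694534))) (.leaf (nat_lit 395786))) (.node (.node (.leaf (nat_lit 361991))
    (.leaf (nat_lit 484608))) (.leaf (nat_lit 269316))))) (.node (.node (.node (.node (.leaf
    (nat_lit 49410)) (.leaf (nat_lit 661254))) (.node (.leaf (nat_lit 136962)) (.leaf (nat_lit
    151301)))) (.node (.node (.leaf (nat_lit 328707)) (.leaf (nat_lit 88832))) (.leaf (nat_lit
    285444)))) (.node (.node (.node (.leaf (nat_lit 180745)) (.leaf (nat_lit 502530))) (.leaf
    (nat_lit 153861))) (.node (.node (.leaf (nat_lit 183559)) (.leaf (nat_lit 85764))) (.leaf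
    (nat_lit 527366)))))) (.node (.node (.node (.node (.node (.leaf (nat_lit 16643)) (.leaf
    (nat_lit 644614))) (.node (.leaf (nat_lit 250373)) (.leaf (nat_lit 164869)))) (.node (.node
    (.leaf (nat_lit 295937)) (.leaf (nat_lit 715776))) (.leaf (nat_lit 432393)))) (.node (.node
    (.node (.leaf (nat_lit 100099)) (.leaf (nat_lit 711430))) (.leaf (nat_lit 169477))) (.node
    (.node (.leaf (nat_lit 298248)) (.leaf (nat_lit 169984))) (.leaf (nat_lit 477446))))) (.node
    (.node (.node (.node (.leaf (nat_lit 65799)) (.leaf (nat_lit 616707))) (.leaf (nat_lit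
    394497))) (.node (.node (.leaf (nat_lit 361481)) (.leaf (nat_lit 252416))) (.leaf (nat_lit
    460042)))) (.node (.node (.node (.leaf (nat_lit 117762)) (.leaf (nat_lit 568324))) (.leaf
    (nat_lit 427267))) (.node (.node (.leaf (nat_lit 313353)) (.leaf (nat_lit 247812))) (.leaf
    (nat_lit 549380))))))) (.node (.node (.node (.node (.node (.node (.leaf (nat_lit 16390)) (.leaf
    (nat_lit 627462))) (.node (.leaf (nat_lit 150024)) (.leaf (nat_lit 51715)))) (.node (.node
    (.leaf (nat_lit 279306)) (.leaf (nat_lit 613642))) (.leaf (nat_lit 334342)))) (.node (.node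
    (.node (.leaf (nat_lit 114954)) (.leaf (nat_lit 633348))) (.leaf (nat_lit 397572))) (.node
    (.node (.leaf (nat_lit 333313)) (.leaf (nat_lit 71168))) (.leaf (nat_lit 384008))))) (.node
    (.node (.node (.node (.leaf (nat_lit 49925)) (.leaf (nat_lit 485380))) (.leaf (nat_lit
    186116))) (.node (.node (.leaf (nat_lit 214021)) (.leaf (nat_lit 252160))) (.leaf (nat_lit
    445957)))) (.node (.node (.node (.leaf (nat_lit 197130)) (.leaf (nat_lit 728070))) (.leaf
    (nat_lit 414468))) (.node (.node (.leaf (nat_lit 201475)) (.leaf (nat_lit 141312))) (.leaf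
    (nat_lit 516356)))))) (.node (.node (.node (.node (.node (.leaf (nat_lit 33285)) (.leaf
    (nat_lit 616196))) (.node (.leaf (nat_lit 233224)) (.leaf (nat_lit 67844)))) (.node (.node
    (.leaf (nat_lit 312322)) (.leaf (nat_lit 550400))) (.leaf (nat_lit 170753)))) (.node (.node
    (.node (.leaf (nat_lit 147975)) (.leaf (nat_lit 699140))) (.leaf (nat_lit 410882))) (.node
    (.node (.leaf (nat_lit 184840)) (.leaf (nat_lit 84482))) (.leaf (nat_lit 482819))))) (.node
    (.node (.node (.node (.leaf (nat_lit 82184)) (.leaf (nat_lit 485634))) (.leaf (nat_lit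
    301060))) (.node (.node (.leaf (nat_lit 235010)) (.leaf (nat_lit 135936))) (.leaf (nat_lit
    252930)))) (.node (.node (.node (.leaf (nat_lit 230151)) (.leaf (nat_lit 617473))) (.leaf
    (nat_lit 170498))) (.node (.node (.leaf (nat_lit 150020)) (.leaf (nat_lit 154885))) (.leaf
    (nat_lit 500483)))))))))

/-- Certificate data. -/
def p7_just : Trie :=
    (.node (.node (.node (.node (.node (.node (.node (.node (.leaf (nat_lit 1)) (.leaf (nat_lit
    0))) (.node (.leaf (nat_lit 140993021729767447)) (.leaf (nat_lit 219476809482894573570))))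
    (.node (.node (.leaf (nat_lit 0)) (.leaf (nat_lit 356487018622156827))) (.leaf (nat_lit
    18899853552991991037996)))) (.node (.node (.node (.leaf (nat_lit 20290520723161098)) (.leaf
    (nat_lit 318136087405068299))) (.leaf (nat_lit 179181169391370251))) (.node (.node (.leaf
    (nat_lit 106032842638819351)) (.leaf (nat_lit 202058112702460723202))) (.leaf (nat_lit
    175979975646838801))))) (.node (.node (.node (.node (.leaf (nat_lit
    124736819217503100922724999282425862)) (.leaf (nat_lit 2535958095949010434626599157263630388)))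
    (.node (.leaf (nat_lit 0)) (.leaf (nat_lit 518424027594754)))) (.node (.node (.leaf (nat_lit
    163067023458311)) (.leaf (nat_lit 354261748821458946))) (.leaf (nat_lit 227815291697168398))))
    (.node (.node (.node (.leaf (nat_lit 0)) (.leaf (nat_lit 5198924727272998828426515437912068)))
    (.leaf (nat_lit 339401200762887))) (.node (.node (.leaf (nat_lit 106057169333583882)) (.leaf
    (nat_lit 151667321130385410))) (.leaf (nat_lit 0)))))) (.node (.node (.node (.node (.node
    (.leaf (nat_lit 6766424622301187)) (.leaf (nat_lit 4911995457981259177712237589102643))) (.node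
    (.leaf (nat_lit 66369693123267002401)) (.leaf (nat_lit 302799489466370)))) (.node (.node (.leaf
    (nat_lit 42826282844749841)) (.leaf (nat_lit 365424093945856017))) (.leaf (nat_lit
    1218226723817412833730762673553454)))) (.node (.node (.node (.leaf (nat_lit 40556753406066700))
    (.leaf (nat_lit 2848368002802875806297065269309866036))) (.leaf (nat_lit
    27212008065956741185574))) (.node (.node (.leaf (nat_lit 207150567784474)) (.leaf (nat_lit
    386302243635202))) (.leaf (nat_lit 67668534664896323059732))))) (.node (.node (.node (.node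
    (.leaf (nat_lit 218401462756322911797301807015395334)) (.leaf (nat_lit 0))) (.leaf (nat_lit
    144296130753265677))) (.node (.node (.leaf (nat_lit 0)) (.leaf (nat_lit 252952111783018498)))
    (.leaf (nat_lit 62968717740467984597042)))) (.node (.node (.node (.leaf (nat_lit
    110187386109967)) (.leaf (nat_lit 295499483746336771))) (.leaf (nat_lit 157837879169712169)))
    (.node (.node (.leaf (nat_lit 92498026299588619)) (.leaf (nat_lit 175230370840578))) (.leaf
    (nat_lit 0))))))) (.node (.node (.node (.node (.node (.node (.leaf (nat_lit 1)) (.leaf (nat_lit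
    279527754502963203))) (.node (.leaf (nat_lit 147625116954722325)) (.leaf (nat_lit
    406174202484424706)))) (.node (.node (.leaf (nat_lit 56339263570247694)) (.leaf (nat_lit
    286690080620478499))) (.leaf (nat_lit 196550588497922)))) (.node (.node (.node (.leaf (nat_lit
    0)) (.leaf (nat_lit 263853254176342019))) (.leaf (nat_lit 47008802841009083187236))) (.node
    (.node (.leaf (nat_lit 21855976963513520554008)) (.leaf (nat_lit 119132937373293477890)))
    (.leaf (nat_lit 216582741037350925))))) (.node (.node (.node (.node (.leaf (nat_lit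
    26469883576327)) (.leaf (nat_lit 4872265639926514285332469836742660))) (.node (.leaf (nat_lit
    85731743411404817)) (.leaf (nat_lit 522839253975042)))) (.node (.node (.leaf (nat_lit
    1217658482431031597868107222810643)) (.leaf (nat_lit 744695789649922))) (.leaf (nat_lit
    228967579883077681)))) (.node (.node (.node (.leaf (nat_lit 40561202992185358)) (.leaf (nat_lit
    341801971386351643))) (.leaf (nat_lit 34318510095594112221224))) (.node (.node (.leaf (nat_lit
    49652231418609694)) (.leaf (nat_lit 212361249159731478530))) (.leaf (nat_lit 0)))))) (.node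
    (.node (.node (.node (.node (.leaf (nat_lit 0)) (.leaf (nat_lit
    4913031776710152041015433581101060))) (.node (.leaf (nat_lit 154380499215908873)) (.leaf
    (nat_lit 166494407360514)))) (.node (.node (.leaf (nat_lit 26530765100590301202)) (.leaf
    (nat_lit 337371081260335106))) (.leaf (nat_lit 0)))) (.node (.node (.node (.leaf (nat_lit 0))
    (.leaf (nat_lit 275193651464962051))) (.leaf (nat_lit 164744886661349384))) (.node (.node
    (.leaf (nat_lit 83517146604437532)) (.leaf (nat_lit 201165041100324866))) (.leaf (nat_lit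
    0))))) (.node (.node (.node (.node (.leaf (nat_lit 13535104102236169)) (.leaf (nat_lit
    5200632323213836516005639816282163))) (.leaf (nat_lit 61764694721106804754))) (.node (.node
    (.leaf (nat_lit 60860558462877717)) (.leaf (nat_lit 40155156784021506))) (.leaf (nat_lit
    449541342101519)))) (.node (.node (.node (.leaf (nat_lit 0)) (.leaf (nat_lit
    5116445742090704558670256794042372))) (.leaf (nat_lit 50784488862544459792426))) (.node (.node
    (.leaf (nat_lit 138664140138020881)) (.leaf (nat_lit 315976449130498))) (.leaf (nat_lit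
    0)))))))) (.node (.node (.node (.node (.node (.node (.node (.leaf (nat_lit 1)) (.leaf (nat_lit
    0))) (.node (.leaf (nat_lit 94859807340822559)) (.leaf (nat_lit 845945348685826)))) (.node
    (.node (.leaf (nat_lit 0)) (.leaf (nat_lit 89902790657122807119926))) (.leaf (nat_lit
    1956077458992420224133019883532845101)))) (.node (.node (.node (.leaf (nat_lit
    37200996673454091)) (.leaf (nat_lit 0))) (.leaf (nat_lit 179187951144730659))) (.node (.node
    (.leaf (nat_lit 104838618392231947)) (.leaf (nat_lit 329504960326860802))) (.leaf (nat_lit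
    74380703193825292))))) (.node (.node (.node (.node (.leaf (nat_lit 0)) (.leaf (nat_lit 0)))
    (.node (.leaf (nat_lit 138657835126030352)) (.leaf (nat_lit 841680446160898)))) (.node (.node
    (.leaf (nat_lit 0)) (.leaf (nat_lit 126620314638768930818))) (.leaf (nat_lit
    78884242691653653)))) (.node (.node (.node (.leaf (nat_lit 0)) (.leaf (nat_lit
    2454950665122992274756703179273535541))) (.leaf (nat_lit 141116471974756360))) (.node (.node
    (.leaf (nat_lit 127455752964210699)) (.leaf (nat_lit 412707702571010))) (.leaf (nat_lit 0))))))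
    (.node (.node (.node (.node (.node (.leaf (nat_lit 121773840829752103445559945789444)) (.leaf
    (nat_lit 0))) (.node (.leaf (nat_lit 154437725360160773)) (.leaf (nat_lit 375375846834178))))
    (.node (.node (.leaf (nat_lit 0)) (.leaf (nat_lit 346373916828303367))) (.leaf (nat_lit
    425201762435119)))) (.node (.node (.node (.leaf (nat_lit 40554554382811149)) (.leaf (nat_lit
    0))) (.leaf (nat_lit 37571576375043929997351))) (.node (.node (.leaf (nat_lit
    112816855152001051)) (.leaf (nat_lit 784329747857410))) (.leaf (nat_lit 0))))) (.node (.node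
    (.node (.node (.leaf (nat_lit 0)) (.leaf (nat_lit 5236830299280112886107330214166532))) (.leaf
    (nat_lit 0))) (.node (.node (.leaf (nat_lit 0)) (.leaf (nat_lit 257455848849342466))) (.leaf
    (nat_lit 0)))) (.node (.node (.node (.leaf (nat_lit 42813019985739792)) (.leaf (nat_lit
    5100690885284438460662359786061869))) (.leaf (nat_lit 0))) (.node (.node (.leaf (nat_lit
    134101029443797022)) (.leaf (nat_lit 309379379363842))) (.leaf (nat_lit
    4953356349237645970748155147911219))))))) (.node (.node (.node (.node (.node (.node (.leaf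
    (nat_lit 0)) (.leaf (nat_lit 0))) (.node (.leaf (nat_lit 37264282039744303792160)) (.leaf
    (nat_lit 135673722044418)))) (.node (.node (.leaf (nat_lit 0)) (.leaf (nat_lit
    318219482785054755))) (.leaf (nat_lit 1726384165380347870724841873670190)))) (.node (.node
    (.node (.leaf (nat_lit 0)) (.leaf (nat_lit 5318712525290980041144112043851827))) (.leaf
    (nat_lit 3228871739560760401936542771773477))) (.node (.node (.leaf (nat_lit
    24217128670954858545177)) (.leaf (nat_lit 40150694313000962))) (.leaf (nat_lit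
    84942776142479491101))))) (.node (.node (.node (.node (.leaf (nat_lit 20286071137042440))
    (.leaf (nat_lit 4751085468718037742195810620735539))) (.leaf (nat_lit 56357190763741196)))
    (.node (.node (.leaf (nat_lit 17722201773028606803988)) (.leaf (nat_lit 250700397868679170)))
    (.leaf (nat_lit 62969861747188148011028)))) (.node (.node (.node (.leaf (nat_lit 0)) (.leaf
    (nat_lit 0))) (.leaf (nat_lit 53447192773695616909346))) (.node (.node (.leaf (nat_lit
    64425196634963981)) (.leaf (nat_lit 222568722857132034))) (.leaf (nat_lit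
    4873732273946268114199833666453555)))))) (.node (.node (.node (.node (.node (.leaf (nat_lit
    13530645926182917)) (.leaf (nat_lit 5239133578005939756598315903942707))) (.node (.leaf
    (nat_lit 33088983647608268718112)) (.leaf (nat_lit 184103773274114)))) (.node (.node (.leaf
    (nat_lit 0)) (.leaf (nat_lit 338496994052079618))) (.leaf (nat_lit 183861214865195056))))
    (.node (.node (.node (.leaf (nat_lit 0)) (.leaf (nat_lit 5993829341141799258629190760071213)))
    (.leaf (nat_lit 0))) (.node (.node (.leaf (nat_lit 30664110930405883933)) (.leaf (nat_lit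
    342407677870082))) (.leaf (nat_lit 4752116887782520470248328377466884))))) (.node (.node (.node
    (.node (.leaf (nat_lit 0)) (.leaf (nat_lit 2433002716906235873007783016087027765))) (.leaf
    (nat_lit 32848048794971796733986))) (.node (.node (.leaf (nat_lit 35760892605605609494)) (.leaf
    (nat_lit 194403448316428290))) (.leaf (nat_lit 207549153503543312)))) (.node (.node (.node
    (.leaf (nat_lit 0)) (.leaf (nat_lit 2680733851291617205505555952894083124))) (.leaf (nat_lit
    39918846577068803948587))) (.node (.node (.leaf (nat_lit 140834455832166410)) (.leaf (nat_lit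
    419408036105486338))) (.leaf (nat_lit 4791691438063731313284263877083140)))))))))

/-- Certificate data. -/
def p7_rel : Trie :=
    (.node (.node (.node (.node (.node (.node (.leaf (nat_lit 0)) (.leaf (nat_lit 2233551030019)))
    (.node (.leaf (nat_lit 8724219657)) (.leaf (nat_lit 3337307096072)))) (.node (.node (.leaf
    (nat_lit 117703171)) (.leaf (nat_lit 4415310464260))) (.leaf (nat_lit 131586)))) (.node (.node
    (.node (.leaf (nat_lit 2446222948635142120669446)) (.leaf (nat_lit 3320077091845))) (.node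
    (.leaf (nat_lit 43084023553)) (.leaf (nat_lit 7700943995657)))) (.node (.node (.leaf (nat_lit
    167905537)) (.leaf (nat_lit 14278069273742545257478))) (.leaf (nat_lit 50988042))))) (.node
    (.node (.node (.node (.leaf (nat_lit 28389756149957514167812)) (.leaf (nat_lit 4415293817605)))
    (.node (.leaf (nat_lit 3311470445573)) (.leaf (nat_lit 7263055207906245441816066)))) (.node
    (.node (.leaf (nat_lit 151259395)) (.leaf (nat_lit 4428161746954))) (.leaf (nat_lit
    34210057)))) (.node (.node (.node (.leaf (nat_lit 17105413)) (.leaf (nat_lit 1116825913607)))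
    (.leaf (nat_lit 8809129378052))) (.node (.node (.leaf (nat_lit 151128577)) (.leaf (nat_lit
    167840002))) (.leaf (nat_lit 3307259692039)))))) (.node (.node (.node (.node (.node (.leaf
    (nat_lit 100992517)) (.leaf (nat_lit 67699465))) (.node (.leaf (nat_lit
    18963398153276695380996)) (.leaf (nat_lit 28408275234204061795843)))) (.node (.node (.leaf
    (nat_lit 67175176)) (.leaf (nat_lit 4432457172737))) (.leaf (nat_lit 67240711)))) (.node (.node
    (.node (.leaf (nat_lit 65793)) (.leaf (nat_lit 4419571876613))) (.leaf (nat_lit 17367562)))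
    (.node (.node (.leaf (nat_lit 592137)) (.leaf (nat_lit 657930))) (.leaf (nat_lit 67765002)))))
    (.node (.node (.node (.node (.leaf (nat_lit 33882373)) (.leaf (nat_lit
    4777923735600698163971))) (.node (.leaf (nat_lit 168036867)) (.leaf (nat_lit
    7263110476080881072145921)))) (.node (.node (.leaf (nat_lit 151193860)) (.leaf (nat_lit
    28408419066813337502467))) (.leaf (nat_lit 38688784647)))) (.node (.node (.node (.leaf (nat_lit
    134480131)) (.leaf (nat_lit 50922505))) (.leaf (nat_lit 8839110263554))) (.node (.node (.leaf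
    (nat_lit 151063042)) (.leaf (nat_lit 167971332))) (.leaf (nat_lit 30215899137)))))))

/-- Certificate data. -/
def p7_rc : Trie :=
    (.node (.node (.node (.node (.node (.node (.leaf (nat_lit 32)) (.leaf (nat_lit 22))) (.node
    (.leaf (nat_lit 15)) (.leaf (nat_lit 524311)))) (.node (.node (.leaf (nat_lit 131085)) (.leaf
    (nat_lit 655368))) (.leaf (nat_lit 1)))) (.node (.node (.node (.leaf (nat_lit 1048605)) (.leaf
    (nat_lit 262152))) (.node (.leaf (nat_lit 14)) (.leaf (nat_lit 262167)))) (.node (.node (.leaf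
    (nat_lit 18)) (.leaf (nat_lit 262174))) (.leaf (nat_lit 262165))))) (.node (.node (.node (.node
    (.leaf (nat_lit 1048607)) (.leaf (nat_lit 8))) (.node (.leaf (nat_lit 393225)) (.leaf (nat_lit
    917533)))) (.node (.node (.leaf (nat_lit 20)) (.leaf (nat_lit 393238))) (.leaf (nat_lit 19))))
    (.node (.node (.node (.leaf (nat_lit 262150)) (.leaf (nat_lit 131095))) (.leaf (nat_lit
    655383))) (.node (.node (.leaf (nat_lit 131091)) (.leaf (nat_lit 393235))) (.leaf (nat_lit
    131094)))))) (.node (.node (.node (.node (.node (.leaf (nat_lit 26)) (.leaf (nat_lit 393236)))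
    (.node (.leaf (nat_lit 393227)) (.leaf (nat_lit 131102)))) (.node (.node (.leaf (nat_lit
    393228)) (.leaf (nat_lit 23))) (.leaf (nat_lit 13)))) (.node (.node (.node (.leaf (nat_lit 0))
    (.leaf (nat_lit 655369))) (.leaf (nat_lit 262163))) (.node (.node (.leaf (nat_lit 16)) (.leaf
    (nat_lit 17))) (.leaf (nat_lit 21))))) (.node (.node (.node (.node (.leaf (nat_lit 6)) (.leaf
    (nat_lit 10))) (.node (.leaf (nat_lit 131093)) (.leaf (nat_lit 1179677)))) (.node (.node (.leaf
    (nat_lit 262164)) (.leaf (nat_lit 31))) (.leaf (nat_lit 131087)))) (.node (.node (.node (.leaf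
    (nat_lit 12)) (.leaf (nat_lit 131092))) (.leaf (nat_lit 655382))) (.node (.node (.leaf (nat_lit
    262162)) (.leaf (nat_lit 393237))) (.leaf (nat_lit 262159)))))))

/-- Certificate data. -/
def p7_lv : Trie :=
    (.node (.node (.node (.node (.leaf (nat_lit 0)) (.leaf (nat_lit 10))) (.leaf (nat_lit 4)))
    (.node (.leaf (nat_lit 2)) (.leaf (nat_lit 8)))) (.node (.node (.node (.leaf (nat_lit 1))
    (.leaf (nat_lit 15))) (.leaf (nat_lit 5))) (.node (.leaf (nat_lit 3)) (.leaf (nat_lit 9)))))

/-- Certificate data. -/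
def p7_tb : Trie :=
    (.node (.node (.node (.node (.node (.node (.leaf (nat_lit 0)) (.leaf (nat_lit 1041))) (.leaf
    (nat_lit 1069))) (.node (.leaf (nat_lit 5000)) (.leaf (nat_lit 4490)))) (.node (.node (.node
    (.leaf (nat_lit 3981)) (.leaf (nat_lit 2244))) (.leaf (nat_lit 5))) (.node (.leaf (nat_lit
    2077)) (.leaf (nat_lit 2443))))) (.node (.node (.node (.node (.leaf (nat_lit 1557)) (.leaf
    (nat_lit 3269))) (.leaf (nat_lit 1926))) (.node (.leaf (nat_lit 2)) (.leaf (nat_lit 2733))))
    (.node (.node (.node (.leaf (nat_lit 2424)) (.leaf (nat_lit 2965))) (.leaf (nat_lit 1039)))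
    (.node (.leaf (nat_lit 3983)) (.leaf (nat_lit 518)))))) (.node (.node (.node (.node (.node
    (.leaf (nat_lit 1036)) (.leaf (nat_lit 1561))) (.leaf (nat_lit 4223))) (.node (.leaf (nat_lit
    2920)) (.leaf (nat_lit 3244)))) (.node (.node (.node (.leaf (nat_lit 4463)) (.leaf (nat_lit
    5009))) (.leaf (nat_lit 521))) (.node (.leaf (nat_lit 2593)) (.leaf (nat_lit 3986))))) (.node
    (.node (.node (.node (.leaf (nat_lit 531)) (.leaf (nat_lit 4500))) (.leaf (nat_lit 3451)))
    (.node (.leaf (nat_lit 522)) (.leaf (nat_lit 5011)))) (.node (.node (.node (.leaf (nat_lit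
    3196)) (.leaf (nat_lit 3984))) (.leaf (nat_lit 1559))) (.node (.leaf (nat_lit 4979)) (.leaf
    (nat_lit 7)))))))

/-- Certificate data. -/
def p7_C : TC.Cert := ⟨6, 63, 9, 511, 10927685746723987665256960, 62, p7_par, p7_fact, p7_just, p7_rel, 53⟩

/-- Certificate data. -/
def p7_rs : List (List ℕ) := [[1, 1, 1], [3, 3, 3, 3, 3, 3, 3, 3], [5, 5], [5, 1, 5, 2], [5, 3, 5, 4, 4, 4], [3, 3, 3, 3, 1, 3, 3, 3, 3, 1], [3, 1, 4, 8], [1, 7, 2, 8, 10], [9, 9, 9], [1, 9, 2, 10], [3, 9, 4, 9], [3, 7, 4, 10, 8, 2], [6, 6], [5, 6, 5, 6], [6, 2, 6, 1, 6, 1, 4, 4, 4, 4, 2], [6, 3, 6, 4, 4, 4, 4, 4, 4, 4]]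

/-- Certificate data. -/
def p7_gl : List ℕ := [1, 2563, 5125, 7686]

theorem p7_h1 : allB p7_C.factChk 203 = true := by decide +kernel

theorem p7_h2 : p7_C.finChk 203 10 p7_lv p7_tb p7_gl = true := by decide +kernel

theorem p7_h3 : TC.relChk p7_C.ivc p7_rs p7_C.rel p7_rc p7_C.nrel = true := by decide +kernel

theorem p7_bound {G : Type*} [Group G] {a c w t b z : G}
    (r0 : a * a * a = 1)
    (r1 : c * c * c * c * c * c * c * c = 1)
    (r2 : w * w = 1)
    (r3 : w * a * w * a⁻¹ = 1)
    (r4 : w * c * w * c⁻¹ * c⁻¹ * c⁻¹ = 1)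
    (r5 : c * c * c * c * a * c * c * c * c * a = 1)
    (r6 : c * a * c⁻¹ * b⁻¹ = 1)
    (r7 : a * b * a⁻¹ * b⁻¹ * z⁻¹ = 1)
    (r8 : z * z * z = 1)
    (r9 : a * z * a⁻¹ * z⁻¹ = 1)
    (r10 : c * z * c⁻¹ * z = 1)
    (r11 : c * b * c⁻¹ * z⁻¹ * b⁻¹ * a⁻¹ = 1)
    (r12 : t * t = 1)
    (r13 : w * t * w * t = 1)
    (r14 : t * a⁻¹ * t * a * t * a * c⁻¹ * c⁻¹ * c⁻¹ * c⁻¹ * a⁻¹ = 1)
    (r15 : t * c * t * c⁻¹ * c⁻¹ * c⁻¹ * c⁻¹ * c⁻¹ * c⁻¹ * c⁻¹ = 1)
    (H : Subgroup G) [Finite H] (m1 : a ∈ H) (m3 : c ∈ H) (m5 : w ∈ H) :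
    Finite (Subgroup.closure ({a, c, w, t} : Set G)) ∧
      Nat.card (Subgroup.closure ({a, c, w, t} : Set G)) ≤ 10 * Nat.card H := by
  have hL : TC.Lett (TC.lett [a, a⁻¹, c, c⁻¹, w, t, b, b⁻¹, z, z⁻¹]) p7_C.ivc :=
    TC.lett_ok (show Nat.shiftRight p7_C.ivc (8 * 11) = 0 by decide +kernel) (by
      intro a ha
      change a < 11 at ha
      interval_cases a
      · exact inv_one.symm
      · rfl
      · exact (inv_inv _).symm
      · rfl
      · exact (inv_inv _).symm
      · exact (inv_eq_of_mul_eq_one_right r2).symm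
      · exact (inv_eq_of_mul_eq_one_right r12).symm
      · rfl
      · exact (inv_inv _).symm
      · rfl
      · exact (inv_inv _).symm)
  have h := TC.card_le p7_h1 p7_h2 p7_h3 (by decide) hL (by
    simp only [p7_rs, List.forall_mem_cons]
    refine ⟨?_, ?_, ?_, ?_, ?_, ?_, ?_, ?_, ?_, ?_, ?_, ?_, ?_, ?_, ?_, ?_, List.forall_mem_nil _⟩
    · show a * (a * (a * 1)) = 1
      simp only [mul_assoc, mul_one] at r0 ⊢
      exact r0
    · show c * (c * (c * (c * (c * (c * (c * (c * 1))))))) = 1
      simp only [mul_assoc, mul_one] at r1 ⊢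
      exact r1
    · show w * (w * 1) = 1
      simp only [mul_one] at r2 ⊢
      exact r2
    · show w * (a * (w * (a⁻¹ * 1))) = 1
      simp only [mul_assoc, mul_one] at r3 ⊢
      exact r3
    · show w * (c * (w * (c⁻¹ * (c⁻¹ * (c⁻¹ * 1))))) = 1
      simp only [mul_assoc, mul_one] at r4 ⊢
      exact r4
    · show c * (c * (c * (c * (a * (c * (c * (c * (c * (a * 1))))))))) = 1
      simp only [mul_assoc, mul_one] at r5 ⊢
      exact r5
    · show c * (a * (c⁻¹ * (b⁻¹ * 1))) = 1
      simp only [mul_assoc, mul_one] at r6 ⊢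
      exact r6
    · show a * (b * (a⁻¹ * (b⁻¹ * (z⁻¹ * 1)))) = 1
      simp only [mul_assoc, mul_one] at r7 ⊢
      exact r7
    · show z * (z * (z * 1)) = 1
      simp only [mul_assoc, mul_one] at r8 ⊢
      exact r8
    · show a * (z * (a⁻¹ * (z⁻¹ * 1))) = 1
      simp only [mul_assoc, mul_one] at r9 ⊢
      exact r9
    · show c * (z * (c⁻¹ * (z * 1))) = 1
      simp only [mul_assoc, mul_one] at r10 ⊢
      exact r10
    · show c * (b * (c⁻¹ * (z⁻¹ * (b⁻¹ * (a⁻¹ * 1))))) = 1
      simp only [mul_assoc, mul_one] at r11 ⊢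
      exact r11
    · show t * (t * 1) = 1
      simp only [mul_one] at r12 ⊢
      exact r12
    · show w * (t * (w * (t * 1))) = 1
      simp only [mul_assoc, mul_one] at r13 ⊢
      exact r13
    · show t * (a⁻¹ * (t * (a * (t * (a * (c⁻¹ * (c⁻¹ * (c⁻¹ * (c⁻¹ * (a⁻¹ * 1)))))))))) = 1
      simp only [mul_assoc, mul_one] at r14 ⊢
      exact r14
    · show t * (c * (t * (c⁻¹ * (c⁻¹ * (c⁻¹ * (c⁻¹ * (c⁻¹ * (c⁻¹ * (c⁻¹ * 1))))))))) = 1
      simp only [mul_assoc, mul_one] at r15 ⊢
      exact r15) H
    (TC.forall_subs (K := 11) (by decide +kernel) (by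
      intro a ha hb
      interval_cases a
      · exact absurd hb (by decide +kernel)
      · exact m1
      · exact H.inv_mem m1
      · exact m3
      · exact H.inv_mem m3
      · exact m5
      · exact absurd hb (by decide +kernel)
      · exact absurd hb (by decide +kernel)
      · exact absurd hb (by decide +kernel)
      · exact absurd hb (by decide +kernel)
      · exact absurd hb (by decide +kernel)))
  have e : {g₀ | ∃ ak ∈ p7_gl, TC.lett [a, a⁻¹, c, c⁻¹, w, t, b, b⁻¹, z, z⁻¹] (ak % 256) = g₀} =
      {a, c, w, t} := by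
    ext g₀
    simp only [p7_gl, List.mem_cons, List.not_mem_nil, or_false, exists_eq_or_imp,
      exists_eq_left, Set.mem_ofPred_eq, Set.mem_insert_iff, Set.mem_singleton_iff]
    exact or_congr eq_comm (or_congr eq_comm (or_congr eq_comm (eq_comm)))
  rw [e] at h
  exact h

theorem p7_card {G : Type*} [Group G] {a c w t b z : G}
    (e0 : a ^ 3 = 1)
    (e1 : c ^ 8 = 1)
    (e2 : w * w = 1)
    (e3 : w * a * w = a)
    (e4 : w * c * w = c ^ 3)
    (e5 : c ^ 4 * a * c ^ 4 = a⁻¹)
    (e6 : c * a * c⁻¹ = b)
    (e7 : a * b * a⁻¹ * b⁻¹ = z)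
    (e8 : z ^ 3 = 1)
    (e9 : a * z = z * a)
    (e10 : c * z * c⁻¹ = z⁻¹)
    (e11 : c * b * c⁻¹ = a * b * z)
    (e12 : t * t = 1)
    (e13 : w * t = t * w)
    (e14 : t * a⁻¹ * t * a * t = a * c ^ 4 * a⁻¹)
    (e15 : t * c * t = c ^ 7)
    (H : Subgroup G) [Finite H] (ma : a ∈ H) (mc : c ∈ H) (mw : w ∈ H) :
    Finite (Subgroup.closure ({a, c, w, t} : Set G)) ∧
      Nat.card (Subgroup.closure ({a, c, w, t} : Set G)) ≤ 10 * Nat.card H := by
  have iw : w⁻¹ = w := inv_eq_of_mul_eq_one_right e2
  have it : t⁻¹ = t := inv_eq_of_mul_eq_one_right e12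
  refine p7_bound (b := b) (z := z) ?_ ?_ ?_ ?_ ?_ ?_ ?_ ?_ ?_ ?_ ?_ ?_ ?_ ?_ ?_ ?_ H ma mc mw
  · have h := mul_inv_eq_one.mpr e0
    simp only [pow_succ, pow_zero, mul_inv_rev, inv_inv, inv_one, one_mul, mul_one, mul_assoc,
      mul_inv_cancel_left, inv_mul_cancel_left, mul_inv_cancel, inv_mul_cancel, iw, it] at h ⊢
    exact h
  · have h := mul_inv_eq_one.mpr e1
    simp only [pow_succ, pow_zero, mul_inv_rev, inv_inv, inv_one, one_mul, mul_one, mul_assoc,
      mul_inv_cancel_left, inv_mul_cancel_left, mul_inv_cancel, inv_mul_cancel, iw, it] at h ⊢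
    exact h
  · have h := mul_inv_eq_one.mpr e2
    simp only [pow_succ, pow_zero, mul_inv_rev, inv_inv, inv_one, one_mul, mul_one, mul_assoc,
      mul_inv_cancel_left, inv_mul_cancel_left, mul_inv_cancel, inv_mul_cancel, iw, it] at h ⊢
    exact h
  · have h := mul_inv_eq_one.mpr e3
    simp only [pow_succ, pow_zero, mul_inv_rev, inv_inv, inv_one, one_mul, mul_one, mul_assoc,
      mul_inv_cancel_left, inv_mul_cancel_left, mul_inv_cancel, inv_mul_cancel, iw, it] at h ⊢
    exact h
  · have h := mul_inv_eq_one.mpr e4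
    simp only [pow_succ, pow_zero, mul_inv_rev, inv_inv, inv_one, one_mul, mul_one, mul_assoc,
      mul_inv_cancel_left, inv_mul_cancel_left, mul_inv_cancel, inv_mul_cancel, iw, it] at h ⊢
    exact h
  · have h := mul_inv_eq_one.mpr e5
    simp only [pow_succ, pow_zero, mul_inv_rev, inv_inv, inv_one, one_mul, mul_one, mul_assoc,
      mul_inv_cancel_left, inv_mul_cancel_left, mul_inv_cancel, inv_mul_cancel, iw, it] at h ⊢
    exact h
  · have h := mul_inv_eq_one.mpr e6
    simp only [pow_succ, pow_zero, mul_inv_rev, inv_inv, inv_one, one_mul, mul_one, mul_assoc,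
      mul_inv_cancel_left, inv_mul_cancel_left, mul_inv_cancel, inv_mul_cancel, iw, it] at h ⊢
    exact h
  · have h := mul_inv_eq_one.mpr e7
    simp only [pow_succ, pow_zero, mul_inv_rev, inv_inv, inv_one, one_mul, mul_one, mul_assoc,
      mul_inv_cancel_left, inv_mul_cancel_left, mul_inv_cancel, inv_mul_cancel, iw, it] at h ⊢
    exact h
  · have h := mul_inv_eq_one.mpr e8
    simp only [pow_succ, pow_zero, mul_inv_rev, inv_inv, inv_one, one_mul, mul_one, mul_assoc,
      mul_inv_cancel_left, inv_mul_cancel_left, mul_inv_cancel, inv_mul_cancel, iw, it] at h ⊢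
    exact h
  · have h := mul_inv_eq_one.mpr e9
    simp only [pow_succ, pow_zero, mul_inv_rev, inv_inv, inv_one, one_mul, mul_one, mul_assoc,
      mul_inv_cancel_left, inv_mul_cancel_left, mul_inv_cancel, inv_mul_cancel, iw, it] at h ⊢
    exact h
  · have h := mul_inv_eq_one.mpr e10
    simp only [pow_succ, pow_zero, mul_inv_rev, inv_inv, inv_one, one_mul, mul_one, mul_assoc,
      mul_inv_cancel_left, inv_mul_cancel_left, mul_inv_cancel, inv_mul_cancel, iw, it] at h ⊢
    exact h
  · have h := mul_inv_eq_one.mpr e11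
    simp only [pow_succ, pow_zero, mul_inv_rev, inv_inv, inv_one, one_mul, mul_one, mul_assoc,
      mul_inv_cancel_left, inv_mul_cancel_left, mul_inv_cancel, inv_mul_cancel, iw, it] at h ⊢
    exact h
  · have h := mul_inv_eq_one.mpr e12
    simp only [pow_succ, pow_zero, mul_inv_rev, inv_inv, inv_one, one_mul, mul_one, mul_assoc,
      mul_inv_cancel_left, inv_mul_cancel_left, mul_inv_cancel, inv_mul_cancel, iw, it] at h ⊢
    exact h
  · have h := mul_inv_eq_one.mpr e13
    simp only [pow_succ, pow_zero, mul_inv_rev, inv_inv, inv_one, one_mul, mul_one, mul_assoc,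
      mul_inv_cancel_left, inv_mul_cancel_left, mul_inv_cancel, inv_mul_cancel, iw, it] at h ⊢
    exact h
  · have h := mul_inv_eq_one.mpr e14
    simp only [pow_succ, pow_zero, mul_inv_rev, inv_inv, inv_one, one_mul, mul_one, mul_assoc,
      mul_inv_cancel_left, inv_mul_cancel_left, mul_inv_cancel, inv_mul_cancel, iw, it] at h ⊢
    exact h
  · have h := mul_inv_eq_one.mpr e15
    simp only [pow_succ, pow_zero, mul_inv_rev, inv_inv, inv_one, one_mul, mul_one, mul_assoc,
      mul_inv_cancel_left, inv_mul_cancel_left, mul_inv_cancel, inv_mul_cancel, iw, it] at h ⊢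
    exact h

/-- The relations. -/
structure Rel {G : Type*} [Group G] (a c w t b z : G) : Prop where
  e0 : a ^ 3 = 1
  e1 : c ^ 8 = 1
  e2 : w * w = 1
  e3 : w * a * w = a
  e4 : w * c * w = c ^ 3
  e5 : c ^ 4 * a * c ^ 4 = a⁻¹
  e6 : c * a * c⁻¹ = b
  e7 : a * b * a⁻¹ * b⁻¹ = z
  e8 : z ^ 3 = 1
  e9 : a * z = z * a
  e10 : c * z * c⁻¹ = z⁻¹
  e11 : c * b * c⁻¹ = a * b * z
  e12 : t * t = 1
  e13 : w * t = t * w
  e14 : t * a⁻¹ * t * a * t = a * c ^ 4 * a⁻¹

variable {G : Type*} [Group G] {a c w t b z : G}

theorem Rel.card_B (r : Rel a c w t b z) : Finite (Subgroup.closure ({a, c, w} : Set G)) ∧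
    Nat.card (Subgroup.closure ({a, c, w} : Set G)) ≤ 432 := by
  obtain ⟨hf, hc⟩ := TC.finite_zpowers_of_pow (by norm_num) r.e1
  have h1 := pb_card r.e0 r.e1 r.e2 r.e3 r.e4 r.e5 r.e6 r.e7 r.e8 r.e9 r.e10 r.e11 _
    (Subgroup.mem_zpowers c)
  exact ⟨h1.1, h1.2.trans (by omega)⟩

theorem Rel.card_3 (r : Rel a c w t b z) (hk : t * c * t = c ^ 3) :
    Finite (Subgroup.closure ({a, c, w, t} : Set G)) ∧
      Nat.card (Subgroup.closure ({a, c, w, t} : Set G)) ≤ 432 := by
  obtain ⟨hf, hc⟩ := r.card_B
  have h1 := p3_card r.e0 r.e1 r.e2 r.e3 r.e4 r.e5 r.e6 r.e7 r.e8 r.e9 r.e10 r.e11 r.e12 r.e13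
    r.e14 hk (Subgroup.closure {a, c, w}) (Subgroup.subset_closure (by simp))
    (Subgroup.subset_closure (by simp)) (Subgroup.subset_closure (by simp))
  exact ⟨h1.1, h1.2.trans (by omega)⟩

theorem Rel.card_5 (r : Rel a c w t b z) (hk : t * c * t = c ^ 5) :
    Finite (Subgroup.closure ({a, c, w, t} : Set G)) ∧
      Nat.card (Subgroup.closure ({a, c, w, t} : Set G)) ≤ 48384 := by
  obtain ⟨hf, hc⟩ := r.card_B
  have h1 := p5_card r.e0 r.e1 r.e2 r.e3 r.e4 r.e5 r.e6 r.e7 r.e8 r.e9 r.e10 r.e11 r.e12 r.e13
    r.e14 hk (Subgroup.closure {a, c, w}) (Subgroup.subset_closure (by simp))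
    (Subgroup.subset_closure (by simp)) (Subgroup.subset_closure (by simp))
  exact ⟨h1.1, h1.2.trans (by omega)⟩

theorem Rel.card_7 (r : Rel a c w t b z) (hk : t * c * t = c ^ 7) :
    Finite (Subgroup.closure ({a, c, w, t} : Set G)) ∧
      Nat.card (Subgroup.closure ({a, c, w, t} : Set G)) ≤ 4320 := by
  obtain ⟨hf, hc⟩ := r.card_B
  have h1 := p7_card r.e0 r.e1 r.e2 r.e3 r.e4 r.e5 r.e6 r.e7 r.e8 r.e9 r.e10 r.e11 r.e12 r.e13
    r.e14 hk (Subgroup.closure {a, c, w}) (Subgroup.subset_closure (by simp))
    (Subgroup.subset_closure (by simp)) (Subgroup.subset_closure (by simp))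
  exact ⟨h1.1, h1.2.trans (by omega)⟩

end Cfsg.Agent.G22
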