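import Cfsg.Agent.H9.M22a

/-! Groups with the order and the element order statistics of `M₂₂`: Sylow three-subgroups. -/

set_option autoImplicit false

namespace Cfsg.Agent.Ma

open Subgroup Cfsg.Agent.H7 Cfsg.Agent.H4 Cfsg.Agent.Fx4 Cfsg.Agent.H4.Nse
open MulAut (conj)
open scoped Pointwise

universe u
variable {G : Type u} [Group G] [Finite G] {L P Q T K H R W : Subgroup G}
  {x y z g p s t v w q : G}

theorem sup_eq_nine (hP : Nat.card P = 9) (hx : x ∈ P) (hy : y ∈ P) (ox : orderOf x = 3)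
    (hn : y ∉ zpowers x) : zpowers x ⊔ zpowers y = P := by
  have h1 := card_mul_relIndex (zpowers_le.mpr hx)
  rw [Nat.card_zpowers, ox, hP] at h1
  exact (eq_or_eq_of_relIndex_prime le_sup_left (sup_le (zpowers_le.mpr hx) (zpowers_le.mpr hy))
    (by rw [show (zpowers x).relIndex P = 3 by omega]; norm_num)).resolve_left
    fun e => hn (e ▸ mem_sup_right (mem_zpowers y))

theorem mem_nine (hP : Nat.card P = 9) (hx : x ∈ P) (hy : y ∈ P) (ox : orderOf x = 3)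
    (y3 : y ^ 3 = 1) (hn : y ∉ zpowers x) (hp : p ∈ P) (p1 : p ≠ 1) :
    p = x ∨ p = x⁻¹ ∨ p = y ∨ p = y⁻¹ ∨ p = x * y ∨ p = (x * y)⁻¹ ∨ p = x * y⁻¹ ∨
      p = (x * y⁻¹)⁻¹ := by
  have hc := abel_of_card_sq (p := 3) hP
  rw [← sup_eq_nine hP hx hy ox hn, mem_sup_of_norm (le_norm_of_le_abel hc (zpowers_le.mpr hy)
    (zpowers_le.mpr hx))] at hp
  obtain ⟨a, ha, b, hb, rfl⟩ := hp
  have e : Commute x y := comm_of_abel hc hx hy
  rcases mem_zpowers_three (of_o3 ox).2 ha with rfl | rfl | rfl <;>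
    rcases mem_zpowers_three y3 hb with rfl | rfl | rfl <;>
    simp [e.inv_left.eq, e.inv_inv.eq] at p1 ⊢

/-- A Sylow three-subgroup and a complement in its normalizer. -/
structure NQ (P Q : Subgroup G) : Prop where
  cP : Nat.card P = 9
  cube : ∀ p ∈ P, p ^ 3 = 1
  QN : Q ≤ N[P]
  cQ : Nat.card Q = 8
  tr : ∀ x ∈ P, x ≠ 1 → ∀ y ∈ P, y ≠ 1 → ∃ g ∈ Q, g * x * g⁻¹ = y
  fr : ∀ g ∈ Q, ∀ x ∈ P, x ≠ 1 → g * x * g⁻¹ = x → g = 1

namespace NQ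

variable (r : NQ P Q)
include r

omit [Finite G] in
theorem comm (hx : x ∈ P) (hy : y ∈ P) : x * y = y * x :=
  comm_of_abel (abel_of_card_sq (p := 3) r.cP) hx hy

omit [Finite G] in
theorem o (hx : x ∈ P) (h1 : x ≠ 1) : orderOf x = 3 := o3 h1 (r.cube x hx)

omit [Finite G] in
theorem inverts (hz : z ∈ Q) (z1 : z ≠ 1) (z2 : z * z = 1) (hp : p ∈ P) : z * p * z⁻¹ = p⁻¹ := by
  have h1 := conj_mem_of_norm (r.QN hz) hp
  by_contra k
  refine z1 (r.fr z hz _ (mul_mem hp h1) (fun e => k (eq_inv_of_mul_eq_one_right e)) ?_)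
  rw [← conj_mul, conj_conj, z2, one_mul, inv_one, mul_one, r.comm h1 hp]

omit [Finite G] in
theorem ne_inv (hx : x ∈ P) (h1 : x ≠ 1) : x ≠ x⁻¹ := fun e =>
  h1 (eq_one_of_sq_cube (mul_eq_one_iff_eq_inv.mpr e) (r.cube x hx))

omit [Finite G] in
theorem sq_of_inv (hz : z ∈ Q) (hx : x ∈ P) (h1 : x ≠ 1) (e : z * x * z⁻¹ = x⁻¹) :
    z ≠ 1 ∧ z * z = 1 :=
  ⟨fun k => r.ne_inv hx h1 (by simpa [k] using e), r.fr _ (mul_mem hz hz) x hx h1
    (by rw [← conj_conj, e, ← conj_inv, e, inv_inv])⟩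

omit [Finite G] in
theorem eq_of (hg : g ∈ Q) (hw : w ∈ Q) (hx : x ∈ P) (h1 : x ≠ 1)
    (e : g * x * g⁻¹ = w * x * w⁻¹) : g = w :=
  (inv_mul_eq_one.mp (r.fr _ (mul_mem (inv_mem hw) hg) x hx h1 (by
    rw [← conj_conj, e]; group))).symm

omit [Finite G] in
theorem pow8 (hg : g ∈ Q) : g ^ 8 = 1 := r.cQ ▸ pow_card_eq_one_of_mem hg

end NQ

namespace H22

variable (h : H22 G)
include h

theorem not_le (hP : Nat.card P = 9) (t1 : t ≠ 1) (t2 : t * t = 1) : ¬ P ≤ C₁[t] := fun e =>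
  h.not_nine (o2 t1 t2) (hP ▸ card_dvd_of_le e)

theorem P_norm (hP : Nat.card P = 9) (hp : p ∈ P) (p1 : p ≠ 1) : P ≤ N[Vs p] := fun _ hg =>
  h.V_norm (o3 p1 (h.cube (.of_card (n := 2) hP) hp)) (Or.inl (mul_inv_eq_iff_eq_mul.mpr
    (comm_of_abel (abel_of_card_sq (p := 3) hP) hg hp)))

theorem mem_P (hP : Nat.card P = 9) (hx : x ∈ P) (x1 : x ≠ 1) (hg : g ∈ N[P]) (hc : g ∈ C₁[x]) :
    g ∈ P := by
  have ox := o3 x1 (h.cube (.of_card (n := 2) hP) hx)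
  have h1 : P ≤ N[P] ⊓ C₁[x] := le_inf (le_norm_self P) fun g hg =>
    mem_cent1_iff.mpr (comm_of_abel (abel_of_card_sq (p := 3) hP) hg hx)
  have h2 := (h.cent3 ox).1 ▸ card_dvd_of_le (inf_le_right (a := N[P]) (b := C₁[x]))
  have h3 : ¬ 2 ∣ Nat.card ↥(N[P] ⊓ C₁[x]) := fun e => by
    obtain ⟨v, hv, ov⟩ := exists_mem_orderOf Nat.prime_two e
    have vV := (h.mem_V ox).mpr ⟨mem_cent1_iff.mp hv.2, (of_o2 ov).2⟩
    refine h.not_le hP (of_o2 ov).1 (of_o2 ov).2 fun y hy => mem_cent1_iff.mpr ?_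
    refine mul_inv_eq_iff_eq_mul.mp (mul_inv_eq_one.mp (eq_one_of_mem_inf
      (inf_eq_bot_of_coprime' (A := Vs x) (B := P) (by rw [hP, h.card_V ox]; norm_num))
      (mul_mem (conj_mem_of_norm (h.P_norm hP hx x1 hy) vV) (inv_mem vV)) ?_))
    rw [mul_assoc, mul_assoc, ← mul_assoc v]
    exact mul_mem hy (conj_mem_of_norm hv.1 (inv_mem hy))
  have h4 := Nat.le_of_dvd (by norm_num) h2
  refine Cfsg.Agent.H7.eq_of_le_of_card_le h1 ?_ ▸ (⟨hg, hc⟩ : g ∈ N[P] ⊓ C₁[x])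
  rw [hP]
  generalize Nat.card ↥(N[P] ⊓ C₁[x]) = n at *
  interval_cases n <;> omega

theorem exists_NQ : ∃ P Q : Subgroup G, NQ P Q ∧ Nat.card N[P] = 72 := by
  obtain ⟨P, -, hP⟩ := exists_le_card (n := 2) Nat.prime_three (H := (⊤ : Subgroup G))
    (by rw [card_top, h.card]; norm_num)
  have pg : IsPGroup 3 P := .of_card hP
  have hc := fun {a b} => comm_of_abel (x := a) (y := b) (abel_of_card_sq hP)
  have h1 : ∀ x ∈ P, x ≠ 1 → ∀ y ∈ P, y ≠ 1 → ∃ g ∈ N[P], g * x * g⁻¹ = y := by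
    intro x hx x1 y hy y1
    have oy := o3 y1 (h.cube pg hy)
    obtain ⟨g, e⟩ := h.conj3 (o3 x1 (h.cube pg hx)) oy
    have k : P ≤ C₁[y] := fun a ha => mem_cent1_iff.mpr (hc ha hy)
    obtain ⟨c, h1, h2⟩ := exists_conj_le (R := conj g • P) (T := P) (H := C₁[y]) (p := 3)
      (by rw [← e, ← conj_smul_cent1]
          exact conj_smul_mono g fun a ha => mem_cent1_iff.mpr (hc ha hx))
      (.of_card (n := 2) (by rw [card_conj_smul, hP])) (by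
        have := card_mul_relIndex k
        rw [hP, (h.cent3 oy).1] at this
        omega)
    refine ⟨c * g, mem_norm_of_conj fun a ha => ?_, ?_⟩
    · rw [← conj_conj]; exact h2 _ (conj_mem_conj_smul.mpr ha)
    · rw [← conj_conj, e, mem_cent1_iff.mp h1, mul_inv_cancel_right]
  obtain ⟨x, hx, ox⟩ := exists_mem_orderOf Nat.prime_three (H := P) (by rw [hP]; norm_num)
  have x1 := (of_o3 ox).1
  have h2 : C₁[x] ⊓ N[P] = P := le_antisymm (fun g hg => h.mem_P hP hx x1 hg.2 hg.1)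
    (le_inf (fun a ha => mem_cent1_iff.mpr (hc ha hx)) (le_norm_self P))
  have h8 : ((P : Set G) \ {1}).ncard = 8 := by
    rw [Set.ncard_sdiff_singleton_of_mem P.one_mem, ← Nat.card_coe_set_eq, SetLike.coe_sort_coe, hP]
    rfl
  have h3 := card_le_cent_mul N[P] x (T := (P : Set G) \ {1}) fun g hg =>
    ⟨conj_mem_of_norm hg hx, by simpa using x1⟩
  have h4 := (Set.ncard_le_ncard (s := (P : Set G) \ {1}) fun y hy => h1 x hx x1 y hy.1 hy.2).trans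
    (ncard_le_relIndex N[P] C₁[x] (fun g => g * x * g⁻¹) fun a _ b _ e => by
      calc a * x * a⁻¹ = b * (a⁻¹ * b)⁻¹ * (x * (a⁻¹ * b)) * b⁻¹ := by group
        _ = _ := by rw [← mem_cent1_iff.mp e]; group)
  have h5 := card_inf_mul_relIndex C₁[x] N[P]
  rw [h2, hP] at h3 h5
  rw [h8] at h3 h4
  have h6 : Nat.card N[P] = 72 := by omega
  obtain ⟨Q, h7, hQ⟩ := exists_le_card (n := 3) Nat.prime_two (H := N[P]) (by rw [h6]; norm_num)
  have h9 : P ⊓ Q = ⊥ := inf_eq_bot_of_coprime' (by rw [hP, hQ]; norm_num)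
  have h10 : P ⊔ Q = N[P] := Cfsg.Agent.H7.eq_of_le_of_card_le (sup_le (le_norm_self P) h7) (by
    rw [card_sup_of_inf_eq_bot h7 h9, hP, hQ, h6]; norm_num)
  refine ⟨P, Q, ⟨hP, fun p hp => h.cube pg hp, h7, hQ, fun x hx x1 y hy y1 => ?_,
    fun g hg x hx x1 e => eq_one_of_mem_inf h9 (h.mem_P hP hx x1 (h7 hg)
      (mem_cent1_iff.mpr (mul_inv_eq_iff_eq_mul.mp e))) hg⟩, h6⟩
  obtain ⟨g, hg, e⟩ := h1 x hx x1 y hy y1
  obtain ⟨b, hb, a, ha, rfl⟩ := (mem_sup_of_norm_rev h7).mp (h10 ▸ hg)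
  exact ⟨b, hb, by rw [← e, ← conj_conj, hc ha hx, mul_inv_cancel_right]⟩

theorem exists_V (ox : orderOf x = 3) : ∃ v ∈ Vs x, v ≠ 1 :=
  exists_ne_one_of_ne_bot fun e => by
    have := h.card_V ox
    rw [e, card_bot] at this
    omega

theorem V_comm (ox : orderOf x = 3) : Vs x ≤ C[Vs x] :=
  le_cent_of_abel (abel_of_card_sq (p := 2) (h.card_V ox))

variable (r : NQ P Q)
include r

theorem noinv (hx : x ∈ P) (x1 : x ≠ 1) (hs : s ∈ C[Vs x]) : s * x * s⁻¹ ≠ x⁻¹ := by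
  intro e
  have ox := r.o hx x1
  have hn := h.P_norm r.cP hx x1
  obtain ⟨z, hz, ez⟩ := r.tr x hx x1 x⁻¹ (inv_mem hx) (inv_ne_one.mpr x1)
  obtain ⟨z1, z2⟩ := r.sq_of_inv hz hx x1 ez
  have h5 : Vs x ⊔ P = C₁[x] := Cfsg.Agent.H7.eq_of_le_of_card_le (sup_le (h.V_le ox)
    fun g hg => mem_cent1_iff.mpr (r.comm hg hx)) (by
      rw [card_sup_of_inf_eq_bot hn (inf_eq_bot_of_coprime'
        (by rw [r.cP, h.card_V ox]; norm_num)), r.cP, h.card_V ox, (h.cent3 ox).1])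
  obtain ⟨p, hp, v, hv, k⟩ := (mem_sup_of_norm_rev hn).mp (show z * s ∈ Vs x ⊔ P by
    rw [h5, mem_cent1_iff, ← mul_inv_eq_iff_eq_mul, ← conj_conj, e, ← conj_inv, ez, inv_inv])
  have h1 : z * p ∈ C[Vs x] := by
    rw [show z * p = s * v⁻¹ by
      rw [eq_mul_inv_iff_mul_eq, mul_assoc, k, ← mul_assoc, z2, one_mul]]
    exact mul_mem hs (inv_mem (h.V_comm ox hv))
  obtain ⟨t, ht, t1⟩ := h.exists_V ox
  refine h.not_le r.cP t1 (h.V_sq ox t ht) fun y hy => cent_le_cent1 ht ?_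
  have h2 := mul_mem h1 (conj_mem_of_norm (le_norm_cent hn hy) (inv_mem h1))
  rwa [← mul_assoc, ← mul_assoc, ← conj_conj, r.comm hp hy, mul_inv_cancel_right,
    r.inverts hz z1 z2 hy, ← mul_inv_rev, ← pow_two, eq_inv_of_mul_eq_one_left
      (show y ^ 2 * y = 1 by rw [← pow_succ, r.cube y hy]), inv_inv] at h2

theorem exists_W (hx : x ∈ P) (x1 : x ≠ 1) : ∃ W ≤ C[Vs x], IsPGroup 2 W ∧ N[Vs x] ≤ N[W] ∧
    ∀ R ≤ C[Vs x], IsPGroup 2 R → R ≤ W := by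
  have ox := r.o hx x1
  obtain ⟨t, ht, t1⟩ := h.exists_V ox
  have h1 := h.cent2 (o2 t1 (h.V_sq ox t ht)) ▸ card_dvd_of_le (cent_le_cent1 ht)
  have h2 := H1.T3.pnil_three (L := C[Vs x]) (le_cent1_iff.mp (h.V_le ox)) (r.cube x hx) x1
    (fun e => by have := e.trans h1; norm_num at this) fun g hg => h.noinv r hx x1 hg
  refine ⟨h2.compl, h2.compl_le, ?_, (norm_le_norm_cent _).trans h2.normalizer_le,
    fun R h3 h4 g hg => h2.mem_compl.mpr ⟨h3 hg, ?_⟩⟩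
  · obtain ⟨k, -, hk⟩ := (Nat.dvd_prime_pow (m := 7) Nat.prime_two).mp
      (h2.coprime_card_compl.dvd_of_dvd_mul_right ((card_dvd_of_le h2.compl_le).trans h1))
    exact .of_card hk
  · obtain ⟨k, hk⟩ := h4.exists_orderOf_eq_pow ⟨g, hg⟩
    rw [← orderOf_coe] at hk
    exact hk ▸ Nat.Coprime.pow_left _ (by norm_num)

theorem fcard (hL : IsPGroup 2 L) (hn : P ≤ N[L]) (hp : p ∈ P) (p1 : p ≠ 1) :
    (Nat.card ↥(L ⊓ C₁[p]) = 1 ∧ ¬ Vs p ≤ L) ∨ (Nat.card ↥(L ⊓ C₁[p]) = 4 ∧ Vs p ≤ L) := by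
  have op := r.o hp p1
  have h1 : L ⊓ C₁[p] ≤ Vs p := fun g hg => (h.mem_V op).mpr
    ⟨mem_cent1_iff.mp hg.2, h.sq hL hg.1 op (mem_cent1_iff.mp hg.2)⟩
  by_cases h2 : Vs p ≤ L
  · exact Or.inr ⟨le_antisymm h1 (le_inf h2 (h.V_le op)) ▸ h.card_V op, h2⟩
  refine Or.inl ⟨?_, h2⟩
  obtain ⟨k, hk, e⟩ := (Nat.dvd_prime_pow (m := 2) Nat.prime_two).mp
    (h.card_V op ▸ card_dvd_of_le h1 :)
  interval_cases k
  · exact e
  · obtain ⟨s, s1, s2, hs⟩ := card_two_eq e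
    refine absurd (fun y hy => mem_cent1_iff.mpr (mul_inv_eq_iff_eq_mul.mp ?_)) (h.not_le r.cP s1 s2)
    exact ((hs _).mp (conj_mem_of_norm (le_norm_inf hn (le_norm_cent1 fun g hg =>
      mem_cent1_iff.mpr (r.comm hg hp)) hy) ((hs s).mpr (Or.inr rfl)))).resolve_left
      (by simpa using s1)
  · exact absurd (Cfsg.Agent.H7.eq_of_le_of_card_le h1 (by rw [e, h.card_V op]; rfl) ▸ inf_le_left) h2

theorem V_inf (hx : x ∈ P) (x1 : x ≠ 1) (hy : y ∈ P) (hn : y ∉ zpowers x) : Vs x ⊓ Vs y = ⊥ := by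
  have oy := r.o hy fun e => hn (e ▸ one_mem _)
  refine inf_eq_bot_of_forall fun v h1 h2 => by_contra fun v1 => ?_
  refine h.not_le r.cP v1 (h.V_sq oy v h2) ?_
  rw [← sup_eq_nine r.cP hx hy (r.o hx x1) hn]
  exact sup_le (zpowers_le.mpr (mem_cent1_comm.mp (h.V_le (r.o hx x1) h1)))
    (zpowers_le.mpr (mem_cent1_comm.mp (h.V_le oy h2)))

omit r in
theorem pow_le (hL : IsPGroup 2 L) : ∃ k ≤ 7, Nat.card L = 2 ^ k := by
  obtain ⟨k, hk⟩ := hL.exists_card_eq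
  refine ⟨k, ?_, hk⟩
  by_contra e
  have := ((pow_dvd_pow 2 (show 8 ≤ k by omega)).trans hk.symm.dvd).trans (h.dvd L)
  norm_num at this

end H22

end Cfsg.Agent.Ma
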