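import Cfsg.Agent.H9.MaFr

/-! Groups with the order and the element order statistics of `M₂₂`: the group `2⁴`. -/

set_option autoImplicit false

namespace Cfsg.Agent.Ma

open Subgroup Cfsg.Agent.H7 Cfsg.Agent.H4 Cfsg.Agent.Fx4 Cfsg.Agent.H4.Nse
open MulAut (conj)
open scoped Pointwise

universe u
variable {G : Type u} [Group G] [Finite G] {L P Q T K H R W : Subgroup G}
  {x y z g p s t v w q a b c d : G} {F : Fr G}

/-- The largest two-subgroup centralizing `Vs x`. -/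
def IsW (x : G) (W : Subgroup G) : Prop :=
  W ≤ C[Vs x] ∧ IsPGroup 2 W ∧ N[Vs x] ≤ N[W] ∧ ∀ R ≤ C[Vs x], IsPGroup 2 R → R ≤ W

omit [Finite G] in
theorem mul_notMem (hn : y ∉ zpowers x) : x * y ∉ zpowers x := fun e =>
  hn ((mul_mem_cancel_left (mem_zpowers x)).mp e)

omit [Finite G] in
theorem ne_one_of (hn : y ∉ K) : y ≠ 1 := fun e => hn (e ▸ one_mem _)

theorem dirac {a b c d e f : Prop} (h1 : (a ∨ b) ∧ (a ∨ c) ∧ (b ∨ c))
    (h2 : (a ∨ d) ∧ (a ∨ e) ∧ (d ∨ e)) (h3 : (b ∨ d) ∧ (b ∨ f) ∧ (d ∨ f))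
    (h4 : (c ∨ e) ∧ (c ∨ f) ∧ (e ∨ f)) :
    (a ∧ d ∧ f ∧ c) ∨ (a ∧ e ∧ f ∧ b) ∨ (b ∧ d ∧ e ∧ c) := by
  by_cases a <;> by_cases b <;> by_cases c <;> by_cases d <;> by_cases e <;> simp_all

/-- The configuration. -/
structure S22 (P Q : Subgroup G) (x y w q : G) (F : Fr G) : Prop where
  hx : x ∈ P
  x1 : x ≠ 1
  hy : y ∈ P
  hn : y ∉ zpowers x
  hw : w ∈ Q
  hq : q ∈ Q
  wx : w * x * w⁻¹ = y
  wy : w * y * w⁻¹ = x⁻¹
  qx : q * x * q⁻¹ = x * y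
  E : F.E = Vs x ⊔ Vs y
  W : IsW x F.E
  rx : F.R 19489 x
  ry : F.R 33842 y
  rw : F.R 12676 w
  n3 : ¬ Vs (x * y) ≤ F.E
  n4 : ¬ Vs (x * y⁻¹) ≤ F.E

namespace H22

variable (h : H22 G)
include h

theorem V_smul (hx : orderOf x = 3) (g : G) : conj g • Vs x = Vs (g * x * g⁻¹) :=
  Cfsg.Agent.H7.eq_of_le_of_card_le (by
    rintro _ ⟨v, hv, rfl⟩
    exact h.V_conj hx hv g) (by
      rw [card_conj_smul, h.card_V hx, h.card_V ((orderOf_conj' g x).trans hx)])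

theorem W_big (ox : orderOf x = 3) (hW : IsW x W) : Nat.card W ≠ 4 := by
  classical
  intro e
  obtain ⟨t, ht, t1⟩ := h.exists_V ox
  have t2 := h.V_sq ox t ht
  obtain ⟨T, h1, h2, h3⟩ := exists_between (n := 2) (m := 7) Nat.prime_two
    ((h.V_comm ox).trans (cent_le_cent1 ht)) (h.card_V ox) (by norm_num)
    (by rw [h.cent2 (o2 t1 t2)]; norm_num)
  obtain ⟨v, hv, hn⟩ := exists_notMem (H := Vs x) (s := {1, t})
    (Finset.card_le_two.trans_lt (by rw [h.card_V ox]; norm_num))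
  simp only [Finset.mem_insert, Finset.mem_singleton, not_or] at hn
  have pT : IsPGroup 2 T := .of_card h3
  obtain ⟨c, hc⟩ := exists_big pT (h1 hv) (e ▸ card_le_of_le' (hW.2.2.2 _ (fun g hg => by
    rw [mem_cent_iff]
    intro u hu
    have k1 := mem_cent1_iff.mp hg.1
    have k2 := mem_cent1_iff.mp (h2 hg.2)
    rcases mem_four (h.card_V ox) ht hv t1 hn.1 (Ne.symm hn.2) t2 hu with rfl | rfl | rfl | rfl
    · simp
    · exact k2.symm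
    · exact k1.symm
    · exact (Commute.mul_right k2 k1).symm) (pT.to_le inf_le_right)))
  have := h.ord c
  rw [h3] at hc
  simp only [List.mem_cons, List.not_mem_nil, or_false] at this
  omega

variable (r : NQ P Q)
include r

theorem cntV (hL : IsPGroup 2 L) (hn : P ≤ N[L]) (hx : x ∈ P) (x1 : x ≠ 1) (hy : y ∈ P)
    (hy' : y ∉ zpowers x) : ∃ k ≤ 7, ∃ a b c d : ℕ, Nat.card L = 2 ^ k ∧
      9 ∣ 2 ^ k + 2 * (a + b + c + d) ∧ (a = 1 ∧ ¬ Vs x ≤ L ∨ a = 4 ∧ Vs x ≤ L) ∧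
      (b = 1 ∧ ¬ Vs y ≤ L ∨ b = 4 ∧ Vs y ≤ L) ∧ (c = 1 ∧ ¬ Vs (x * y) ≤ L ∨ c = 4 ∧ Vs (x * y) ≤ L) ∧
      (d = 1 ∧ ¬ Vs (x * y⁻¹) ≤ L ∨ d = 4 ∧ Vs (x * y⁻¹) ≤ L) := by
  obtain ⟨k, hk, e⟩ := h.pow_le hL
  exact ⟨k, hk, _, _, _, _, e, e ▸ cnt9 (r.cube x hx) (r.cube y hy) (r.comm hx hy) (hn hx) (hn hy),
    h.fcard r hL hn hx x1, h.fcard r hL hn hy (ne_one_of hy'),
    h.fcard r hL hn (mul_mem hx hy) (ne_one_of (mul_notMem hy')),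
    h.fcard r hL hn (mul_mem hx (inv_mem hy)) (ne_one_of (mul_notMem (by rwa [inv_mem_iff])))⟩

theorem V_cases (hx : x ∈ P) (x1 : x ≠ 1) (hy : y ∈ P) (hn : y ∉ zpowers x) (hp : p ∈ P)
    (p1 : p ≠ 1) : Vs p = Vs x ∨ Vs p = Vs y ∨ Vs p = Vs (x * y) ∨ Vs p = Vs (x * y⁻¹) := by
  have k : ∀ {s}, p = s⁻¹ → Vs p = Vs s := fun e => by
    rw [← h.V_inv (r.o hp p1), e, inv_inv]
  rcases mem_nine r.cP hx hy (r.o hx x1) (r.cube y hy) hn hp p1 with e | e | e | e | e | e | e | e <;>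
    first | simp only [k e, true_or, or_true] | simp only [e, true_or, or_true]

theorem cyc (ha : a ∈ P) (a1 : a ≠ 1) (hb : b ∈ P) (b1 : b ≠ 1) (hc : c ∈ P) (c1 : c ≠ 1)
    (hd : d ∈ P) (d1 : d ≠ 1) (ab : Vs b ≤ C[Vs a]) (bc : Vs c ≤ C[Vs b]) (cd : Vs d ≤ C[Vs c])
    (da : Vs a ≤ C[Vs d]) : IsPGroup 2 ↥((Vs a ⊔ Vs c) ⊔ (Vs b ⊔ Vs d)) ∧
      P ≤ N[(Vs a ⊔ Vs c) ⊔ (Vs b ⊔ Vs d)] := by
  have k : ∀ {p s t}, p ∈ P → p ≠ 1 → s ∈ P → s ≠ 1 → t ∈ P → t ≠ 1 → Vs s ≤ C[Vs p] →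
      Vs t ≤ C[Vs p] → IsPGroup 2 ↥(Vs s ⊔ Vs t) := fun hp p1 hs s1 ht t1 h1 h2 => by
    obtain ⟨W, -, h3, -, h4⟩ := h.exists_W r hp p1
    exact h3.to_le (sup_le (h4 _ h1 (h.V_pg (r.o hs s1))) (h4 _ h2 (h.V_pg (r.o ht t1))))
  have n := fun {p} => h.P_norm (p := p) r.cP
  exact ⟨(k hb b1 ha a1 hc c1 (le_cent_symm ab) bc).to_sup_of_normal_right'
    (k ha a1 hb b1 hd d1 ab (le_cent_symm da)) ((sup_le (le_cent_sup (le_cent_symm ab) da)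
      (le_cent_sup bc (le_cent_symm cd))).trans (cent_le_norm _)),
    le_norm_sup (le_norm_sup (n ha a1) (n hc c1)) (le_norm_sup (n hb b1) (n hd d1))⟩

theorem all4 (hx : x ∈ P) (x1 : x ≠ 1) (hy : y ∈ P) (hy' : y ∉ zpowers x)
    (hL : IsPGroup 2 L ∧ P ≤ N[L]) (h1 : Vs x ≤ L ∧ Vs y ≤ L ∧ Vs (x * y) ≤ L ∧ Vs (x * y⁻¹) ≤ L) :
    False := by
  obtain ⟨k, hk, a, b, c, d, e, h9, h2⟩ := h.cntV r hL.1 hL.2 hx x1 hy hy'
  simp only [h1, not_true, and_false, and_true, false_or] at h2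
  obtain ⟨rfl, rfl, rfl, rfl⟩ := h2
  have h3 := card_le_of_le' (sup_le h1.1 h1.2.1)
  have h4 := card_lt_of_lt (lt_of_le_of_ne (le_sup_left (a := Vs x) (b := Vs y)) fun e => by
    obtain ⟨v, hv, v1⟩ := h.exists_V (r.o hy (ne_one_of hy'))
    exact v1 (eq_one_of_mem_inf (h.V_inf r hx x1 hy hy') (e ▸ mem_sup_right hv) hv))
  rw [h.card_V (r.o hx x1)] at h4
  interval_cases k <;> omega

theorem card_W (hx : x ∈ P) (x1 : x ≠ 1) (hW : IsW x W) : Nat.card W = 16 := by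
  have ox := r.o hx x1
  obtain ⟨y, hy, hy'⟩ := SetLike.exists_of_lt (lt_of_le_of_ne (zpowers_le.mpr hx) fun e => by
    have := r.cP
    rw [← e, Nat.card_zpowers, ox] at this
    omega)
  have hn := (h.P_norm r.cP hx x1).trans hW.2.2.1
  by_contra k
  have h1 : Nat.card W = 64 := by
    obtain ⟨n, hk, a, b, c, d, e, h9, h2, h3, h4, h5⟩ := h.cntV r hW.2.1 hn hx x1 hy hy'
    have := h.W_big ox hW
    have := (h2.resolve_left fun e => e.2 (hW.2.2.2 _ (h.V_comm ox) (h.V_pg ox))).1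
    have := h.card_V ox ▸ card_le_of_le' (hW.2.2.2 _ (h.V_comm ox) (h.V_pg ox))
    have := h3.imp And.left And.left
    have := h4.imp And.left And.left
    have := h5.imp And.left And.left
    interval_cases n <;> omega
  have h2 : ∀ p ∈ P, p ≠ 1 → (Vs x ≤ C[Vs p] ∨ Vs y ≤ C[Vs p]) ∧
      (Vs x ≤ C[Vs p] ∨ Vs (x * y) ≤ C[Vs p]) ∧ (Vs x ≤ C[Vs p] ∨ Vs (x * y⁻¹) ≤ C[Vs p]) ∧
      (Vs y ≤ C[Vs p] ∨ Vs (x * y) ≤ C[Vs p]) ∧ (Vs y ≤ C[Vs p] ∨ Vs (x * y⁻¹) ≤ C[Vs p]) ∧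
      (Vs (x * y) ≤ C[Vs p] ∨ Vs (x * y⁻¹) ≤ C[Vs p]) := fun p hp p1 => by
    have k0 := h.V_cases r hx x1 hy hy' hp p1
    obtain ⟨g, hg, rfl⟩ := r.tr x hx x1 p hp p1
    have k1 : conj g • W ≤ C[Vs (g * x * g⁻¹)] := h.V_smul ox g ▸ le_cent_smul hW.1 g
    have k2 : Vs (g * x * g⁻¹) ≤ conj g • W :=
      h.V_smul ox g ▸ conj_smul_mono g (hW.2.2.2 _ (h.V_comm ox) (h.V_pg ox))
    obtain ⟨k, hk, a, b, c, d, e, h9, h2, h3, h4, h5⟩ := h.cntV r (L := conj g • W)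
      (.of_card (n := 6) (by rw [card_conj_smul, h1]; rfl))
      (conj_smul_of_norm (r.QN hg) ▸ le_norm_smul hn g) hx x1 hy hy'
    rw [← e, card_conj_smul, h1] at h9
    rcases h2 with ⟨rfl, h2⟩ | ⟨rfl, h2⟩ <;> rcases h3 with ⟨rfl, h3⟩ | ⟨rfl, h3⟩ <;>
      rcases h4 with ⟨rfl, h4⟩ | ⟨rfl, h4⟩ <;> rcases h5 with ⟨rfl, h5⟩ | ⟨rfl, h5⟩ <;>
      try omega
    · rcases k0 with e | e | e | e <;> rw [e] at k2 <;> contradiction
    · simp only [h3.trans k1, h4.trans k1, h5.trans k1, or_true, and_self]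
    · simp only [h2.trans k1, h4.trans k1, h5.trans k1, or_true, true_or, and_self]
    · simp only [h2.trans k1, h3.trans k1, h5.trans k1, or_true, true_or, and_self]
    · simp only [h2.trans k1, h3.trans k1, h4.trans k1, true_or, and_self]
  have y1 := ne_one_of hy'
  have h3 := mul_mem hx hy
  have h4 := mul_mem hx (inv_mem hy)
  have z1 := ne_one_of (mul_notMem hy')
  have u1 : x * y⁻¹ ≠ 1 := ne_one_of (mul_notMem (by rwa [inv_mem_iff]))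
  have d2 := h2 y hy y1
  have d3 := h2 _ h3 z1
  have d4 := h2 _ h4 u1
  have s := fun {A B : Subgroup G} => le_cent_symm (A := A) (B := B)
  have l := fun {A B C D : Subgroup G} => le_sup_of_le_left (le_sup_left (a := A) (b := B))
    (b := C ⊔ D)
  have l' := fun {A B C D : Subgroup G} => le_sup_of_le_left (le_sup_right (a := A) (b := B))
    (b := C ⊔ D)
  have m := fun {A B C D : Subgroup G} => le_sup_of_le_right (le_sup_left (a := C) (b := D))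
    (a := A ⊔ B)
  have m' := fun {A B C D : Subgroup G} => le_sup_of_le_right (le_sup_right (a := C) (b := D))
    (a := A ⊔ B)
  rcases dirac (h2 x hx x1).2.2.2 ⟨d2.2.1.imp_left s, d2.2.2.1.imp_left s, d2.2.2.2.2.2⟩
    ⟨d3.1.imp s s, d3.2.2.1.imp_left s, d3.2.2.2.2.1.imp_left s⟩
    ⟨d4.1.imp s s, d4.2.1.imp s s, d4.2.2.2.1.imp s s⟩ with
    ⟨a, b, c, d⟩ | ⟨a, b, c, d⟩ | ⟨a, b, c, d⟩
  · exact h.all4 r hx x1 hy hy' (h.cyc r hx x1 hy y1 h3 z1 h4 u1 a b c (s d)) ⟨l, m, l', m'⟩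
  · exact h.all4 r hx x1 hy hy' (h.cyc r hx x1 hy y1 h4 u1 h3 z1 a b (s c) (s d)) ⟨l, m, m', l'⟩
  · exact h.all4 r hx x1 hy hy' (h.cyc r hx x1 h3 z1 hy y1 h4 u1 a (s b) c (s d)) ⟨l, l', m, m'⟩

theorem W_two (hx : x ∈ P) (x1 : x ≠ 1) (hW : IsW x W) (hy : y ∈ P) (hy' : y ∉ zpowers x) :
    (Vs y ≤ W ∧ ¬ Vs (x * y) ≤ W ∧ ¬ Vs (x * y⁻¹) ≤ W) ∨ (¬ Vs y ≤ W ∧ (Vs (x * y) ≤ W ∨
      Vs (x * y⁻¹) ≤ W)) := by
  have ox := r.o hx x1
  obtain ⟨k, hk, a, b, c, d, e, h9, h2, h3, h4, h5⟩ := h.cntV r hW.2.1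
    ((h.P_norm r.cP hx x1).trans hW.2.2.1) hx x1 hy hy'
  rw [← e, h.card_W r hx x1 hW] at h9
  obtain rfl := (h2.resolve_left fun e => e.2 (hW.2.2.2 _ (h.V_comm ox) (h.V_pg ox))).1
  rcases h3 with ⟨rfl, h3⟩ | ⟨rfl, h3⟩ <;> rcases h4 with ⟨rfl, h4⟩ | ⟨rfl, h4⟩ <;>
    rcases h5 with ⟨rfl, h5⟩ | ⟨rfl, h5⟩ <;> first | omega | simp [h3, h4, h5]

theorem W_eq (hx : x ∈ P) (x1 : x ≠ 1) (hW : IsW x W) (hy : y ∈ P) (hy' : y ∉ zpowers x)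
    (h1 : Vs y ≤ C[Vs x]) : W = Vs x ⊔ Vs y := by
  have ox := r.o hx x1
  have oy := r.o hy (ne_one_of hy')
  refine (Cfsg.Agent.H7.eq_of_le_of_card_le (sup_le (hW.2.2.2 _ (h.V_comm ox) (h.V_pg ox))
    (hW.2.2.2 _ h1 (h.V_pg oy))) ?_).symm
  rw [card_sup_of_inf_eq_bot (h1.trans (cent_le_norm _)) (h.V_inf r hx x1 hy hy'), h.card_V ox,
    h.card_V oy, h.card_W r hx x1 hW]

theorem exists_S22 : ∃ x y w q F, S22 P Q x y w q F := by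
  obtain ⟨x, hx, ox⟩ := exists_mem_orderOf Nat.prime_three (H := P) (by rw [r.cP]; norm_num)
  have x1 := (of_o3 ox).1
  obtain ⟨W, hW⟩ : ∃ W, IsW x W := h.exists_W r hx x1
  obtain ⟨y, hy, hn, h1⟩ : ∃ y ∈ P, y ∉ zpowers x ∧ Vs y ≤ W := by
    obtain ⟨y, hy, hy'⟩ := SetLike.exists_of_lt (lt_of_le_of_ne (zpowers_le.mpr hx) fun e => by
      have := r.cP
      rw [← e, Nat.card_zpowers, ox] at this
      omega)
    rcases h.W_two r hx x1 hW hy hy' with e | ⟨-, e | e⟩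
    · exact ⟨y, hy, hy', e.1⟩
    · exact ⟨_, mul_mem hx hy, mul_notMem hy', e⟩
    · exact ⟨_, mul_mem hx (inv_mem hy), mul_notMem (by rwa [inv_mem_iff]), e⟩
  obtain ⟨-, n3, n4⟩ := (h.W_two r hx x1 hW hy hn).resolve_right fun e => e.1 h1
  have y1 := ne_one_of hn
  have oy := r.o hy y1
  obtain ⟨w, hw, wx⟩ := r.tr x hx x1 y hy y1
  obtain ⟨q, hq, qx⟩ := r.tr x hx x1 _ (mul_mem hx hy) (ne_one_of (mul_notMem hn))
  have h2 := h1.trans hW.1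
  have h3 := h.W_eq r hx x1 hW hy hn h2
  have hz := conj_mem_of_norm (r.QN hw) hy
  have z1 : w * y * w⁻¹ ≠ 1 := by simpa using y1
  have h4 : Vs (w * y * w⁻¹) ≤ W := by
    obtain ⟨W', hW'⟩ : ∃ W, IsW y W := h.exists_W r hy y1
    rw [h3, sup_comm, ← h.W_eq r hy y1 hW' hx (fun e => hn (zpowers_eq_of_mem e (ox.trans oy.symm) ▸
      mem_zpowers y)) (le_cent_symm h2)]
    refine hW'.2.2.2 _ ?_ (h.V_pg (r.o hz z1))
    rw [← h.V_smul oy]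
    nth_rewrite 2 [← wx]
    rw [← h.V_smul ox]
    exact conj_smul_cent w (Vs x) ▸ conj_smul_mono w h2
  have k : w * w ≠ 1 := fun e => hn (by
    rw [← wx, r.inverts hw (fun e => hn (by simp [← wx, e])) e hx]
    exact inv_mem (mem_zpowers x))
  have wy : w * y * w⁻¹ = x⁻¹ := by
    rcases mem_nine r.cP hx hy ox (r.cube y hy) hn hz z1 with e | e | e | e | e | e | e | e
    · exact absurd (r.fr _ (mul_mem hw hw) x hx x1 (by rw [← conj_conj, wx, e])) k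
    · exact e
    · exact absurd (by rw [r.fr w hw y hy y1 e, mul_one]) k
    · exact absurd (r.sq_of_inv hw hy y1 e).2 k
    · exact absurd (e ▸ h4) n3
    · rw [e, h.V_inv (r.o (mul_mem hx hy) (ne_one_of (mul_notMem hn)))] at h4
      exact absurd h4 n3
    · exact absurd (e ▸ h4) n4
    · rw [e, h.V_inv (r.o (mul_mem hx (inv_mem hy))
        (ne_one_of (mul_notMem (by rwa [inv_mem_iff]))))] at h4
      exact absurd h4 n4
  have h5 : conj w • Vs x = Vs y := by rw [h.V_smul ox, wx]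
  obtain ⟨F, h6, rx, ry, rw⟩ := exists_Fr (h.card_V ox) (h.V_sq ox) (le_cent1_iff.mp (h.V_le ox))
    (h.P_norm r.cP hx x1 hy) (fun e => by
      obtain ⟨v, hv, v1⟩ := h.exists_V ox
      exact v1 (eq_one_of_mem_inf (h.V_inf r hx x1 hy hn) hv
        ((h.mem_V oy).mpr ⟨comm_of_mem_cent e hv, h.V_sq ox v hv⟩))) (r.cube y hy) wx wy
    (h.V_norm ox (Or.inr (by rw [← conj_conj, wx, wy]))) (r.w4 hx x1 hw wx wy).2
    (h5 ▸ h.V_inf r hx x1 hy hn) (h5 ▸ h2)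
  rw [h5, ← h3] at h6
  exact ⟨x, y, w, q, F, hx, x1, hy, hn, hw, hq, wx, wy, qx, h6.trans h3, h6 ▸ hW, rx, ry, rw,
    h6 ▸ n3, h6 ▸ n4⟩

end H22

end Cfsg.Agent.Ma
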