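import Cfsg.Agent.H9.M22c

/-! Groups with the order and the element order statistics of `M₂₂`: uniqueness. -/

set_option autoImplicit false

namespace Cfsg.Agent.Ma

open Subgroup Cfsg.Agent.H7 Cfsg.Agent.H4 Cfsg.Agent.Fx4 Cfsg.Agent.H4.Nse
open MulAut (conj)
open scoped Pointwise

universe u
variable {G : Type u} [Group G] [Finite G] {L P Q T K H R W X M C A : Subgroup G}
  {x y z g p t v w q : G} {F : Fr G}

theorem relIndex_mod {n : ℕ} (hp : n.Prime) (hX : IsPGroup n X) (h1 : X ≤ M) (h2 : M ≤ C)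
    (hi : ¬ n ∣ X.relIndex C) (hN : N[X] ⊓ C ≤ M) : M.relIndex C ≡ 1 [MOD n] := by
  have k1 := relIndex_modEq hp hX hi (h1.trans h2)
  have k2 := relIndex_modEq hp hX (fun e => hi (e.trans (relIndex_dvd_of_le_of_le h1 h2))) h1
  rw [← inf_relIndex_right, ← relIndex_mul_relIndex _ _ _ hN h2, show N[X] ⊓ C = N[X] ⊓ M from
    le_antisymm (le_inf inf_le_left hN) (inf_le_inf_left _ h2), inf_relIndex_right] at k1
  exact one_mul (M.relIndex C) ▸ (k2.mul_right _).symm.trans k1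

omit [Finite G] in
theorem Fr.e_ne (F : Fr G) {v : ℕ} (hv : v < 16) (h0 : v ≠ 0) : F.e v ≠ 1 := fun e =>
  h0 (F.e_inj hv (by omega) (e.trans F.e0.symm))

theorem Fr.ncard_E (F : Fr G) : ((F.E : Set G) \ {1}).ncard = 15 := by
  rw [ncard_sdiff_one, F.card_E]

theorem card_Ez (rw : F.R 12676 w) (h : w * w * (w * w) = 1) :
    Nat.card ↥(F.E ⊔ zpowers (w * w)) = 32 := by
  have h1 : w * w ∉ F.E := fun e => by
    have := (rw.mul rw).app 2
    rw [conj_eq_of_mem_cent (F.E_comm e) (F.e_mem 2)] at this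
    exact absurd (F.e_inj (by omega) (by decide) this) (by decide)
  rw [card_sup_of_inf_eq_bot (zpowers_le.mpr (rw.mul rw).norm) (inf_eq_bot_of_forall fun g h2 h3 =>
    ((mem_zpowers_invol h).mp h3).resolve_right fun e => h1 (e ▸ h2)), F.card_E,
    Nat.card_zpowers, o2 (ne_one_of h1) h]

theorem norm_of_64 (rw : F.R 12676 w) (h : w * w * (w * w) = 1) (h1 : F.E ⊔ zpowers (w * w) ≤ T)
    (h2 : Nat.card T = 64) : T ≤ N[F.E] := fun g hg => by
  have h3 := card_Ez rw h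
  have h4 : conj g • F.E ≤ F.E ⊔ zpowers (w * w) := by
    rintro _ ⟨v, hv, rfl⟩
    exact conj_mem_of_index_two h1 (by rw [h2, h3]) hg (mem_sup_left hv)
  refine mem_norm_of_conj_smul_le fun s hs => by_contra fun k => ?_
  obtain ⟨a, ha, b, hb, rfl⟩ := (mem_sup_of_norm (zpowers_le.mpr (rw.mul rw).norm)).mp (h4 hs)
  obtain rfl := ((mem_zpowers_invol h).mp hb).resolve_left fun e => k (by simpa [e] using ha)
  have h5 := (card_le_of_le' (A := F.E ⊓ conj g • F.E) (B := F.E ⊓ C₁[w * w]) fun u hu =>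
    ⟨hu.1, mem_cent1_iff.mpr (by
    have := comm_of_mem_cent (le_cent_smul F.E_comm g hs) hu.2
    rwa [← mul_assoc, comm_of_mem_cent (F.E_comm ha) hu.1, mul_assoc, mul_assoc a,
      mul_right_inj] at this)⟩).trans (cent_ww rw)
  have h6 := card_inf_mul_relIndex F.E (conj g • F.E)
  have h7 := relIndex_le_of_le_right (H := F.E) h4 (relIndex_ne_zero' _ _)
  rw [relIndex_eq le_sup_left (n := 2) (by rw [h3, F.card_E])] at h7
  have := Nat.mul_le_mul h5 h7
  rw [h6, card_conj_smul, F.card_E] at this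
  omega

namespace S22

variable (h : H22 G) (r : NQ P Q) (s : S22 P Q x y w q F)
include r s

omit [Finite G] in
theorem ox : orderOf x = 3 := r.o s.hx s.x1

theorem P_eq : zpowers x ⊔ zpowers y = P := sup_eq_nine r.cP s.hx s.hy (s.ox r) s.hn

theorem PN : P ≤ N[F.E] :=
  s.P_eq r ▸ sup_le (zpowers_le.mpr s.rx.norm) (zpowers_le.mpr s.ry.norm)

theorem qw : (q * w * q⁻¹ = w⁻¹ ∧ q * q = w * w) ∨ (q * w * q⁻¹ = w ∧ q * q = w⁻¹) :=
  r.qw s.hx s.x1 s.hw s.hq s.wx s.wy s.qx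

theorem wN : w ∈ N[conj q • F.E] := by
  rw [← conj_smul_norm]
  rcases s.qw r with ⟨e, -⟩ | ⟨e, -⟩
  · exact (inv_mem_iff (x := w)).mp (e ▸ conj_mem_conj_smul.mpr s.rw.norm)
  · exact e ▸ conj_mem_conj_smul.mpr s.rw.norm

theorem PN' : P ≤ N[conj q • F.E] := conj_smul_of_norm (r.QN s.hq) ▸ le_norm_smul (s.PN r) q

theorem qA : q ∈ N[N[F.E] ⊓ N[conj q • F.E]] := mem_norm_of_conj_smul_eq (by
  rw [conj_smul_inf, conj_smul_norm, conj_smul_norm, conj_smul_smul, inf_comm,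
    conj_smul_of_norm (A := F.E) (g := q * q)]
  rcases s.qw r with ⟨-, e⟩ | ⟨-, e⟩ <;> rw [e]
  · exact (s.rw.mul s.rw).norm
  · exact inv_mem s.rw.norm)

include h

theorem cent_a : C₁[F.e 1] ≤ N[F.E] := by
  have ox := s.ox r
  have w4 := (r.w4 s.hx s.x1 s.hw s.wx s.wy).2
  have hc := h.cent2 (o2 (F.e_ne (v := 1) (by omega) (by omega)) (F.e_sq 1))
  have h1 : zpowers x ≤ C₁[F.e 1] ⊓ N[F.E] := zpowers_le.mpr
    ⟨mem_cent1_iff.mpr (mul_inv_eq_iff_eq_mul.mp (s.rx.app 1)), s.rx.norm⟩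
  have h2 : F.E ⊔ zpowers (w * w) ≤ C₁[F.e 1] ⊓ N[F.E] := sup_le
    (le_inf (F.E_comm.trans (cent_le_cent1 (F.e_mem 1))) (le_norm_self _)) (zpowers_le.mpr
    ⟨mem_cent1_iff.mpr (mul_inv_eq_iff_eq_mul.mp ((s.rw.mul s.rw).app 1)), (s.rw.mul s.rw).norm⟩)
  have h3 := card_Ez s.rw w4
  have h4 : Nat.card (zpowers x) = 3 := by rw [Nat.card_zpowers, ox]
  have h5 := relIndex_mod Nat.prime_three (.of_card (n := 1) h4) h1 inf_le_left (by
    rw [relIndex_eq (h1.trans inf_le_left) (n := 128) (by rw [hc, h4])]; norm_num) fun g hg =>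
      ⟨hg.2, s.W.2.2.1 (h.V_norm ox ((mem_zpowers_three (of_o3 ox).2 (conj_mem_of_norm hg.1
        (mem_zpowers x))).resolve_left (by simpa using s.x1)))⟩
  have h6 := relIndex_mul_card (inf_le_left (a := C₁[F.e 1]) (b := N[F.E]))
  obtain ⟨k, h7⟩ : 96 ∣ Nat.card ↥(C₁[F.e 1] ⊓ N[F.E]) := Nat.Coprime.mul_dvd_of_dvd_of_dvd
    (m := 32) (n := 3) (by norm_num) (h3 ▸ card_dvd_of_le h2) (h4 ▸ card_dvd_of_le h1)
  have h8 : 64 ∣ 96 * k := by
    obtain ⟨T, k1, k2, k3⟩ := exists_between (n := 5) (m := 6) Nat.prime_two (h2.trans inf_le_left)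
      h3 (by norm_num) (by rw [hc]; norm_num)
    have := card_dvd_of_le (le_inf k2 (norm_of_64 s.rw w4 k1 k3))
    rwa [k3, h7] at this
  rw [← relIndex_eq_one', ← inf_relIndex_right, inf_comm]
  rw [h7, hc] at h6
  generalize (C₁[F.e 1] ⊓ N[F.E]).relIndex C₁[F.e 1] = n at *
  have h9 : n * k = 4 := by linarith
  have := Nat.le_of_dvd (by norm_num) (Dvd.intro _ h9)
  unfold Nat.ModEq at h5
  interval_cases n <;> omega

theorem cent_E : C[F.E] ≤ F.E := by
  refine s.W.2.2.2 _ (cent_anti (s.E ▸ le_sup_left)) ?_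
  have h1 := h.cent2 (o2 (F.e_ne (v := 1) (by omega) (by omega)) (F.e_sq 1)) ▸
    card_dvd_of_le (cent_le_cent1 (F.e_mem 1))
  have h2 : ¬ 3 ∣ Nat.card C[F.E] := fun e => by
    obtain ⟨p, hp, op⟩ := exists_mem_orderOf Nat.prime_three e
    have := card_le_of_le' (A := F.E) (B := Vs p) fun g hg =>
      (h.mem_V op).mpr ⟨comm_of_mem_cent hp hg, F.E_sq hg⟩
    rw [F.card_E, h.card_V op] at this
    omega
  obtain ⟨k, -, hk⟩ := (Nat.dvd_prime_pow (m := 7) Nat.prime_two).mp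
    (((Nat.Prime.coprime_iff_not_dvd Nat.prime_three).mpr h2).symm.dvd_of_dvd_mul_right h1)
  exact .of_card hk

theorem card_N' : Nat.card N[F.E] = 5760 ∧
    ∀ t ∈ F.E, t ≠ 1 → ∃ n ∈ N[F.E], n * F.e 1 * n⁻¹ = t := by
  have a1 := F.e_ne (v := 1) (by omega) (by omega)
  have hc := h.cent2 (o2 a1 (F.e_sq 1))
  have h0 := inf_eq_left.mpr (s.cent_a h r)
  have h1 := card_inf_mul_relIndex C₁[F.e 1] N[F.E]
  have h2 : (fun g => g * F.e 1 * g⁻¹) '' (N[F.E] : Set G) ⊆ (F.E : Set G) \ {1} := by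
    rintro _ ⟨g, hg, rfl⟩
    exact ⟨conj_mem_of_norm hg (F.e_mem 1), by simpa using a1⟩
  have h3 := card_le_cent_mul N[F.E] (F.e 1)
    (T := (fun g => g * F.e 1 * g⁻¹) '' (N[F.E] : Set G)) fun g hg => ⟨g, hg, rfl⟩
  have h4 := Set.ncard_le_ncard h2
  have h5 := ncard_le_relIndex N[F.E] C₁[F.e 1] (fun g => g * F.e 1 * g⁻¹) fun a _ b _ e => by
    calc a * F.e 1 * a⁻¹ = b * (a⁻¹ * b)⁻¹ * (F.e 1 * (a⁻¹ * b)) * b⁻¹ := by group
      _ = _ := by rw [← mem_cent1_iff.mp e]; group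
  have h6 := Set.ncard_le_ncard (s := F.e '' {1, 2, 3, 4})
    (t := (fun g => g * F.e 1 * g⁻¹) '' (N[F.E] : Set G)) (by
      rintro _ ⟨v, rfl | rfl | rfl | rfl, rfl⟩
      · exact ⟨1, one_mem _, by simp⟩
      · exact ⟨y, s.ry.norm, s.ry.app 1⟩
      · exact ⟨y * y, (s.ry.mul s.ry).norm, (s.ry.mul s.ry).app 1⟩
      · exact ⟨w, s.rw.norm, s.rw.app 1⟩)
  rw [Set.InjOn.ncard_image (fun i hi j hj e => F.e_inj (by simp at hi; omega)
    (by simp at hj; omega) e), show ({1, 2, 3, 4} : Set ℕ).ncard = 4 by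
      rw [Set.ncard_insert_of_notMem (by simp), Set.ncard_insert_of_notMem (by simp),
        Set.ncard_pair (by simp)]] at h6
  have h7 := h.dvd N[F.E]
  have h8 := r.cP ▸ card_dvd_of_le (s.PN r)
  rw [h0, hc] at h1 h3
  rw [F.ncard_E] at h4
  have h9 : Nat.card N[F.E] = 5760 := by
    rw [← h1] at h3 h7 h8 ⊢
    generalize (C₁[F.e 1]).relIndex N[F.E] = n at *
    have : n ≤ 15 := by omega
    interval_cases n <;> omega
  exact ⟨h9, fun t ht t1 => (Set.eq_of_subset_of_ncard_le h2 (by rw [F.ncard_E]; omega)).ge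
    ⟨ht, t1⟩⟩

theorem card_N : Nat.card N[F.E] = 5760 := (s.card_N' h r).1

theorem ti (ht : t ∈ F.E) (t1 : t ≠ 1) (hg : g * t * g⁻¹ ∈ F.E) : g ∈ N[F.E] := by
  obtain ⟨n, hn, rfl⟩ := (s.card_N' h r).2 t ht t1
  obtain ⟨m, hm, e⟩ := (s.card_N' h r).2 _ hg (by simpa using F.e_ne (v := 1) (by omega) (by omega))
  have := s.cent_a h r (mem_cent1_iff.mpr (show m⁻¹ * g * n * F.e 1 = F.e 1 * (m⁻¹ * g * n) by
    calc _ = m⁻¹ * (g * (n * F.e 1 * n⁻¹) * g⁻¹) * (g * n) := by group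
      _ = _ := by rw [← e]; group))
  rwa [mul_mem_cancel_right hn, mul_mem_cancel_left (inv_mem hm)] at this

theorem V_le' : Vs (x * y) ≤ conj q • F.E := by
  rw [← s.qx, ← h.V_smul (s.ox r), s.E]
  exact conj_smul_mono q le_sup_left

theorem qn : q ∉ N[F.E] := fun e => s.n3 (conj_smul_of_norm e ▸ s.V_le' h r)

theorem inf_N : F.E ⊓ N[conj q • F.E] = ⊥ := by
  have k : ∀ g ∈ N[F.E], g ∈ N[conj q • F.E] → g ∈ N[F.E ⊓ N[conj q • F.E]] := fun g h1 h2 =>
    le_norm_inf (X := N[F.E] ⊓ N[conj q • F.E]) inf_le_left (le_norm_norm inf_le_right) ⟨h1, h2⟩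
  refine (irr s.rx s.ry s.rw inf_le_left (k _ s.rx.norm (s.PN' r s.hx))
    (k _ s.ry.norm (s.PN' r s.hy)) (k _ s.rw.norm (s.wN r))).resolve_right fun e => ?_
  have := h.dvd (conj q • F.E ⊔ F.E)
  rw [card_sup_of_inf_eq_bot (inf_eq_left.mp e) (inf_eq_bot_of_forall (by
    rintro _ ⟨t, ht, rfl⟩ k
    exact by_contra fun e => s.qn h r (s.ti h r ht (fun f => e (by simp [f])) k))),
    card_conj_smul, F.card_E] at this
  norm_num at this

theorem inf_A : F.E ⊓ (N[F.E] ⊓ N[conj q • F.E]) = ⊥ :=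
  inf_eq_bot_mono (s.inf_N h r) le_rfl inf_le_right

theorem ow : orderOf w = 4 := by
  obtain ⟨h1, h2⟩ := r.w4 s.hx s.x1 s.hw s.wx s.wy
  exact orderOf_eq_prime_pow (p := 2) (n := 1) (by rwa [pow_one, pow_two])
    (by rw [← h2, ← pow_two, ← pow_two, ← pow_mul]; rfl)

theorem card_L (h72 : Nat.card N[P] = 72) (hL : L ≤ N[F.E] ⊓ N[conj q • F.E]) (h1 : P ≤ L)
    (h2 : w ∈ L) : (Nat.card L = 36 ∧ L ≤ N[P]) ∨ Nat.card L = 360 := by
  have k1 : Nat.card L ∣ 360 := by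
    have := card_dvd_of_le (sup_le (le_norm_self F.E) (hL.trans inf_le_left))
    rw [card_sup_of_inf_eq_bot (hL.trans inf_le_left) (inf_eq_bot_mono (s.inf_A h r) le_rfl hL),
      F.card_E, s.card_N h r] at this
    exact Nat.dvd_of_mul_dvd_mul_left (by norm_num) this
  have k2 := relIndex_modEq Nat.prime_three (.of_card (n := 2) r.cP) (fun e => by
    have := (mul_dvd_mul_right e _).trans ((relIndex_mul_card h1).dvd.trans k1)
    rw [r.cP] at this
    norm_num at this) h1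
  have k3 := card_inf_mul_relIndex N[P] L
  have k4 : 36 ∣ Nat.card ↥(N[P] ⊓ L) := Nat.Coprime.mul_dvd_of_dvd_of_dvd (m := 9) (n := 4)
    (by norm_num) (r.cP ▸ card_dvd_of_le (le_inf (le_norm_self P) h1))
    (s.ow h r ▸ orderOf_dvd_card_of_mem ⟨r.QN s.hw, h2⟩)
  have k5 := card_lt_of_lt (lt_of_le_of_ne (inf_le_left (a := N[P]) (b := L)) fun e =>
    s.qn h r (hL (inf_eq_left.mp e (r.QN s.hq))).1)
  have k6 := card_pos' (N[P] ⊓ L)
  rw [show Nat.card ↥(N[P] ⊓ L) = 36 by omega] at k3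
  rw [← k3] at k1 ⊢
  rw [← relIndex_eq_one']
  generalize (N[P]).relIndex L = n at *
  have := Nat.le_of_dvd (by norm_num) k1
  have : n ≤ 10 := by omega
  unfold Nat.ModEq at k2
  interval_cases n <;> omega

theorem index_N : (N[F.E]).index = 77 := by
  have := h.idx N[F.E]
  rw [s.card_N h r] at this
  omega

theorem card_A (h72 : Nat.card N[P] = 72) : Nat.card ↥(N[F.E] ⊓ N[conj q • F.E]) = 360 := by
  refine (s.card_L h r h72 le_rfl (le_inf (s.PN r) (s.PN' r)) ⟨s.rw.norm, s.wN r⟩).resolve_left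
    fun e => ?_
  have h1 := card_inf_mul_relIndex N[F.E] N[conj q • F.E]
  have h2 := relIndex_le_index N[F.E] N[conj q • F.E]
  rw [e.1, ← conj_smul_norm, card_conj_smul, s.card_N h r] at h1
  rw [s.index_N h r, ← conj_smul_norm] at h2
  omega

theorem ord (h72 : Nat.card N[P] = 72) (hg : g ∈ N[F.E] ⊓ N[conj q • F.E]) :
    g ^ 3 = 1 ∨ g ^ 8 = 1 ∨ g ^ 5 = 1 := by
  have hA := s.card_A h r h72
  have h1 := hA ▸ orderOf_dvd_card_of_mem hg
  have h2 := h.ord g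
  have h3 : orderOf g ≠ 6 := fun e => by
    obtain ⟨p, t, op, ot, hc, -, hp, ht⟩ := exists_split (a := 3) (b := 2) (by norm_num) e
    have k0 := le_inf (s.PN r) (s.PN' r)
    obtain ⟨c, h4, h5⟩ := exists_conj_le (p := 3) (T := P) (zpowers_le.mpr (zpowers_le.mpr hg hp))
      (.of_card (n := 1) (by rw [Nat.card_zpowers, op]; rfl))
      (by rw [relIndex_eq k0 (n := 40) (by rw [hA, r.cP])]; norm_num)
    have k1 := h.V_conj op ((h.mem_V op).mpr ⟨hc.symm, (of_o2 ot).2⟩) c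
    have k2 := mul_mem (mul_mem h4 (zpowers_le.mpr hg ht)) (inv_mem h4)
    have k3 : c * t * c⁻¹ ∉ F.E := fun e =>
      (of_o2 ot).1 (conj_eq_one_iff.mp (eq_one_of_mem_inf (s.inf_A h r) e k2))
    have k4 : c * t * c⁻¹ ∉ conj q • F.E := fun e => by
      obtain ⟨v, hv, e⟩ := mem_conj_smul_iff_exists.mp e
      rw [← e] at k2
      rw [eq_one_of_mem_inf (s.inf_A h r) hv (mem_of_conj_mem_of_norm (s.qA r) k2)] at e
      exact k3 (e ▸ by simp)
    rcases h.V_cases r s.hx s.x1 s.hy s.hn (h5 p (mem_zpowers p)) (by simpa using (of_o3 op).1)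
      with e | e | e | e <;> rw [e] at k1
    · exact k3 (s.E ▸ mem_sup_left k1)
    · exact k3 (s.E ▸ mem_sup_right k1)
    · exact k4 (s.V_le' h r k1)
    · have := h.V_conj (r.o (mul_mem s.hx (inv_mem s.hy))
        (ne_one_of (mul_notMem (by rw [inv_mem_iff]; exact s.hn)))) k1 w
      rw [← conj_mul, ← conj_inv, s.wx, s.wy, inv_inv, r.comm s.hy s.hx] at this
      exact k4 (mem_of_conj_mem_of_norm (s.wN r) (s.V_le' h r this))
  simp only [← orderOf_dvd_iff_pow_eq_one]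
  simp only [List.mem_cons, List.not_mem_nil, or_false] at h2
  rcases h2 with e | e | e | e | e | e | e | e | e <;> simp_all

theorem cfg (h72 : Nat.card N[P] = 72) : Cfg F (N[F.E] ⊓ N[conj q • F.E]) x y w q where
  hA := inf_comm _ C[F.E] ▸ inf_eq_bot_mono (s.inf_A h r) (s.cent_E h r) le_rfl
  AN := inf_le_left
  rx := .of_R s.rx ⟨s.rx.norm, s.PN' r s.hx⟩ (by norm_num)
  ry := .of_R s.ry ⟨s.ry.norm, s.PN' r s.hy⟩ (by norm_num)
  rw := .of_R s.rw ⟨s.rw.norm, s.wN r⟩ (by norm_num)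
  qA := s.qA r
  qn := fun e => s.qn h r e.1
  qx := s.qx
  qw := s.qw r
  ord := fun _ => s.ord h r h72
  eight := by rw [s.card_A h r h72]; norm_num
  ten := fun g e => by
    have h2 := h.ord g
    simp only [← orderOf_dvd_iff_pow_eq_one] at e ⊢
    simp only [List.mem_cons, List.not_mem_nil, or_false] at h2
    rcases h2 with e | e | e | e | e | e | e | e | e <;> simp_all
  pw := by
    obtain ⟨k, -, hk⟩ := (Nat.dvd_prime_pow (m := 7) Nat.prime_two).mp
      ((((Nat.Prime.coprime_iff_not_dvd Nat.prime_three).mpr (h.not_dvd (s.ow h r) Nat.prime_three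
        (by norm_num) (by decide))).symm.pow_right 2).dvd_of_dvd_mul_right
        (h.cent_dvd (s.ow h r) (by simp)))
    exact .of_card hk
  syl := by rw [h.card]; norm_num
  nc := fun e => by
    have z0 : F.a * F.c = F.e 5 := by rw [← F.e1, ← F.e4, ← F.e_xor]; rfl
    have z1 := F.e_ne (v := 5) (by omega) (by omega)
    rw [z0] at e
    refine z1 (eq_one_of_mem_inf (s.inf_A h r) (F.e_mem 5) (mem_of_conj_mem_of_norm (s.qA r)
      ⟨s.ti h r (F.e_mem 5) z1 ?_, le_norm_self _ (conj_mem_conj_smul.mpr (F.e_mem 5))⟩))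
    rw [mem_cent1_iff.mp e, mul_inv_cancel_right]
    exact F.e_mem 5

end S22

theorem Cfg.not_norm (c : Cfg F A x y w q) {u : G} (ru : F.Rp A 38001 u) (hP : Nat.card P = 9)
    (hx : x ∈ P) : u ∉ N[P] := fun e => by
  have h1 := comm_of_abel (abel_of_card_sq (p := 3) hP) hx (conj_mem_of_norm e hx)
  have h2 := ru.inv 1 (c.eq (ru.pow 2) Fr.Rp.one (by decide +kernel))
  exact absurd (c.code (c.rx.mul ((ru.mul c.rx).mul h2)) (((ru.mul c.rx).mul h2).mul c.rx) h1)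
    (by decide +kernel)

theorem H22.exists_gen (h : H22 G) : ∃ x y w u q a b c d : G, Rel x y w u q a b c d ∧
    closure {x, y, w, u, q, a, b, c, d} = ⊤ := by
  obtain ⟨P, Q, r, h72⟩ := h.exists_NQ
  obtain ⟨x, y, w, q, F, s⟩ := h.exists_S22 r
  have c := s.cfg h r h72
  obtain ⟨u, ru, hr⟩ := c.exists_rel
  refine ⟨x, y, w, u, q, _, _, _, _, hr, ?_⟩
  have m : ∀ g ∈ ({x, y, w, u, q, F.a, F.b, F.c, F.d} : Set G),
      g ∈ closure {x, y, w, u, q, F.a, F.b, F.c, F.d} := fun g hg => subset_closure hg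
  generalize closure {x, y, w, u, q, F.a, F.b, F.c, F.d} = K at m
  simp only [Set.mem_insert_iff, Set.mem_singleton_iff, forall_eq_or_imp, forall_eq] at m
  obtain ⟨mx, my, mw, mu, mq, ma, mb, mc, md⟩ := m
  have hA := s.card_A h r h72
  have h1 := (s.card_L h r h72 (inf_le_left (b := K)) (s.P_eq r ▸ sup_le (zpowers_le.mpr ⟨c.xA, mx⟩)
    (zpowers_le.mpr ⟨c.yA, my⟩)) ⟨c.wA, mw⟩).resolve_left fun e =>
      c.not_norm ru r.cP s.hx (e.2 ⟨ru.mem rfl, mu⟩)
  have h2 : N[F.E] ≤ K := by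
    rw [← Cfsg.Agent.H7.eq_of_le_of_card_le (sup_le (le_norm_self F.E) c.AN) (by
      rw [card_sup_of_inf_eq_bot c.AN (s.inf_A h r), F.card_E, hA, s.card_N h r])]
    exact sup_le (F.E_le ma mb mc md) (inf_eq_left.mp (eq_of_le_of_card_eq inf_le_left
      (h1.trans hA.symm)))
  have h3 := relIndex_le_of_le_right (H := N[F.E]) (conj_smul_le_of_mem mq h2)
    (relIndex_ne_zero' _ _)
  have h4 := card_inf_mul_relIndex N[F.E] (conj q • N[F.E])
  have h5 := relIndex_mul_index h2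
  rw [card_conj_smul, s.card_N h r, conj_smul_norm, hA, ← conj_smul_norm] at h4
  rw [s.index_N h r] at h5
  rw [← index_eq_one]
  have h6 := Nat.mul_le_mul_right K.index (show 16 ≤ (N[F.E]).relIndex K by omega)
  have h7 := Dvd.intro_left _ h5
  generalize K.index = n at *
  have : n ≤ 4 := by omega
  interval_cases n <;> omega

theorem H22.iso {M : Type*} [Group M] [Finite M] (h : H22 G) (h' : H22 M) : Nonempty (G ≃* M) := by
  obtain ⟨x, y, w, u, q, a, b, c, d, r, e⟩ := h.exists_gen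
  obtain ⟨x', y', w', u', q', a', b', c', d', r', e'⟩ := h'.exists_gen
  refine goursat (n := 2) (h.card.trans h'.card.symm) ?_ ?_ ((r.prod r').card.2.trans (by rw [h'.card]))
    fun K hK h2 => by_contra fun k => ?_
  · rw [MonoidHom.map_closure]
    simpa [Set.image_insert_eq] using e
  · rw [MonoidHom.map_closure]
    simpa [Set.image_insert_eq] using e'
  · obtain ⟨s, s1, s2, hs⟩ := card_two_eq (le_antisymm h2 (one_lt_card_of_ne_bot k))
    have := h.cent2 (o2 s1 s2)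
    rw [(eq_top_iff' _).mpr fun g => mem_cent1_iff.mpr (mul_inv_eq_iff_eq_mul.mp (((hs _).mp
      (hK.conj_mem s ((hs s).mpr (Or.inr rfl)) g)).resolve_left (by simpa using s1))), card_top,
      h.card] at this
    omega

end Cfsg.Agent.Ma
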