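import Cfsg.Agent.H9.MaPres

/-!
# Coset enumerations for a presentation of `M₂₃`
-/

set_option autoImplicit false
set_option maxRecDepth 100000
set_option linter.unusedSimpArgs false

namespace Cfsg.Agent.Ma

open Cfsg.Agent.H4

/-- Certificate data. -/
def p00_par : Trie :=
    (.node (.node (.node (.node (.node (.node (.leaf (nat_lit 0)) (.leaf (nat_lit 2312))) (.leaf
    (nat_lit 774))) (.node (.node (.leaf (nat_lit 516)) (.leaf (nat_lit 3850))) (.leaf (nat_lit
    1290)))) (.node (.node (.node (.leaf (nat_lit 258)) (.leaf (nat_lit 3086))) (.leaf (nat_lit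
    778))) (.node (.leaf (nat_lit 520)) (.leaf (nat_lit 1550))))) (.node (.node (.node (.node
    (.leaf (nat_lit 11)) (.leaf (nat_lit 3079))) (.leaf (nat_lit 776))) (.node (.node (.leaf
    (nat_lit 518)) (.leaf (nat_lit 5128))) (.leaf (nat_lit 1548)))) (.node (.node (.node (.leaf
    (nat_lit 264)) (.leaf (nat_lit 3847))) (.leaf (nat_lit 1034))) (.node (.leaf (nat_lit 522))
    (.leaf (nat_lit 2309)))))) (.node (.node (.node (.node (.node (.leaf (nat_lit 10)) (.leaf
    (nat_lit 2827))) (.leaf (nat_lit 775))) (.node (.node (.leaf (nat_lit 517)) (.leaf (nat_lit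
    5125))) (.leaf (nat_lit 1291)))) (.node (.node (.node (.leaf (nat_lit 261)) (.leaf (nat_lit
    3087))) (.leaf (nat_lit 1031))) (.node (.leaf (nat_lit 521)) (.leaf (nat_lit 1551))))) (.node
    (.node (.node (.node (.leaf (nat_lit 257)) (.leaf (nat_lit 3085))) (.leaf (nat_lit 777)))
    (.node (.node (.leaf (nat_lit 519)) (.leaf (nat_lit 5129))) (.leaf (nat_lit 1549)))) (.node
    (.node (.node (.leaf (nat_lit 515)) (.leaf (nat_lit 3848))) (.leaf (nat_lit 1288))) (.node
    (.leaf (nat_lit 773)) (.leaf (nat_lit 2311)))))))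

/-- Certificate data. -/
def p00_fact : Trie :=
    (.node (.node (.node (.node (.node (.node (.node (.node (.leaf (nat_lit 1)) (.leaf (nat_lit
    386048))) (.leaf (nat_lit 219648))) (.node (.leaf (nat_lit 166403)) (.leaf (nat_lit 35077))))
    (.node (.node (.node (.leaf (nat_lit 50178)) (.leaf (nat_lit 249610))) (.leaf (nat_lit
    499201))) (.node (.leaf (nat_lit 70409)) (.leaf (nat_lit 626439))))) (.node (.node (.node
    (.node (.leaf (nat_lit 15)) (.leaf (nat_lit 370949))) (.leaf (nat_lit 166402))) (.node (.leaf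
    (nat_lit 262918)) (.leaf (nat_lit 385548)))) (.node (.node (.node (.leaf (nat_lit 17928))
    (.leaf (nat_lit 512))) (.leaf (nat_lit 221190))) (.node (.leaf (nat_lit 87816)) (.leaf (nat_lit
    386818)))))) (.node (.node (.node (.node (.node (.leaf (nat_lit 8)) (.leaf (nat_lit 186379)))
    (.leaf (nat_lit 33290))) (.node (.leaf (nat_lit 229898)) (.leaf (nat_lit 188166)))) (.node
    (.node (.node (.leaf (nat_lit 82181)) (.leaf (nat_lit 84747))) (.leaf (nat_lit 510215))) (.node
    (.leaf (nat_lit 361482)) (.leaf (nat_lit 246535))))) (.node (.node (.node (.node (.leaf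
    (nat_lit 32779)) (.leaf (nat_lit 699148))) (.leaf (nat_lit 476687))) (.node (.leaf (nat_lit
    279303)) (.leaf (nat_lit 467980)))) (.node (.node (.leaf (nat_lit 131588)) (.leaf (nat_lit
    199936))) (.node (.leaf (nat_lit 410891)) (.leaf (nat_lit 578316))))))) (.node (.node (.node
    (.node (.node (.node (.leaf (nat_lit 5)) (.leaf (nat_lit 384012))) (.leaf (nat_lit 216322)))
    (.node (.leaf (nat_lit 197128)) (.leaf (nat_lit 466951)))) (.node (.node (.node (.leaf (nat_lit
    17412)) (.leaf (nat_lit 83210))) (.leaf (nat_lit 199681))) (.node (.leaf (nat_lit 345095))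
    (.leaf (nat_lit 250112))))) (.node (.node (.node (.node (.leaf (nat_lit 16651)) (.leaf (nat_lit
    371208))) (.leaf (nat_lit 443917))) (.node (.leaf (nat_lit 86017)) (.leaf (nat_lit 451340))))
    (.node (.node (.node (.leaf (nat_lit 115203)) (.leaf (nat_lit 256))) (.leaf (nat_lit 532481)))
    (.node (.leaf (nat_lit 382724)) (.leaf (nat_lit 318208)))))) (.node (.node (.node (.node (.node
    (.leaf (nat_lit 13)) (.leaf (nat_lit 370695))) (.leaf (nat_lit 34816))) (.node (.leaf (nat_lit
    85762)) (.leaf (nat_lit 543499)))) (.node (.node (.node (.leaf (nat_lit 83207)) (.leaf (nat_lit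
    34048))) (.leaf (nat_lit 526600))) (.node (.leaf (nat_lit 104197)) (.leaf (nat_lit 304901)))))
    (.node (.node (.node (.node (.leaf (nat_lit 49409)) (.leaf (nat_lit 54784))) (.leaf (nat_lit
    171525))) (.node (.leaf (nat_lit 70152)) (.leaf (nat_lit 484620)))) (.node (.node (.leaf
    (nat_lit 149764)) (.leaf (nat_lit 101388))) (.node (.leaf (nat_lit 432642)) (.leaf (nat_lit
    315916)))))))) (.node (.node (.node (.node (.node (.node (.node (.leaf (nat_lit 3)) (.leaf
    (nat_lit 467456))) (.leaf (nat_lit 101644))) (.node (.leaf (nat_lit 180743)) (.leaf (nat_lit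
    526601)))) (.node (.node (.node (.leaf (nat_lit 50187)) (.leaf (nat_lit 88064))) (.leaf
    (nat_lit 204297))) (.node (.leaf (nat_lit 328458)) (.leaf (nat_lit 288261))))) (.node (.node
    (.node (.node (.leaf (nat_lit 16394)) (.leaf (nat_lit 693256))) (.leaf (nat_lit 149761)))
    (.node (.leaf (nat_lit 69638)) (.leaf (nat_lit 576525)))) (.node (.node (.node (.leaf (nat_lit
    99841)) (.leaf (nat_lit 1280))) (.leaf (nat_lit 172040))) (.node (.leaf (nat_lit 378375))
    (.leaf (nat_lit 644879)))))) (.node (.node (.node (.node (.node (.leaf (nat_lit 12)) (.leaf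
    (nat_lit 659210))) (.leaf (nat_lit 34560))) (.node (.leaf (nat_lit 246533)) (.leaf (nat_lit
    183050)))) (.node (.node (.node (.leaf (nat_lit 17669)) (.leaf (nat_lit 84736))) (.leaf
    (nat_lit 188165))) (.node (.leaf (nat_lit 378120)) (.leaf (nat_lit 642824))))) (.node (.node
    (.node (.node (.leaf (nat_lit 33281)) (.leaf (nat_lit 70656))) (.leaf (nat_lit 493829))) (.node
    (.leaf (nat_lit 295688)) (.leaf (nat_lit 609295)))) (.node (.node (.leaf (nat_lit 147973))
    (.leaf (nat_lit 40448))) (.node (.leaf (nat_lit 427532)) (.leaf (nat_lit 303872))))))) (.node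
    (.node (.node (.node (.node (.node (.leaf (nat_lit 7)) (.leaf (nat_lit 401664))) (.leaf
    (nat_lit 36352))) (.node (.leaf (nat_lit 213513)) (.leaf (nat_lit 187400)))) (.node (.node
    (.node (.leaf (nat_lit 49412)) (.leaf (nat_lit 186624))) (.leaf (nat_lit 494857))) (.node
    (.leaf (nat_lit 283906)) (.leaf (nat_lit 58880))))) (.node (.node (.node (.node (.leaf (nat_lit
    16647)) (.leaf (nat_lit 709641))) (.leaf (nat_lit 460302))) (.node (.leaf (nat_lit 249860))
    (.leaf (nat_lit 592910)))) (.node (.node (.node (.leaf (nat_lit 116481)) (.leaf (nat_lit 10)))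
    (.leaf (nat_lit 530190))) (.node (.leaf (nat_lit 394506)) (.leaf (nat_lit 103181)))))) (.node
    (.node (.node (.node (.node (.leaf (nat_lit 14)) (.leaf (nat_lit 676869))) (.leaf (nat_lit
    33283))) (.node (.leaf (nat_lit 246790)) (.leaf (nat_lit 560135)))) (.node (.node (.node (.leaf
    (nat_lit 98568)) (.leaf (nat_lit 35584))) (.leaf (nat_lit 204805))) (.node (.leaf (nat_lit
    104198)) (.leaf (nat_lit 321286))))) (.node (.node (.node (.node (.leaf (nat_lit 65794)) (.leaf
    (nat_lit 256000))) (.leaf (nat_lit 499204))) (.node (.leaf (nat_lit 312073)) (.leaf (nat_lit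
    599297)))) (.node (.node (.leaf (nat_lit 164358)) (.leaf (nat_lit 150016))) (.node (.leaf
    (nat_lit 236040)) (.leaf (nat_lit 616199)))))))))

/-- Certificate data. -/
def p00_just : Trie :=
    (.node (.node (.node (.node (.node (.node (.node (.node (.leaf (nat_lit 1)) (.leaf (nat_lit
    17242312036436813977878582))) (.leaf (nat_lit 190947570985699541272470053865255829504030)))
    (.node (.leaf (nat_lit 69865438435278864)) (.leaf (nat_lit 139358803984386)))) (.node (.node
    (.node (.leaf (nat_lit 61705795272710)) (.leaf (nat_lit 588371864977410))) (.leaf (nat_lit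
    173521192769224737))) (.node (.leaf (nat_lit 92500122243629078)) (.leaf (nat_lit 0))))) (.node
    (.node (.node (.node (.leaf (nat_lit 1)) (.leaf (nat_lit 30741006073545009463306))) (.leaf
    (nat_lit 70120525132922912))) (.node (.leaf (nat_lit 0)) (.leaf (nat_lit 128766894810529835))))
    (.node (.node (.node (.leaf (nat_lit 47375958881271820)) (.leaf (nat_lit
    14752194982144376834))) (.leaf (nat_lit 188364677053612057))) (.node (.leaf (nat_lit
    120715845470191642)) (.leaf (nat_lit 67565421544710864945)))))) (.node (.node (.node (.node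
    (.node (.leaf (nat_lit 1)) (.leaf (nat_lit 451929343918082))) (.leaf (nat_lit
    161108518371330))) (.node (.leaf (nat_lit 0)) (.leaf (nat_lit 114360332674180317225)))) (.node
    (.node (.node (.leaf (nat_lit 0)) (.leaf (nat_lit 267348829405186))) (.leaf (nat_lit 0)))
    (.node (.leaf (nat_lit 0)) (.leaf (nat_lit 495772370075650))))) (.node (.node (.node (.node
    (.leaf (nat_lit 0)) (.leaf (nat_lit 81815961278318626799672))) (.leaf (nat_lit 0))) (.node
    (.leaf (nat_lit 0)) (.leaf (nat_lit 169299325816602669)))) (.node (.node (.leaf (nat_lit 0))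
    (.leaf (nat_lit 100509324935721910310))) (.node (.leaf (nat_lit 0)) (.leaf (nat_lit
    469444220551170))))))) (.node (.node (.node (.node (.node (.node (.leaf (nat_lit 1)) (.leaf
    (nat_lit 458509233815554))) (.leaf (nat_lit 144388421010522114))) (.node (.leaf (nat_lit 0))
    (.leaf (nat_lit 169138659679993895)))) (.node (.node (.node (.leaf (nat_lit
    5314392843299754147848)) (.leaf (nat_lit 262933603024898))) (.leaf (nat_lit
    93567136203026989069))) (.node (.leaf (nat_lit 0)) (.leaf (nat_lit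
    28520722812683461993486631457891582370809643991088))))) (.node (.node (.node (.node (.leaf
    (nat_lit 5317286384018567528451)) (.leaf (nat_lit 306839692056395788))) (.leaf (nat_lit 0)))
    (.node (.leaf (nat_lit 48499805793746964)) (.leaf (nat_lit 167047508823048236)))) (.node (.node
    (.node (.leaf (nat_lit 0)) (.leaf (nat_lit 6302572449300482))) (.leaf (nat_lit
    103349871650797781005))) (.node (.leaf (nat_lit 125087512292163599)) (.leaf (nat_lit
    137470371557202460723)))))) (.node (.node (.node (.node (.node (.leaf (nat_lit 1)) (.leaf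
    (nat_lit 30741006368196945838084))) (.leaf (nat_lit 59978604108513282))) (.node (.leaf (nat_lit
    45122080303415313)) (.leaf (nat_lit 0)))) (.node (.node (.node (.leaf (nat_lit
    45084555174150155)) (.leaf (nat_lit 76092990690623490))) (.leaf (nat_lit 0))) (.node (.leaf
    (nat_lit 51882015229935640)) (.leaf (nat_lit 101496927677513752))))) (.node (.node (.node
    (.node (.leaf (nat_lit 0)) (.leaf (nat_lit 112086865330503682))) (.leaf (nat_lit
    69936202316447778))) (.node (.leaf (nat_lit 89109211203698700)) (.leaf (nat_lit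
    171551142810157102)))) (.node (.node (.leaf (nat_lit 65361821628039183)) (.leaf (nat_lit
    286667592302594))) (.node (.leaf (nat_lit 137472467102007324)) (.leaf (nat_lit
    548634827554818)))))))) (.node (.node (.node (.node (.node (.node (.node (.leaf (nat_lit 1))
    (.leaf (nat_lit 243760422208077826))) (.leaf (nat_lit 271033911345154))) (.node (.leaf (nat_lit
    0)) (.leaf (nat_lit 394445501628418)))) (.node (.node (.node (.leaf (nat_lit
    31571510024142855)) (.leaf (nat_lit 12719565091415693482917946))) (.leaf (nat_lit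
    76691601757503523))) (.node (.leaf (nat_lit 0)) (.leaf (nat_lit 99245084914155556))))) (.node
    (.node (.node (.node (.leaf (nat_lit 0)) (.leaf (nat_lit 0))) (.leaf (nat_lit
    65616908325683233))) (.node (.leaf (nat_lit 89109168254025747)) (.leaf (nat_lit 0)))) (.node
    (.node (.node (.leaf (nat_lit 28281561329999020045)) (.leaf (nat_lit 669791560007682))) (.leaf
    (nat_lit 175979778078343180))) (.node (.leaf (nat_lit 61155741003610849307)) (.leaf (nat_lit
    139133479792970825778)))))) (.node (.node (.node (.node (.node (.leaf (nat_lit 1)) (.leaf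
    (nat_lit 0))) (.leaf (nat_lit 21032249477568341016607))) (.node (.leaf (nat_lit 0)) (.leaf
    (nat_lit 50291087100451746021418)))) (.node (.node (.node (.leaf (nat_lit
    5314972681794727772170)) (.leaf (nat_lit 795497807308007245595205124850666758209593))) (.leaf
    (nat_lit 74439862073360420))) (.node (.leaf (nat_lit 0)) (.leaf (nat_lit 0))))) (.node (.node
    (.node (.node (.leaf (nat_lit 27023904161857541)) (.leaf (nat_lit
    287307569249575074092411950446766363246649))) (.leaf (nat_lit 0))) (.node (.leaf (nat_lit 0))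
    (.leaf (nat_lit 0)))) (.node (.node (.leaf (nat_lit 0)) (.leaf (nat_lit 80346408473001986)))
    (.node (.leaf (nat_lit 0)) (.leaf (nat_lit 69794532389503709282356))))))) (.node (.node (.node
    (.node (.node (.node (.leaf (nat_lit 1)) (.leaf (nat_lit 17864862508990631361511479))) (.leaf
    (nat_lit 80220913823580162))) (.node (.leaf (nat_lit 0)) (.leaf (nat_lit
    38263012089783386152)))) (.node (.node (.node (.leaf (nat_lit 31604491078008841)) (.leaf
    (nat_lit 297878010865057794))) (.leaf (nat_lit 176902929759010838))) (.node (.leaf (nat_lit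
    25989182521148914860055)) (.leaf (nat_lit 100709634402353154))))) (.node (.node (.node (.node
    (.leaf (nat_lit 5314972655311959425028)) (.leaf (nat_lit 0))) (.leaf (nat_lit 0))) (.node
    (.leaf (nat_lit 87893108393705493)) (.leaf (nat_lit 0)))) (.node (.node (.node (.leaf (nat_lit
    58604197393924110)) (.leaf (nat_lit 43108586881026))) (.leaf (nat_lit 199572828004220965)))
    (.node (.leaf (nat_lit 0)) (.leaf (nat_lit 328706732195842)))))) (.node (.node (.node (.node
    (.node (.leaf (nat_lit 1)) (.leaf (nat_lit 0))) (.leaf (nat_lit 125949916086274))) (.node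
    (.leaf (nat_lit 86789005445890066)) (.leaf (nat_lit 0)))) (.node (.node (.node (.leaf (nat_lit
    0)) (.leaf (nat_lit 660986877050882))) (.leaf (nat_lit 76691679066914840))) (.node (.leaf
    (nat_lit 51884214253191193)) (.leaf (nat_lit 109387023118434329))))) (.node (.node (.node
    (.node (.leaf (nat_lit 0)) (.leaf (nat_lit 261834452043497474))) (.leaf (nat_lit
    173712507792457743))) (.node (.leaf (nat_lit 0)) (.leaf (nat_lit 241304160476266543)))) (.node
    (.node (.leaf (nat_lit 0)) (.leaf (nat_lit 174925973492531202))) (.node (.leaf (nat_lit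
    21264505729148313206813)) (.leaf (nat_lit 127569216976248373301)))))))))

/-- Certificate data. -/
def p00_rel : Trie :=
    (.node (.node (.node (.node (.node (.node (.leaf (nat_lit 0)) (.leaf (nat_lit 101058054)))
    (.node (.leaf (nat_lit 67502341)) (.leaf (nat_lit 60164014351)))) (.node (.node (.leaf (nat_lit
    6640103655942)) (.leaf (nat_lit 7739648836874))) (.node (.leaf (nat_lit 84216073)) (.leaf
    (nat_lit 11003773977345))))) (.node (.node (.node (.leaf (nat_lit 65793)) (.leaf (nat_lit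
    201723397))) (.node (.leaf (nat_lit 134612488)) (.leaf (nat_lit 2229122040327)))) (.node (.node
    (.leaf (nat_lit 67175170)) (.leaf (nat_lit 252448524))) (.leaf (nat_lit
    3723538914965537180174780937))))) (.node (.node (.node (.node (.leaf (nat_lit 11025265265159))
    (.leaf (nat_lit 117835526))) (.node (.leaf (nat_lit 84084226)) (.leaf (nat_lit 51758108421))))
    (.node (.node (.leaf (nat_lit 151323913)) (.leaf (nat_lit 218893580))) (.leaf (nat_lit
    201460737)))) (.node (.node (.node (.leaf (nat_lit 1142495119875)) (.leaf (nat_lit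
    30199318281))) (.node (.leaf (nat_lit 151390214)) (.leaf (nat_lit 8839227902220)))) (.node
    (.node (.leaf (nat_lit 84018692)) (.leaf (nat_lit 36387120366767566187149146540409350))) (.leaf
    (nat_lit 84149761)))))) (.node (.node (.node (.node (.node (.leaf (nat_lit 11033972836875))
    (.leaf (nat_lit 101058568))) (.node (.leaf (nat_lit 84215045)) (.leaf (nat_lit 218435334))))
    (.node (.node (.leaf (nat_lit 84346119)) (.leaf (nat_lit 118228748))) (.leaf (nat_lit
    25921259527)))) (.node (.node (.node (.leaf (nat_lit 17498379)) (.leaf (nat_lit 235343367)))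
    (.node (.leaf (nat_lit 7700993869569)) (.leaf (nat_lit 12137729361930)))) (.node (.node (.leaf
    (nat_lit 100795651)) (.leaf (nat_lit 251727362))) (.leaf (nat_lit 8657633544))))) (.node (.node
    (.node (.node (.leaf (nat_lit 184683266)) (.leaf (nat_lit 101451022))) (.node (.leaf (nat_lit
    83953155)) (.leaf (nat_lit 64542936071)))) (.node (.node (.leaf (nat_lit 34410137858)) (.leaf
    (nat_lit 235671052))) (.leaf (nat_lit 13228667767305)))) (.node (.node (.node (.leaf (nat_lit
    33816835)) (.leaf (nat_lit 30216226821))) (.node (.leaf (nat_lit 151324677)) (.leaf (nat_lit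
    2799910162278689748133087242)))) (.node (.node (.leaf (nat_lit 100861185)) (.leaf (nat_lit
    38688785153))) (.leaf (nat_lit 100926722)))))))

/-- Certificate data. -/
def p00_rc : Trie :=
    (.node (.node (.node (.node (.node (.node (.leaf (nat_lit 98)) (.leaf (nat_lit 3))) (.node
    (.leaf (nat_lit 4)) (.leaf (nat_lit 131117)))) (.node (.node (.leaf (nat_lit 655436)) (.leaf
    (nat_lit 655455))) (.node (.leaf (nat_lit 262213)) (.leaf (nat_lit 131150))))) (.node (.node
    (.node (.leaf (nat_lit 0)) (.leaf (nat_lit 52))) (.node (.leaf (nat_lit 131140)) (.leaf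
    (nat_lit 131087)))) (.node (.node (.leaf (nat_lit 393225)) (.leaf (nat_lit 32))) (.leaf
    (nat_lit 393308))))) (.node (.node (.node (.node (.leaf (nat_lit 524383)) (.leaf (nat_lit 13)))
    (.node (.leaf (nat_lit 262149)) (.leaf (nat_lit 54)))) (.node (.node (.leaf (nat_lit 393285))
    (.leaf (nat_lit 28))) (.leaf (nat_lit 40)))) (.node (.node (.node (.leaf (nat_lit 262222))
    (.leaf (nat_lit 262214))) (.node (.leaf (nat_lit 67)) (.leaf (nat_lit 262234)))) (.node (.node
    (.leaf (nat_lit 262151)) (.leaf (nat_lit 19))) (.leaf (nat_lit 131076)))))) (.node (.node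
    (.node (.node (.node (.leaf (nat_lit 655450)) (.leaf (nat_lit 68))) (.node (.leaf (nat_lit 2))
    (.leaf (nat_lit 262194)))) (.node (.node (.leaf (nat_lit 12)) (.leaf (nat_lit 131128))) (.leaf
    (nat_lit 131143)))) (.node (.node (.node (.leaf (nat_lit 96)) (.leaf (nat_lit 60))) (.node
    (.leaf (nat_lit 131086)) (.leaf (nat_lit 90)))) (.node (.node (.leaf (nat_lit 5)) (.leaf
    (nat_lit 262190))) (.leaf (nat_lit 64))))) (.node (.node (.node (.node (.leaf (nat_lit 97))
    (.leaf (nat_lit 393264))) (.node (.leaf (nat_lit 131078)) (.leaf (nat_lit 524351)))) (.node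
    (.node (.leaf (nat_lit 393281)) (.leaf (nat_lit 30))) (.leaf (nat_lit 393306)))) (.node (.node
    (.node (.leaf (nat_lit 9)) (.leaf (nat_lit 524358))) (.node (.leaf (nat_lit 393282)) (.leaf
    (nat_lit 92)))) (.node (.node (.leaf (nat_lit 393222)) (.leaf (nat_lit 65))) (.leaf (nat_lit
    7)))))))

/-- Certificate data. -/
def p00_lv : Trie :=
    (.leaf (nat_lit 0))

/-- Certificate data. -/
def p00_tb : Trie :=
    (.node (.node (.node (.node (.leaf (nat_lit 0)) (.leaf (nat_lit 17))) (.leaf (nat_lit 8)))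
    (.node (.leaf (nat_lit 4)) (.leaf (nat_lit 13)))) (.node (.node (.node (.leaf (nat_lit 2))
    (.leaf (nat_lit 311))) (.leaf (nat_lit 11))) (.node (.leaf (nat_lit 7)) (.leaf (nat_lit 15)))))

/-- Certificate data. -/
def p00_C : TC.Cert := ⟨6, 63, 9, 511, 20011376718272485634933414101046592000, 62462, p00_par, p00_fact, p00_just, p00_rel, 57⟩

/-- Certificate data. -/
def p00_rs : List (List ℕ) := [[1, 1, 1], [5, 5, 5, 5], [5, 1, 6, 4], [5, 3, 6, 1], [1, 3, 2, 4], [7, 7], [7, 5, 7, 5], [7, 1, 7, 1, 7, 1], [7, 3, 7, 3, 7, 3, 7, 3], [7, 1, 5, 7, 1, 5, 7, 1, 5, 7, 1, 5, 7, 1, 5], [12, 12], [13, 13], [14, 14], [15, 15], [12, 13, 12, 13], [12, 14, 12, 14], [12, 15, 12, 15], [13, 14, 13, 14], [13, 15, 13, 15], [14, 15, 14, 15], [1, 12, 2, 12], [1, 13, 2, 13], [1, 14, 2, 15, 14], [1, 15, 2, 14], [5, 12, 6, 14], [5, 13, 6, 15], [5, 14, 6, 12], [5, 15, 6, 13, 12], [7, 12, 7, 12], [7, 13, 7, 14, 13, 12], [7, 14, 7, 14], [7, 15, 7, 15, 12], [8, 1, 9, 4, 2], [8, 5, 9, 5], [8, 8, 6, 6], [8, 7, 9, 7, 5], [8,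 12, 14, 9, 12, 14, 8, 12, 14, 9, 12, 14, 6, 6], [10, 10], [10, 5, 5, 10, 6, 6], [10, 1, 3, 10, 4, 2], [10, 12, 10, 12], [10, 13, 10, 13], [10, 14, 10, 14, 12], [10, 15, 10, 15, 13, 12], [11, 11], [10, 8, 12, 9, 10, 11], [10, 8, 12, 9, 10, 8, 12, 9, 10, 8, 12, 9], [10, 7, 10, 7, 6, 6], [11, 1, 11, 1]]

/-- Certificate data. -/
def p00_gl : List ℕ := [1, 259, 517, 775, 1032, 1292, 1549, 1806, 2063, 2314]

theorem p00_h1 : allB p00_C.factChk 156 = true := by decide +kernel

theorem p00_h2 : p00_C.finChk 156 1 p00_lv p00_tb p00_gl = true := by decide +kernel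

theorem p00_h3 : TC.relChk p00_C.ivc p00_rs p00_C.rel p00_rc p00_C.nrel = true := by decide +kernel

theorem p00_bound {G : Type*} [Group G] {x y w u q f s a b c d : G}
    (r0 : x * x * x = 1)
    (r1 : w * w * w * w = 1)
    (r2 : w * x * w⁻¹ * y⁻¹ = 1)
    (r3 : w * y * w⁻¹ * x = 1)
    (r4 : x * y * x⁻¹ * y⁻¹ = 1)
    (r5 : u * u = 1)
    (r6 : u * w * u * w = 1)
    (r7 : u * x * u * x * u * x = 1)
    (r8 : u * y * u * y * u * y * u * y = 1)
    (r9 : u * x * w * u * x * w * u * x * w * u * x * w * u * x * w = 1)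
    (r10 : a * a = 1)
    (r11 : b * b = 1)
    (r12 : c * c = 1)
    (r13 : d * d = 1)
    (r14 : a * b * a * b = 1)
    (r15 : a * c * a * c = 1)
    (r16 : a * d * a * d = 1)
    (r17 : b * c * b * c = 1)
    (r18 : b * d * b * d = 1)
    (r19 : c * d * c * d = 1)
    (r20 : x * a * x⁻¹ * a = 1)
    (r21 : x * b * x⁻¹ * b = 1)
    (r22 : x * c * x⁻¹ * d * c = 1)
    (r23 : x * d * x⁻¹ * c = 1)
    (r24 : w * a * w⁻¹ * c = 1)
    (r25 : w * b * w⁻¹ * d = 1)
    (r26 : w * c * w⁻¹ * a = 1)
    (r27 : w * d * w⁻¹ * b * a = 1)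
    (r28 : u * a * u * a = 1)
    (r29 : u * b * u * c * b * a = 1)
    (r30 : u * c * u * c = 1)
    (r31 : u * d * u * d * a = 1)
    (r32 : q * x * q⁻¹ * y⁻¹ * x⁻¹ = 1)
    (r33 : q * w * q⁻¹ * w = 1)
    (r34 : q * q * w⁻¹ * w⁻¹ = 1)
    (r35 : q * u * q⁻¹ * u * w = 1)
    (r36 : q * a * c * q⁻¹ * a * c * q * a * c * q⁻¹ * a * c * w⁻¹ * w⁻¹ = 1)
    (r37 : f * f = 1)
    (r38 : f * w * w * f * w⁻¹ * w⁻¹ = 1)
    (r39 : f * x * y * f * y⁻¹ * x⁻¹ = 1)
    (r40 : f * a * f * a = 1)
    (r41 : f * b * f * b = 1)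
    (r42 : f * c * f * c * a = 1)
    (r43 : f * d * f * d * b * a = 1)
    (r44 : s * s = 1)
    (r45 : f * q * a * q⁻¹ * f * s = 1)
    (r46 : f * q * a * q⁻¹ * f * q * a * q⁻¹ * f * q * a * q⁻¹ = 1)
    (r47 : f * u * f * u * w⁻¹ * w⁻¹ = 1)
    (r48 : s * x * s * x = 1)
    (H : Subgroup G) [Finite H] (m1 : x ∈ H) (m3 : y ∈ H) (m5 : w ∈ H) (m7 : u ∈ H) (m8 : q ∈ H) (m12 : a ∈ H) (m13 : b ∈ H) (m14 : c ∈ H) (m15 : d ∈ H) :
    Finite (Subgroup.closure ({x, y, w, u, q, a, b, c, d, f} : Set G)) ∧
      Nat.card (Subgroup.closure ({x, y, w, u, q, a, b, c, d, f} : Set G)) ≤ 1 * Nat.card H := by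
  have hL : TC.Lett (TC.lett [x, x⁻¹, y, y⁻¹, w, w⁻¹, u, q, q⁻¹, f, s, a, b, c, d]) p00_C.ivc :=
    TC.lett_ok (show Nat.shiftRight p00_C.ivc (8 * 16) = 0 by decide +kernel) (by
      intro a ha
      change a < 16 at ha
      interval_cases a
      · exact inv_one.symm
      · rfl
      · exact (inv_inv _).symm
      · rfl
      · exact (inv_inv _).symm
      · rfl
      · exact (inv_inv _).symm
      · exact (inv_eq_of_mul_eq_one_right r5).symm
      · rfl
      · exact (inv_inv _).symm
      · exact (inv_eq_of_mul_eq_one_right r37).symm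
      · exact (inv_eq_of_mul_eq_one_right r44).symm
      · exact (inv_eq_of_mul_eq_one_right r10).symm
      · exact (inv_eq_of_mul_eq_one_right r11).symm
      · exact (inv_eq_of_mul_eq_one_right r12).symm
      · exact (inv_eq_of_mul_eq_one_right r13).symm)
  have h := TC.card_le p00_h1 p00_h2 p00_h3 (by decide) hL (by
    simp only [p00_rs, List.forall_mem_cons]
    refine ⟨?_, ?_, ?_, ?_, ?_, ?_, ?_, ?_, ?_, ?_, ?_, ?_, ?_, ?_, ?_, ?_, ?_, ?_, ?_, ?_, ?_, ?_,
    ?_, ?_, ?_, ?_, ?_, ?_, ?_, ?_, ?_, ?_, ?_, ?_, ?_, ?_, ?_, ?_, ?_, ?_, ?_, ?_, ?_, ?_, ?_, ?_,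
    ?_, ?_, ?_, List.forall_mem_nil _⟩
    · show x * (x * (x * 1)) = 1
      simp only [mul_assoc, mul_one] at r0 ⊢
      exact r0
    · show w * (w * (w * (w * 1))) = 1
      simp only [mul_assoc, mul_one] at r1 ⊢
      exact r1
    · show w * (x * (w⁻¹ * (y⁻¹ * 1))) = 1
      simp only [mul_assoc, mul_one] at r2 ⊢
      exact r2
    · show w * (y * (w⁻¹ * (x * 1))) = 1
      simp only [mul_assoc, mul_one] at r3 ⊢
      exact r3
    · show x * (y * (x⁻¹ * (y⁻¹ * 1))) = 1
      simp only [mul_assoc, mul_one] at r4 ⊢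
      exact r4
    · show u * (u * 1) = 1
      simp only [mul_one] at r5 ⊢
      exact r5
    · show u * (w * (u * (w * 1))) = 1
      simp only [mul_assoc, mul_one] at r6 ⊢
      exact r6
    · show u * (x * (u * (x * (u * (x * 1))))) = 1
      simp only [mul_assoc, mul_one] at r7 ⊢
      exact r7
    · show u * (y * (u * (y * (u * (y * (u * (y * 1))))))) = 1
      simp only [mul_assoc, mul_one] at r8 ⊢
      exact r8
    · show u * (x * (w * (u * (x * (w * (u * (x * (w * (u * (x * (w * (u * (x * (w *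
    1)))))))))))))) = 1
      simp only [mul_assoc, mul_one] at r9 ⊢
      exact r9
    · show a * (a * 1) = 1
      simp only [mul_one] at r10 ⊢
      exact r10
    · show b * (b * 1) = 1
      simp only [mul_one] at r11 ⊢
      exact r11
    · show c * (c * 1) = 1
      simp only [mul_one] at r12 ⊢
      exact r12
    · show d * (d * 1) = 1
      simp only [mul_one] at r13 ⊢
      exact r13
    · show a * (b * (a * (b * 1))) = 1
      simp only [mul_assoc, mul_one] at r14 ⊢
      exact r14
    · show a * (c * (a * (c * 1))) = 1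
      simp only [mul_assoc, mul_one] at r15 ⊢
      exact r15
    · show a * (d * (a * (d * 1))) = 1
      simp only [mul_assoc, mul_one] at r16 ⊢
      exact r16
    · show b * (c * (b * (c * 1))) = 1
      simp only [mul_assoc, mul_one] at r17 ⊢
      exact r17
    · show b * (d * (b * (d * 1))) = 1
      simp only [mul_assoc, mul_one] at r18 ⊢
      exact r18
    · show c * (d * (c * (d * 1))) = 1
      simp only [mul_assoc, mul_one] at r19 ⊢
      exact r19
    · show x * (a * (x⁻¹ * (a * 1))) = 1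
      simp only [mul_assoc, mul_one] at r20 ⊢
      exact r20
    · show x * (b * (x⁻¹ * (b * 1))) = 1
      simp only [mul_assoc, mul_one] at r21 ⊢
      exact r21
    · show x * (c * (x⁻¹ * (d * (c * 1)))) = 1
      simp only [mul_assoc, mul_one] at r22 ⊢
      exact r22
    · show x * (d * (x⁻¹ * (c * 1))) = 1
      simp only [mul_assoc, mul_one] at r23 ⊢
      exact r23
    · show w * (a * (w⁻¹ * (c * 1))) = 1
      simp only [mul_assoc, mul_one] at r24 ⊢
      exact r24
    · show w * (b * (w⁻¹ * (d * 1))) = 1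
      simp only [mul_assoc, mul_one] at r25 ⊢
      exact r25
    · show w * (c * (w⁻¹ * (a * 1))) = 1
      simp only [mul_assoc, mul_one] at r26 ⊢
      exact r26
    · show w * (d * (w⁻¹ * (b * (a * 1)))) = 1
      simp only [mul_assoc, mul_one] at r27 ⊢
      exact r27
    · show u * (a * (u * (a * 1))) = 1
      simp only [mul_assoc, mul_one] at r28 ⊢
      exact r28
    · show u * (b * (u * (c * (b * (a * 1))))) = 1
      simp only [mul_assoc, mul_one] at r29 ⊢
      exact r29
    · show u * (c * (u * (c * 1))) = 1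
      simp only [mul_assoc, mul_one] at r30 ⊢
      exact r30
    · show u * (d * (u * (d * (a * 1)))) = 1
      simp only [mul_assoc, mul_one] at r31 ⊢
      exact r31
    · show q * (x * (q⁻¹ * (y⁻¹ * (x⁻¹ * 1)))) = 1
      simp only [mul_assoc, mul_one] at r32 ⊢
      exact r32
    · show q * (w * (q⁻¹ * (w * 1))) = 1
      simp only [mul_assoc, mul_one] at r33 ⊢
      exact r33
    · show q * (q * (w⁻¹ * (w⁻¹ * 1))) = 1
      simp only [mul_assoc, mul_one] at r34 ⊢
      exact r34
    · show q * (u * (q⁻¹ * (u * (w * 1)))) = 1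
      simp only [mul_assoc, mul_one] at r35 ⊢
      exact r35
    · show q * (a * (c * (q⁻¹ * (a * (c * (q * (a * (c * (q⁻¹ * (a * (c * (w⁻¹ * (w⁻¹ *
    1))))))))))))) = 1
      simp only [mul_assoc, mul_one] at r36 ⊢
      exact r36
    · show f * (f * 1) = 1
      simp only [mul_one] at r37 ⊢
      exact r37
    · show f * (w * (w * (f * (w⁻¹ * (w⁻¹ * 1))))) = 1
      simp only [mul_assoc, mul_one] at r38 ⊢
      exact r38
    · show f * (x * (y * (f * (y⁻¹ * (x⁻¹ * 1))))) = 1
      simp only [mul_assoc, mul_one] at r39 ⊢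
      exact r39
    · show f * (a * (f * (a * 1))) = 1
      simp only [mul_assoc, mul_one] at r40 ⊢
      exact r40
    · show f * (b * (f * (b * 1))) = 1
      simp only [mul_assoc, mul_one] at r41 ⊢
      exact r41
    · show f * (c * (f * (c * (a * 1)))) = 1
      simp only [mul_assoc, mul_one] at r42 ⊢
      exact r42
    · show f * (d * (f * (d * (b * (a * 1))))) = 1
      simp only [mul_assoc, mul_one] at r43 ⊢
      exact r43
    · show s * (s * 1) = 1
      simp only [mul_one] at r44 ⊢
      exact r44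
    · show f * (q * (a * (q⁻¹ * (f * (s * 1))))) = 1
      simp only [mul_assoc, mul_one] at r45 ⊢
      exact r45
    · show f * (q * (a * (q⁻¹ * (f * (q * (a * (q⁻¹ * (f * (q * (a * (q⁻¹ * 1))))))))))) = 1
      simp only [mul_assoc, mul_one] at r46 ⊢
      exact r46
    · show f * (u * (f * (u * (w⁻¹ * (w⁻¹ * 1))))) = 1
      simp only [mul_assoc, mul_one] at r47 ⊢
      exact r47
    · show s * (x * (s * (x * 1))) = 1
      simp only [mul_assoc, mul_one] at r48 ⊢
      exact r48) H
    (TC.forall_subs (K := 16) (by decide +kernel) (by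
      intro a ha hb
      interval_cases a
      · exact absurd hb (by decide +kernel)
      · exact m1
      · exact H.inv_mem m1
      · exact m3
      · exact H.inv_mem m3
      · exact m5
      · exact H.inv_mem m5
      · exact m7
      · exact m8
      · exact H.inv_mem m8
      · exact absurd hb (by decide +kernel)
      · exact absurd hb (by decide +kernel)
      · exact m12
      · exact m13
      · exact m14
      · exact m15))
  have e : {g₀ | ∃ ak ∈ p00_gl, TC.lett [x, x⁻¹, y, y⁻¹, w, w⁻¹, u, q, q⁻¹, f, s, a, b, c, d] (ak % 256) = g₀} =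
      {x, y, w, u, q, a, b, c, d, f} := by
    ext g₀
    simp only [p00_gl, List.mem_cons, List.not_mem_nil, or_false, exists_eq_or_imp,
      exists_eq_left, Set.mem_ofPred_eq, Set.mem_insert_iff, Set.mem_singleton_iff]
    exact or_congr eq_comm (or_congr eq_comm (or_congr eq_comm (or_congr eq_comm (or_congr eq_comm (or_congr eq_comm (or_congr eq_comm (or_congr eq_comm (or_congr eq_comm (eq_comm)))))))))
  rw [e] at h
  exact h

theorem p00_card {G : Type*} [Group G] {x y w u q f s a b c d : G}
    (e0 : x ^ 3 = 1)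
    (e1 : w ^ 4 = 1)
    (e2 : w * x * w⁻¹ = y)
    (e3 : w * y * w⁻¹ = x⁻¹)
    (e4 : x * y = y * x)
    (e5 : u * u = 1)
    (e6 : u * w * u = w⁻¹)
    (e7 : (u * x) ^ 3 = 1)
    (e8 : (u * y) ^ 4 = 1)
    (e9 : (u * x * w) ^ 5 = 1)
    (e10 : a * a = 1)
    (e11 : b * b = 1)
    (e12 : c * c = 1)
    (e13 : d * d = 1)
    (e14 : a * b = b * a)
    (e15 : a * c = c * a)
    (e16 : a * d = d * a)
    (e17 : b * c = c * b)
    (e18 : b * d = d * b)
    (e19 : c * d = d * c)
    (e20 : x * a * x⁻¹ = a)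
    (e21 : x * b * x⁻¹ = b)
    (e22 : x * c * x⁻¹ = c * d)
    (e23 : x * d * x⁻¹ = c)
    (e24 : w * a * w⁻¹ = c)
    (e25 : w * b * w⁻¹ = d)
    (e26 : w * c * w⁻¹ = a)
    (e27 : w * d * w⁻¹ = a * b)
    (e28 : u * a * u = a)
    (e29 : u * b * u = a * b * c)
    (e30 : u * c * u = c)
    (e31 : u * d * u = a * d)
    (e32 : q * x * q⁻¹ = x * y)
    (e33 : q * w * q⁻¹ = w⁻¹)
    (e34 : q * q = w * w)
    (e35 : q * u * q⁻¹ = w⁻¹ * u)
    (e36 : (q * (a * c) * q⁻¹ * (a * c)) ^ 2 = w * w)
    (e37 : f * f = 1)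
    (e38 : f * (w * w) = w * w * f)
    (e39 : f * (x * y) = x * y * f)
    (e40 : f * a * f = a)
    (e41 : f * b * f = b)
    (e42 : f * c * f = a * c)
    (e43 : f * d * f = a * b * d)
    (e44 : s * s = 1)
    (e45 : f * (q * a * q⁻¹) * f = s)
    (e46 : (f * (q * a * q⁻¹)) ^ 3 = 1)
    (e47 : f * u * f = w * w * u)
    (e48 : s * x * s = x⁻¹)
    (H : Subgroup G) [Finite H] (mx : x ∈ H) (my : y ∈ H) (mw : w ∈ H) (mu : u ∈ H) (mq : q ∈ H) (ma : a ∈ H) (mb : b ∈ H) (mc : c ∈ H) (md : d ∈ H) :
    Finite (Subgroup.closure ({x, y, w, u, q, a, b, c, d, f} : Set G)) ∧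
      Nat.card (Subgroup.closure ({x, y, w, u, q, a, b, c, d, f} : Set G)) ≤ 1 * Nat.card H := by
  have iu : u⁻¹ = u := inv_eq_of_mul_eq_one_right e5
  have jf : f⁻¹ = f := inv_eq_of_mul_eq_one_right e37
  have is : s⁻¹ = s := inv_eq_of_mul_eq_one_right e44
  have ia : a⁻¹ = a := inv_eq_of_mul_eq_one_right e10
  have ib : b⁻¹ = b := inv_eq_of_mul_eq_one_right e11
  have ic : c⁻¹ = c := inv_eq_of_mul_eq_one_right e12
  have id : d⁻¹ = d := inv_eq_of_mul_eq_one_right e13
  refine p00_bound (s := s) ?_ ?_ ?_ ?_ ?_ ?_ ?_ ?_ ?_ ?_ ?_ ?_ ?_ ?_ ?_ ?_ ?_ ?_ ?_ ?_ ?_ ?_ ?_ ?_ ?_ ?_ ?_ ?_ ?_ ?_ ?_ ?_ ?_ ?_ ?_ ?_ ?_ ?_ ?_ ?_ ?_ ?_ ?_ ?_ ?_ ?_ ?_ ?_ ?_ H mx my mw mu mq ma mb mc md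
  · have h := mul_inv_eq_one.mpr e0
    simp only [pow_succ, pow_zero, mul_inv_rev, inv_inv, inv_one, one_mul, mul_one, mul_assoc,
      mul_inv_cancel_left, inv_mul_cancel_left, mul_inv_cancel, inv_mul_cancel, iu, jf, is, ia, ib, ic, id] at h ⊢
    exact h
  · have h := mul_inv_eq_one.mpr e1
    simp only [pow_succ, pow_zero, mul_inv_rev, inv_inv, inv_one, one_mul, mul_one, mul_assoc,
      mul_inv_cancel_left, inv_mul_cancel_left, mul_inv_cancel, inv_mul_cancel, iu, jf, is, ia, ib, ic, id] at h ⊢
    exact h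
  · have h := mul_inv_eq_one.mpr e2
    simp only [pow_succ, pow_zero, mul_inv_rev, inv_inv, inv_one, one_mul, mul_one, mul_assoc,
      mul_inv_cancel_left, inv_mul_cancel_left, mul_inv_cancel, inv_mul_cancel, iu, jf, is, ia, ib, ic, id] at h ⊢
    exact h
  · have h := mul_inv_eq_one.mpr e3
    simp only [pow_succ, pow_zero, mul_inv_rev, inv_inv, inv_one, one_mul, mul_one, mul_assoc,
      mul_inv_cancel_left, inv_mul_cancel_left, mul_inv_cancel, inv_mul_cancel, iu, jf, is, ia, ib, ic, id] at h ⊢
    exact h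
  · have h := mul_inv_eq_one.mpr e4
    simp only [pow_succ, pow_zero, mul_inv_rev, inv_inv, inv_one, one_mul, mul_one, mul_assoc,
      mul_inv_cancel_left, inv_mul_cancel_left, mul_inv_cancel, inv_mul_cancel, iu, jf, is, ia, ib, ic, id] at h ⊢
    exact h
  · have h := mul_inv_eq_one.mpr e5
    simp only [pow_succ, pow_zero, mul_inv_rev, inv_inv, inv_one, one_mul, mul_one, mul_assoc,
      mul_inv_cancel_left, inv_mul_cancel_left, mul_inv_cancel, inv_mul_cancel, iu, jf, is, ia, ib, ic, id] at h ⊢
    exact h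
  · have h := mul_inv_eq_one.mpr e6
    simp only [pow_succ, pow_zero, mul_inv_rev, inv_inv, inv_one, one_mul, mul_one, mul_assoc,
      mul_inv_cancel_left, inv_mul_cancel_left, mul_inv_cancel, inv_mul_cancel, iu, jf, is, ia, ib, ic, id] at h ⊢
    exact h
  · have h := mul_inv_eq_one.mpr e7
    simp only [pow_succ, pow_zero, mul_inv_rev, inv_inv, inv_one, one_mul, mul_one, mul_assoc,
      mul_inv_cancel_left, inv_mul_cancel_left, mul_inv_cancel, inv_mul_cancel, iu, jf, is, ia, ib, ic, id] at h ⊢
    exact h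
  · have h := mul_inv_eq_one.mpr e8
    simp only [pow_succ, pow_zero, mul_inv_rev, inv_inv, inv_one, one_mul, mul_one, mul_assoc,
      mul_inv_cancel_left, inv_mul_cancel_left, mul_inv_cancel, inv_mul_cancel, iu, jf, is, ia, ib, ic, id] at h ⊢
    exact h
  · have h := mul_inv_eq_one.mpr e9
    simp only [pow_succ, pow_zero, mul_inv_rev, inv_inv, inv_one, one_mul, mul_one, mul_assoc,
      mul_inv_cancel_left, inv_mul_cancel_left, mul_inv_cancel, inv_mul_cancel, iu, jf, is, ia, ib, ic, id] at h ⊢
    exact h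
  · have h := mul_inv_eq_one.mpr e10
    simp only [pow_succ, pow_zero, mul_inv_rev, inv_inv, inv_one, one_mul, mul_one, mul_assoc,
      mul_inv_cancel_left, inv_mul_cancel_left, mul_inv_cancel, inv_mul_cancel, iu, jf, is, ia, ib, ic, id] at h ⊢
    exact h
  · have h := mul_inv_eq_one.mpr e11
    simp only [pow_succ, pow_zero, mul_inv_rev, inv_inv, inv_one, one_mul, mul_one, mul_assoc,
      mul_inv_cancel_left, inv_mul_cancel_left, mul_inv_cancel, inv_mul_cancel, iu, jf, is, ia, ib, ic, id] at h ⊢
    exact h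
  · have h := mul_inv_eq_one.mpr e12
    simp only [pow_succ, pow_zero, mul_inv_rev, inv_inv, inv_one, one_mul, mul_one, mul_assoc,
      mul_inv_cancel_left, inv_mul_cancel_left, mul_inv_cancel, inv_mul_cancel, iu, jf, is, ia, ib, ic, id] at h ⊢
    exact h
  · have h := mul_inv_eq_one.mpr e13
    simp only [pow_succ, pow_zero, mul_inv_rev, inv_inv, inv_one, one_mul, mul_one, mul_assoc,
      mul_inv_cancel_left, inv_mul_cancel_left, mul_inv_cancel, inv_mul_cancel, iu, jf, is, ia, ib, ic, id] at h ⊢
    exact h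
  · have h := mul_inv_eq_one.mpr e14
    simp only [pow_succ, pow_zero, mul_inv_rev, inv_inv, inv_one, one_mul, mul_one, mul_assoc,
      mul_inv_cancel_left, inv_mul_cancel_left, mul_inv_cancel, inv_mul_cancel, iu, jf, is, ia, ib, ic, id] at h ⊢
    exact h
  · have h := mul_inv_eq_one.mpr e15
    simp only [pow_succ, pow_zero, mul_inv_rev, inv_inv, inv_one, one_mul, mul_one, mul_assoc,
      mul_inv_cancel_left, inv_mul_cancel_left, mul_inv_cancel, inv_mul_cancel, iu, jf, is, ia, ib, ic, id] at h ⊢
    exact h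
  · have h := mul_inv_eq_one.mpr e16
    simp only [pow_succ, pow_zero, mul_inv_rev, inv_inv, inv_one, one_mul, mul_one, mul_assoc,
      mul_inv_cancel_left, inv_mul_cancel_left, mul_inv_cancel, inv_mul_cancel, iu, jf, is, ia, ib, ic, id] at h ⊢
    exact h
  · have h := mul_inv_eq_one.mpr e17
    simp only [pow_succ, pow_zero, mul_inv_rev, inv_inv, inv_one, one_mul, mul_one, mul_assoc,
      mul_inv_cancel_left, inv_mul_cancel_left, mul_inv_cancel, inv_mul_cancel, iu, jf, is, ia, ib, ic, id] at h ⊢
    exact h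
  · have h := mul_inv_eq_one.mpr e18
    simp only [pow_succ, pow_zero, mul_inv_rev, inv_inv, inv_one, one_mul, mul_one, mul_assoc,
      mul_inv_cancel_left, inv_mul_cancel_left, mul_inv_cancel, inv_mul_cancel, iu, jf, is, ia, ib, ic, id] at h ⊢
    exact h
  · have h := mul_inv_eq_one.mpr e19
    simp only [pow_succ, pow_zero, mul_inv_rev, inv_inv, inv_one, one_mul, mul_one, mul_assoc,
      mul_inv_cancel_left, inv_mul_cancel_left, mul_inv_cancel, inv_mul_cancel, iu, jf, is, ia, ib, ic, id] at h ⊢
    exact h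
  · have h := mul_inv_eq_one.mpr e20
    simp only [pow_succ, pow_zero, mul_inv_rev, inv_inv, inv_one, one_mul, mul_one, mul_assoc,
      mul_inv_cancel_left, inv_mul_cancel_left, mul_inv_cancel, inv_mul_cancel, iu, jf, is, ia, ib, ic, id] at h ⊢
    exact h
  · have h := mul_inv_eq_one.mpr e21
    simp only [pow_succ, pow_zero, mul_inv_rev, inv_inv, inv_one, one_mul, mul_one, mul_assoc,
      mul_inv_cancel_left, inv_mul_cancel_left, mul_inv_cancel, inv_mul_cancel, iu, jf, is, ia, ib, ic, id] at h ⊢
    exact h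
  · have h := mul_inv_eq_one.mpr e22
    simp only [pow_succ, pow_zero, mul_inv_rev, inv_inv, inv_one, one_mul, mul_one, mul_assoc,
      mul_inv_cancel_left, inv_mul_cancel_left, mul_inv_cancel, inv_mul_cancel, iu, jf, is, ia, ib, ic, id] at h ⊢
    exact h
  · have h := mul_inv_eq_one.mpr e23
    simp only [pow_succ, pow_zero, mul_inv_rev, inv_inv, inv_one, one_mul, mul_one, mul_assoc,
      mul_inv_cancel_left, inv_mul_cancel_left, mul_inv_cancel, inv_mul_cancel, iu, jf, is, ia, ib, ic, id] at h ⊢
    exact h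
  · have h := mul_inv_eq_one.mpr e24
    simp only [pow_succ, pow_zero, mul_inv_rev, inv_inv, inv_one, one_mul, mul_one, mul_assoc,
      mul_inv_cancel_left, inv_mul_cancel_left, mul_inv_cancel, inv_mul_cancel, iu, jf, is, ia, ib, ic, id] at h ⊢
    exact h
  · have h := mul_inv_eq_one.mpr e25
    simp only [pow_succ, pow_zero, mul_inv_rev, inv_inv, inv_one, one_mul, mul_one, mul_assoc,
      mul_inv_cancel_left, inv_mul_cancel_left, mul_inv_cancel, inv_mul_cancel, iu, jf, is, ia, ib, ic, id] at h ⊢
    exact h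
  · have h := mul_inv_eq_one.mpr e26
    simp only [pow_succ, pow_zero, mul_inv_rev, inv_inv, inv_one, one_mul, mul_one, mul_assoc,
      mul_inv_cancel_left, inv_mul_cancel_left, mul_inv_cancel, inv_mul_cancel, iu, jf, is, ia, ib, ic, id] at h ⊢
    exact h
  · have h := mul_inv_eq_one.mpr e27
    simp only [pow_succ, pow_zero, mul_inv_rev, inv_inv, inv_one, one_mul, mul_one, mul_assoc,
      mul_inv_cancel_left, inv_mul_cancel_left, mul_inv_cancel, inv_mul_cancel, iu, jf, is, ia, ib, ic, id] at h ⊢
    exact h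
  · have h := mul_inv_eq_one.mpr e28
    simp only [pow_succ, pow_zero, mul_inv_rev, inv_inv, inv_one, one_mul, mul_one, mul_assoc,
      mul_inv_cancel_left, inv_mul_cancel_left, mul_inv_cancel, inv_mul_cancel, iu, jf, is, ia, ib, ic, id] at h ⊢
    exact h
  · have h := mul_inv_eq_one.mpr e29
    simp only [pow_succ, pow_zero, mul_inv_rev, inv_inv, inv_one, one_mul, mul_one, mul_assoc,
      mul_inv_cancel_left, inv_mul_cancel_left, mul_inv_cancel, inv_mul_cancel, iu, jf, is, ia, ib, ic, id] at h ⊢
    exact h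
  · have h := mul_inv_eq_one.mpr e30
    simp only [pow_succ, pow_zero, mul_inv_rev, inv_inv, inv_one, one_mul, mul_one, mul_assoc,
      mul_inv_cancel_left, inv_mul_cancel_left, mul_inv_cancel, inv_mul_cancel, iu, jf, is, ia, ib, ic, id] at h ⊢
    exact h
  · have h := mul_inv_eq_one.mpr e31
    simp only [pow_succ, pow_zero, mul_inv_rev, inv_inv, inv_one, one_mul, mul_one, mul_assoc,
      mul_inv_cancel_left, inv_mul_cancel_left, mul_inv_cancel, inv_mul_cancel, iu, jf, is, ia, ib, ic, id] at h ⊢
    exact h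
  · have h := mul_inv_eq_one.mpr e32
    simp only [pow_succ, pow_zero, mul_inv_rev, inv_inv, inv_one, one_mul, mul_one, mul_assoc,
      mul_inv_cancel_left, inv_mul_cancel_left, mul_inv_cancel, inv_mul_cancel, iu, jf, is, ia, ib, ic, id] at h ⊢
    exact h
  · have h := mul_inv_eq_one.mpr e33
    simp only [pow_succ, pow_zero, mul_inv_rev, inv_inv, inv_one, one_mul, mul_one, mul_assoc,
      mul_inv_cancel_left, inv_mul_cancel_left, mul_inv_cancel, inv_mul_cancel, iu, jf, is, ia, ib, ic, id] at h ⊢
    exact h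
  · have h := mul_inv_eq_one.mpr e34
    simp only [pow_succ, pow_zero, mul_inv_rev, inv_inv, inv_one, one_mul, mul_one, mul_assoc,
      mul_inv_cancel_left, inv_mul_cancel_left, mul_inv_cancel, inv_mul_cancel, iu, jf, is, ia, ib, ic, id] at h ⊢
    exact h
  · have h := mul_inv_eq_one.mpr e35
    simp only [pow_succ, pow_zero, mul_inv_rev, inv_inv, inv_one, one_mul, mul_one, mul_assoc,
      mul_inv_cancel_left, inv_mul_cancel_left, mul_inv_cancel, inv_mul_cancel, iu, jf, is, ia, ib, ic, id] at h ⊢
    exact h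
  · have h := mul_inv_eq_one.mpr e36
    simp only [pow_succ, pow_zero, mul_inv_rev, inv_inv, inv_one, one_mul, mul_one, mul_assoc,
      mul_inv_cancel_left, inv_mul_cancel_left, mul_inv_cancel, inv_mul_cancel, iu, jf, is, ia, ib, ic, id] at h ⊢
    exact h
  · have h := mul_inv_eq_one.mpr e37
    simp only [pow_succ, pow_zero, mul_inv_rev, inv_inv, inv_one, one_mul, mul_one, mul_assoc,
      mul_inv_cancel_left, inv_mul_cancel_left, mul_inv_cancel, inv_mul_cancel, iu, jf, is, ia, ib, ic, id] at h ⊢
    exact h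
  · have h := mul_inv_eq_one.mpr e38
    simp only [pow_succ, pow_zero, mul_inv_rev, inv_inv, inv_one, one_mul, mul_one, mul_assoc,
      mul_inv_cancel_left, inv_mul_cancel_left, mul_inv_cancel, inv_mul_cancel, iu, jf, is, ia, ib, ic, id] at h ⊢
    exact h
  · have h := mul_inv_eq_one.mpr e39
    simp only [pow_succ, pow_zero, mul_inv_rev, inv_inv, inv_one, one_mul, mul_one, mul_assoc,
      mul_inv_cancel_left, inv_mul_cancel_left, mul_inv_cancel, inv_mul_cancel, iu, jf, is, ia, ib, ic, id] at h ⊢
    exact h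
  · have h := mul_inv_eq_one.mpr e40
    simp only [pow_succ, pow_zero, mul_inv_rev, inv_inv, inv_one, one_mul, mul_one, mul_assoc,
      mul_inv_cancel_left, inv_mul_cancel_left, mul_inv_cancel, inv_mul_cancel, iu, jf, is, ia, ib, ic, id] at h ⊢
    exact h
  · have h := mul_inv_eq_one.mpr e41
    simp only [pow_succ, pow_zero, mul_inv_rev, inv_inv, inv_one, one_mul, mul_one, mul_assoc,
      mul_inv_cancel_left, inv_mul_cancel_left, mul_inv_cancel, inv_mul_cancel, iu, jf, is, ia, ib, ic, id] at h ⊢
    exact h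
  · have h := mul_inv_eq_one.mpr e42
    simp only [pow_succ, pow_zero, mul_inv_rev, inv_inv, inv_one, one_mul, mul_one, mul_assoc,
      mul_inv_cancel_left, inv_mul_cancel_left, mul_inv_cancel, inv_mul_cancel, iu, jf, is, ia, ib, ic, id] at h ⊢
    exact h
  · have h := mul_inv_eq_one.mpr e43
    simp only [pow_succ, pow_zero, mul_inv_rev, inv_inv, inv_one, one_mul, mul_one, mul_assoc,
      mul_inv_cancel_left, inv_mul_cancel_left, mul_inv_cancel, inv_mul_cancel, iu, jf, is, ia, ib, ic, id] at h ⊢
    exact h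
  · have h := mul_inv_eq_one.mpr e44
    simp only [pow_succ, pow_zero, mul_inv_rev, inv_inv, inv_one, one_mul, mul_one, mul_assoc,
      mul_inv_cancel_left, inv_mul_cancel_left, mul_inv_cancel, inv_mul_cancel, iu, jf, is, ia, ib, ic, id] at h ⊢
    exact h
  · have h := mul_inv_eq_one.mpr e45
    simp only [pow_succ, pow_zero, mul_inv_rev, inv_inv, inv_one, one_mul, mul_one, mul_assoc,
      mul_inv_cancel_left, inv_mul_cancel_left, mul_inv_cancel, inv_mul_cancel, iu, jf, is, ia, ib, ic, id] at h ⊢
    exact h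
  · have h := mul_inv_eq_one.mpr e46
    simp only [pow_succ, pow_zero, mul_inv_rev, inv_inv, inv_one, one_mul, mul_one, mul_assoc,
      mul_inv_cancel_left, inv_mul_cancel_left, mul_inv_cancel, inv_mul_cancel, iu, jf, is, ia, ib, ic, id] at h ⊢
    exact h
  · have h := mul_inv_eq_one.mpr e47
    simp only [pow_succ, pow_zero, mul_inv_rev, inv_inv, inv_one, one_mul, mul_one, mul_assoc,
      mul_inv_cancel_left, inv_mul_cancel_left, mul_inv_cancel, inv_mul_cancel, iu, jf, is, ia, ib, ic, id] at h ⊢
    exact h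
  · have h := mul_inv_eq_one.mpr e48
    simp only [pow_succ, pow_zero, mul_inv_rev, inv_inv, inv_one, one_mul, mul_one, mul_assoc,
      mul_inv_cancel_left, inv_mul_cancel_left, mul_inv_cancel, inv_mul_cancel, iu, jf, is, ia, ib, ic, id] at h ⊢
    exact h

/-- Certificate data. -/
def p01_par : Trie :=
    (.node (.node (.node (.node (.node (.node (.leaf (nat_lit 0)) (.leaf (nat_lit 2306))) (.leaf
    (nat_lit 776))) (.node (.node (.leaf (nat_lit 518)) (.leaf (nat_lit 3336))) (.leaf (nat_lit
    1548)))) (.node (.node (.node (.leaf (nat_lit 258)) (.leaf (nat_lit 2573))) (.leaf (nat_lit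
    1034))) (.node (.node (.leaf (nat_lit 522)) (.leaf (nat_lit 4616))) (.leaf (nat_lit 1797)))))
    (.node (.node (.node (.node (.leaf (nat_lit 11)) (.leaf (nat_lit 2315))) (.leaf (nat_lit 778)))
    (.node (.node (.leaf (nat_lit 520)) (.leaf (nat_lit 3339))) (.leaf (nat_lit 1550)))) (.node
    (.node (.node (.leaf (nat_lit 264)) (.leaf (nat_lit 2575))) (.leaf (nat_lit 1290))) (.node
    (.leaf (nat_lit 774)) (.leaf (nat_lit 1800)))))) (.node (.node (.node (.node (.node (.leaf
    (nat_lit 10)) (.leaf (nat_lit 2308))) (.leaf (nat_lit 777))) (.node (.node (.leaf (nat_lit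
    519)) (.leaf (nat_lit 3338))) (.leaf (nat_lit 1549)))) (.node (.node (.node (.leaf (nat_lit
    261)) (.leaf (nat_lit 2574))) (.leaf (nat_lit 1288))) (.node (.node (.leaf (nat_lit 773))
    (.leaf (nat_lit 4617))) (.leaf (nat_lit 1799))))) (.node (.node (.node (.node (.leaf (nat_lit
    257)) (.leaf (nat_lit 2567))) (.leaf (nat_lit 1031))) (.node (.node (.leaf (nat_lit 521))
    (.leaf (nat_lit 4613))) (.leaf (nat_lit 1551)))) (.node (.node (.node (.leaf (nat_lit 517))
    (.leaf (nat_lit 3335))) (.leaf (nat_lit 1291))) (.node (.leaf (nat_lit 775)) (.leaf (nat_lit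
    2305)))))))

/-- Certificate data. -/
def p01_fact : Trie :=
    (.node (.node (.node (.node (.node (.node (.node (.node (.leaf (nat_lit 1)) (.leaf (nat_lit
    271360))) (.leaf (nat_lit 382721))) (.node (.node (.leaf (nat_lit 133121)) (.leaf (nat_lit
    551424))) (.leaf (nat_lit 433671)))) (.node (.node (.node (.leaf (nat_lit 65794)) (.leaf
    (nat_lit 691467))) (.leaf (nat_lit 461577))) (.node (.leaf (nat_lit 262920)) (.leaf (nat_lit
    625167))))) (.node (.node (.node (.node (.leaf (nat_lit 15)) (.leaf (nat_lit 154880))) (.leaf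
    (nat_lit 427534))) (.node (.node (.leaf (nat_lit 85250)) (.leaf (nat_lit 10))) (.leaf (nat_lit
    559371)))) (.node (.node (.node (.leaf (nat_lit 83207)) (.leaf (nat_lit 732428))) (.leaf
    (nat_lit 496910))) (.node (.leaf (nat_lit 345352)) (.leaf (nat_lit 658696)))))) (.node (.node
    (.node (.node (.node (.leaf (nat_lit 8)) (.leaf (nat_lit 171520))) (.leaf (nat_lit 101132)))
    (.node (.node (.leaf (nat_lit 180745)) (.leaf (nat_lit 41216))) (.leaf (nat_lit 510209))))
    (.node (.node (.node (.leaf (nat_lit 66308)) (.leaf (nat_lit 338693))) (.leaf (nat_lit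
    171525))) (.node (.leaf (nat_lit 295690)) (.leaf (nat_lit 255749))))) (.node (.node (.node
    (.node (.leaf (nat_lit 32779)) (.leaf (nat_lit 369152))) (.leaf (nat_lit 465924))) (.node
    (.leaf (nat_lit 85505)) (.leaf (nat_lit 592397)))) (.node (.node (.node (.leaf (nat_lit
    115205)) (.leaf (nat_lit 216330))) (.leaf (nat_lit 116736))) (.node (.leaf (nat_lit 345607))
    (.leaf (nat_lit 660751))))))) (.node (.node (.node (.node (.node (.node (.leaf (nat_lit 5))
    (.leaf (nat_lit 632839))) (.leaf (nat_lit 202760))) (.node (.node (.leaf (nat_lit 147975))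
    (.leaf (nat_lit 35072))) (.leaf (nat_lit 154886)))) (.node (.node (.node (.leaf (nat_lit
    17412)) (.leaf (nat_lit 694020))) (.leaf (nat_lit 154885))) (.node (.leaf (nat_lit 279305))
    (.leaf (nat_lit 615937))))) (.node (.node (.node (.node (.leaf (nat_lit 16651)) (.leaf (nat_lit
    149766))) (.leaf (nat_lit 460549))) (.node (.leaf (nat_lit 230150)) (.leaf (nat_lit 353036))))
    (.node (.node (.node (.leaf (nat_lit 17928)) (.leaf (nat_lit 54272))) (.leaf (nat_lit 39936)))
    (.node (.leaf (nat_lit 103686)) (.leaf (nat_lit 288774)))))) (.node (.node (.node (.node (.node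
    (.leaf (nat_lit 13)) (.leaf (nat_lit 34560))) (.leaf (nat_lit 33290))) (.node (.node (.leaf
    (nat_lit 213765)) (.leaf (nat_lit 3328))) (.leaf (nat_lit 516103)))) (.node (.node (.node
    (.leaf (nat_lit 82181)) (.leaf (nat_lit 338952))) (.leaf (nat_lit 138760))) (.node (.leaf
    (nat_lit 250626)) (.leaf (nat_lit 59136))))) (.node (.node (.node (.node (.leaf (nat_lit
    33284)) (.leaf (nat_lit 675082))) (.leaf (nat_lit 171017))) (.node (.leaf (nat_lit 216580))
    (.leaf (nat_lit 608782)))) (.node (.node (.node (.leaf (nat_lit 116481)) (.leaf (nat_lit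
    153344))) (.leaf (nat_lit 34565))) (.node (.leaf (nat_lit 361738)) (.leaf (nat_lit
    102669)))))))) (.node (.node (.node (.node (.node (.node (.node (.leaf (nat_lit 3)) (.leaf
    (nat_lit 282636))) (.leaf (nat_lit 394764))) (.node (.node (.leaf (nat_lit 133123)) (.leaf
    (nat_lit 155648))) (.leaf (nat_lit 154120)))) (.node (.node (.node (.leaf (nat_lit 50178))
    (.leaf (nat_lit 698881))) (.leaf (nat_lit 476935))) (.node (.leaf (nat_lit 69640)) (.leaf
    (nat_lit 452108))))) (.node (.node (.node (.node (.leaf (nat_lit 16394)) (.leaf (nat_lit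
    33285))) (.leaf (nat_lit 443919))) (.node (.leaf (nat_lit 214022)) (.leaf (nat_lit 576007))))
    (.node (.node (.node (.leaf (nat_lit 98568)) (.leaf (nat_lit 70144))) (.leaf (nat_lit 166656)))
    (.node (.leaf (nat_lit 103685)) (.leaf (nat_lit 272389)))))) (.node (.node (.node (.node (.node
    (.leaf (nat_lit 12)) (.leaf (nat_lit 434944))) (.leaf (nat_lit 35840))) (.node (.node (.leaf
    (nat_lit 197130)) (.leaf (nat_lit 43520))) (.leaf (nat_lit 526594)))) (.node (.node (.node
    (.leaf (nat_lit 66315)) (.leaf (nat_lit 725512))) (.leaf (nat_lit 187910))) (.node (.leaf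
    (nat_lit 312327)) (.leaf (nat_lit 216832))))) (.node (.node (.node (.node (.leaf (nat_lit
    33281)) (.leaf (nat_lit 153099))) (.leaf (nat_lit 465921))) (.node (.leaf (nat_lit 85507))
    (.leaf (nat_lit 418828)))) (.node (.node (.node (.leaf (nat_lit 116484)) (.leaf (nat_lit
    87552))) (.leaf (nat_lit 164361))) (.node (.leaf (nat_lit 349444)) (.leaf (nat_lit
    284928))))))) (.node (.node (.node (.node (.node (.node (.leaf (nat_lit 7)) (.leaf (nat_lit
    353536))) (.leaf (nat_lit 186368))) (.node (.node (.leaf (nat_lit 164360)) (.leaf (nat_lit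
    40704))) (.leaf (nat_lit 149770)))) (.node (.node (.node (.leaf (nat_lit 49412)) (.leaf
    (nat_lit 709125))) (.leaf (nat_lit 493320))) (.node (.leaf (nat_lit 69897)) (.leaf (nat_lit
    642311))))) (.node (.node (.node (.node (.leaf (nat_lit 16647)) (.leaf (nat_lit 516357)))
    (.leaf (nat_lit 138245))) (.node (.leaf (nat_lit 69126)) (.leaf (nat_lit 484104)))) (.node
    (.node (.node (.leaf (nat_lit 99841)) (.leaf (nat_lit 223488))) (.leaf (nat_lit 100876)))
    (.node (.leaf (nat_lit 87304)) (.leaf (nat_lit 354306)))))) (.node (.node (.node (.node (.node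
    (.leaf (nat_lit 14)) (.leaf (nat_lit 350732))) (.leaf (nat_lit 411149))) (.node (.node (.leaf
    (nat_lit 85252)) (.leaf (nat_lit 256))) (.leaf (nat_lit 542980)))) (.node (.node (.node (.leaf
    (nat_lit 17669)) (.leaf (nat_lit 741897))) (.leaf (nat_lit 499201))) (.node (.leaf (nat_lit
    328714)) (.leaf (nat_lit 213767))))) (.node (.node (.node (.node (.leaf (nat_lit 49409)) (.leaf
    (nat_lit 338183))) (.leaf (nat_lit 166401))) (.node (.leaf (nat_lit 246535)) (.leaf (nat_lit
    435468)))) (.node (.node (.node (.leaf (nat_lit 131590)) (.leaf (nat_lit 155392))) (.leaf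
    (nat_lit 493321))) (.node (.leaf (nat_lit 378123)) (.leaf (nat_lit 594188)))))))))

/-- Certificate data. -/
def p01_just : Trie :=
    (.node (.node (.node (.node (.node (.node (.node (.node (.leaf (nat_lit 1)) (.leaf (nat_lit
    71568885353712997171252))) (.leaf (nat_lit 72733334638610874373))) (.node (.node (.leaf
    (nat_lit 69869836481789970)) (.leaf (nat_lit 232631530583949314))) (.leaf (nat_lit
    162396428608667685)))) (.node (.node (.node (.leaf (nat_lit 0)) (.leaf (nat_lit 0))) (.leaf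
    (nat_lit 170147538907889688))) (.node (.leaf (nat_lit 0)) (.leaf (nat_lit 0))))) (.node (.node
    (.node (.node (.leaf (nat_lit 1)) (.leaf (nat_lit 219010445531611138))) (.leaf (nat_lit 0)))
    (.node (.node (.leaf (nat_lit 49625688520720404)) (.leaf (nat_lit 43220256030722))) (.leaf
    (nat_lit 0)))) (.node (.node (.node (.leaf (nat_lit 49588171981389837)) (.leaf (nat_lit
    88902977661733481807929))) (.leaf (nat_lit 192830648472502307))) (.node (.leaf (nat_lit 0))
    (.leaf (nat_lit 0)))))) (.node (.node (.node (.node (.node (.leaf (nat_lit 1)) (.leaf (nat_lit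
    249402982737838082))) (.leaf (nat_lit 288651867193346))) (.node (.node (.leaf (nat_lit 0))
    (.leaf (nat_lit 310340549964136450))) (.leaf (nat_lit 0)))) (.node (.node (.node (.leaf
    (nat_lit 36108112180215818)) (.leaf (nat_lit 32514201612727372546060))) (.leaf (nat_lit
    78939055064285210))) (.node (.leaf (nat_lit 0)) (.leaf (nat_lit 106004908171526178))))) (.node
    (.node (.node (.node (.leaf (nat_lit 0)) (.leaf (nat_lit 18773333521227823853207608))) (.leaf
    (nat_lit 166767966581620752))) (.node (.leaf (nat_lit 53003422600986642)) (.leaf (nat_lit 0))))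
    (.node (.node (.node (.leaf (nat_lit 0)) (.leaf (nat_lit 628057362792450))) (.leaf (nat_lit
    168157379911942146))) (.node (.leaf (nat_lit 64619022336968097821)) (.leaf (nat_lit
    142585475687440973874))))))) (.node (.node (.node (.node (.node (.node (.leaf (nat_lit 1))
    (.leaf (nat_lit 131021239310537195573))) (.leaf (nat_lit 21854801548337471619102))) (.node
    (.node (.leaf (nat_lit 0)) (.leaf (nat_lit 40134278067331006466))) (.leaf (nat_lit
    112049977243476426791)))) (.node (.node (.node (.leaf (nat_lit 5314392843308344082440)) (.leaf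
    (nat_lit 168074516759811719174))) (.leaf (nat_lit 76687238070730786))) (.node (.leaf (nat_lit
    0)) (.leaf (nat_lit 248046391547592751))))) (.node (.node (.node (.node (.leaf (nat_lit
    5317286384018567528451)) (.leaf (nat_lit 432181084291074))) (.leaf (nat_lit 0))) (.node (.leaf
    (nat_lit 0)) (.leaf (nat_lit 135509117291921450)))) (.node (.node (.node (.leaf (nat_lit
    51888371781533710)) (.leaf (nat_lit 118895067099496450))) (.leaf (nat_lit 82584988377350146)))
    (.node (.leaf (nat_lit 56396635743387675)) (.leaf (nat_lit 116151244422316059)))))) (.node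
    (.node (.node (.node (.node (.leaf (nat_lit 1)) (.leaf (nat_lit 80520148490059778))) (.leaf
    (nat_lit 165523744751618))) (.node (.node (.leaf (nat_lit 0)) (.leaf (nat_lit
    28874412296175618))) (.leaf (nat_lit 59068809793029259198505)))) (.node (.node (.node (.leaf
    (nat_lit 0)) (.leaf (nat_lit 333914169457967118))) (.leaf (nat_lit 169211158727950350))) (.node
    (.leaf (nat_lit 27761222878153454977049)) (.leaf (nat_lit 107478253752745986))))) (.node (.node
    (.node (.node (.leaf (nat_lit 15591462017331101702)) (.leaf (nat_lit 0))) (.leaf (nat_lit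
    78938977754873889))) (.node (.leaf (nat_lit 92401123247456279)) (.leaf (nat_lit 0)))) (.node
    (.node (.node (.leaf (nat_lit 63112212247674897)) (.leaf (nat_lit 318197011516162050))) (.leaf
    (nat_lit 139333034180610))) (.node (.leaf (nat_lit 0)) (.leaf (nat_lit 315538362466306))))))))
    (.node (.node (.node (.node (.node (.node (.node (.leaf (nat_lit 1)) (.leaf (nat_lit
    561854736891906))) (.leaf (nat_lit 0))) (.node (.node (.leaf (nat_lit 69865438435278867))
    (.leaf (nat_lit 227008241572446210))) (.leaf (nat_lit 39411421181489971238)))) (.node (.node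
    (.node (.leaf (nat_lit 66112431718407)) (.leaf (nat_lit 166112067320899960837))) (.leaf
    (nat_lit 0))) (.node (.leaf (nat_lit 93617234647384078)) (.leaf (nat_lit
    164782574999371822))))) (.node (.node (.node (.node (.leaf (nat_lit 0)) (.leaf (nat_lit
    414571718377474))) (.leaf (nat_lit 0))) (.node (.leaf (nat_lit 91301401166282773)) (.leaf
    (nat_lit 0)))) (.node (.node (.node (.leaf (nat_lit 0)) (.leaf (nat_lit
    303768978466640662045345219731258923024442))) (.leaf (nat_lit 97043818242369650724))) (.node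
    (.leaf (nat_lit 56394436720132122)) (.leaf (nat_lit 108256750934884378)))))) (.node (.node
    (.node (.node (.node (.leaf (nat_lit 1)) (.leaf (nat_lit 250529032968536066))) (.leaf (nat_lit
    82485933546602498))) (.node (.node (.leaf (nat_lit 0)) (.leaf (nat_lit 722654017486850)))
    (.leaf (nat_lit 0)))) (.node (.node (.node (.leaf (nat_lit 18469334811412791307)) (.leaf
    (nat_lit 0))) (.leaf (nat_lit 181596057703219227))) (.node (.leaf (nat_lit 0)) (.leaf (nat_lit
    29983651708617436690468873421916664955470860976176))))) (.node (.node (.node (.node (.leaf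
    (nat_lit 13835064759726374917)) (.leaf (nat_lit 460802746351618))) (.leaf (nat_lit
    166761369511854097))) (.node (.leaf (nat_lit 52985830414942227)) (.leaf (nat_lit
    160278941012262956)))) (.node (.node (.node (.leaf (nat_lit 63110013224419344)) (.leaf (nat_lit
    13325812730476360773271611))) (.leaf (nat_lit 343825017077762))) (.node (.leaf (nat_lit
    131851733596045328)) (.leaf (nat_lit 140935904638833786931))))))) (.node (.node (.node (.node
    (.node (.node (.leaf (nat_lit 1)) (.leaf (nat_lit 18150190458301636441145398))) (.leaf (nat_lit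
    196402785150380871587040712482197865234463))) (.node (.node (.leaf (nat_lit 0)) (.leaf (nat_lit
    713849334530050))) (.leaf (nat_lit 48517896086970912014376)))) (.node (.node (.node (.leaf
    (nat_lit 33856299481628681)) (.leaf (nat_lit 0))) (.leaf (nat_lit 0))) (.node (.leaf (nat_lit
    97012543733825560)) (.leaf (nat_lit 0))))) (.node (.node (.node (.node (.leaf (nat_lit
    5314972655311959425028)) (.leaf (nat_lit 225789999868739639))) (.leaf (nat_lit
    69931778500132896))) (.node (.leaf (nat_lit 93617183107776534)) (.leaf (nat_lit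
    95192997447317323819)))) (.node (.node (.node (.leaf (nat_lit 30589656156206268431)) (.leaf
    (nat_lit 268642705352097794))) (.leaf (nat_lit 299835962032130))) (.node (.leaf (nat_lit
    127484464820584476)) (.leaf (nat_lit 71030950279835287601)))))) (.node (.node (.node (.node
    (.node (.leaf (nat_lit 1)) (.leaf (nat_lit 467339686576130))) (.leaf (nat_lit 0))) (.node
    (.node (.leaf (nat_lit 49608096334675984)) (.leaf (nat_lit 191738108791927078914))) (.leaf
    (nat_lit 0)))) (.node (.node (.node (.leaf (nat_lit 5314972681811907641356)) (.leaf (nat_lit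
    0))) (.leaf (nat_lit 99799913616799694863))) (.node (.leaf (nat_lit 0)) (.leaf (nat_lit
    508992279412738))))) (.node (.node (.node (.node (.leaf (nat_lit 0)) (.leaf (nat_lit
    32514201907353539117060))) (.leaf (nat_lit 90101603069856055311))) (.node (.leaf (nat_lit 0))
    (.leaf (nat_lit 162530758005817389)))) (.node (.node (.node (.leaf (nat_lit 0)) (.leaf (nat_lit
    182306410869618376706))) (.leaf (nat_lit 381225592291330))) (.node (.leaf (nat_lit 0)) (.leaf
    (nat_lit 482664129888258)))))))))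

/-- Certificate data. -/
def p01_rel : Trie :=
    (.node (.node (.node (.node (.node (.node (.leaf (nat_lit 0)) (.leaf (nat_lit 117835526)))
    (.node (.leaf (nat_lit 84084226)) (.leaf (nat_lit 60164014351)))) (.node (.node (.leaf (nat_lit
    17039875)) (.leaf (nat_lit 118228748))) (.node (.leaf (nat_lit 151390214)) (.leaf (nat_lit
    2799910162278689748133087242))))) (.node (.node (.node (.leaf (nat_lit 47262138883)) (.leaf
    (nat_lit 30199318281))) (.node (.leaf (nat_lit 84215045)) (.leaf (nat_lit 2229122040327))))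
    (.node (.node (.leaf (nat_lit 151323913)) (.leaf (nat_lit 252448524))) (.leaf (nat_lit
    13228667767305))))) (.node (.node (.node (.node (.leaf (nat_lit 11025265265159)) (.leaf
    (nat_lit 201723397))) (.node (.leaf (nat_lit 100861185)) (.leaf (nat_lit 51758108421)))) (.node
    (.node (.leaf (nat_lit 6640103655942)) (.leaf (nat_lit 218893580))) (.leaf (nat_lit
    84216073)))) (.node (.node (.node (.leaf (nat_lit 1142495119875)) (.leaf (nat_lit
    7739648836874))) (.node (.leaf (nat_lit 134612488)) (.leaf (nat_lit 12137729361930)))) (.node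
    (.node (.leaf (nat_lit 100795651)) (.leaf (nat_lit 36387120366767566187149146540409350)))
    (.leaf (nat_lit 101058054)))))) (.node (.node (.node (.node (.node (.leaf (nat_lit
    11033972836875)) (.leaf (nat_lit 101451022))) (.node (.leaf (nat_lit 84018692)) (.leaf (nat_lit
    218435334)))) (.node (.node (.leaf (nat_lit 17197367819)) (.leaf (nat_lit 30199449097))) (.node
    (.leaf (nat_lit 151324677)) (.leaf (nat_lit 11003773977345))))) (.node (.node (.node (.leaf
    (nat_lit 65793)) (.leaf (nat_lit 30216226821))) (.node (.leaf (nat_lit 83953155)) (.leaf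
    (nat_lit 50659590)))) (.node (.node (.leaf (nat_lit 34410137858)) (.leaf (nat_lit 251727362)))
    (.leaf (nat_lit 3723538914965537180174780937))))) (.node (.node (.node (.node (.leaf (nat_lit
    47311817474)) (.leaf (nat_lit 235343367))) (.node (.leaf (nat_lit 67502341)) (.leaf (nat_lit
    64542936071)))) (.node (.node (.leaf (nat_lit 84346119)) (.leaf (nat_lit 235671052))) (.leaf
    (nat_lit 25921259527)))) (.node (.node (.node (.leaf (nat_lit 33816835)) (.leaf (nat_lit
    1129593635079))) (.node (.leaf (nat_lit 7700993869569)) (.leaf (nat_lit 8839227902220))))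
    (.node (.node (.leaf (nat_lit 100926722)) (.leaf (nat_lit 38688785153))) (.leaf (nat_lit
    101058568)))))))

/-- Certificate data. -/
def p01_rc : Trie :=
    (.node (.node (.node (.node (.node (.node (.leaf (nat_lit 98)) (.leaf (nat_lit 13))) (.node
    (.leaf (nat_lit 262149)) (.leaf (nat_lit 131117)))) (.node (.node (.leaf (nat_lit 131080))
    (.leaf (nat_lit 131128))) (.node (.leaf (nat_lit 67)) (.leaf (nat_lit 92))))) (.node (.node
    (.node (.leaf (nat_lit 393312)) (.leaf (nat_lit 262214))) (.node (.leaf (nat_lit 2)) (.leaf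
    (nat_lit 131087)))) (.node (.node (.leaf (nat_lit 393285)) (.leaf (nat_lit 32))) (.leaf
    (nat_lit 393306))))) (.node (.node (.node (.node (.leaf (nat_lit 524383)) (.leaf (nat_lit 52)))
    (.node (.leaf (nat_lit 393222)) (.leaf (nat_lit 54)))) (.node (.node (.leaf (nat_lit 655436))
    (.leaf (nat_lit 28))) (.leaf (nat_lit 262213)))) (.node (.node (.node (.leaf (nat_lit 262222))
    (.leaf (nat_lit 655455))) (.node (.leaf (nat_lit 131140)) (.leaf (nat_lit 90)))) (.node (.node
    (.leaf (nat_lit 5)) (.leaf (nat_lit 19))) (.leaf (nat_lit 3)))))) (.node (.node (.node (.node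
    (.node (.leaf (nat_lit 655450)) (.leaf (nat_lit 393264))) (.node (.leaf (nat_lit 262151))
    (.leaf (nat_lit 262194)))) (.node (.node (.leaf (nat_lit 262241)) (.leaf (nat_lit 524359)))
    (.node (.leaf (nat_lit 393282)) (.leaf (nat_lit 131150))))) (.node (.node (.node (.leaf
    (nat_lit 0)) (.leaf (nat_lit 524358))) (.node (.leaf (nat_lit 131078)) (.leaf (nat_lit
    262150)))) (.node (.node (.leaf (nat_lit 393281)) (.leaf (nat_lit 262190))) (.leaf (nat_lit
    393308))))) (.node (.node (.node (.node (.leaf (nat_lit 393313)) (.leaf (nat_lit 60))) (.node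
    (.leaf (nat_lit 4)) (.leaf (nat_lit 524351)))) (.node (.node (.leaf (nat_lit 12)) (.leaf
    (nat_lit 30))) (.leaf (nat_lit 131143)))) (.node (.node (.node (.leaf (nat_lit 9)) (.leaf
    (nat_lit 14))) (.node (.leaf (nat_lit 131086)) (.leaf (nat_lit 262234)))) (.node (.node (.leaf
    (nat_lit 7)) (.leaf (nat_lit 65))) (.leaf (nat_lit 68)))))))

/-- Certificate data. -/
def p01_lv : Trie :=
    (.leaf (nat_lit 0))

/-- Certificate data. -/
def p01_tb : Trie :=
    (.node (.node (.node (.node (.leaf (nat_lit 0)) (.leaf (nat_lit 17))) (.leaf (nat_lit 8)))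
    (.node (.leaf (nat_lit 4)) (.leaf (nat_lit 13)))) (.node (.node (.node (.leaf (nat_lit 2))
    (.leaf (nat_lit 337))) (.leaf (nat_lit 11))) (.node (.leaf (nat_lit 7)) (.leaf (nat_lit 15)))))

/-- Certificate data. -/
def p01_C : TC.Cert := ⟨6, 63, 9, 511, 20011376718272485634933414101046592000, 62462, p01_par, p01_fact, p01_just, p01_rel, 58⟩

/-- Certificate data. -/
def p01_rs : List (List ℕ) := [[1, 1, 1], [5, 5, 5, 5], [5, 1, 6, 4], [5, 3, 6, 1], [1, 3, 2, 4], [7, 7], [7, 5, 7, 5], [7, 1, 7, 1, 7, 1], [7, 3, 7, 3, 7, 3, 7, 3], [7, 1, 5, 7, 1, 5, 7, 1, 5, 7, 1, 5, 7, 1, 5], [12, 12], [13, 13], [14, 14], [15, 15], [12, 13, 12, 13], [12, 14, 12, 14], [12, 15, 12, 15], [13, 14, 13, 14], [13, 15, 13, 15], [14, 15, 14, 15], [1, 12, 2, 12], [1, 13, 2, 13], [1, 14, 2, 15, 14], [1, 15, 2, 14], [5, 12, 6, 14], [5, 13, 6, 15], [5, 14, 6, 12], [5, 15, 6, 13, 12], [7, 12, 7, 12], [7, 13, 7, 14, 13, 12], [7, 14, 7, 14], [7, 15, 7, 15, 12], [8, 1, 9, 4, 2], [8, 5, 9, 5], [8, 8, 6, 6], [8, 7, 9, 7, 5], [8,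 12, 14, 9, 12, 14, 8, 12, 14, 9, 12, 14, 6, 6], [10, 10], [10, 5, 5, 10, 6, 6], [10, 1, 3, 10, 4, 2], [10, 12, 10, 12], [10, 13, 10, 13], [10, 14, 10, 14, 12], [10, 15, 10, 15, 13, 12], [11, 11], [10, 8, 12, 9, 10, 11], [10, 8, 12, 9, 10, 8, 12, 9, 10, 8, 12, 9], [10, 7, 10, 7, 6, 6], [11, 1, 11, 3, 2]]

/-- Certificate data. -/
def p01_gl : List ℕ := [1, 259, 517, 775, 1032, 1292, 1549, 1806, 2063, 2314]

theorem p01_h1 : allB p01_C.factChk 169 = true := by decide +kernel

theorem p01_h2 : p01_C.finChk 169 1 p01_lv p01_tb p01_gl = true := by decide +kernel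

theorem p01_h3 : TC.relChk p01_C.ivc p01_rs p01_C.rel p01_rc p01_C.nrel = true := by decide +kernel

theorem p01_bound {G : Type*} [Group G] {x y w u q f s a b c d : G}
    (r0 : x * x * x = 1)
    (r1 : w * w * w * w = 1)
    (r2 : w * x * w⁻¹ * y⁻¹ = 1)
    (r3 : w * y * w⁻¹ * x = 1)
    (r4 : x * y * x⁻¹ * y⁻¹ = 1)
    (r5 : u * u = 1)
    (r6 : u * w * u * w = 1)
    (r7 : u * x * u * x * u * x = 1)
    (r8 : u * y * u * y * u * y * u * y = 1)
    (r9 : u * x * w * u * x * w * u * x * w * u * x * w * u * x * w = 1)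
    (r10 : a * a = 1)
    (r11 : b * b = 1)
    (r12 : c * c = 1)
    (r13 : d * d = 1)
    (r14 : a * b * a * b = 1)
    (r15 : a * c * a * c = 1)
    (r16 : a * d * a * d = 1)
    (r17 : b * c * b * c = 1)
    (r18 : b * d * b * d = 1)
    (r19 : c * d * c * d = 1)
    (r20 : x * a * x⁻¹ * a = 1)
    (r21 : x * b * x⁻¹ * b = 1)
    (r22 : x * c * x⁻¹ * d * c = 1)
    (r23 : x * d * x⁻¹ * c = 1)
    (r24 : w * a * w⁻¹ * c = 1)
    (r25 : w * b * w⁻¹ * d = 1)
    (r26 : w * c * w⁻¹ * a = 1)
    (r27 : w * d * w⁻¹ * b * a = 1)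
    (r28 : u * a * u * a = 1)
    (r29 : u * b * u * c * b * a = 1)
    (r30 : u * c * u * c = 1)
    (r31 : u * d * u * d * a = 1)
    (r32 : q * x * q⁻¹ * y⁻¹ * x⁻¹ = 1)
    (r33 : q * w * q⁻¹ * w = 1)
    (r34 : q * q * w⁻¹ * w⁻¹ = 1)
    (r35 : q * u * q⁻¹ * u * w = 1)
    (r36 : q * a * c * q⁻¹ * a * c * q * a * c * q⁻¹ * a * c * w⁻¹ * w⁻¹ = 1)
    (r37 : f * f = 1)
    (r38 : f * w * w * f * w⁻¹ * w⁻¹ = 1)
    (r39 : f * x * y * f * y⁻¹ * x⁻¹ = 1)
    (r40 : f * a * f * a = 1)
    (r41 : f * b * f * b = 1)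
    (r42 : f * c * f * c * a = 1)
    (r43 : f * d * f * d * b * a = 1)
    (r44 : s * s = 1)
    (r45 : f * q * a * q⁻¹ * f * s = 1)
    (r46 : f * q * a * q⁻¹ * f * q * a * q⁻¹ * f * q * a * q⁻¹ = 1)
    (r47 : f * u * f * u * w⁻¹ * w⁻¹ = 1)
    (r48 : s * x * s * y * x⁻¹ = 1)
    (H : Subgroup G) [Finite H] (m1 : x ∈ H) (m3 : y ∈ H) (m5 : w ∈ H) (m7 : u ∈ H) (m8 : q ∈ H) (m12 : a ∈ H) (m13 : b ∈ H) (m14 : c ∈ H) (m15 : d ∈ H) :
    Finite (Subgroup.closure ({x, y, w, u, q, a, b, c, d, f} : Set G)) ∧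
      Nat.card (Subgroup.closure ({x, y, w, u, q, a, b, c, d, f} : Set G)) ≤ 1 * Nat.card H := by
  have hL : TC.Lett (TC.lett [x, x⁻¹, y, y⁻¹, w, w⁻¹, u, q, q⁻¹, f, s, a, b, c, d]) p01_C.ivc :=
    TC.lett_ok (show Nat.shiftRight p01_C.ivc (8 * 16) = 0 by decide +kernel) (by
      intro a ha
      change a < 16 at ha
      interval_cases a
      · exact inv_one.symm
      · rfl
      · exact (inv_inv _).symm
      · rfl
      · exact (inv_inv _).symm
      · rfl
      · exact (inv_inv _).symm
      · exact (inv_eq_of_mul_eq_one_right r5).symm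
      · rfl
      · exact (inv_inv _).symm
      · exact (inv_eq_of_mul_eq_one_right r37).symm
      · exact (inv_eq_of_mul_eq_one_right r44).symm
      · exact (inv_eq_of_mul_eq_one_right r10).symm
      · exact (inv_eq_of_mul_eq_one_right r11).symm
      · exact (inv_eq_of_mul_eq_one_right r12).symm
      · exact (inv_eq_of_mul_eq_one_right r13).symm)
  have h := TC.card_le p01_h1 p01_h2 p01_h3 (by decide) hL (by
    simp only [p01_rs, List.forall_mem_cons]
    refine ⟨?_, ?_, ?_, ?_, ?_, ?_, ?_, ?_, ?_, ?_, ?_, ?_, ?_, ?_, ?_, ?_, ?_, ?_, ?_, ?_, ?_, ?_,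
    ?_, ?_, ?_, ?_, ?_, ?_, ?_, ?_, ?_, ?_, ?_, ?_, ?_, ?_, ?_, ?_, ?_, ?_, ?_, ?_, ?_, ?_, ?_, ?_,
    ?_, ?_, ?_, List.forall_mem_nil _⟩
    · show x * (x * (x * 1)) = 1
      simp only [mul_assoc, mul_one] at r0 ⊢
      exact r0
    · show w * (w * (w * (w * 1))) = 1
      simp only [mul_assoc, mul_one] at r1 ⊢
      exact r1
    · show w * (x * (w⁻¹ * (y⁻¹ * 1))) = 1
      simp only [mul_assoc, mul_one] at r2 ⊢
      exact r2
    · show w * (y * (w⁻¹ * (x * 1))) = 1
      simp only [mul_assoc, mul_one] at r3 ⊢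
      exact r3
    · show x * (y * (x⁻¹ * (y⁻¹ * 1))) = 1
      simp only [mul_assoc, mul_one] at r4 ⊢
      exact r4
    · show u * (u * 1) = 1
      simp only [mul_one] at r5 ⊢
      exact r5
    · show u * (w * (u * (w * 1))) = 1
      simp only [mul_assoc, mul_one] at r6 ⊢
      exact r6
    · show u * (x * (u * (x * (u * (x * 1))))) = 1
      simp only [mul_assoc, mul_one] at r7 ⊢
      exact r7
    · show u * (y * (u * (y * (u * (y * (u * (y * 1))))))) = 1
      simp only [mul_assoc, mul_one] at r8 ⊢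
      exact r8
    · show u * (x * (w * (u * (x * (w * (u * (x * (w * (u * (x * (w * (u * (x * (w *
    1)))))))))))))) = 1
      simp only [mul_assoc, mul_one] at r9 ⊢
      exact r9
    · show a * (a * 1) = 1
      simp only [mul_one] at r10 ⊢
      exact r10
    · show b * (b * 1) = 1
      simp only [mul_one] at r11 ⊢
      exact r11
    · show c * (c * 1) = 1
      simp only [mul_one] at r12 ⊢
      exact r12
    · show d * (d * 1) = 1
      simp only [mul_one] at r13 ⊢
      exact r13
    · show a * (b * (a * (b * 1))) = 1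
      simp only [mul_assoc, mul_one] at r14 ⊢
      exact r14
    · show a * (c * (a * (c * 1))) = 1
      simp only [mul_assoc, mul_one] at r15 ⊢
      exact r15
    · show a * (d * (a * (d * 1))) = 1
      simp only [mul_assoc, mul_one] at r16 ⊢
      exact r16
    · show b * (c * (b * (c * 1))) = 1
      simp only [mul_assoc, mul_one] at r17 ⊢
      exact r17
    · show b * (d * (b * (d * 1))) = 1
      simp only [mul_assoc, mul_one] at r18 ⊢
      exact r18
    · show c * (d * (c * (d * 1))) = 1
      simp only [mul_assoc, mul_one] at r19 ⊢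
      exact r19
    · show x * (a * (x⁻¹ * (a * 1))) = 1
      simp only [mul_assoc, mul_one] at r20 ⊢
      exact r20
    · show x * (b * (x⁻¹ * (b * 1))) = 1
      simp only [mul_assoc, mul_one] at r21 ⊢
      exact r21
    · show x * (c * (x⁻¹ * (d * (c * 1)))) = 1
      simp only [mul_assoc, mul_one] at r22 ⊢
      exact r22
    · show x * (d * (x⁻¹ * (c * 1))) = 1
      simp only [mul_assoc, mul_one] at r23 ⊢
      exact r23
    · show w * (a * (w⁻¹ * (c * 1))) = 1
      simp only [mul_assoc, mul_one] at r24 ⊢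
      exact r24
    · show w * (b * (w⁻¹ * (d * 1))) = 1
      simp only [mul_assoc, mul_one] at r25 ⊢
      exact r25
    · show w * (c * (w⁻¹ * (a * 1))) = 1
      simp only [mul_assoc, mul_one] at r26 ⊢
      exact r26
    · show w * (d * (w⁻¹ * (b * (a * 1)))) = 1
      simp only [mul_assoc, mul_one] at r27 ⊢
      exact r27
    · show u * (a * (u * (a * 1))) = 1
      simp only [mul_assoc, mul_one] at r28 ⊢
      exact r28
    · show u * (b * (u * (c * (b * (a * 1))))) = 1
      simp only [mul_assoc, mul_one] at r29 ⊢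
      exact r29
    · show u * (c * (u * (c * 1))) = 1
      simp only [mul_assoc, mul_one] at r30 ⊢
      exact r30
    · show u * (d * (u * (d * (a * 1)))) = 1
      simp only [mul_assoc, mul_one] at r31 ⊢
      exact r31
    · show q * (x * (q⁻¹ * (y⁻¹ * (x⁻¹ * 1)))) = 1
      simp only [mul_assoc, mul_one] at r32 ⊢
      exact r32
    · show q * (w * (q⁻¹ * (w * 1))) = 1
      simp only [mul_assoc, mul_one] at r33 ⊢
      exact r33
    · show q * (q * (w⁻¹ * (w⁻¹ * 1))) = 1
      simp only [mul_assoc, mul_one] at r34 ⊢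
      exact r34
    · show q * (u * (q⁻¹ * (u * (w * 1)))) = 1
      simp only [mul_assoc, mul_one] at r35 ⊢
      exact r35
    · show q * (a * (c * (q⁻¹ * (a * (c * (q * (a * (c * (q⁻¹ * (a * (c * (w⁻¹ * (w⁻¹ *
    1))))))))))))) = 1
      simp only [mul_assoc, mul_one] at r36 ⊢
      exact r36
    · show f * (f * 1) = 1
      simp only [mul_one] at r37 ⊢
      exact r37
    · show f * (w * (w * (f * (w⁻¹ * (w⁻¹ * 1))))) = 1
      simp only [mul_assoc, mul_one] at r38 ⊢
      exact r38
    · show f * (x * (y * (f * (y⁻¹ * (x⁻¹ * 1))))) = 1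
      simp only [mul_assoc, mul_one] at r39 ⊢
      exact r39
    · show f * (a * (f * (a * 1))) = 1
      simp only [mul_assoc, mul_one] at r40 ⊢
      exact r40
    · show f * (b * (f * (b * 1))) = 1
      simp only [mul_assoc, mul_one] at r41 ⊢
      exact r41
    · show f * (c * (f * (c * (a * 1)))) = 1
      simp only [mul_assoc, mul_one] at r42 ⊢
      exact r42
    · show f * (d * (f * (d * (b * (a * 1))))) = 1
      simp only [mul_assoc, mul_one] at r43 ⊢
      exact r43
    · show s * (s * 1) = 1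
      simp only [mul_one] at r44 ⊢
      exact r44
    · show f * (q * (a * (q⁻¹ * (f * (s * 1))))) = 1
      simp only [mul_assoc, mul_one] at r45 ⊢
      exact r45
    · show f * (q * (a * (q⁻¹ * (f * (q * (a * (q⁻¹ * (f * (q * (a * (q⁻¹ * 1))))))))))) = 1
      simp only [mul_assoc, mul_one] at r46 ⊢
      exact r46
    · show f * (u * (f * (u * (w⁻¹ * (w⁻¹ * 1))))) = 1
      simp only [mul_assoc, mul_one] at r47 ⊢
      exact r47
    · show s * (x * (s * (y * (x⁻¹ * 1)))) = 1
      simp only [mul_assoc, mul_one] at r48 ⊢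
      exact r48) H
    (TC.forall_subs (K := 16) (by decide +kernel) (by
      intro a ha hb
      interval_cases a
      · exact absurd hb (by decide +kernel)
      · exact m1
      · exact H.inv_mem m1
      · exact m3
      · exact H.inv_mem m3
      · exact m5
      · exact H.inv_mem m5
      · exact m7
      · exact m8
      · exact H.inv_mem m8
      · exact absurd hb (by decide +kernel)
      · exact absurd hb (by decide +kernel)
      · exact m12
      · exact m13
      · exact m14
      · exact m15))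
  have e : {g₀ | ∃ ak ∈ p01_gl, TC.lett [x, x⁻¹, y, y⁻¹, w, w⁻¹, u, q, q⁻¹, f, s, a, b, c, d] (ak % 256) = g₀} =
      {x, y, w, u, q, a, b, c, d, f} := by
    ext g₀
    simp only [p01_gl, List.mem_cons, List.not_mem_nil, or_false, exists_eq_or_imp,
      exists_eq_left, Set.mem_ofPred_eq, Set.mem_insert_iff, Set.mem_singleton_iff]
    exact or_congr eq_comm (or_congr eq_comm (or_congr eq_comm (or_congr eq_comm (or_congr eq_comm (or_congr eq_comm (or_congr eq_comm (or_congr eq_comm (or_congr eq_comm (eq_comm)))))))))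
  rw [e] at h
  exact h

theorem p01_card {G : Type*} [Group G] {x y w u q f s a b c d : G}
    (e0 : x ^ 3 = 1)
    (e1 : w ^ 4 = 1)
    (e2 : w * x * w⁻¹ = y)
    (e3 : w * y * w⁻¹ = x⁻¹)
    (e4 : x * y = y * x)
    (e5 : u * u = 1)
    (e6 : u * w * u = w⁻¹)
    (e7 : (u * x) ^ 3 = 1)
    (e8 : (u * y) ^ 4 = 1)
    (e9 : (u * x * w) ^ 5 = 1)
    (e10 : a * a = 1)
    (e11 : b * b = 1)
    (e12 : c * c = 1)
    (e13 : d * d = 1)
    (e14 : a * b = b * a)
    (e15 : a * c = c * a)
    (e16 : a * d = d * a)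
    (e17 : b * c = c * b)
    (e18 : b * d = d * b)
    (e19 : c * d = d * c)
    (e20 : x * a * x⁻¹ = a)
    (e21 : x * b * x⁻¹ = b)
    (e22 : x * c * x⁻¹ = c * d)
    (e23 : x * d * x⁻¹ = c)
    (e24 : w * a * w⁻¹ = c)
    (e25 : w * b * w⁻¹ = d)
    (e26 : w * c * w⁻¹ = a)
    (e27 : w * d * w⁻¹ = a * b)
    (e28 : u * a * u = a)
    (e29 : u * b * u = a * b * c)
    (e30 : u * c * u = c)
    (e31 : u * d * u = a * d)
    (e32 : q * x * q⁻¹ = x * y)
    (e33 : q * w * q⁻¹ = w⁻¹)
    (e34 : q * q = w * w)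
    (e35 : q * u * q⁻¹ = w⁻¹ * u)
    (e36 : (q * (a * c) * q⁻¹ * (a * c)) ^ 2 = w * w)
    (e37 : f * f = 1)
    (e38 : f * (w * w) = w * w * f)
    (e39 : f * (x * y) = x * y * f)
    (e40 : f * a * f = a)
    (e41 : f * b * f = b)
    (e42 : f * c * f = a * c)
    (e43 : f * d * f = a * b * d)
    (e44 : s * s = 1)
    (e45 : f * (q * a * q⁻¹) * f = s)
    (e46 : (f * (q * a * q⁻¹)) ^ 3 = 1)
    (e47 : f * u * f = w * w * u)
    (e48 : s * x * s = x * y⁻¹)
    (H : Subgroup G) [Finite H] (mx : x ∈ H) (my : y ∈ H) (mw : w ∈ H) (mu : u ∈ H) (mq : q ∈ H) (ma : a ∈ H) (mb : b ∈ H) (mc : c ∈ H) (md : d ∈ H) :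
    Finite (Subgroup.closure ({x, y, w, u, q, a, b, c, d, f} : Set G)) ∧
      Nat.card (Subgroup.closure ({x, y, w, u, q, a, b, c, d, f} : Set G)) ≤ 1 * Nat.card H := by
  have iu : u⁻¹ = u := inv_eq_of_mul_eq_one_right e5
  have jf : f⁻¹ = f := inv_eq_of_mul_eq_one_right e37
  have is : s⁻¹ = s := inv_eq_of_mul_eq_one_right e44
  have ia : a⁻¹ = a := inv_eq_of_mul_eq_one_right e10
  have ib : b⁻¹ = b := inv_eq_of_mul_eq_one_right e11
  have ic : c⁻¹ = c := inv_eq_of_mul_eq_one_right e12
  have id : d⁻¹ = d := inv_eq_of_mul_eq_one_right e13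
  refine p01_bound (s := s) ?_ ?_ ?_ ?_ ?_ ?_ ?_ ?_ ?_ ?_ ?_ ?_ ?_ ?_ ?_ ?_ ?_ ?_ ?_ ?_ ?_ ?_ ?_ ?_ ?_ ?_ ?_ ?_ ?_ ?_ ?_ ?_ ?_ ?_ ?_ ?_ ?_ ?_ ?_ ?_ ?_ ?_ ?_ ?_ ?_ ?_ ?_ ?_ ?_ H mx my mw mu mq ma mb mc md
  · have h := mul_inv_eq_one.mpr e0
    simp only [pow_succ, pow_zero, mul_inv_rev, inv_inv, inv_one, one_mul, mul_one, mul_assoc,
      mul_inv_cancel_left, inv_mul_cancel_left, mul_inv_cancel, inv_mul_cancel, iu, jf, is, ia, ib, ic, id] at h ⊢
    exact h
  · have h := mul_inv_eq_one.mpr e1
    simp only [pow_succ, pow_zero, mul_inv_rev, inv_inv, inv_one, one_mul, mul_one, mul_assoc,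
      mul_inv_cancel_left, inv_mul_cancel_left, mul_inv_cancel, inv_mul_cancel, iu, jf, is, ia, ib, ic, id] at h ⊢
    exact h
  · have h := mul_inv_eq_one.mpr e2
    simp only [pow_succ, pow_zero, mul_inv_rev, inv_inv, inv_one, one_mul, mul_one, mul_assoc,
      mul_inv_cancel_left, inv_mul_cancel_left, mul_inv_cancel, inv_mul_cancel, iu, jf, is, ia, ib, ic, id] at h ⊢
    exact h
  · have h := mul_inv_eq_one.mpr e3
    simp only [pow_succ, pow_zero, mul_inv_rev, inv_inv, inv_one, one_mul, mul_one, mul_assoc,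
      mul_inv_cancel_left, inv_mul_cancel_left, mul_inv_cancel, inv_mul_cancel, iu, jf, is, ia, ib, ic, id] at h ⊢
    exact h
  · have h := mul_inv_eq_one.mpr e4
    simp only [pow_succ, pow_zero, mul_inv_rev, inv_inv, inv_one, one_mul, mul_one, mul_assoc,
      mul_inv_cancel_left, inv_mul_cancel_left, mul_inv_cancel, inv_mul_cancel, iu, jf, is, ia, ib, ic, id] at h ⊢
    exact h
  · have h := mul_inv_eq_one.mpr e5
    simp only [pow_succ, pow_zero, mul_inv_rev, inv_inv, inv_one, one_mul, mul_one, mul_assoc,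
      mul_inv_cancel_left, inv_mul_cancel_left, mul_inv_cancel, inv_mul_cancel, iu, jf, is, ia, ib, ic, id] at h ⊢
    exact h
  · have h := mul_inv_eq_one.mpr e6
    simp only [pow_succ, pow_zero, mul_inv_rev, inv_inv, inv_one, one_mul, mul_one, mul_assoc,
      mul_inv_cancel_left, inv_mul_cancel_left, mul_inv_cancel, inv_mul_cancel, iu, jf, is, ia, ib, ic, id] at h ⊢
    exact h
  · have h := mul_inv_eq_one.mpr e7
    simp only [pow_succ, pow_zero, mul_inv_rev, inv_inv, inv_one, one_mul, mul_one, mul_assoc,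
      mul_inv_cancel_left, inv_mul_cancel_left, mul_inv_cancel, inv_mul_cancel, iu, jf, is, ia, ib, ic, id] at h ⊢
    exact h
  · have h := mul_inv_eq_one.mpr e8
    simp only [pow_succ, pow_zero, mul_inv_rev, inv_inv, inv_one, one_mul, mul_one, mul_assoc,
      mul_inv_cancel_left, inv_mul_cancel_left, mul_inv_cancel, inv_mul_cancel, iu, jf, is, ia, ib, ic, id] at h ⊢
    exact h
  · have h := mul_inv_eq_one.mpr e9
    simp only [pow_succ, pow_zero, mul_inv_rev, inv_inv, inv_one, one_mul, mul_one, mul_assoc,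
      mul_inv_cancel_left, inv_mul_cancel_left, mul_inv_cancel, inv_mul_cancel, iu, jf, is, ia, ib, ic, id] at h ⊢
    exact h
  · have h := mul_inv_eq_one.mpr e10
    simp only [pow_succ, pow_zero, mul_inv_rev, inv_inv, inv_one, one_mul, mul_one, mul_assoc,
      mul_inv_cancel_left, inv_mul_cancel_left, mul_inv_cancel, inv_mul_cancel, iu, jf, is, ia, ib, ic, id] at h ⊢
    exact h
  · have h := mul_inv_eq_one.mpr e11
    simp only [pow_succ, pow_zero, mul_inv_rev, inv_inv, inv_one, one_mul, mul_one, mul_assoc,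
      mul_inv_cancel_left, inv_mul_cancel_left, mul_inv_cancel, inv_mul_cancel, iu, jf, is, ia, ib, ic, id] at h ⊢
    exact h
  · have h := mul_inv_eq_one.mpr e12
    simp only [pow_succ, pow_zero, mul_inv_rev, inv_inv, inv_one, one_mul, mul_one, mul_assoc,
      mul_inv_cancel_left, inv_mul_cancel_left, mul_inv_cancel, inv_mul_cancel, iu, jf, is, ia, ib, ic, id] at h ⊢
    exact h
  · have h := mul_inv_eq_one.mpr e13
    simp only [pow_succ, pow_zero, mul_inv_rev, inv_inv, inv_one, one_mul, mul_one, mul_assoc,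
      mul_inv_cancel_left, inv_mul_cancel_left, mul_inv_cancel, inv_mul_cancel, iu, jf, is, ia, ib, ic, id] at h ⊢
    exact h
  · have h := mul_inv_eq_one.mpr e14
    simp only [pow_succ, pow_zero, mul_inv_rev, inv_inv, inv_one, one_mul, mul_one, mul_assoc,
      mul_inv_cancel_left, inv_mul_cancel_left, mul_inv_cancel, inv_mul_cancel, iu, jf, is, ia, ib, ic, id] at h ⊢
    exact h
  · have h := mul_inv_eq_one.mpr e15
    simp only [pow_succ, pow_zero, mul_inv_rev, inv_inv, inv_one, one_mul, mul_one, mul_assoc,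
      mul_inv_cancel_left, inv_mul_cancel_left, mul_inv_cancel, inv_mul_cancel, iu, jf, is, ia, ib, ic, id] at h ⊢
    exact h
  · have h := mul_inv_eq_one.mpr e16
    simp only [pow_succ, pow_zero, mul_inv_rev, inv_inv, inv_one, one_mul, mul_one, mul_assoc,
      mul_inv_cancel_left, inv_mul_cancel_left, mul_inv_cancel, inv_mul_cancel, iu, jf, is, ia, ib, ic, id] at h ⊢
    exact h
  · have h := mul_inv_eq_one.mpr e17
    simp only [pow_succ, pow_zero, mul_inv_rev, inv_inv, inv_one, one_mul, mul_one, mul_assoc,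
      mul_inv_cancel_left, inv_mul_cancel_left, mul_inv_cancel, inv_mul_cancel, iu, jf, is, ia, ib, ic, id] at h ⊢
    exact h
  · have h := mul_inv_eq_one.mpr e18
    simp only [pow_succ, pow_zero, mul_inv_rev, inv_inv, inv_one, one_mul, mul_one, mul_assoc,
      mul_inv_cancel_left, inv_mul_cancel_left, mul_inv_cancel, inv_mul_cancel, iu, jf, is, ia, ib, ic, id] at h ⊢
    exact h
  · have h := mul_inv_eq_one.mpr e19
    simp only [pow_succ, pow_zero, mul_inv_rev, inv_inv, inv_one, one_mul, mul_one, mul_assoc,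
      mul_inv_cancel_left, inv_mul_cancel_left, mul_inv_cancel, inv_mul_cancel, iu, jf, is, ia, ib, ic, id] at h ⊢
    exact h
  · have h := mul_inv_eq_one.mpr e20
    simp only [pow_succ, pow_zero, mul_inv_rev, inv_inv, inv_one, one_mul, mul_one, mul_assoc,
      mul_inv_cancel_left, inv_mul_cancel_left, mul_inv_cancel, inv_mul_cancel, iu, jf, is, ia, ib, ic, id] at h ⊢
    exact h
  · have h := mul_inv_eq_one.mpr e21
    simp only [pow_succ, pow_zero, mul_inv_rev, inv_inv, inv_one, one_mul, mul_one, mul_assoc,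
      mul_inv_cancel_left, inv_mul_cancel_left, mul_inv_cancel, inv_mul_cancel, iu, jf, is, ia, ib, ic, id] at h ⊢
    exact h
  · have h := mul_inv_eq_one.mpr e22
    simp only [pow_succ, pow_zero, mul_inv_rev, inv_inv, inv_one, one_mul, mul_one, mul_assoc,
      mul_inv_cancel_left, inv_mul_cancel_left, mul_inv_cancel, inv_mul_cancel, iu, jf, is, ia, ib, ic, id] at h ⊢
    exact h
  · have h := mul_inv_eq_one.mpr e23
    simp only [pow_succ, pow_zero, mul_inv_rev, inv_inv, inv_one, one_mul, mul_one, mul_assoc,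
      mul_inv_cancel_left, inv_mul_cancel_left, mul_inv_cancel, inv_mul_cancel, iu, jf, is, ia, ib, ic, id] at h ⊢
    exact h
  · have h := mul_inv_eq_one.mpr e24
    simp only [pow_succ, pow_zero, mul_inv_rev, inv_inv, inv_one, one_mul, mul_one, mul_assoc,
      mul_inv_cancel_left, inv_mul_cancel_left, mul_inv_cancel, inv_mul_cancel, iu, jf, is, ia, ib, ic, id] at h ⊢
    exact h
  · have h := mul_inv_eq_one.mpr e25
    simp only [pow_succ, pow_zero, mul_inv_rev, inv_inv, inv_one, one_mul, mul_one, mul_assoc,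
      mul_inv_cancel_left, inv_mul_cancel_left, mul_inv_cancel, inv_mul_cancel, iu, jf, is, ia, ib, ic, id] at h ⊢
    exact h
  · have h := mul_inv_eq_one.mpr e26
    simp only [pow_succ, pow_zero, mul_inv_rev, inv_inv, inv_one, one_mul, mul_one, mul_assoc,
      mul_inv_cancel_left, inv_mul_cancel_left, mul_inv_cancel, inv_mul_cancel, iu, jf, is, ia, ib, ic, id] at h ⊢
    exact h
  · have h := mul_inv_eq_one.mpr e27
    simp only [pow_succ, pow_zero, mul_inv_rev, inv_inv, inv_one, one_mul, mul_one, mul_assoc,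
      mul_inv_cancel_left, inv_mul_cancel_left, mul_inv_cancel, inv_mul_cancel, iu, jf, is, ia, ib, ic, id] at h ⊢
    exact h
  · have h := mul_inv_eq_one.mpr e28
    simp only [pow_succ, pow_zero, mul_inv_rev, inv_inv, inv_one, one_mul, mul_one, mul_assoc,
      mul_inv_cancel_left, inv_mul_cancel_left, mul_inv_cancel, inv_mul_cancel, iu, jf, is, ia, ib, ic, id] at h ⊢
    exact h
  · have h := mul_inv_eq_one.mpr e29
    simp only [pow_succ, pow_zero, mul_inv_rev, inv_inv, inv_one, one_mul, mul_one, mul_assoc,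
      mul_inv_cancel_left, inv_mul_cancel_left, mul_inv_cancel, inv_mul_cancel, iu, jf, is, ia, ib, ic, id] at h ⊢
    exact h
  · have h := mul_inv_eq_one.mpr e30
    simp only [pow_succ, pow_zero, mul_inv_rev, inv_inv, inv_one, one_mul, mul_one, mul_assoc,
      mul_inv_cancel_left, inv_mul_cancel_left, mul_inv_cancel, inv_mul_cancel, iu, jf, is, ia, ib, ic, id] at h ⊢
    exact h
  · have h := mul_inv_eq_one.mpr e31
    simp only [pow_succ, pow_zero, mul_inv_rev, inv_inv, inv_one, one_mul, mul_one, mul_assoc,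
      mul_inv_cancel_left, inv_mul_cancel_left, mul_inv_cancel, inv_mul_cancel, iu, jf, is, ia, ib, ic, id] at h ⊢
    exact h
  · have h := mul_inv_eq_one.mpr e32
    simp only [pow_succ, pow_zero, mul_inv_rev, inv_inv, inv_one, one_mul, mul_one, mul_assoc,
      mul_inv_cancel_left, inv_mul_cancel_left, mul_inv_cancel, inv_mul_cancel, iu, jf, is, ia, ib, ic, id] at h ⊢
    exact h
  · have h := mul_inv_eq_one.mpr e33
    simp only [pow_succ, pow_zero, mul_inv_rev, inv_inv, inv_one, one_mul, mul_one, mul_assoc,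
      mul_inv_cancel_left, inv_mul_cancel_left, mul_inv_cancel, inv_mul_cancel, iu, jf, is, ia, ib, ic, id] at h ⊢
    exact h
  · have h := mul_inv_eq_one.mpr e34
    simp only [pow_succ, pow_zero, mul_inv_rev, inv_inv, inv_one, one_mul, mul_one, mul_assoc,
      mul_inv_cancel_left, inv_mul_cancel_left, mul_inv_cancel, inv_mul_cancel, iu, jf, is, ia, ib, ic, id] at h ⊢
    exact h
  · have h := mul_inv_eq_one.mpr e35
    simp only [pow_succ, pow_zero, mul_inv_rev, inv_inv, inv_one, one_mul, mul_one, mul_assoc,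
      mul_inv_cancel_left, inv_mul_cancel_left, mul_inv_cancel, inv_mul_cancel, iu, jf, is, ia, ib, ic, id] at h ⊢
    exact h
  · have h := mul_inv_eq_one.mpr e36
    simp only [pow_succ, pow_zero, mul_inv_rev, inv_inv, inv_one, one_mul, mul_one, mul_assoc,
      mul_inv_cancel_left, inv_mul_cancel_left, mul_inv_cancel, inv_mul_cancel, iu, jf, is, ia, ib, ic, id] at h ⊢
    exact h
  · have h := mul_inv_eq_one.mpr e37
    simp only [pow_succ, pow_zero, mul_inv_rev, inv_inv, inv_one, one_mul, mul_one, mul_assoc,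
      mul_inv_cancel_left, inv_mul_cancel_left, mul_inv_cancel, inv_mul_cancel, iu, jf, is, ia, ib, ic, id] at h ⊢
    exact h
  · have h := mul_inv_eq_one.mpr e38
    simp only [pow_succ, pow_zero, mul_inv_rev, inv_inv, inv_one, one_mul, mul_one, mul_assoc,
      mul_inv_cancel_left, inv_mul_cancel_left, mul_inv_cancel, inv_mul_cancel, iu, jf, is, ia, ib, ic, id] at h ⊢
    exact h
  · have h := mul_inv_eq_one.mpr e39
    simp only [pow_succ, pow_zero, mul_inv_rev, inv_inv, inv_one, one_mul, mul_one, mul_assoc,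
      mul_inv_cancel_left, inv_mul_cancel_left, mul_inv_cancel, inv_mul_cancel, iu, jf, is, ia, ib, ic, id] at h ⊢
    exact h
  · have h := mul_inv_eq_one.mpr e40
    simp only [pow_succ, pow_zero, mul_inv_rev, inv_inv, inv_one, one_mul, mul_one, mul_assoc,
      mul_inv_cancel_left, inv_mul_cancel_left, mul_inv_cancel, inv_mul_cancel, iu, jf, is, ia, ib, ic, id] at h ⊢
    exact h
  · have h := mul_inv_eq_one.mpr e41
    simp only [pow_succ, pow_zero, mul_inv_rev, inv_inv, inv_one, one_mul, mul_one, mul_assoc,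
      mul_inv_cancel_left, inv_mul_cancel_left, mul_inv_cancel, inv_mul_cancel, iu, jf, is, ia, ib, ic, id] at h ⊢
    exact h
  · have h := mul_inv_eq_one.mpr e42
    simp only [pow_succ, pow_zero, mul_inv_rev, inv_inv, inv_one, one_mul, mul_one, mul_assoc,
      mul_inv_cancel_left, inv_mul_cancel_left, mul_inv_cancel, inv_mul_cancel, iu, jf, is, ia, ib, ic, id] at h ⊢
    exact h
  · have h := mul_inv_eq_one.mpr e43
    simp only [pow_succ, pow_zero, mul_inv_rev, inv_inv, inv_one, one_mul, mul_one, mul_assoc,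
      mul_inv_cancel_left, inv_mul_cancel_left, mul_inv_cancel, inv_mul_cancel, iu, jf, is, ia, ib, ic, id] at h ⊢
    exact h
  · have h := mul_inv_eq_one.mpr e44
    simp only [pow_succ, pow_zero, mul_inv_rev, inv_inv, inv_one, one_mul, mul_one, mul_assoc,
      mul_inv_cancel_left, inv_mul_cancel_left, mul_inv_cancel, inv_mul_cancel, iu, jf, is, ia, ib, ic, id] at h ⊢
    exact h
  · have h := mul_inv_eq_one.mpr e45
    simp only [pow_succ, pow_zero, mul_inv_rev, inv_inv, inv_one, one_mul, mul_one, mul_assoc,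
      mul_inv_cancel_left, inv_mul_cancel_left, mul_inv_cancel, inv_mul_cancel, iu, jf, is, ia, ib, ic, id] at h ⊢
    exact h
  · have h := mul_inv_eq_one.mpr e46
    simp only [pow_succ, pow_zero, mul_inv_rev, inv_inv, inv_one, one_mul, mul_one, mul_assoc,
      mul_inv_cancel_left, inv_mul_cancel_left, mul_inv_cancel, inv_mul_cancel, iu, jf, is, ia, ib, ic, id] at h ⊢
    exact h
  · have h := mul_inv_eq_one.mpr e47
    simp only [pow_succ, pow_zero, mul_inv_rev, inv_inv, inv_one, one_mul, mul_one, mul_assoc,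
      mul_inv_cancel_left, inv_mul_cancel_left, mul_inv_cancel, inv_mul_cancel, iu, jf, is, ia, ib, ic, id] at h ⊢
    exact h
  · have h := mul_inv_eq_one.mpr e48
    simp only [pow_succ, pow_zero, mul_inv_rev, inv_inv, inv_one, one_mul, mul_one, mul_assoc,
      mul_inv_cancel_left, inv_mul_cancel_left, mul_inv_cancel, inv_mul_cancel, iu, jf, is, ia, ib, ic, id] at h ⊢
    exact h

/-- Certificate data. -/
def p02_par : Trie :=
    (.node (.node (.node (.node (.node (.node (.leaf (nat_lit 0)) (.leaf (nat_lit 2306))) (.node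
    (.leaf (nat_lit 776)) (.leaf (nat_lit 4613)))) (.node (.node (.leaf (nat_lit 518)) (.leaf
    (nat_lit 3335))) (.leaf (nat_lit 1548)))) (.node (.node (.node (.leaf (nat_lit 258)) (.leaf
    (nat_lit 2567))) (.leaf (nat_lit 1034))) (.node (.node (.leaf (nat_lit 522)) (.leaf (nat_lit
    3595))) (.leaf (nat_lit 1797))))) (.node (.node (.node (.node (.leaf (nat_lit 11)) (.leaf
    (nat_lit 2308))) (.node (.leaf (nat_lit 778)) (.leaf (nat_lit 4617)))) (.node (.node (.leaf
    (nat_lit 520)) (.leaf (nat_lit 3338))) (.leaf (nat_lit 1550)))) (.node (.node (.node (.leaf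
    (nat_lit 264)) (.leaf (nat_lit 2574))) (.leaf (nat_lit 1290))) (.node (.node (.leaf (nat_lit
    774)) (.leaf (nat_lit 4111))) (.leaf (nat_lit 1800)))))) (.node (.node (.node (.node (.node
    (.leaf (nat_lit 10)) (.leaf (nat_lit 2307))) (.node (.leaf (nat_lit 777)) (.leaf (nat_lit
    4616)))) (.node (.node (.leaf (nat_lit 519)) (.leaf (nat_lit 3336))) (.leaf (nat_lit 1549))))
    (.node (.node (.node (.leaf (nat_lit 261)) (.leaf (nat_lit 2573))) (.leaf (nat_lit 1288)))
    (.node (.node (.leaf (nat_lit 773)) (.leaf (nat_lit 4110))) (.leaf (nat_lit 1799))))) (.node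
    (.node (.node (.node (.leaf (nat_lit 257)) (.leaf (nat_lit 2315))) (.leaf (nat_lit 1031)))
    (.node (.node (.leaf (nat_lit 521)) (.leaf (nat_lit 3339))) (.leaf (nat_lit 1551)))) (.node
    (.node (.node (.leaf (nat_lit 517)) (.leaf (nat_lit 2575))) (.leaf (nat_lit 1291))) (.node
    (.node (.leaf (nat_lit 775)) (.leaf (nat_lit 4367))) (.leaf (nat_lit 2305)))))))

/-- Certificate data. -/
def p02_fact : Trie :=
    (.node (.node (.node (.node (.node (.node (.node (.node (.leaf (nat_lit 1)) (.leaf (nat_lit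
    213767))) (.node (.leaf (nat_lit 103686)) (.leaf (nat_lit 535552)))) (.node (.node (.leaf
    (nat_lit 133121)) (.leaf (nat_lit 387842))) (.leaf (nat_lit 39936)))) (.node (.node (.node
    (.leaf (nat_lit 65794)) (.leaf (nat_lit 272134))) (.node (.leaf (nat_lit 460549)) (.leaf
    (nat_lit 16896)))) (.node (.node (.leaf (nat_lit 246535)) (.leaf (nat_lit 777993))) (.leaf
    (nat_lit 559364))))) (.node (.node (.node (.node (.leaf (nat_lit 15)) (.leaf (nat_lit 284928)))
    (.node (.leaf (nat_lit 186368)) (.leaf (nat_lit 156160)))) (.node (.node (.leaf (nat_lit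
    85250)) (.leaf (nat_lit 650765))) (.leaf (nat_lit 154121)))) (.node (.node (.node (.leaf
    (nat_lit 83207)) (.leaf (nat_lit 516613))) (.leaf (nat_lit 154885))) (.node (.node (.leaf
    (nat_lit 282627)) (.leaf (nat_lit 70144))) (.leaf (nat_lit 435724)))))) (.node (.node (.node
    (.node (.node (.leaf (nat_lit 8)) (.leaf (nat_lit 272645))) (.node (.leaf (nat_lit 361738))
    (.leaf (nat_lit 516096)))) (.node (.node (.leaf (nat_lit 180745)) (.leaf (nat_lit 388099)))
    (.leaf (nat_lit 164361)))) (.node (.node (.node (.leaf (nat_lit 66308)) (.leaf (nat_lit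
    154880))) (.leaf (nat_lit 171017))) (.node (.node (.leaf (nat_lit 263683)) (.leaf (nat_lit
    807432))) (.leaf (nat_lit 484360))))) (.node (.node (.node (.node (.leaf (nat_lit 32779))
    (.leaf (nat_lit 167949))) (.node (.leaf (nat_lit 411149)) (.leaf (nat_lit 40704)))) (.node
    (.node (.leaf (nat_lit 85505)) (.leaf (nat_lit 765702))) (.leaf (nat_lit 510209)))) (.node
    (.node (.node (.leaf (nat_lit 115205)) (.leaf (nat_lit 691466))) (.leaf (nat_lit 138760)))
    (.node (.node (.leaf (nat_lit 250626)) (.leaf (nat_lit 87552))) (.leaf (nat_lit 658695)))))))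
    (.node (.node (.node (.node (.node (.node (.leaf (nat_lit 5)) (.leaf (nat_lit 266247))) (.node
    (.leaf (nat_lit 345607)) (.leaf (nat_lit 518912)))) (.node (.node (.leaf (nat_lit 147975))
    (.leaf (nat_lit 715780))) (.leaf (nat_lit 494085)))) (.node (.node (.node (.leaf (nat_lit
    17412)) (.leaf (nat_lit 435200))) (.node (.leaf (nat_lit 465924)) (.leaf (nat_lit 256))))
    (.node (.node (.leaf (nat_lit 69640)) (.leaf (nat_lit 791045))) (.leaf (nat_lit 592391)))))
    (.node (.node (.node (.node (.leaf (nat_lit 16651)) (.leaf (nat_lit 610572))) (.node (.leaf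
    (nat_lit 35840)) (.leaf (nat_lit 41472)))) (.node (.node (.leaf (nat_lit 230150)) (.leaf
    (nat_lit 774415))) (.leaf (nat_lit 154886)))) (.node (.node (.node (.leaf (nat_lit 17928))
    (.leaf (nat_lit 369408))) (.leaf (nat_lit 171525))) (.node (.node (.leaf (nat_lit 295690))
    (.leaf (nat_lit 223744))) (.leaf (nat_lit 452364)))))) (.node (.node (.node (.node (.node
    (.leaf (nat_lit 13)) (.leaf (nat_lit 354562))) (.node (.leaf (nat_lit 394764)) (.leaf (nat_lit
    765696)))) (.node (.node (.leaf (nat_lit 213765)) (.leaf (nat_lit 453893))) (.leaf (nat_lit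
    493321)))) (.node (.node (.node (.leaf (nat_lit 82181)) (.leaf (nat_lit 548613))) (.leaf
    (nat_lit 461577))) (.node (.node (.leaf (nat_lit 69897)) (.leaf (nat_lit 823817))) (.leaf
    (nat_lit 419084))))) (.node (.node (.node (.node (.leaf (nat_lit 33281)) (.leaf (nat_lit
    649479))) (.node (.leaf (nat_lit 443919)) (.leaf (nat_lit 100864)))) (.node (.node (.leaf
    (nat_lit 85507)) (.leaf (nat_lit 536329))) (.leaf (nat_lit 516103)))) (.node (.node (.node
    (.leaf (nat_lit 116481)) (.leaf (nat_lit 707851))) (.leaf (nat_lit 496910))) (.node (.node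
    (.leaf (nat_lit 345352)) (.leaf (nat_lit 551680))) (.leaf (nat_lit 216832)))))))) (.node (.node
    (.node (.node (.node (.node (.node (.leaf (nat_lit 3)) (.leaf (nat_lit 282887))) (.node (.leaf
    (nat_lit 87304)) (.leaf (nat_lit 532992)))) (.node (.node (.leaf (nat_lit 133123)) (.leaf
    (nat_lit 724491))) (.leaf (nat_lit 100876)))) (.node (.node (.node (.leaf (nat_lit 50178))
    (.leaf (nat_lit 353792))) (.node (.leaf (nat_lit 138245)) (.leaf (nat_lit 18688)))) (.node
    (.node (.leaf (nat_lit 262920)) (.leaf (nat_lit 552456))) (.leaf (nat_lit 575755))))) (.node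
    (.node (.node (.node (.leaf (nat_lit 16394)) (.leaf (nat_lit 102669))) (.node (.leaf (nat_lit
    101132)) (.leaf (nat_lit 35072)))) (.node (.node (.leaf (nat_lit 214022)) (.leaf (nat_lit
    749057))) (.leaf (nat_lit 154120)))) (.node (.node (.node (.leaf (nat_lit 98568)) (.leaf
    (nat_lit 565767))) (.leaf (nat_lit 493320))) (.node (.node (.leaf (nat_lit 280068)) (.leaf
    (nat_lit 54272))) (.leaf (nat_lit 641551)))))) (.node (.node (.node (.node (.node (.leaf
    (nat_lit 12)) (.leaf (nat_lit 289030))) (.node (.leaf (nat_lit 378123)) (.leaf (nat_lit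
    516608)))) (.node (.node (.leaf (nat_lit 197130)) (.leaf (nat_lit 741390))) (.leaf (nat_lit
    34565)))) (.node (.node (.node (.leaf (nat_lit 66315)) (.leaf (nat_lit 149766))) (.leaf
    (nat_lit 166401))) (.node (.node (.leaf (nat_lit 279305)) (.leaf (nat_lit 340232))) (.leaf
    (nat_lit 608781))))) (.node (.node (.node (.node (.leaf (nat_lit 33284)) (.leaf (nat_lit
    282636))) (.node (.leaf (nat_lit 427534)) (.leaf (nat_lit 175872)))) (.node (.node (.leaf
    (nat_lit 216578)) (.leaf (nat_lit 776964))) (.leaf (nat_lit 526594)))) (.node (.node (.node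
    (.leaf (nat_lit 116484)) (.leaf (nat_lit 338439))) (.leaf (nat_lit 499201))) (.node (.node
    (.leaf (nat_lit 328714)) (.leaf (nat_lit 153344))) (.leaf (nat_lit 256005))))))) (.node (.node
    (.node (.node (.node (.node (.leaf (nat_lit 7)) (.leaf (nat_lit 675080))) (.node (.leaf
    (nat_lit 349444)) (.leaf (nat_lit 532227)))) (.node (.node (.leaf (nat_lit 164360)) (.leaf
    (nat_lit 388097))) (.leaf (nat_lit 116736)))) (.node (.node (.node (.leaf (nat_lit 49412))
    (.leaf (nat_lit 350732))) (.node (.leaf (nat_lit 465921)) (.leaf (nat_lit 10)))) (.node (.node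
    (.leaf (nat_lit 266241)) (.leaf (nat_lit 339973))) (.leaf (nat_lit 353292))))) (.node (.node
    (.node (.node (.leaf (nat_lit 16647)) (.leaf (nat_lit 271616))) (.node (.leaf (nat_lit 33290))
    (.leaf (nat_lit 175616)))) (.node (.node (.leaf (nat_lit 69126)) (.leaf (nat_lit 765708)))
    (.leaf (nat_lit 149770)))) (.node (.node (.node (.leaf (nat_lit 99841)) (.leaf (nat_lit
    153099))) (.leaf (nat_lit 187910))) (.node (.node (.leaf (nat_lit 312327)) (.leaf (nat_lit
    216330))) (.leaf (nat_lit 632577)))))) (.node (.node (.node (.node (.node (.leaf (nat_lit 14))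
    (.leaf (nat_lit 677135))) (.node (.leaf (nat_lit 202760)) (.leaf (nat_lit 155392)))) (.node
    (.node (.leaf (nat_lit 85252)) (.leaf (nat_lit 757775))) (.leaf (nat_lit 433671)))) (.node
    (.node (.node (.leaf (nat_lit 17669)) (.leaf (nat_lit 565253))) (.leaf (nat_lit 476935)))
    (.node (.node (.leaf (nat_lit 282881)) (.leaf (nat_lit 815628))) (.leaf (nat_lit 625166)))))
    (.node (.node (.node (.node (.leaf (nat_lit 49409)) (.leaf (nat_lit 288517))) (.node (.leaf
    (nat_lit 432897)) (.leaf (nat_lit 110336)))) (.node (.node (.leaf (nat_lit 216580)) (.leaf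
    (nat_lit 762376))) (.leaf (nat_lit 542979)))) (.node (.node (.node (.leaf (nat_lit 131590))
    (.leaf (nat_lit 387844))) (.leaf (nat_lit 166656))) (.node (.node (.leaf (nat_lit 103685))
    (.leaf (nat_lit 516352))) (.leaf (nat_lit 59392)))))))))

/-- Certificate data. -/
def p02_just : Trie :=
    (.node (.node (.node (.node (.node (.node (.node (.node (.leaf (nat_lit 1)) (.leaf (nat_lit
    548652007424002))) (.node (.leaf (nat_lit 56396687282995230)) (.leaf (nat_lit
    246278810641825794)))) (.node (.node (.leaf (nat_lit 69865438435278866)) (.leaf (nat_lit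
    155547072463044675))) (.leaf (nat_lit 82611428196024322)))) (.node (.node (.node (.leaf
    (nat_lit 0)) (.leaf (nat_lit 294441641891266620))) (.node (.leaf (nat_lit 0)) (.leaf (nat_lit
    30442857494038708226)))) (.node (.node (.leaf (nat_lit 0)) (.leaf (nat_lit
    393606681499729957))) (.leaf (nat_lit 0))))) (.node (.node (.node (.node (.leaf (nat_lit 1))
    (.leaf (nat_lit 153642837418688380985))) (.node (.leaf (nat_lit
    196402889199142138320109987331639912169506)) (.leaf (nat_lit 876903472955394)))) (.node (.node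
    (.leaf (nat_lit 49625688520720404)) (.leaf (nat_lit 273084942781710406))) (.leaf (nat_lit
    39279704146658459690)))) (.node (.node (.node (.leaf (nat_lit 49588171981389837)) (.leaf
    (nat_lit 243852854199255104))) (.leaf (nat_lit 76687289610338342))) (.node (.node (.leaf
    (nat_lit 64109943986541821977)) (.leaf (nat_lit 336766379336801104249313890430770775588940)))
    (.leaf (nat_lit 173816222662721586)))))) (.node (.node (.node (.node (.node (.leaf (nat_lit 1))
    (.leaf (nat_lit 110508645237850141))) (.node (.leaf (nat_lit 0)) (.leaf (nat_lit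
    173946576272873488386)))) (.node (.node (.leaf (nat_lit 0)) (.leaf (nat_lit
    155569088465403972))) (.leaf (nat_lit 370264835751938)))) (.node (.node (.node (.leaf (nat_lit
    36108112180215818)) (.leaf (nat_lit 237082095955148802))) (.leaf (nat_lit 78939029294481445)))
    (.node (.node (.leaf (nat_lit 59485861867864457241)) (.leaf (nat_lit 0))) (.leaf (nat_lit
    102110557338593394736))))) (.node (.node (.node (.node (.leaf (nat_lit 0)) (.leaf (nat_lit
    517968761061378))) (.node (.leaf (nat_lit 0)) (.leaf (nat_lit 885716745846786)))) (.node (.node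
    (.leaf (nat_lit 53003422600986642)) (.leaf (nat_lit 380060852864352327))) (.leaf (nat_lit 0))))
    (.node (.node (.node (.leaf (nat_lit 0)) (.leaf (nat_lit 0))) (.leaf (nat_lit
    182748397428736014))) (.node (.node (.leaf (nat_lit 28351518688563700236316)) (.leaf (nat_lit
    13326438769105213644472397))) (.leaf (nat_lit 0))))))) (.node (.node (.node (.node (.node
    (.node (.leaf (nat_lit 1)) (.leaf (nat_lit 8781973108817201794495479862))) (.node (.leaf
    (nat_lit 71536577804427853856)) (.leaf (nat_lit 841658971324418)))) (.node (.node (.leaf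
    (nat_lit 0)) (.leaf (nat_lit 355983669929902085))) (.leaf (nat_lit 403241594650626)))) (.node
    (.node (.node (.leaf (nat_lit 5314392843308344082440)) (.leaf (nat_lit 270856881252270082)))
    (.node (.leaf (nat_lit 180278817003339792)) (.leaf (nat_lit 11423852845393510402)))) (.node
    (.node (.leaf (nat_lit 93617243237318670)) (.leaf (nat_lit 0))) (.leaf (nat_lit 0))))) (.node
    (.node (.node (.node (.leaf (nat_lit 5317286384018567528451)) (.leaf (nat_lit
    522341037768706))) (.node (.leaf (nat_lit 82507966728830978)) (.leaf (nat_lit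
    885725335781378)))) (.node (.node (.leaf (nat_lit 0)) (.leaf (nat_lit 0))) (.leaf (nat_lit
    121289142716892184620)))) (.node (.node (.node (.leaf (nat_lit 51888371781533710)) (.leaf
    (nat_lit 20590277878619635322323010))) (.leaf (nat_lit 78939106603892765))) (.node (.node
    (.leaf (nat_lit 0)) (.leaf (nat_lit 289045363376193538))) (.leaf (nat_lit
    176068039656276019)))))) (.node (.node (.node (.node (.node (.leaf (nat_lit 1)) (.leaf (nat_lit
    77961990200847761463))) (.node (.leaf (nat_lit 0)) (.leaf (nat_lit 400538208959660034))))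
    (.node (.node (.leaf (nat_lit 0)) (.leaf (nat_lit 275356516624826437))) (.leaf (nat_lit
    407674000900098)))) (.node (.node (.node (.leaf (nat_lit 0)) (.leaf (nat_lit
    250608219280572478))) (.leaf (nat_lit 183658337790001178))) (.node (.node (.leaf (nat_lit
    97012569503629338)) (.leaf (nat_lit 0))) (.leaf (nat_lit 171564405669167153))))) (.node (.node
    (.node (.node (.leaf (nat_lit 27026103185113094)) (.leaf (nat_lit 141408818333835591739)))
    (.node (.leaf (nat_lit 0)) (.leaf (nat_lit 112295760921698238466)))) (.node (.node (.leaf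
    (nat_lit 52985830414942227)) (.leaf (nat_lit 125902980118797877320))) (.leaf (nat_lit
    63791178527767437574190)))) (.node (.node (.node (.leaf (nat_lit 63107814201163793)) (.leaf
    (nat_lit 0))) (.leaf (nat_lit 206363489126776871))) (.node (.node (.leaf (nat_lit 0)) (.leaf
    (nat_lit 250782375909457922))) (.leaf (nat_lit
    29983651708617623978715450971556409745165264027700)))))))) (.node (.node (.node (.node (.node
    (.node (.node (.leaf (nat_lit 1)) (.leaf (nat_lit 61394363605550628917))) (.node (.leaf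
    (nat_lit 141021703521370143)) (.leaf (nat_lit 221732184350047600642)))) (.node (.node (.leaf
    (nat_lit 69869836481789971)) (.leaf (nat_lit 0))) (.leaf (nat_lit 321877734195202)))) (.node
    (.node (.node (.leaf (nat_lit 66112431718407)) (.leaf (nat_lit 19963586130075259662368829)))
    (.node (.leaf (nat_lit 69931830039740452)) (.leaf (nat_lit 916520251293698)))) (.node (.node
    (.leaf (nat_lit 0)) (.leaf (nat_lit 338547709025910858))) (.leaf (nat_lit 0))))) (.node (.node
    (.node (.node (.leaf (nat_lit 0)) (.leaf (nat_lit 337623084302338))) (.node (.leaf (nat_lit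
    310685049421826)) (.leaf (nat_lit 40226826495071617026)))) (.node (.node (.leaf (nat_lit
    91301401166282773)) (.leaf (nat_lit 371772708444373027))) (.leaf (nat_lit
    39427214626640887851)))) (.node (.node (.node (.leaf (nat_lit 0)) (.leaf (nat_lit
    343884558078509121))) (.leaf (nat_lit 0))) (.node (.node (.leaf (nat_lit 62870363180206653467))
    (.leaf (nat_lit 132542256963059714))) (.leaf (nat_lit 0)))))) (.node (.node (.node (.node
    (.node (.leaf (nat_lit 1)) (.leaf (nat_lit 122906738352652318))) (.node (.leaf (nat_lit 0))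
    (.leaf (nat_lit 863674973683714)))) (.node (.node (.leaf (nat_lit 0)) (.leaf (nat_lit 0)))
    (.leaf (nat_lit 139393163722754)))) (.node (.node (.node (.leaf (nat_lit 36072944987996171))
    (.leaf (nat_lit 467468535595010))) (.leaf (nat_lit 97032669336197922831))) (.node (.node (.leaf
    (nat_lit 0)) (.leaf (nat_lit 403856569412026382))) (.leaf (nat_lit 0))))) (.node (.node (.node
    (.node (.leaf (nat_lit 27023904161857541)) (.leaf (nat_lit 610327737794562))) (.node (.leaf
    (nat_lit 0)) (.leaf (nat_lit 894504248934402)))) (.node (.node (.leaf (nat_lit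
    92412118363734039)) (.leaf (nat_lit 389182366968643600))) (.leaf (nat_lit 0)))) (.node (.node
    (.node (.leaf (nat_lit 63114411270930448)) (.leaf (nat_lit 36055976809208450711556))) (.leaf
    (nat_lit 106717442695980384271))) (.node (.node (.leaf (nat_lit 0)) (.leaf (nat_lit
    349858599889207298))) (.leaf (nat_lit 108256785294622758))))))) (.node (.node (.node (.node
    (.node (.node (.leaf (nat_lit 1)) (.leaf (nat_lit 0))) (.node (.leaf (nat_lit
    145362584017764368)) (.leaf (nat_lit 433061917528096770)))) (.node (.node (.leaf (nat_lit 0))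
    (.leaf (nat_lit 155577884558426118))) (.leaf (nat_lit 181694567073120258)))) (.node (.node
    (.node (.leaf (nat_lit 33856299481628681)) (.leaf (nat_lit 507033774325762))) (.node (.leaf
    (nat_lit 180272219933573137)) (.leaf (nat_lit 43589623218178)))) (.node (.node (.leaf (nat_lit
    58262033068835733519)) (.leaf (nat_lit 36055976501534173495308))) (.leaf (nat_lit
    149046381762510895))))) (.node (.node (.node (.node (.leaf (nat_lit 5314972655311959425028))
    (.leaf (nat_lit 78074834963481317670970))) (.node (.leaf (nat_lit 165566694424578)) (.leaf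
    (nat_lit 79702906407944194)))) (.node (.node (.leaf (nat_lit 93617183107776534)) (.leaf
    (nat_lit 376674357050802227))) (.leaf (nat_lit 52068894343150233255981)))) (.node (.node (.node
    (.leaf (nat_lit 30589656156206268431)) (.leaf (nat_lit 500505424035842))) (.leaf (nat_lit
    195133296404004894))) (.node (.node (.leaf (nat_lit 0)) (.leaf (nat_lit 689896301920258)))
    (.leaf (nat_lit 268339055459237923)))))) (.node (.node (.node (.node (.node (.leaf (nat_lit 1))
    (.leaf (nat_lit 155281149476817076280))) (.node (.leaf (nat_lit 21854801548380421292065))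
    (.leaf (nat_lit 130149261237488451586)))) (.node (.node (.leaf (nat_lit 49608096334675984))
    (.leaf (nat_lit 0))) (.leaf (nat_lit 173681867495768105)))) (.node (.node (.node (.leaf
    (nat_lit 5314972681811907641356)) (.leaf (nat_lit 252860027684192319))) (.leaf (nat_lit 0)))
    (.node (.node (.leaf (nat_lit 61138702962836897807)) (.leaf (nat_lit
    107209065338535565131851))) (.leaf (nat_lit 0))))) (.node (.node (.node (.node (.leaf (nat_lit
    0)) (.leaf (nat_lit 292194240124092454))) (.node (.leaf (nat_lit 173508007219626019)) (.leaf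
    (nat_lit 907758518009858)))) (.node (.node (.leaf (nat_lit 92401123247456280)) (.leaf (nat_lit
    388078328445337673))) (.leaf (nat_lit 0)))) (.node (.node (.node (.leaf (nat_lit 0)) (.leaf
    (nat_lit 155551470509555717))) (.leaf (nat_lit 103974884500121583656))) (.node (.node (.leaf
    (nat_lit 56394488259739677)) (.leaf (nat_lit 124941817986150563842))) (.leaf (nat_lit
    109769713294442498)))))))))

/-- Certificate data. -/
def p02_rel : Trie :=
    (.node (.node (.node (.node (.node (.node (.node (.leaf (nat_lit 0)) (.leaf (nat_lit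
    12137729361930))) (.leaf (nat_lit 3723538914965537180174780937))) (.node (.leaf (nat_lit
    84084226)) (.leaf (nat_lit 235671052)))) (.node (.node (.node (.leaf (nat_lit 17039875)) (.leaf
    (nat_lit 84411657))) (.leaf (nat_lit 30166025992))) (.node (.leaf (nat_lit 134612488)) (.leaf
    (nat_lit 51758108421))))) (.node (.node (.node (.node (.leaf (nat_lit 184748802)) (.leaf
    (nat_lit 252514061))) (.leaf (nat_lit 117835526))) (.node (.leaf (nat_lit 84215045)) (.leaf
    (nat_lit 290205129167537159)))) (.node (.node (.leaf (nat_lit 151323913)) (.leaf (nat_lit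
    1129593635079))) (.node (.leaf (nat_lit 151324677)) (.leaf (nat_lit 33882886)))))) (.node
    (.node (.node (.node (.node (.leaf (nat_lit 11025265265159)) (.leaf (nat_lit 184617732)))
    (.leaf (nat_lit 101058054))) (.node (.leaf (nat_lit 100861185)) (.leaf (nat_lit
    36387120366767566187149146540409350)))) (.node (.node (.node (.leaf (nat_lit 6640103655942))
    (.leaf (nat_lit 2799910162278689748133087242))) (.leaf (nat_lit 30216226821))) (.node (.leaf
    (nat_lit 7700993869569)) (.leaf (nat_lit 117769989))))) (.node (.node (.node (.node (.leaf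
    (nat_lit 1142495119875)) (.leaf (nat_lit 12902269448))) (.leaf (nat_lit 201723397))) (.node
    (.leaf (nat_lit 83953155)) (.leaf (nat_lit 60164014351)))) (.node (.node (.leaf (nat_lit
    100795651)) (.leaf (nat_lit 30199449097))) (.node (.leaf (nat_lit 25921259527)) (.leaf (nat_lit
    50659590))))))) (.node (.node (.node (.node (.node (.node (.leaf (nat_lit 11033972836875))
    (.leaf (nat_lit 184814337))) (.leaf (nat_lit 251727362))) (.node (.leaf (nat_lit 84018692))
    (.leaf (nat_lit 252448524)))) (.node (.node (.node (.leaf (nat_lit 51053067)) (.leaf (nat_lit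
    8839227902220))) (.leaf (nat_lit 30199318281))) (.node (.leaf (nat_lit 4446095363)) (.leaf
    (nat_lit 64542936071))))) (.node (.node (.node (.node (.leaf (nat_lit 65793)) (.leaf (nat_lit
    252054789))) (.leaf (nat_lit 101451022))) (.node (.leaf (nat_lit 84149761)) (.leaf (nat_lit
    38688785153)))) (.node (.node (.leaf (nat_lit 34410137858)) (.leaf (nat_lit 118228748))) (.node
    (.leaf (nat_lit 84216073)) (.leaf (nat_lit 17105926)))))) (.node (.node (.node (.node (.node
    (.leaf (nat_lit 184683267)) (.leaf (nat_lit 235211782))) (.leaf (nat_lit 101058568))) (.node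
    (.leaf (nat_lit 67502341)) (.leaf (nat_lit 34444085511)))) (.node (.node (.node (.leaf (nat_lit
    84346119)) (.leaf (nat_lit 11003773977345))) (.leaf (nat_lit 7739648836874))) (.node (.leaf
    (nat_lit 151390214)) (.leaf (nat_lit 2229122040327))))) (.node (.node (.node (.node (.leaf
    (nat_lit 33816835)) (.leaf (nat_lit 101189129))) (.leaf (nat_lit 235343367))) (.node (.leaf
    (nat_lit 38672007684)) (.leaf (nat_lit 218435334)))) (.node (.node (.leaf (nat_lit 100926722))
    (.leaf (nat_lit 218893580))) (.node (.leaf (nat_lit 13228667767305)) (.leaf (nat_lit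
    101123591))))))))

/-- Certificate data. -/
def p02_rc : Trie :=
    (.node (.node (.node (.node (.node (.node (.node (.leaf (nat_lit 98)) (.leaf (nat_lit 90)))
    (.leaf (nat_lit 393308))) (.node (.leaf (nat_lit 262149)) (.leaf (nat_lit 30)))) (.node (.node
    (.node (.leaf (nat_lit 131080)) (.leaf (nat_lit 262210))) (.leaf (nat_lit 262215))) (.node
    (.leaf (nat_lit 131140)) (.leaf (nat_lit 54))))) (.node (.node (.node (.node (.leaf (nat_lit
    262241)) (.leaf (nat_lit 36))) (.leaf (nat_lit 13))) (.node (.leaf (nat_lit 2)) (.leaf (nat_lit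
    131089)))) (.node (.node (.leaf (nat_lit 393285)) (.leaf (nat_lit 14))) (.node (.leaf (nat_lit
    393282)) (.leaf (nat_lit 393221)))))) (.node (.node (.node (.node (.node (.leaf (nat_lit
    524383)) (.leaf (nat_lit 393312))) (.leaf (nat_lit 3))) (.node (.leaf (nat_lit 393222)) (.leaf
    (nat_lit 19)))) (.node (.node (.node (.leaf (nat_lit 655436)) (.leaf (nat_lit 92))) (.leaf
    (nat_lit 524358))) (.node (.leaf (nat_lit 131086)) (.leaf (nat_lit 131084))))) (.node (.node
    (.node (.node (.leaf (nat_lit 262222)) (.leaf (nat_lit 262209))) (.leaf (nat_lit 52))) (.node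
    (.leaf (nat_lit 131078)) (.leaf (nat_lit 131117)))) (.node (.node (.leaf (nat_lit 5)) (.leaf
    (nat_lit 524359))) (.node (.leaf (nat_lit 131143)) (.leaf (nat_lit 262150))))))) (.node (.node
    (.node (.node (.node (.node (.leaf (nat_lit 655450)) (.leaf (nat_lit 131168))) (.leaf (nat_lit
    262190))) (.node (.leaf (nat_lit 262151)) (.leaf (nat_lit 32)))) (.node (.node (.node (.leaf
    (nat_lit 131169)) (.leaf (nat_lit 262234))) (.leaf (nat_lit 262214))) (.node (.leaf (nat_lit
    131137)) (.leaf (nat_lit 524351))))) (.node (.node (.node (.node (.leaf (nat_lit 0)) (.leaf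
    (nat_lit 50))) (.leaf (nat_lit 393264))) (.node (.leaf (nat_lit 131076)) (.leaf (nat_lit 65))))
    (.node (.node (.leaf (nat_lit 393281)) (.leaf (nat_lit 131128))) (.node (.leaf (nat_lit
    262213)) (.leaf (nat_lit 262148)))))) (.node (.node (.node (.node (.node (.leaf (nat_lit 97))
    (.leaf (nat_lit 262196))) (.leaf (nat_lit 68))) (.node (.leaf (nat_lit 4)) (.leaf (nat_lit
    131142)))) (.node (.node (.node (.leaf (nat_lit 12)) (.leaf (nat_lit 131150))) (.leaf (nat_lit
    655455))) (.node (.leaf (nat_lit 67)) (.leaf (nat_lit 131087))))) (.node (.node (.node (.node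
    (.leaf (nat_lit 9)) (.leaf (nat_lit 393283))) (.leaf (nat_lit 60))) (.node (.leaf (nat_lit
    393280)) (.leaf (nat_lit 262194)))) (.node (.node (.leaf (nat_lit 7)) (.leaf (nat_lit 28)))
    (.node (.leaf (nat_lit 393306)) (.leaf (nat_lit 131085))))))))

/-- Certificate data. -/
def p02_lv : Trie :=
    (.leaf (nat_lit 0))

/-- Certificate data. -/
def p02_tb : Trie :=
    (.node (.node (.node (.node (.leaf (nat_lit 0)) (.leaf (nat_lit 17))) (.leaf (nat_lit 8)))
    (.node (.leaf (nat_lit 4)) (.leaf (nat_lit 13)))) (.node (.node (.node (.leaf (nat_lit 2))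
    (.leaf (nat_lit 423))) (.leaf (nat_lit 11))) (.node (.leaf (nat_lit 7)) (.leaf (nat_lit 15)))))

/-- Certificate data. -/
def p02_C : TC.Cert := ⟨6, 63, 9, 511, 20011376718272485634933414101046592000, 62462, p02_par, p02_fact, p02_just, p02_rel, 76⟩

/-- Certificate data. -/
def p02_rs : List (List ℕ) := [[1, 1, 1], [5, 5, 5, 5], [5, 1, 6, 4], [5, 3, 6, 1], [1, 3, 2, 4], [7, 7], [7, 5, 7, 5], [7, 1, 7, 1, 7, 1], [7, 3, 7, 3, 7, 3, 7, 3], [7, 1, 5, 7, 1, 5, 7, 1, 5, 7, 1, 5, 7, 1, 5], [12, 12], [13, 13], [14, 14], [15, 15], [12, 13, 12, 13], [12, 14, 12, 14], [12, 15, 12, 15], [13, 14, 13, 14], [13, 15, 13, 15], [14, 15, 14, 15], [1, 12, 2, 12], [1, 13, 2, 13], [1, 14, 2, 15, 14], [1, 15, 2, 14], [5, 12, 6, 14], [5, 13, 6, 15], [5, 14, 6, 12], [5, 15, 6, 13, 12], [7, 12, 7, 12], [7, 13, 7, 14, 13, 12], [7, 14, 7, 14], [7, 15, 7, 15, 12], [8, 1, 9, 4, 2], [8, 5, 9, 5], [8, 8, 6, 6], [8, 7, 9, 7, 5], [8, 12, 14, 9, 12, 14, 8, 12, 14, 9, 12, 14, 6, 6], [10, 10], [10, 5, 5, 10, 6, 6], [10, 1, 3, 10,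 4, 2], [10, 12, 10, 12], [10, 13, 10, 13], [10, 14, 10, 14, 12], [10, 15, 10, 15, 13, 12], [11, 11], [10, 8, 12, 9, 10, 11], [10, 8, 12, 9, 10, 8, 12, 9, 10, 8, 12, 9], [10, 7, 10, 7, 6, 6], [11, 1, 11, 4]]

/-- Certificate data. -/
def p02_gl : List ℕ := [1, 259, 517, 775, 1032, 1292, 1549, 1806, 2063, 2314]

theorem p02_h1 : allB p02_C.factChk 212 = true := by decide +kernel

theorem p02_h2 : p02_C.finChk 212 1 p02_lv p02_tb p02_gl = true := by decide +kernel

theorem p02_h3 : TC.relChk p02_C.ivc p02_rs p02_C.rel p02_rc p02_C.nrel = true := by decide +kernel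

theorem p02_bound {G : Type*} [Group G] {x y w u q f s a b c d : G}
    (r0 : x * x * x = 1)
    (r1 : w * w * w * w = 1)
    (r2 : w * x * w⁻¹ * y⁻¹ = 1)
    (r3 : w * y * w⁻¹ * x = 1)
    (r4 : x * y * x⁻¹ * y⁻¹ = 1)
    (r5 : u * u = 1)
    (r6 : u * w * u * w = 1)
    (r7 : u * x * u * x * u * x = 1)
    (r8 : u * y * u * y * u * y * u * y = 1)
    (r9 : u * x * w * u * x * w * u * x * w * u * x * w * u * x * w = 1)
    (r10 : a * a = 1)
    (r11 : b * b = 1)
    (r12 : c * c = 1)
    (r13 : d * d = 1)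
    (r14 : a * b * a * b = 1)
    (r15 : a * c * a * c = 1)
    (r16 : a * d * a * d = 1)
    (r17 : b * c * b * c = 1)
    (r18 : b * d * b * d = 1)
    (r19 : c * d * c * d = 1)
    (r20 : x * a * x⁻¹ * a = 1)
    (r21 : x * b * x⁻¹ * b = 1)
    (r22 : x * c * x⁻¹ * d * c = 1)
    (r23 : x * d * x⁻¹ * c = 1)
    (r24 : w * a * w⁻¹ * c = 1)
    (r25 : w * b * w⁻¹ * d = 1)
    (r26 : w * c * w⁻¹ * a = 1)
    (r27 : w * d * w⁻¹ * b * a = 1)
    (r28 : u * a * u * a = 1)
    (r29 : u * b * u * c * b * a = 1)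
    (r30 : u * c * u * c = 1)
    (r31 : u * d * u * d * a = 1)
    (r32 : q * x * q⁻¹ * y⁻¹ * x⁻¹ = 1)
    (r33 : q * w * q⁻¹ * w = 1)
    (r34 : q * q * w⁻¹ * w⁻¹ = 1)
    (r35 : q * u * q⁻¹ * u * w = 1)
    (r36 : q * a * c * q⁻¹ * a * c * q * a * c * q⁻¹ * a * c * w⁻¹ * w⁻¹ = 1)
    (r37 : f * f = 1)
    (r38 : f * w * w * f * w⁻¹ * w⁻¹ = 1)
    (r39 : f * x * y * f * y⁻¹ * x⁻¹ = 1)
    (r40 : f * a * f * a = 1)
    (r41 : f * b * f * b = 1)
    (r42 : f * c * f * c * a = 1)
    (r43 : f * d * f * d * b * a = 1)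
    (r44 : s * s = 1)
    (r45 : f * q * a * q⁻¹ * f * s = 1)
    (r46 : f * q * a * q⁻¹ * f * q * a * q⁻¹ * f * q * a * q⁻¹ = 1)
    (r47 : f * u * f * u * w⁻¹ * w⁻¹ = 1)
    (r48 : s * x * s * y⁻¹ = 1)
    (H : Subgroup G) [Finite H] (m1 : x ∈ H) (m3 : y ∈ H) (m5 : w ∈ H) (m7 : u ∈ H) (m8 : q ∈ H) (m12 : a ∈ H) (m13 : b ∈ H) (m14 : c ∈ H) (m15 : d ∈ H) :
    Finite (Subgroup.closure ({x, y, w, u, q, a, b, c, d, f} : Set G)) ∧
      Nat.card (Subgroup.closure ({x, y, w, u, q, a, b, c, d, f} : Set G)) ≤ 1 * Nat.card H := by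
  have hL : TC.Lett (TC.lett [x, x⁻¹, y, y⁻¹, w, w⁻¹, u, q, q⁻¹, f, s, a, b, c, d]) p02_C.ivc :=
    TC.lett_ok (show Nat.shiftRight p02_C.ivc (8 * 16) = 0 by decide +kernel) (by
      intro a ha
      change a < 16 at ha
      interval_cases a
      · exact inv_one.symm
      · rfl
      · exact (inv_inv _).symm
      · rfl
      · exact (inv_inv _).symm
      · rfl
      · exact (inv_inv _).symm
      · exact (inv_eq_of_mul_eq_one_right r5).symm
      · rfl
      · exact (inv_inv _).symm
      · exact (inv_eq_of_mul_eq_one_right r37).symm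
      · exact (inv_eq_of_mul_eq_one_right r44).symm
      · exact (inv_eq_of_mul_eq_one_right r10).symm
      · exact (inv_eq_of_mul_eq_one_right r11).symm
      · exact (inv_eq_of_mul_eq_one_right r12).symm
      · exact (inv_eq_of_mul_eq_one_right r13).symm)
  have h := TC.card_le p02_h1 p02_h2 p02_h3 (by decide) hL (by
    simp only [p02_rs, List.forall_mem_cons]
    refine ⟨?_, ?_, ?_, ?_, ?_, ?_, ?_, ?_, ?_, ?_, ?_, ?_, ?_, ?_, ?_, ?_, ?_, ?_, ?_, ?_, ?_, ?_,
    ?_, ?_, ?_, ?_, ?_, ?_, ?_, ?_, ?_, ?_, ?_, ?_, ?_, ?_, ?_, ?_, ?_, ?_, ?_, ?_, ?_, ?_, ?_, ?_,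
    ?_, ?_, ?_, List.forall_mem_nil _⟩
    · show x * (x * (x * 1)) = 1
      simp only [mul_assoc, mul_one] at r0 ⊢
      exact r0
    · show w * (w * (w * (w * 1))) = 1
      simp only [mul_assoc, mul_one] at r1 ⊢
      exact r1
    · show w * (x * (w⁻¹ * (y⁻¹ * 1))) = 1
      simp only [mul_assoc, mul_one] at r2 ⊢
      exact r2
    · show w * (y * (w⁻¹ * (x * 1))) = 1
      simp only [mul_assoc, mul_one] at r3 ⊢
      exact r3
    · show x * (y * (x⁻¹ * (y⁻¹ * 1))) = 1
      simp only [mul_assoc, mul_one] at r4 ⊢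
      exact r4
    · show u * (u * 1) = 1
      simp only [mul_one] at r5 ⊢
      exact r5
    · show u * (w * (u * (w * 1))) = 1
      simp only [mul_assoc, mul_one] at r6 ⊢
      exact r6
    · show u * (x * (u * (x * (u * (x * 1))))) = 1
      simp only [mul_assoc, mul_one] at r7 ⊢
      exact r7
    · show u * (y * (u * (y * (u * (y * (u * (y * 1))))))) = 1
      simp only [mul_assoc, mul_one] at r8 ⊢
      exact r8
    · show u * (x * (w * (u * (x * (w * (u * (x * (w * (u * (x * (w * (u * (x * (w *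
    1)))))))))))))) = 1
      simp only [mul_assoc, mul_one] at r9 ⊢
      exact r9
    · show a * (a * 1) = 1
      simp only [mul_one] at r10 ⊢
      exact r10
    · show b * (b * 1) = 1
      simp only [mul_one] at r11 ⊢
      exact r11
    · show c * (c * 1) = 1
      simp only [mul_one] at r12 ⊢
      exact r12
    · show d * (d * 1) = 1
      simp only [mul_one] at r13 ⊢
      exact r13
    · show a * (b * (a * (b * 1))) = 1
      simp only [mul_assoc, mul_one] at r14 ⊢
      exact r14
    · show a * (c * (a * (c * 1))) = 1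
      simp only [mul_assoc, mul_one] at r15 ⊢
      exact r15
    · show a * (d * (a * (d * 1))) = 1
      simp only [mul_assoc, mul_one] at r16 ⊢
      exact r16
    · show b * (c * (b * (c * 1))) = 1
      simp only [mul_assoc, mul_one] at r17 ⊢
      exact r17
    · show b * (d * (b * (d * 1))) = 1
      simp only [mul_assoc, mul_one] at r18 ⊢
      exact r18
    · show c * (d * (c * (d * 1))) = 1
      simp only [mul_assoc, mul_one] at r19 ⊢
      exact r19
    · show x * (a * (x⁻¹ * (a * 1))) = 1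
      simp only [mul_assoc, mul_one] at r20 ⊢
      exact r20
    · show x * (b * (x⁻¹ * (b * 1))) = 1
      simp only [mul_assoc, mul_one] at r21 ⊢
      exact r21
    · show x * (c * (x⁻¹ * (d * (c * 1)))) = 1
      simp only [mul_assoc, mul_one] at r22 ⊢
      exact r22
    · show x * (d * (x⁻¹ * (c * 1))) = 1
      simp only [mul_assoc, mul_one] at r23 ⊢
      exact r23
    · show w * (a * (w⁻¹ * (c * 1))) = 1
      simp only [mul_assoc, mul_one] at r24 ⊢
      exact r24
    · show w * (b * (w⁻¹ * (d * 1))) = 1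
      simp only [mul_assoc, mul_one] at r25 ⊢
      exact r25
    · show w * (c * (w⁻¹ * (a * 1))) = 1
      simp only [mul_assoc, mul_one] at r26 ⊢
      exact r26
    · show w * (d * (w⁻¹ * (b * (a * 1)))) = 1
      simp only [mul_assoc, mul_one] at r27 ⊢
      exact r27
    · show u * (a * (u * (a * 1))) = 1
      simp only [mul_assoc, mul_one] at r28 ⊢
      exact r28
    · show u * (b * (u * (c * (b * (a * 1))))) = 1
      simp only [mul_assoc, mul_one] at r29 ⊢
      exact r29
    · show u * (c * (u * (c * 1))) = 1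
      simp only [mul_assoc, mul_one] at r30 ⊢
      exact r30
    · show u * (d * (u * (d * (a * 1)))) = 1
      simp only [mul_assoc, mul_one] at r31 ⊢
      exact r31
    · show q * (x * (q⁻¹ * (y⁻¹ * (x⁻¹ * 1)))) = 1
      simp only [mul_assoc, mul_one] at r32 ⊢
      exact r32
    · show q * (w * (q⁻¹ * (w * 1))) = 1
      simp only [mul_assoc, mul_one] at r33 ⊢
      exact r33
    · show q * (q * (w⁻¹ * (w⁻¹ * 1))) = 1
      simp only [mul_assoc, mul_one] at r34 ⊢
      exact r34
    · show q * (u * (q⁻¹ * (u * (w * 1)))) = 1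
      simp only [mul_assoc, mul_one] at r35 ⊢
      exact r35
    · show q * (a * (c * (q⁻¹ * (a * (c * (q * (a * (c * (q⁻¹ * (a * (c * (w⁻¹ * (w⁻¹ *
    1))))))))))))) = 1
      simp only [mul_assoc, mul_one] at r36 ⊢
      exact r36
    · show f * (f * 1) = 1
      simp only [mul_one] at r37 ⊢
      exact r37
    · show f * (w * (w * (f * (w⁻¹ * (w⁻¹ * 1))))) = 1
      simp only [mul_assoc, mul_one] at r38 ⊢
      exact r38
    · show f * (x * (y * (f * (y⁻¹ * (x⁻¹ * 1))))) = 1
      simp only [mul_assoc, mul_one] at r39 ⊢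
      exact r39
    · show f * (a * (f * (a * 1))) = 1
      simp only [mul_assoc, mul_one] at r40 ⊢
      exact r40
    · show f * (b * (f * (b * 1))) = 1
      simp only [mul_assoc, mul_one] at r41 ⊢
      exact r41
    · show f * (c * (f * (c * (a * 1)))) = 1
      simp only [mul_assoc, mul_one] at r42 ⊢
      exact r42
    · show f * (d * (f * (d * (b * (a * 1))))) = 1
      simp only [mul_assoc, mul_one] at r43 ⊢
      exact r43
    · show s * (s * 1) = 1
      simp only [mul_one] at r44 ⊢
      exact r44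
    · show f * (q * (a * (q⁻¹ * (f * (s * 1))))) = 1
      simp only [mul_assoc, mul_one] at r45 ⊢
      exact r45
    · show f * (q * (a * (q⁻¹ * (f * (q * (a * (q⁻¹ * (f * (q * (a * (q⁻¹ * 1))))))))))) = 1
      simp only [mul_assoc, mul_one] at r46 ⊢
      exact r46
    · show f * (u * (f * (u * (w⁻¹ * (w⁻¹ * 1))))) = 1
      simp only [mul_assoc, mul_one] at r47 ⊢
      exact r47
    · show s * (x * (s * (y⁻¹ * 1))) = 1
      simp only [mul_assoc, mul_one] at r48 ⊢
      exact r48) H
    (TC.forall_subs (K := 16) (by decide +kernel) (by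
      intro a ha hb
      interval_cases a
      · exact absurd hb (by decide +kernel)
      · exact m1
      · exact H.inv_mem m1
      · exact m3
      · exact H.inv_mem m3
      · exact m5
      · exact H.inv_mem m5
      · exact m7
      · exact m8
      · exact H.inv_mem m8
      · exact absurd hb (by decide +kernel)
      · exact absurd hb (by decide +kernel)
      · exact m12
      · exact m13
      · exact m14
      · exact m15))
  have e : {g₀ | ∃ ak ∈ p02_gl, TC.lett [x, x⁻¹, y, y⁻¹, w, w⁻¹, u, q, q⁻¹, f, s, a, b, c, d] (ak % 256) = g₀} =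
      {x, y, w, u, q, a, b, c, d, f} := by
    ext g₀
    simp only [p02_gl, List.mem_cons, List.not_mem_nil, or_false, exists_eq_or_imp,
      exists_eq_left, Set.mem_ofPred_eq, Set.mem_insert_iff, Set.mem_singleton_iff]
    exact or_congr eq_comm (or_congr eq_comm (or_congr eq_comm (or_congr eq_comm (or_congr eq_comm (or_congr eq_comm (or_congr eq_comm (or_congr eq_comm (or_congr eq_comm (eq_comm)))))))))
  rw [e] at h
  exact h

theorem p02_card {G : Type*} [Group G] {x y w u q f s a b c d : G}
    (e0 : x ^ 3 = 1)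
    (e1 : w ^ 4 = 1)
    (e2 : w * x * w⁻¹ = y)
    (e3 : w * y * w⁻¹ = x⁻¹)
    (e4 : x * y = y * x)
    (e5 : u * u = 1)
    (e6 : u * w * u = w⁻¹)
    (e7 : (u * x) ^ 3 = 1)
    (e8 : (u * y) ^ 4 = 1)
    (e9 : (u * x * w) ^ 5 = 1)
    (e10 : a * a = 1)
    (e11 : b * b = 1)
    (e12 : c * c = 1)
    (e13 : d * d = 1)
    (e14 : a * b = b * a)
    (e15 : a * c = c * a)
    (e16 : a * d = d * a)
    (e17 : b * c = c * b)
    (e18 : b * d = d * b)
    (e19 : c * d = d * c)
    (e20 : x * a * x⁻¹ = a)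
    (e21 : x * b * x⁻¹ = b)
    (e22 : x * c * x⁻¹ = c * d)
    (e23 : x * d * x⁻¹ = c)
    (e24 : w * a * w⁻¹ = c)
    (e25 : w * b * w⁻¹ = d)
    (e26 : w * c * w⁻¹ = a)
    (e27 : w * d * w⁻¹ = a * b)
    (e28 : u * a * u = a)
    (e29 : u * b * u = a * b * c)
    (e30 : u * c * u = c)
    (e31 : u * d * u = a * d)
    (e32 : q * x * q⁻¹ = x * y)
    (e33 : q * w * q⁻¹ = w⁻¹)
    (e34 : q * q = w * w)
    (e35 : q * u * q⁻¹ = w⁻¹ * u)
    (e36 : (q * (a * c) * q⁻¹ * (a * c)) ^ 2 = w * w)
    (e37 : f * f = 1)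
    (e38 : f * (w * w) = w * w * f)
    (e39 : f * (x * y) = x * y * f)
    (e40 : f * a * f = a)
    (e41 : f * b * f = b)
    (e42 : f * c * f = a * c)
    (e43 : f * d * f = a * b * d)
    (e44 : s * s = 1)
    (e45 : f * (q * a * q⁻¹) * f = s)
    (e46 : (f * (q * a * q⁻¹)) ^ 3 = 1)
    (e47 : f * u * f = w * w * u)
    (e48 : s * x * s = y)
    (H : Subgroup G) [Finite H] (mx : x ∈ H) (my : y ∈ H) (mw : w ∈ H) (mu : u ∈ H) (mq : q ∈ H) (ma : a ∈ H) (mb : b ∈ H) (mc : c ∈ H) (md : d ∈ H) :
    Finite (Subgroup.closure ({x, y, w, u, q, a, b, c, d, f} : Set G)) ∧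
      Nat.card (Subgroup.closure ({x, y, w, u, q, a, b, c, d, f} : Set G)) ≤ 1 * Nat.card H := by
  have iu : u⁻¹ = u := inv_eq_of_mul_eq_one_right e5
  have jf : f⁻¹ = f := inv_eq_of_mul_eq_one_right e37
  have is : s⁻¹ = s := inv_eq_of_mul_eq_one_right e44
  have ia : a⁻¹ = a := inv_eq_of_mul_eq_one_right e10
  have ib : b⁻¹ = b := inv_eq_of_mul_eq_one_right e11
  have ic : c⁻¹ = c := inv_eq_of_mul_eq_one_right e12
  have id : d⁻¹ = d := inv_eq_of_mul_eq_one_right e13
  refine p02_bound (s := s) ?_ ?_ ?_ ?_ ?_ ?_ ?_ ?_ ?_ ?_ ?_ ?_ ?_ ?_ ?_ ?_ ?_ ?_ ?_ ?_ ?_ ?_ ?_ ?_ ?_ ?_ ?_ ?_ ?_ ?_ ?_ ?_ ?_ ?_ ?_ ?_ ?_ ?_ ?_ ?_ ?_ ?_ ?_ ?_ ?_ ?_ ?_ ?_ ?_ H mx my mw mu mq ma mb mc md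
  · have h := mul_inv_eq_one.mpr e0
    simp only [pow_succ, pow_zero, mul_inv_rev, inv_inv, inv_one, one_mul, mul_one, mul_assoc,
      mul_inv_cancel_left, inv_mul_cancel_left, mul_inv_cancel, inv_mul_cancel, iu, jf, is, ia, ib, ic, id] at h ⊢
    exact h
  · have h := mul_inv_eq_one.mpr e1
    simp only [pow_succ, pow_zero, mul_inv_rev, inv_inv, inv_one, one_mul, mul_one, mul_assoc,
      mul_inv_cancel_left, inv_mul_cancel_left, mul_inv_cancel, inv_mul_cancel, iu, jf, is, ia, ib, ic, id] at h ⊢
    exact h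
  · have h := mul_inv_eq_one.mpr e2
    simp only [pow_succ, pow_zero, mul_inv_rev, inv_inv, inv_one, one_mul, mul_one, mul_assoc,
      mul_inv_cancel_left, inv_mul_cancel_left, mul_inv_cancel, inv_mul_cancel, iu, jf, is, ia, ib, ic, id] at h ⊢
    exact h
  · have h := mul_inv_eq_one.mpr e3
    simp only [pow_succ, pow_zero, mul_inv_rev, inv_inv, inv_one, one_mul, mul_one, mul_assoc,
      mul_inv_cancel_left, inv_mul_cancel_left, mul_inv_cancel, inv_mul_cancel, iu, jf, is, ia, ib, ic, id] at h ⊢
    exact h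
  · have h := mul_inv_eq_one.mpr e4
    simp only [pow_succ, pow_zero, mul_inv_rev, inv_inv, inv_one, one_mul, mul_one, mul_assoc,
      mul_inv_cancel_left, inv_mul_cancel_left, mul_inv_cancel, inv_mul_cancel, iu, jf, is, ia, ib, ic, id] at h ⊢
    exact h
  · have h := mul_inv_eq_one.mpr e5
    simp only [pow_succ, pow_zero, mul_inv_rev, inv_inv, inv_one, one_mul, mul_one, mul_assoc,
      mul_inv_cancel_left, inv_mul_cancel_left, mul_inv_cancel, inv_mul_cancel, iu, jf, is, ia, ib, ic, id] at h ⊢
    exact h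
  · have h := mul_inv_eq_one.mpr e6
    simp only [pow_succ, pow_zero, mul_inv_rev, inv_inv, inv_one, one_mul, mul_one, mul_assoc,
      mul_inv_cancel_left, inv_mul_cancel_left, mul_inv_cancel, inv_mul_cancel, iu, jf, is, ia, ib, ic, id] at h ⊢
    exact h
  · have h := mul_inv_eq_one.mpr e7
    simp only [pow_succ, pow_zero, mul_inv_rev, inv_inv, inv_one, one_mul, mul_one, mul_assoc,
      mul_inv_cancel_left, inv_mul_cancel_left, mul_inv_cancel, inv_mul_cancel, iu, jf, is, ia, ib, ic, id] at h ⊢
    exact h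
  · have h := mul_inv_eq_one.mpr e8
    simp only [pow_succ, pow_zero, mul_inv_rev, inv_inv, inv_one, one_mul, mul_one, mul_assoc,
      mul_inv_cancel_left, inv_mul_cancel_left, mul_inv_cancel, inv_mul_cancel, iu, jf, is, ia, ib, ic, id] at h ⊢
    exact h
  · have h := mul_inv_eq_one.mpr e9
    simp only [pow_succ, pow_zero, mul_inv_rev, inv_inv, inv_one, one_mul, mul_one, mul_assoc,
      mul_inv_cancel_left, inv_mul_cancel_left, mul_inv_cancel, inv_mul_cancel, iu, jf, is, ia, ib, ic, id] at h ⊢
    exact h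
  · have h := mul_inv_eq_one.mpr e10
    simp only [pow_succ, pow_zero, mul_inv_rev, inv_inv, inv_one, one_mul, mul_one, mul_assoc,
      mul_inv_cancel_left, inv_mul_cancel_left, mul_inv_cancel, inv_mul_cancel, iu, jf, is, ia, ib, ic, id] at h ⊢
    exact h
  · have h := mul_inv_eq_one.mpr e11
    simp only [pow_succ, pow_zero, mul_inv_rev, inv_inv, inv_one, one_mul, mul_one, mul_assoc,
      mul_inv_cancel_left, inv_mul_cancel_left, mul_inv_cancel, inv_mul_cancel, iu, jf, is, ia, ib, ic, id] at h ⊢
    exact h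
  · have h := mul_inv_eq_one.mpr e12
    simp only [pow_succ, pow_zero, mul_inv_rev, inv_inv, inv_one, one_mul, mul_one, mul_assoc,
      mul_inv_cancel_left, inv_mul_cancel_left, mul_inv_cancel, inv_mul_cancel, iu, jf, is, ia, ib, ic, id] at h ⊢
    exact h
  · have h := mul_inv_eq_one.mpr e13
    simp only [pow_succ, pow_zero, mul_inv_rev, inv_inv, inv_one, one_mul, mul_one, mul_assoc,
      mul_inv_cancel_left, inv_mul_cancel_left, mul_inv_cancel, inv_mul_cancel, iu, jf, is, ia, ib, ic, id] at h ⊢
    exact h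
  · have h := mul_inv_eq_one.mpr e14
    simp only [pow_succ, pow_zero, mul_inv_rev, inv_inv, inv_one, one_mul, mul_one, mul_assoc,
      mul_inv_cancel_left, inv_mul_cancel_left, mul_inv_cancel, inv_mul_cancel, iu, jf, is, ia, ib, ic, id] at h ⊢
    exact h
  · have h := mul_inv_eq_one.mpr e15
    simp only [pow_succ, pow_zero, mul_inv_rev, inv_inv, inv_one, one_mul, mul_one, mul_assoc,
      mul_inv_cancel_left, inv_mul_cancel_left, mul_inv_cancel, inv_mul_cancel, iu, jf, is, ia, ib, ic, id] at h ⊢
    exact h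
  · have h := mul_inv_eq_one.mpr e16
    simp only [pow_succ, pow_zero, mul_inv_rev, inv_inv, inv_one, one_mul, mul_one, mul_assoc,
      mul_inv_cancel_left, inv_mul_cancel_left, mul_inv_cancel, inv_mul_cancel, iu, jf, is, ia, ib, ic, id] at h ⊢
    exact h
  · have h := mul_inv_eq_one.mpr e17
    simp only [pow_succ, pow_zero, mul_inv_rev, inv_inv, inv_one, one_mul, mul_one, mul_assoc,
      mul_inv_cancel_left, inv_mul_cancel_left, mul_inv_cancel, inv_mul_cancel, iu, jf, is, ia, ib, ic, id] at h ⊢
    exact h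
  · have h := mul_inv_eq_one.mpr e18
    simp only [pow_succ, pow_zero, mul_inv_rev, inv_inv, inv_one, one_mul, mul_one, mul_assoc,
      mul_inv_cancel_left, inv_mul_cancel_left, mul_inv_cancel, inv_mul_cancel, iu, jf, is, ia, ib, ic, id] at h ⊢
    exact h
  · have h := mul_inv_eq_one.mpr e19
    simp only [pow_succ, pow_zero, mul_inv_rev, inv_inv, inv_one, one_mul, mul_one, mul_assoc,
      mul_inv_cancel_left, inv_mul_cancel_left, mul_inv_cancel, inv_mul_cancel, iu, jf, is, ia, ib, ic, id] at h ⊢
    exact h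
  · have h := mul_inv_eq_one.mpr e20
    simp only [pow_succ, pow_zero, mul_inv_rev, inv_inv, inv_one, one_mul, mul_one, mul_assoc,
      mul_inv_cancel_left, inv_mul_cancel_left, mul_inv_cancel, inv_mul_cancel, iu, jf, is, ia, ib, ic, id] at h ⊢
    exact h
  · have h := mul_inv_eq_one.mpr e21
    simp only [pow_succ, pow_zero, mul_inv_rev, inv_inv, inv_one, one_mul, mul_one, mul_assoc,
      mul_inv_cancel_left, inv_mul_cancel_left, mul_inv_cancel, inv_mul_cancel, iu, jf, is, ia, ib, ic, id] at h ⊢
    exact h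
  · have h := mul_inv_eq_one.mpr e22
    simp only [pow_succ, pow_zero, mul_inv_rev, inv_inv, inv_one, one_mul, mul_one, mul_assoc,
      mul_inv_cancel_left, inv_mul_cancel_left, mul_inv_cancel, inv_mul_cancel, iu, jf, is, ia, ib, ic, id] at h ⊢
    exact h
  · have h := mul_inv_eq_one.mpr e23
    simp only [pow_succ, pow_zero, mul_inv_rev, inv_inv, inv_one, one_mul, mul_one, mul_assoc,
      mul_inv_cancel_left, inv_mul_cancel_left, mul_inv_cancel, inv_mul_cancel, iu, jf, is, ia, ib, ic, id] at h ⊢
    exact h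
  · have h := mul_inv_eq_one.mpr e24
    simp only [pow_succ, pow_zero, mul_inv_rev, inv_inv, inv_one, one_mul, mul_one, mul_assoc,
      mul_inv_cancel_left, inv_mul_cancel_left, mul_inv_cancel, inv_mul_cancel, iu, jf, is, ia, ib, ic, id] at h ⊢
    exact h
  · have h := mul_inv_eq_one.mpr e25
    simp only [pow_succ, pow_zero, mul_inv_rev, inv_inv, inv_one, one_mul, mul_one, mul_assoc,
      mul_inv_cancel_left, inv_mul_cancel_left, mul_inv_cancel, inv_mul_cancel, iu, jf, is, ia, ib, ic, id] at h ⊢
    exact h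
  · have h := mul_inv_eq_one.mpr e26
    simp only [pow_succ, pow_zero, mul_inv_rev, inv_inv, inv_one, one_mul, mul_one, mul_assoc,
      mul_inv_cancel_left, inv_mul_cancel_left, mul_inv_cancel, inv_mul_cancel, iu, jf, is, ia, ib, ic, id] at h ⊢
    exact h
  · have h := mul_inv_eq_one.mpr e27
    simp only [pow_succ, pow_zero, mul_inv_rev, inv_inv, inv_one, one_mul, mul_one, mul_assoc,
      mul_inv_cancel_left, inv_mul_cancel_left, mul_inv_cancel, inv_mul_cancel, iu, jf, is, ia, ib, ic, id] at h ⊢
    exact h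
  · have h := mul_inv_eq_one.mpr e28
    simp only [pow_succ, pow_zero, mul_inv_rev, inv_inv, inv_one, one_mul, mul_one, mul_assoc,
      mul_inv_cancel_left, inv_mul_cancel_left, mul_inv_cancel, inv_mul_cancel, iu, jf, is, ia, ib, ic, id] at h ⊢
    exact h
  · have h := mul_inv_eq_one.mpr e29
    simp only [pow_succ, pow_zero, mul_inv_rev, inv_inv, inv_one, one_mul, mul_one, mul_assoc,
      mul_inv_cancel_left, inv_mul_cancel_left, mul_inv_cancel, inv_mul_cancel, iu, jf, is, ia, ib, ic, id] at h ⊢
    exact h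
  · have h := mul_inv_eq_one.mpr e30
    simp only [pow_succ, pow_zero, mul_inv_rev, inv_inv, inv_one, one_mul, mul_one, mul_assoc,
      mul_inv_cancel_left, inv_mul_cancel_left, mul_inv_cancel, inv_mul_cancel, iu, jf, is, ia, ib, ic, id] at h ⊢
    exact h
  · have h := mul_inv_eq_one.mpr e31
    simp only [pow_succ, pow_zero, mul_inv_rev, inv_inv, inv_one, one_mul, mul_one, mul_assoc,
      mul_inv_cancel_left, inv_mul_cancel_left, mul_inv_cancel, inv_mul_cancel, iu, jf, is, ia, ib, ic, id] at h ⊢
    exact h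
  · have h := mul_inv_eq_one.mpr e32
    simp only [pow_succ, pow_zero, mul_inv_rev, inv_inv, inv_one, one_mul, mul_one, mul_assoc,
      mul_inv_cancel_left, inv_mul_cancel_left, mul_inv_cancel, inv_mul_cancel, iu, jf, is, ia, ib, ic, id] at h ⊢
    exact h
  · have h := mul_inv_eq_one.mpr e33
    simp only [pow_succ, pow_zero, mul_inv_rev, inv_inv, inv_one, one_mul, mul_one, mul_assoc,
      mul_inv_cancel_left, inv_mul_cancel_left, mul_inv_cancel, inv_mul_cancel, iu, jf, is, ia, ib, ic, id] at h ⊢
    exact h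
  · have h := mul_inv_eq_one.mpr e34
    simp only [pow_succ, pow_zero, mul_inv_rev, inv_inv, inv_one, one_mul, mul_one, mul_assoc,
      mul_inv_cancel_left, inv_mul_cancel_left, mul_inv_cancel, inv_mul_cancel, iu, jf, is, ia, ib, ic, id] at h ⊢
    exact h
  · have h := mul_inv_eq_one.mpr e35
    simp only [pow_succ, pow_zero, mul_inv_rev, inv_inv, inv_one, one_mul, mul_one, mul_assoc,
      mul_inv_cancel_left, inv_mul_cancel_left, mul_inv_cancel, inv_mul_cancel, iu, jf, is, ia, ib, ic, id] at h ⊢
    exact h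
  · have h := mul_inv_eq_one.mpr e36
    simp only [pow_succ, pow_zero, mul_inv_rev, inv_inv, inv_one, one_mul, mul_one, mul_assoc,
      mul_inv_cancel_left, inv_mul_cancel_left, mul_inv_cancel, inv_mul_cancel, iu, jf, is, ia, ib, ic, id] at h ⊢
    exact h
  · have h := mul_inv_eq_one.mpr e37
    simp only [pow_succ, pow_zero, mul_inv_rev, inv_inv, inv_one, one_mul, mul_one, mul_assoc,
      mul_inv_cancel_left, inv_mul_cancel_left, mul_inv_cancel, inv_mul_cancel, iu, jf, is, ia, ib, ic, id] at h ⊢
    exact h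
  · have h := mul_inv_eq_one.mpr e38
    simp only [pow_succ, pow_zero, mul_inv_rev, inv_inv, inv_one, one_mul, mul_one, mul_assoc,
      mul_inv_cancel_left, inv_mul_cancel_left, mul_inv_cancel, inv_mul_cancel, iu, jf, is, ia, ib, ic, id] at h ⊢
    exact h
  · have h := mul_inv_eq_one.mpr e39
    simp only [pow_succ, pow_zero, mul_inv_rev, inv_inv, inv_one, one_mul, mul_one, mul_assoc,
      mul_inv_cancel_left, inv_mul_cancel_left, mul_inv_cancel, inv_mul_cancel, iu, jf, is, ia, ib, ic, id] at h ⊢
    exact h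
  · have h := mul_inv_eq_one.mpr e40
    simp only [pow_succ, pow_zero, mul_inv_rev, inv_inv, inv_one, one_mul, mul_one, mul_assoc,
      mul_inv_cancel_left, inv_mul_cancel_left, mul_inv_cancel, inv_mul_cancel, iu, jf, is, ia, ib, ic, id] at h ⊢
    exact h
  · have h := mul_inv_eq_one.mpr e41
    simp only [pow_succ, pow_zero, mul_inv_rev, inv_inv, inv_one, one_mul, mul_one, mul_assoc,
      mul_inv_cancel_left, inv_mul_cancel_left, mul_inv_cancel, inv_mul_cancel, iu, jf, is, ia, ib, ic, id] at h ⊢
    exact h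
  · have h := mul_inv_eq_one.mpr e42
    simp only [pow_succ, pow_zero, mul_inv_rev, inv_inv, inv_one, one_mul, mul_one, mul_assoc,
      mul_inv_cancel_left, inv_mul_cancel_left, mul_inv_cancel, inv_mul_cancel, iu, jf, is, ia, ib, ic, id] at h ⊢
    exact h
  · have h := mul_inv_eq_one.mpr e43
    simp only [pow_succ, pow_zero, mul_inv_rev, inv_inv, inv_one, one_mul, mul_one, mul_assoc,
      mul_inv_cancel_left, inv_mul_cancel_left, mul_inv_cancel, inv_mul_cancel, iu, jf, is, ia, ib, ic, id] at h ⊢
    exact h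
  · have h := mul_inv_eq_one.mpr e44
    simp only [pow_succ, pow_zero, mul_inv_rev, inv_inv, inv_one, one_mul, mul_one, mul_assoc,
      mul_inv_cancel_left, inv_mul_cancel_left, mul_inv_cancel, inv_mul_cancel, iu, jf, is, ia, ib, ic, id] at h ⊢
    exact h
  · have h := mul_inv_eq_one.mpr e45
    simp only [pow_succ, pow_zero, mul_inv_rev, inv_inv, inv_one, one_mul, mul_one, mul_assoc,
      mul_inv_cancel_left, inv_mul_cancel_left, mul_inv_cancel, inv_mul_cancel, iu, jf, is, ia, ib, ic, id] at h ⊢
    exact h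
  · have h := mul_inv_eq_one.mpr e46
    simp only [pow_succ, pow_zero, mul_inv_rev, inv_inv, inv_one, one_mul, mul_one, mul_assoc,
      mul_inv_cancel_left, inv_mul_cancel_left, mul_inv_cancel, inv_mul_cancel, iu, jf, is, ia, ib, ic, id] at h ⊢
    exact h
  · have h := mul_inv_eq_one.mpr e47
    simp only [pow_succ, pow_zero, mul_inv_rev, inv_inv, inv_one, one_mul, mul_one, mul_assoc,
      mul_inv_cancel_left, inv_mul_cancel_left, mul_inv_cancel, inv_mul_cancel, iu, jf, is, ia, ib, ic, id] at h ⊢
    exact h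
  · have h := mul_inv_eq_one.mpr e48
    simp only [pow_succ, pow_zero, mul_inv_rev, inv_inv, inv_one, one_mul, mul_one, mul_assoc,
      mul_inv_cancel_left, inv_mul_cancel_left, mul_inv_cancel, inv_mul_cancel, iu, jf, is, ia, ib, ic, id] at h ⊢
    exact h

/-- Certificate data. -/
def p10_par : Trie :=
    (.node (.node (.node (.node (.node (.node (.leaf (nat_lit 0)) (.leaf (nat_lit 6409))) (.leaf
    (nat_lit 776))) (.node (.leaf (nat_lit 522)) (.leaf (nat_lit 1548)))) (.node (.node (.leaf
    (nat_lit 258)) (.leaf (nat_lit 1034))) (.node (.leaf (nat_lit 527)) (.leaf (nat_lit 1796)))))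
    (.node (.node (.node (.leaf (nat_lit 11)) (.leaf (nat_lit 778))) (.node (.leaf (nat_lit 525))
    (.leaf (nat_lit 1793)))) (.node (.node (.leaf (nat_lit 264)) (.leaf (nat_lit 1290))) (.node
    (.leaf (nat_lit 774)) (.leaf (nat_lit 2575)))))) (.node (.node (.node (.node (.node (.leaf
    (nat_lit 10)) (.leaf (nat_lit 6660))) (.leaf (nat_lit 777))) (.node (.leaf (nat_lit 524))
    (.leaf (nat_lit 1551)))) (.node (.node (.leaf (nat_lit 261)) (.leaf (nat_lit 1288))) (.node
    (.leaf (nat_lit 773)) (.leaf (nat_lit 2566))))) (.node (.node (.node (.leaf (nat_lit 257))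
    (.leaf (nat_lit 1031))) (.node (.leaf (nat_lit 526)) (.leaf (nat_lit 1795)))) (.node (.node
    (.leaf (nat_lit 519)) (.leaf (nat_lit 1546))) (.node (.leaf (nat_lit 775)) (.leaf (nat_lit
    3082)))))))

/-- Certificate data. -/
def p10_fact : Trie :=
    (.node (.node (.node (.node (.node (.node (.node (.node (.leaf (nat_lit 1)) (.leaf (nat_lit
    116491))) (.node (.leaf (nat_lit 85252)) (.leaf (nat_lit 417549)))) (.node (.node (.leaf
    (nat_lit 66574)) (.leaf (nat_lit 432902))) (.node (.leaf (nat_lit 345352)) (.leaf (nat_lit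
    548876))))) (.node (.node (.node (.leaf (nat_lit 32779)) (.leaf (nat_lit 52487))) (.node (.leaf
    (nat_lit 232975)) (.leaf (nat_lit 499726)))) (.node (.node (.leaf (nat_lit 116488)) (.leaf
    (nat_lit 204033))) (.leaf (nat_lit 84745))))) (.node (.node (.node (.node (.leaf (nat_lit 15))
    (.leaf (nat_lit 200966))) (.node (.leaf (nat_lit 69126)) (.leaf (nat_lit 498443)))) (.node
    (.node (.leaf (nat_lit 83213)) (.leaf (nat_lit 465667))) (.leaf (nat_lit 394764)))) (.node
    (.node (.node (.leaf (nat_lit 49934)) (.leaf (nat_lit 121089))) (.node (.leaf (nat_lit 282881))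
    (.leaf (nat_lit 532741)))) (.node (.node (.leaf (nat_lit 150277)) (.leaf (nat_lit 187663)))
    (.leaf (nat_lit 100868)))))) (.node (.node (.node (.node (.node (.leaf (nat_lit 8)) (.leaf
    (nat_lit 232970))) (.node (.leaf (nat_lit 216332)) (.leaf (nat_lit 499463)))) (.node (.node
    (.leaf (nat_lit 82181)) (.leaf (nat_lit 444942))) (.leaf (nat_lit 345607)))) (.node (.node
    (.node (.leaf (nat_lit 33284)) (.leaf (nat_lit 70144))) (.node (.leaf (nat_lit 266241)) (.leaf
    (nat_lit 531722)))) (.node (.node (.leaf (nat_lit 164365)) (.leaf (nat_lit 433420))) (.leaf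
    (nat_lit 101127))))) (.node (.node (.node (.node (.leaf (nat_lit 16654)) (.leaf (nat_lit
    216075))) (.node (.leaf (nat_lit 216580)) (.leaf (nat_lit 530697)))) (.node (.node (.leaf
    (nat_lit 17928)) (.leaf (nat_lit 285710))) (.leaf (nat_lit 185600)))) (.node (.node (.node
    (.leaf (nat_lit 66572)) (.leaf (nat_lit 416270))) (.node (.leaf (nat_lit 312327)) (.leaf
    (nat_lit 434442)))) (.node (.node (.leaf (nat_lit 166918)) (.leaf (nat_lit 417290))) (.leaf
    (nat_lit 104192))))))) (.node (.node (.node (.node (.node (.node (.leaf (nat_lit 5)) (.leaf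
    (nat_lit 83210))) (.node (.leaf (nat_lit 216334)) (.leaf (nat_lit 286479)))) (.node (.node
    (.leaf (nat_lit 49412)) (.leaf (nat_lit 449287))) (.node (.leaf (nat_lit 103686)) (.leaf
    (nat_lit 547341))))) (.node (.node (.node (.leaf (nat_lit 33285)) (.leaf (nat_lit 69127)))
    (.node (.leaf (nat_lit 262920)) (.leaf (nat_lit 531215)))) (.node (.node (.leaf (nat_lit
    147980)) (.leaf (nat_lit 482563))) (.leaf (nat_lit 101126))))) (.node (.node (.node (.node
    (.leaf (nat_lit 16652)) (.leaf (nat_lit 280077))) (.node (.leaf (nat_lit 216578)) (.leaf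
    (nat_lit 466689)))) (.node (.node (.leaf (nat_lit 83207)) (.leaf (nat_lit 465676))) (.leaf
    (nat_lit 100608)))) (.node (.node (.node (.leaf (nat_lit 65794)) (.leaf (nat_lit 416257)))
    (.node (.leaf (nat_lit 280068)) (.leaf (nat_lit 516353)))) (.node (.node (.leaf (nat_lit
    197135)) (.leaf (nat_lit 204301))) (.leaf (nat_lit 33290)))))) (.node (.node (.node (.node
    (.node (.leaf (nat_lit 13)) (.leaf (nat_lit 166410))) (.node (.leaf (nat_lit 214022)) (.leaf
    (nat_lit 450056)))) (.node (.node (.leaf (nat_lit 83215)) (.leaf (nat_lit 416774))) (.leaf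
    (nat_lit 361738)))) (.node (.node (.node (.leaf (nat_lit 49932)) (.leaf (nat_lit 411151)))
    (.node (.leaf (nat_lit 279305)) (.leaf (nat_lit 547332)))) (.node (.node (.leaf (nat_lit
    180750)) (.leaf (nat_lit 220425))) (.leaf (nat_lit 51721))))) (.node (.node (.node (.node
    (.leaf (nat_lit 16651)) (.leaf (nat_lit 282887))) (.node (.leaf (nat_lit 232973)) (.leaf
    (nat_lit 434185)))) (.node (.node (.leaf (nat_lit 115207)) (.leaf (nat_lit 477702))) (.leaf
    (nat_lit 98828)))) (.node (.node (.node (.leaf (nat_lit 66575)) (.leaf (nat_lit 416263)))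
    (.node (.leaf (nat_lit 328714)) (.leaf (nat_lit 548622)))) (.node (.node (.leaf (nat_lit
    150020)) (.leaf (nat_lit 510986))) (.leaf (nat_lit 117514)))))))) (.node (.node (.node (.node
    (.node (.node (.node (.leaf (nat_lit 3)) (.leaf (nat_lit 87552))) (.node (.leaf (nat_lit
    85250)) (.leaf (nat_lit 417539)))) (.node (.node (.leaf (nat_lit 17412)) (.leaf (nat_lit
    416517))) (.node (.leaf (nat_lit 103685)) (.leaf (nat_lit 547849))))) (.node (.node (.node
    (.leaf (nat_lit 33281)) (.leaf (nat_lit 234240))) (.node (.leaf (nat_lit 246535)) (.leaf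
    (nat_lit 531725)))) (.node (.node (.leaf (nat_lit 131594)) (.leaf (nat_lit 187650))) (.leaf
    (nat_lit 101125))))) (.node (.node (.node (.node (.leaf (nat_lit 16394)) (.leaf (nat_lit
    232457))) (.node (.leaf (nat_lit 85505)) (.leaf (nat_lit 466441)))) (.node (.node (.leaf
    (nat_lit 17669)) (.leaf (nat_lit 465927))) (.leaf (nat_lit 137224)))) (.node (.node (.node
    (.leaf (nat_lit 49935)) (.leaf (nat_lit 427777))) (.node (.leaf (nat_lit 282627)) (.leaf
    (nat_lit 467202)))) (.node (.node (.leaf (nat_lit 183043)) (.leaf (nat_lit 494095))) (.leaf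
    (nat_lit 281091)))))) (.node (.node (.node (.node (.node (.leaf (nat_lit 12)) (.leaf (nat_lit
    282890))) (.node (.leaf (nat_lit 216333)) (.leaf (nat_lit 514569)))) (.node (.node (.leaf
    (nat_lit 83214)) (.leaf (nat_lit 460548))) (.leaf (nat_lit 87307)))) (.node (.node (.node
    (.leaf (nat_lit 49409)) (.leaf (nat_lit 50186))) (.node (.leaf (nat_lit 263683)) (.leaf
    (nat_lit 434180)))) (.node (.node (.leaf (nat_lit 166402)) (.leaf (nat_lit 204046))) (.leaf
    (nat_lit 84747))))) (.node (.node (.node (.node (.leaf (nat_lit 16655)) (.leaf (nat_lit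
    166407))) (.node (.leaf (nat_lit 232972)) (.leaf (nat_lit 499717)))) (.node (.node (.leaf
    (nat_lit 99841)) (.leaf (nat_lit 449546))) (.leaf (nat_lit 167936)))) (.node (.node (.node
    (.leaf (nat_lit 66573)) (.leaf (nat_lit 121359))) (.node (.leaf (nat_lit 250626)) (.leaf
    (nat_lit 532743)))) (.node (.node (.leaf (nat_lit 199684)) (.leaf (nat_lit 497923))) (.leaf
    (nat_lit 99850))))))) (.node (.node (.node (.node (.node (.node (.leaf (nat_lit 7)) (.leaf
    (nat_lit 216330))) (.node (.leaf (nat_lit 216335)) (.leaf (nat_lit 417545)))) (.node (.node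
    (.leaf (nat_lit 66308)) (.leaf (nat_lit 445197))) (.node (.leaf (nat_lit 87304)) (.leaf
    (nat_lit 532740))))) (.node (.node (.node (.leaf (nat_lit 33288)) (.leaf (nat_lit 54272)))
    (.node (.leaf (nat_lit 69640)) (.leaf (nat_lit 531201)))) (.node (.node (.leaf (nat_lit
    149762)) (.leaf (nat_lit 204039))) (.leaf (nat_lit 84744))))) (.node (.node (.node (.node
    (.leaf (nat_lit 16653)) (.leaf (nat_lit 281100))) (.node (.leaf (nat_lit 85507)) (.leaf
    (nat_lit 515587)))) (.node (.node (.leaf (nat_lit 98568)) (.leaf (nat_lit 460557))) (.leaf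
    (nat_lit 38912)))) (.node (.node (.node (.leaf (nat_lit 50178)) (.leaf (nat_lit 416267)))
    (.node (.leaf (nat_lit 295690)) (.leaf (nat_lit 450825)))) (.node (.node (.leaf (nat_lit
    183297)) (.leaf (nat_lit 450049))) (.leaf (nat_lit 117516)))))) (.node (.node (.node (.node
    (.node (.leaf (nat_lit 14)) (.leaf (nat_lit 199945))) (.node (.leaf (nat_lit 230150)) (.leaf
    (nat_lit 515589)))) (.node (.node (.leaf (nat_lit 83212)) (.leaf (nat_lit 433157))) (.leaf
    (nat_lit 378378)))) (.node (.node (.node (.leaf (nat_lit 49933)) (.leaf (nat_lit 203020)))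
    (.node (.leaf (nat_lit 69897)) (.leaf (nat_lit 516358)))) (.node (.node (.leaf (nat_lit
    150278)) (.leaf (nat_lit 236808))) (.leaf (nat_lit 68104))))) (.node (.node (.node (.node
    (.leaf (nat_lit 16647)) (.leaf (nat_lit 216832))) (.node (.leaf (nat_lit 232974)) (.leaf
    (nat_lit 499713)))) (.node (.node (.leaf (nat_lit 116485)) (.leaf (nat_lit 285958))) (.leaf
    (nat_lit 34816)))) (.node (.node (.node (.leaf (nat_lit 50187)) (.leaf (nat_lit 444163)))
    (.node (.leaf (nat_lit 332812)) (.leaf (nat_lit 547855)))) (.node (.node (.leaf (nat_lit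
    213765)) (.leaf (nat_lit 499468))) (.leaf (nat_lit 116238)))))))))

/-- Certificate data. -/
def p10_just : Trie :=
    (.node (.node (.node (.node (.node (.node (.node (.node (.leaf (nat_lit 1)) (.leaf (nat_lit
    74507065214225659265031))) (.node (.leaf (nat_lit 81159896753700907)) (.leaf (nat_lit
    424160237029883908)))) (.node (.node (.leaf (nat_lit 30004166218710515734)) (.leaf (nat_lit
    344735648797884462))) (.node (.leaf (nat_lit 0)) (.leaf (nat_lit 255845705523006799983)))))
    (.node (.node (.node (.leaf (nat_lit 0)) (.leaf (nat_lit 359673446400002))) (.node (.leaf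
    (nat_lit 81908196291167649845)) (.leaf (nat_lit
    533504640948467903099041302815607703269605477)))) (.node (.node (.leaf (nat_lit
    54867438222570684451)) (.leaf (nat_lit 306778437232820272))) (.leaf (nat_lit
    425343496355842))))) (.node (.node (.node (.node (.leaf (nat_lit 1)) (.leaf (nat_lit
    136760202610540614))) (.node (.leaf (nat_lit 159029577975529519)) (.leaf (nat_lit
    230452130011574173794)))) (.node (.node (.leaf (nat_lit 41535734327036608541)) (.leaf (nat_lit
    377857349957910568))) (.leaf (nat_lit 0)))) (.node (.node (.node (.leaf (nat_lit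
    47347354399080463)) (.leaf (nat_lit 286177781216378921))) (.node (.leaf (nat_lit
    99198689667910467617)) (.leaf (nat_lit 475837489693786198)))) (.node (.node (.leaf (nat_lit
    112669623673094183)) (.leaf (nat_lit 131104521148768190517))) (.leaf (nat_lit
    376973574668290)))))) (.node (.node (.node (.node (.node (.leaf (nat_lit 1)) (.leaf (nat_lit
    44051694324857123962948))) (.node (.leaf (nat_lit 141971685862735900)) (.leaf (nat_lit
    57060129210089925698256904)))) (.node (.node (.leaf (nat_lit 0)) (.leaf (nat_lit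
    364332493647839284))) (.leaf (nat_lit 110776591183346139196)))) (.node (.node (.node (.leaf
    (nat_lit 21945000992205701132)) (.leaf (nat_lit 213444580232855554))) (.node (.leaf (nat_lit
    96331026973164044321)) (.leaf (nat_lit 240809265834232119400)))) (.node (.node (.leaf (nat_lit
    0)) (.leaf (nat_lit 361010748761243698))) (.leaf (nat_lit 442935682400258))))) (.node (.node
    (.node (.node (.leaf (nat_lit 10393223907405725701)) (.leaf (nat_lit 80775818620159918152)))
    (.node (.leaf (nat_lit 157747547417542700)) (.leaf (nat_lit 0)))) (.node (.node (.leaf (nat_lit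
    92482495697846304)) (.leaf (nat_lit 311310598392709207))) (.leaf (nat_lit
    125444123426750466)))) (.node (.node (.node (.leaf (nat_lit 58593202277646354)) (.leaf (nat_lit
    173040118752128270416))) (.node (.leaf (nat_lit 0)) (.leaf (nat_lit
    125972663962016808239171)))) (.node (.node (.leaf (nat_lit 117175456683458602)) (.leaf (nat_lit
    89644675845297000480859))) (.leaf (nat_lit 127097697857127579651))))))) (.node (.node (.node
    (.node (.node (.node (.leaf (nat_lit 1)) (.leaf (nat_lit 451912164048898))) (.node (.leaf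
    (nat_lit 141962889769713690)) (.leaf (nat_lit 78964864124539971633246)))) (.node (.node (.leaf
    (nat_lit 47433154960752664)) (.leaf (nat_lit 364361935648653396))) (.node (.leaf (nat_lit
    97008540824305722)) (.leaf (nat_lit 130991326754291314917489))))) (.node (.node (.node (.leaf
    (nat_lit 18455760210791497738)) (.leaf (nat_lit 408069137891330))) (.node (.leaf (nat_lit 0))
    (.leaf (nat_lit 470315312802365543)))) (.node (.node (.leaf (nat_lit 0)) (.leaf (nat_lit
    392047762990104616))) (.leaf (nat_lit 431940566122498))))) (.node (.node (.node (.node (.leaf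
    (nat_lit 20290469183553539)) (.leaf (nat_lit 157504472081076846621))) (.node (.leaf (nat_lit
    157780532766375985)) (.leaf (nat_lit 375759812484595812)))) (.node (.node (.leaf (nat_lit
    81131116177850399)) (.leaf (nat_lit 377866146050932786))) (.leaf (nat_lit
    242376832963618952271284738243696805019711)))) (.node (.node (.node (.leaf (nat_lit 0)) (.leaf
    (nat_lit 672020648034382))) (.node (.leaf (nat_lit 100939370149825478668)) (.leaf (nat_lit
    436402405651972202)))) (.node (.node (.leaf (nat_lit 0)) (.leaf (nat_lit 130836880068640858)))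
    (.leaf (nat_lit 218661080137730)))))) (.node (.node (.node (.node (.node (.leaf (nat_lit 1))
    (.leaf (nat_lit 31720034898693436276804))) (.node (.leaf (nat_lit 147675690194632750)) (.leaf
    (nat_lit 186553477666676408355)))) (.node (.node (.leaf (nat_lit 81115684360355867)) (.leaf
    (nat_lit 343609800430649429))) (.leaf (nat_lit 0)))) (.node (.node (.node (.leaf (nat_lit
    47334160259547149)) (.leaf (nat_lit 0))) (.node (.leaf (nat_lit 0)) (.leaf (nat_lit 0))))
    (.node (.node (.leaf (nat_lit 0)) (.leaf (nat_lit 142383856694263877))) (.leaf (nat_lit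
    363779435134978))))) (.node (.node (.node (.node (.leaf (nat_lit 5317286384018567528455))
    (.leaf (nat_lit 81594682553321451225162))) (.node (.leaf (nat_lit 159990551138205747)) (.leaf
    (nat_lit 361000011343003703)))) (.node (.node (.leaf (nat_lit 0)) (.leaf (nat_lit 0))) (.leaf
    (nat_lit 460519278510082)))) (.node (.node (.node (.leaf (nat_lit 58601998370668564)) (.leaf
    (nat_lit 90073185081238984392786))) (.node (.leaf (nat_lit 0)) (.leaf (nat_lit
    499692335056224365)))) (.node (.node (.leaf (nat_lit 124108994188083244)) (.leaf (nat_lit 0)))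
    (.leaf (nat_lit 13975085815121387712806977)))))))) (.node (.node (.node (.node (.node (.node
    (.node (.leaf (nat_lit 1)) (.leaf (nat_lit 35435808261450732677758983))) (.node (.leaf (nat_lit
    81217071358345261)) (.leaf (nat_lit 90165512317588325335133)))) (.node (.node (.leaf (nat_lit
    5314392843394243428375)) (.leaf (nat_lit 343607549867786323))) (.node (.leaf (nat_lit
    96988749615005753)) (.leaf (nat_lit 255832211959828447344))))) (.node (.node (.node (.leaf
    (nat_lit 36031137776336905)) (.leaf (nat_lit 168388805634752514))) (.node (.leaf (nat_lit 0))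
    (.leaf (nat_lit 470322051606052966)))) (.node (.node (.leaf (nat_lit 0)) (.leaf (nat_lit
    256108543378391089))) (.leaf (nat_lit 427542519611394))))) (.node (.node (.node (.node (.leaf
    (nat_lit 0)) (.leaf (nat_lit 163639289064915013))) (.node (.leaf (nat_lit 93602039053090864))
    (.leaf (nat_lit 192311164897885159523)))) (.node (.node (.leaf (nat_lit
    5314972681932166725662)) (.leaf (nat_lit 377874985093627988))) (.leaf (nat_lit
    28942963038160211476542)))) (.node (.node (.node (.leaf (nat_lit 24239593858573533200)) (.leaf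
    (nat_lit 0))) (.node (.leaf (nat_lit 102230707296352337974)) (.leaf (nat_lit
    372223911938687081)))) (.node (.node (.leaf (nat_lit 127451470881816616)) (.leaf (nat_lit 0)))
    (.leaf (nat_lit 392366737457154)))))) (.node (.node (.node (.node (.node (.leaf (nat_lit 1))
    (.leaf (nat_lit 53179362534409313255491))) (.node (.leaf (nat_lit 72691755545549602845)) (.leaf
    (nat_lit 440958378110550112)))) (.node (.node (.leaf (nat_lit 81111286313844762)) (.leaf
    (nat_lit 0))) (.leaf (nat_lit 41537986620771532861)))) (.node (.node (.node (.leaf (nat_lit 0))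
    (.leaf (nat_lit 403696861184002))) (.node (.leaf (nat_lit 97606607456639909942)) (.leaf
    (nat_lit 345228676683726872)))) (.node (.node (.leaf (nat_lit 117171007097339941)) (.leaf
    (nat_lit 306857602070020148))) (.leaf (nat_lit 445134705655810))))) (.node (.node (.node (.node
    (.leaf (nat_lit 5322483562190693793798)) (.leaf (nat_lit 82505656019912539570249))) (.node
    (.leaf (nat_lit 159986153091694642)) (.leaf (nat_lit 447694304169885793)))) (.node (.node
    (.leaf (nat_lit 51364827362582855713)) (.leaf (nat_lit 367601195688329304))) (.leaf (nat_lit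
    141206614748364802)))) (.node (.node (.node (.leaf (nat_lit 58597600324157459)) (.leaf (nat_lit
    146522924146170789969))) (.node (.leaf (nat_lit 47838207010891815518264)) (.leaf (nat_lit
    33085542638097577551531016300)))) (.node (.node (.leaf (nat_lit 136467500589318187)) (.leaf
    (nat_lit 422913060131504220))) (.leaf (nat_lit 456267260887042))))))) (.node (.node (.node
    (.node (.node (.node (.leaf (nat_lit 1)) (.leaf (nat_lit 44947514373540537499715))) (.node
    (.leaf (nat_lit 141967287816224795)) (.leaf (nat_lit 89585756401504224608351)))) (.node (.node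
    (.leaf (nat_lit 58692166914080793)) (.leaf (nat_lit 364326347549638707))) (.node (.leaf
    (nat_lit 217732722825822267)) (.leaf (nat_lit 487351579754823723))))) (.node (.node (.node
    (.leaf (nat_lit 18451320400018407435)) (.leaf (nat_lit 11086087217874318196279279692))) (.node
    (.leaf (nat_lit 159029672464810016)) (.leaf (nat_lit 470412460667633705)))) (.node (.node
    (.leaf (nat_lit 112667390290100260)) (.leaf (nat_lit 136857711253061663))) (.leaf (nat_lit
    436338612633602))))) (.node (.node (.node (.node (.leaf (nat_lit 20294867230064644)) (.leaf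
    (nat_lit 157504471582860640327))) (.node (.leaf (nat_lit 93544864448446504)) (.leaf (nat_lit
    456729940403093596)))) (.node (.node (.leaf (nat_lit 0)) (.leaf (nat_lit 377869564844900403)))
    (.leaf (nat_lit 114185180192899074)))) (.node (.node (.node (.leaf (nat_lit 92586610130961))
    (.leaf (nat_lit 343965939118833743))) (.node (.leaf (nat_lit 0)) (.leaf (nat_lit
    244302944528043868267)))) (.node (.node (.leaf (nat_lit 121672459241062441)) (.leaf (nat_lit
    369532058365788201))) (.leaf (nat_lit 104069772001607744)))))) (.node (.node (.node (.node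
    (.node (.leaf (nat_lit 1)) (.leaf (nat_lit 136760060876619845))) (.node (.leaf (nat_lit 0))
    (.leaf (nat_lit 444309951545016417)))) (.node (.node (.leaf (nat_lit 81120082406866972)) (.leaf
    (nat_lit 344733501314236502))) (.leaf (nat_lit 0)))) (.node (.node (.node (.leaf (nat_lit
    47338558306058254)) (.leaf (nat_lit 131091666118574157))) (.node (.leaf (nat_lit
    162442590917165111)) (.leaf (nat_lit 456727977603039317)))) (.node (.node (.leaf (nat_lit
    112671822696349734)) (.leaf (nat_lit 163780352970784857))) (.leaf (nat_lit 365978458390530)))))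
    (.node (.node (.node (.node (.leaf (nat_lit 2723332031451972132798472)) (.leaf (nat_lit
    37288685023152478421067))) (.node (.leaf (nat_lit 159977356998672436)) (.leaf (nat_lit
    229276838217050751009)))) (.node (.node (.leaf (nat_lit 103664554722132002)) (.leaf (nat_lit
    307638255325741103))) (.leaf (nat_lit 43255693675003906)))) (.node (.node (.node (.leaf
    (nat_lit 47351795395264533)) (.leaf (nat_lit 0))) (.node (.leaf (nat_lit 211795338560995331))
    (.leaf (nat_lit 255845705179409416302)))) (.node (.node (.leaf (nat_lit 0)) (.leaf (nat_lit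
    425132205308837891))) (.leaf (nat_lit 343503198834929113846992611671169514676748354)))))))))

/-- Certificate data. -/
def p10_rel : Trie :=
    (.node (.node (.node (.node (.node (.node (.node (.leaf (nat_lit 0)) (.leaf (nat_lit
    163214353637929854098446167378958))) (.node (.leaf (nat_lit 117835526)) (.leaf (nat_lit
    21659977227)))) (.node (.node (.leaf (nat_lit 17564172)) (.leaf (nat_lit 2229122040327)))
    (.leaf (nat_lit 84805132)))) (.node (.node (.node (.leaf (nat_lit 47329053446)) (.leaf (nat_lit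
    13250209451271))) (.node (.leaf (nat_lit 252054789)) (.leaf (nat_lit 50398210)))) (.node (.node
    (.leaf (nat_lit 101451022)) (.leaf (nat_lit 252514061))) (.leaf (nat_lit 151324677))))) (.node
    (.node (.node (.node (.leaf (nat_lit 14345359526415)) (.leaf (nat_lit 151586053))) (.node
    (.leaf (nat_lit 235277317)) (.leaf (nat_lit 235736589)))) (.node (.node (.leaf (nat_lit
    4547543566)) (.leaf (nat_lit 50659590))) (.leaf (nat_lit 38672007684)))) (.node (.node (.node
    (.leaf (nat_lit 34406669)) (.leaf (nat_lit 131586))) (.node (.leaf (nat_lit 67502341)) (.leaf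
    (nat_lit 51658032911)))) (.node (.node (.leaf (nat_lit 6640103655942)) (.leaf (nat_lit
    11059759680015))) (.leaf (nat_lit 13228667767305)))))) (.node (.node (.node (.node (.node
    (.leaf (nat_lit 168626701)) (.leaf (nat_lit 2216371093770))) (.node (.leaf (nat_lit 201460737))
    (.leaf (nat_lit 100926722)))) (.node (.node (.leaf (nat_lit 17695247)) (.leaf (nat_lit
    101123591))) (.leaf (nat_lit 84674062)))) (.node (.node (.node (.leaf (nat_lit 4446095363))
    (.leaf (nat_lit 3388725069808901))) (.node (.leaf (nat_lit 83953155)) (.leaf (nat_lit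
    218146435601203975)))) (.node (.node (.leaf (nat_lit 101582092)) (.leaf (nat_lit 16974340)))
    (.leaf (nat_lit 25921259527))))) (.node (.node (.node (.node (.leaf (nat_lit 2822467908012551))
    (.leaf (nat_lit 21609776651))) (.node (.leaf (nat_lit 84018692)) (.leaf (nat_lit
    60331527690)))) (.node (.node (.leaf (nat_lit 33816835)) (.leaf (nat_lit 218762506))) (.leaf
    (nat_lit 7700993869569)))) (.node (.node (.node (.leaf (nat_lit 60164014351)) (.leaf (nat_lit
    8824885006))) (.node (.leaf (nat_lit 84084226)) (.leaf (nat_lit 30166025992)))) (.node (.node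
    (.leaf (nat_lit 151323913)) (.leaf (nat_lit 101058568))) (.leaf (nat_lit 118228748)))))))
    (.node (.node (.node (.node (.node (.node (.leaf (nat_lit 168561164)) (.leaf (nat_lit
    3302997754890))) (.node (.leaf (nat_lit 30199449097)) (.leaf (nat_lit 47346025736)))) (.node
    (.node (.leaf (nat_lit 17629709)) (.leaf (nat_lit 67437062))) (.leaf (nat_lit 84870669))))
    (.node (.node (.node (.leaf (nat_lit 25954683657)) (.leaf (nat_lit 30216226821))) (.node (.leaf
    (nat_lit 100795651)) (.leaf (nat_lit 12902269448)))) (.node (.node (.leaf (nat_lit 101516559))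
    (.leaf (nat_lit 16535876602890))) (.leaf (nat_lit 84216073))))) (.node (.node (.node (.node
    (.leaf (nat_lit 11033972836875)) (.leaf (nat_lit 55936222476))) (.node (.leaf (nat_lit
    235211782)) (.leaf (nat_lit 235867663)))) (.node (.node (.leaf (nat_lit 1142495119875)) (.leaf
    (nat_lit 219024654))) (.leaf (nat_lit 134612488)))) (.node (.node (.node (.leaf (nat_lit
    34537742)) (.leaf (nat_lit 34275851))) (.node (.leaf (nat_lit 84215045)) (.leaf (nat_lit
    64542934796)))) (.node (.node (.leaf (nat_lit 84346119)) (.leaf (nat_lit 11042529283080)))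
    (.leaf (nat_lit 3723538914965537180174780937)))))) (.node (.node (.node (.node (.node (.leaf
    (nat_lit 51708299790)) (.leaf (nat_lit 84477192))) (.node (.leaf (nat_lit 218238209)) (.leaf
    (nat_lit 163214358506781642870659679325198)))) (.node (.node (.leaf (nat_lit 17498379)) (.leaf
    (nat_lit 50725381))) (.leaf (nat_lit 21693728271)))) (.node (.node (.node (.leaf (nat_lit
    34341132)) (.leaf (nat_lit 252448524))) (.node (.leaf (nat_lit 100861185)) (.leaf (nat_lit
    118359822)))) (.node (.node (.leaf (nat_lit 51641255181)) (.leaf (nat_lit 11008018612740)))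
    (.leaf (nat_lit 38756091147))))) (.node (.node (.node (.node (.leaf (nat_lit 184683266)) (.leaf
    (nat_lit 14323951668231))) (.node (.leaf (nat_lit 251727362)) (.leaf (nat_lit 50463745))))
    (.node (.node (.leaf (nat_lit 17039875)) (.leaf (nat_lit 84411657))) (.leaf (nat_lit
    151390214)))) (.node (.node (.node (.leaf (nat_lit 65793)) (.leaf (nat_lit 8824884751))) (.node
    (.leaf (nat_lit 84149761)) (.leaf (nat_lit 7748340025101)))) (.node (.node (.leaf (nat_lit
    34410137858)) (.leaf (nat_lit 134613254))) (.leaf (nat_lit 1975844071933706))))))))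

/-- Certificate data. -/
def p10_rc : Trie :=
    (.node (.node (.node (.node (.node (.node (.node (.leaf (nat_lit 100)) (.leaf (nat_lit
    655433))) (.node (.leaf (nat_lit 13)) (.leaf (nat_lit 262242)))) (.node (.node (.leaf (nat_lit
    131112)) (.leaf (nat_lit 131087))) (.leaf (nat_lit 131120)))) (.node (.node (.node (.leaf
    (nat_lit 393315)) (.leaf (nat_lit 58))) (.node (.leaf (nat_lit 50)) (.leaf (nat_lit 262152))))
    (.node (.node (.leaf (nat_lit 393264)) (.leaf (nat_lit 36))) (.leaf (nat_lit 393282))))) (.node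
    (.node (.node (.node (.leaf (nat_lit 262231)) (.leaf (nat_lit 69))) (.node (.leaf (nat_lit 48))
    (.leaf (nat_lit 34)))) (.node (.node (.leaf (nat_lit 393261)) (.leaf (nat_lit 262150))) (.leaf
    (nat_lit 393280)))) (.node (.node (.node (.leaf (nat_lit 393258)) (.leaf (nat_lit 1))) (.node
    (.leaf (nat_lit 4)) (.leaf (nat_lit 131135)))) (.node (.node (.leaf (nat_lit 655436)) (.leaf
    (nat_lit 524375))) (.leaf (nat_lit 393306)))))) (.node (.node (.node (.node (.node (.leaf
    (nat_lit 131154)) (.leaf (nat_lit 78))) (.node (.leaf (nat_lit 40)) (.leaf (nat_lit 7))))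
    (.node (.node (.leaf (nat_lit 131118)) (.leaf (nat_lit 131085))) (.leaf (nat_lit 131124))))
    (.node (.node (.node (.leaf (nat_lit 131137)) (.leaf (nat_lit 131167))) (.node (.leaf (nat_lit
    131078)) (.leaf (nat_lit 16)))) (.node (.node (.leaf (nat_lit 393268)) (.leaf (nat_lit
    262153))) (.leaf (nat_lit 131143))))) (.node (.node (.node (.node (.leaf (nat_lit 655455))
    (.leaf (nat_lit 262243))) (.node (.leaf (nat_lit 262151)) (.leaf (nat_lit 262229)))) (.node
    (.node (.leaf (nat_lit 9)) (.leaf (nat_lit 82))) (.leaf (nat_lit 131086)))) (.node (.node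
    (.node (.leaf (nat_lit 131117)) (.leaf (nat_lit 45))) (.node (.leaf (nat_lit 262149)) (.leaf
    (nat_lit 262215)))) (.node (.node (.leaf (nat_lit 393285)) (.leaf (nat_lit 68))) (.leaf
    (nat_lit 131128))))))) (.node (.node (.node (.node (.node (.node (.leaf (nat_lit 131152))
    (.leaf (nat_lit 393294))) (.node (.leaf (nat_lit 524359)) (.leaf (nat_lit 99)))) (.node (.node
    (.leaf (nat_lit 131114)) (.leaf (nat_lit 393223))) (.leaf (nat_lit 131122)))) (.node (.node
    (.node (.leaf (nat_lit 524386)) (.leaf (nat_lit 524358))) (.node (.leaf (nat_lit 5)) (.leaf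
    (nat_lit 262209)))) (.node (.node (.leaf (nat_lit 393266)) (.leaf (nat_lit 655447))) (.leaf
    (nat_lit 262213))))) (.node (.node (.node (.node (.leaf (nat_lit 655450)) (.leaf (nat_lit
    524342))) (.node (.leaf (nat_lit 262196)) (.leaf (nat_lit 131110)))) (.node (.node (.leaf
    (nat_lit 262222)) (.leaf (nat_lit 131106))) (.leaf (nat_lit 131140)))) (.node (.node (.node
    (.leaf (nat_lit 393262)) (.leaf (nat_lit 131169))) (.node (.leaf (nat_lit 2)) (.leaf (nat_lit
    524350)))) (.node (.node (.leaf (nat_lit 12)) (.leaf (nat_lit 131162))) (.leaf (nat_lit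
    393308)))))) (.node (.node (.node (.node (.node (.leaf (nat_lit 131157)) (.leaf (nat_lit 66)))
    (.node (.leaf (nat_lit 42)) (.leaf (nat_lit 1441865)))) (.node (.node (.leaf (nat_lit 96))
    (.leaf (nat_lit 131077))) (.leaf (nat_lit 393271)))) (.node (.node (.node (.leaf (nat_lit
    393256)) (.leaf (nat_lit 32))) (.node (.leaf (nat_lit 393222)) (.leaf (nat_lit 131132))))
    (.node (.node (.leaf (nat_lit 131127)) (.leaf (nat_lit 524366))) (.leaf (nat_lit 98))))) (.node
    (.node (.node (.node (.leaf (nat_lit 97)) (.leaf (nat_lit 655419))) (.node (.leaf (nat_lit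
    262190)) (.leaf (nat_lit 131081)))) (.node (.node (.leaf (nat_lit 131080)) (.leaf (nat_lit
    262210))) (.leaf (nat_lit 67)))) (.node (.node (.node (.leaf (nat_lit 0)) (.leaf (nat_lit
    393260))) (.node (.leaf (nat_lit 131076)) (.leaf (nat_lit 131130)))) (.node (.node (.leaf
    (nat_lit 393281)) (.leaf (nat_lit 262211))) (.leaf (nat_lit 524383))))))))

/-- Certificate data. -/
def p10_lv : Trie :=
    (.node (.node (.node (.node (.node (.leaf (nat_lit 0)) (.leaf (nat_lit 27))) (.leaf (nat_lit
    10))) (.node (.node (.leaf (nat_lit 4)) (.leaf (nat_lit 31))) (.leaf (nat_lit 14)))) (.node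
    (.node (.node (.leaf (nat_lit 2)) (.leaf (nat_lit 29))) (.leaf (nat_lit 12))) (.node (.node
    (.leaf (nat_lit 6)) (.leaf (nat_lit 33))) (.leaf (nat_lit 25))))) (.node (.node (.node (.node
    (.leaf (nat_lit 1)) (.leaf (nat_lit 28))) (.leaf (nat_lit 11))) (.node (.node (.leaf (nat_lit
    5)) (.leaf (nat_lit 32))) (.leaf (nat_lit 17)))) (.node (.node (.node (.leaf (nat_lit 3))
    (.leaf (nat_lit 30))) (.leaf (nat_lit 13))) (.node (.leaf (nat_lit 7)) (.leaf (nat_lit 26))))))

/-- Certificate data. -/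
def p10_tb : Trie :=
    (.node (.node (.node (.node (.node (.node (.node (.node (.leaf (nat_lit 0)) (.leaf (nat_lit
    4375))) (.node (.leaf (nat_lit 4445)) (.leaf (nat_lit 10098)))) (.node (.node (.leaf (nat_lit
    4722)) (.leaf (nat_lit 8133))) (.node (.leaf (nat_lit 6831)) (.leaf (nat_lit 8538))))) (.node
    (.node (.node (.leaf (nat_lit 11174)) (.leaf (nat_lit 6932))) (.node (.leaf (nat_lit 1824))
    (.leaf (nat_lit 19)))) (.node (.node (.leaf (nat_lit 1060)) (.leaf (nat_lit 7480))) (.leaf
    (nat_lit 8075))))) (.node (.node (.node (.node (.leaf (nat_lit 4203)) (.leaf (nat_lit 11712)))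
    (.node (.leaf (nat_lit 5921)) (.leaf (nat_lit 11172)))) (.node (.node (.leaf (nat_lit 3915))
    (.leaf (nat_lit 3327))) (.leaf (nat_lit 5395)))) (.node (.node (.node (.leaf (nat_lit 2115))
    (.leaf (nat_lit 10625))) (.node (.leaf (nat_lit 10633)) (.leaf (nat_lit 3836)))) (.node (.node
    (.leaf (nat_lit 6929)) (.leaf (nat_lit 17))) (.leaf (nat_lit 2639)))))) (.node (.node (.node
    (.node (.node (.leaf (nat_lit 565)) (.leaf (nat_lit 8533))) (.node (.leaf (nat_lit 11184))
    (.leaf (nat_lit 6305)))) (.node (.node (.leaf (nat_lit 3253)) (.leaf (nat_lit 1585))) (.node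
    (.leaf (nat_lit 2286)) (.leaf (nat_lit 9641))))) (.node (.node (.node (.leaf (nat_lit 9108))
    (.leaf (nat_lit 10101))) (.node (.leaf (nat_lit 7484)) (.leaf (nat_lit 2821)))) (.node (.node
    (.leaf (nat_lit 4837)) (.leaf (nat_lit 11169))) (.leaf (nat_lit 533))))) (.node (.node (.node
    (.node (.leaf (nat_lit 2706)) (.leaf (nat_lit 4200))) (.node (.leaf (nat_lit 1117)) (.leaf
    (nat_lit 7044)))) (.node (.node (.leaf (nat_lit 11719)) (.leaf (nat_lit 5765))) (.leaf (nat_lit
    11703)))) (.node (.node (.node (.leaf (nat_lit 5761)) (.leaf (nat_lit 11170))) (.node (.leaf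
    (nat_lit 8)) (.leaf (nat_lit 6923)))) (.node (.node (.leaf (nat_lit 9037)) (.leaf (nat_lit
    2109))) (.leaf (nat_lit 3830))))))) (.node (.node (.node (.node (.node (.node (.leaf (nat_lit
    1058)) (.leaf (nat_lit 9577))) (.node (.leaf (nat_lit 11695)) (.leaf (nat_lit 1141)))) (.node
    (.node (.leaf (nat_lit 6297)) (.leaf (nat_lit 537))) (.node (.leaf (nat_lit 600)) (.leaf
    (nat_lit 7544))))) (.node (.node (.node (.leaf (nat_lit 5472)) (.leaf (nat_lit 1129))) (.node
    (.leaf (nat_lit 6941)) (.leaf (nat_lit 2347)))) (.node (.node (.leaf (nat_lit 6289)) (.leaf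
    (nat_lit 7000))) (.leaf (nat_lit 9155))))) (.node (.node (.node (.node (.leaf (nat_lit 4726))
    (.leaf (nat_lit 13))) (.node (.leaf (nat_lit 2645)) (.leaf (nat_lit 4976)))) (.node (.node
    (.leaf (nat_lit 10646)) (.leaf (nat_lit 1133))) (.leaf (nat_lit 10631)))) (.node (.node (.node
    (.leaf (nat_lit 581)) (.leaf (nat_lit 4935))) (.node (.leaf (nat_lit 11707)) (.leaf (nat_lit
    5895)))) (.node (.node (.leaf (nat_lit 1679)) (.leaf (nat_lit 5236))) (.leaf (nat_lit
    4855)))))) (.node (.node (.node (.node (.node (.leaf (nat_lit 3162)) (.leaf (nat_lit 10623)))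
    (.node (.leaf (nat_lit 543)) (.leaf (nat_lit 3373)))) (.node (.node (.leaf (nat_lit 11179))
    (.leaf (nat_lit 2635))) (.leaf (nat_lit 5903)))) (.node (.node (.node (.leaf (nat_lit 10676))
    (.leaf (nat_lit 6301))) (.node (.leaf (nat_lit 9043)) (.leaf (nat_lit 4861)))) (.node (.node
    (.leaf (nat_lit 5241)) (.leaf (nat_lit 10144))) (.leaf (nat_lit 1581))))) (.node (.node (.node
    (.node (.leaf (nat_lit 3888)) (.leaf (nat_lit 2107))) (.node (.leaf (nat_lit 3304)) (.leaf
    (nat_lit 9151)))) (.node (.node (.leaf (nat_lit 4)) (.leaf (nat_lit 9049))) (.leaf (nat_lit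
    6510)))) (.node (.node (.node (.leaf (nat_lit 8510)) (.leaf (nat_lit 7552))) (.node (.leaf
    (nat_lit 1062)) (.leaf (nat_lit 11705)))) (.node (.node (.leaf (nat_lit 7490)) (.leaf (nat_lit
    7468))) (.leaf (nat_lit 5769)))))))) (.node (.node (.node (.node (.node (.node (.node (.leaf
    (nat_lit 1578)) (.leaf (nat_lit 5422))) (.node (.leaf (nat_lit 10638)) (.leaf (nat_lit 9585))))
    (.node (.node (.leaf (nat_lit 5243)) (.leaf (nat_lit 15))) (.node (.leaf (nat_lit 4833)) (.leaf
    (nat_lit 11176))))) (.node (.node (.node (.leaf (nat_lit 11699)) (.leaf (nat_lit 9046))) (.node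
    (.leaf (nat_lit 2340)) (.leaf (nat_lit 1269)))) (.node (.node (.leaf (nat_lit 5758)) (.leaf
    (nat_lit 4425))) (.leaf (nat_lit 7577))))) (.node (.node (.node (.node (.leaf (nat_lit 9571))
    (.leaf (nat_lit 11201))) (.node (.leaf (nat_lit 6437)) (.leaf (nat_lit 11710)))) (.node (.node
    (.leaf (nat_lit 9572)) (.leaf (nat_lit 8520))) (.leaf (nat_lit 1709)))) (.node (.node (.node
    (.leaf (nat_lit 1065)) (.leaf (nat_lit 11716))) (.node (.leaf (nat_lit 10120)) (.leaf (nat_lit
    10620)))) (.node (.node (.leaf (nat_lit 2189)) (.leaf (nat_lit 539))) (.leaf (nat_lit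
    1245)))))) (.node (.node (.node (.node (.node (.leaf (nat_lit 5763)) (.leaf (nat_lit 8040)))
    (.node (.leaf (nat_lit 7)) (.leaf (nat_lit 10629)))) (.node (.node (.leaf (nat_lit 10106))
    (.leaf (nat_lit 2113))) (.node (.leaf (nat_lit 2790)) (.leaf (nat_lit 8120))))) (.node (.node
    (.node (.leaf (nat_lit 10142)) (.leaf (nat_lit 5771))) (.node (.leaf (nat_lit 8517)) (.leaf
    (nat_lit 3323)))) (.node (.node (.leaf (nat_lit 3678)) (.leaf (nat_lit 11708))) (.leaf (nat_lit
    3292))))) (.node (.node (.node (.node (.leaf (nat_lit 6832)) (.leaf (nat_lit 1583))) (.node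
    (.leaf (nat_lit 4379)) (.leaf (nat_lit 8613)))) (.node (.node (.leaf (nat_lit 8109)) (.leaf
    (nat_lit 6303))) (.leaf (nat_lit 10131)))) (.node (.node (.node (.leaf (nat_lit 4337)) (.leaf
    (nat_lit 5492))) (.node (.leaf (nat_lit 3158)) (.leaf (nat_lit 10105)))) (.node (.node (.leaf
    (nat_lit 8513)) (.leaf (nat_lit 2637))) (.leaf (nat_lit 7471))))))) (.node (.node (.node (.node
    (.node (.node (.leaf (nat_lit 2103)) (.leaf (nat_lit 9044))) (.node (.leaf (nat_lit 10138))
    (.leaf (nat_lit 5767)))) (.node (.node (.leaf (nat_lit 2710)) (.leaf (nat_lit 4716))) (.node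
    (.leaf (nat_lit 3680)) (.leaf (nat_lit 5501))))) (.node (.node (.node (.leaf (nat_lit 8566))
    (.leaf (nat_lit 8518))) (.node (.leaf (nat_lit 7997)) (.leaf (nat_lit 1834)))) (.node (.node
    (.leaf (nat_lit 594)) (.leaf (nat_lit 5482))) (.leaf (nat_lit 11))))) (.node (.node (.node
    (.node (.leaf (nat_lit 6293)) (.leaf (nat_lit 535))) (.node (.leaf (nat_lit 4841)) (.leaf
    (nat_lit 4467)))) (.node (.node (.leaf (nat_lit 7554)) (.leaf (nat_lit 9579))) (.leaf (nat_lit
    11165)))) (.node (.node (.node (.leaf (nat_lit 1607)) (.leaf (nat_lit 3927))) (.node (.leaf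
    (nat_lit 11194)) (.leaf (nat_lit 6409)))) (.node (.node (.leaf (nat_lit 9567)) (.leaf (nat_lit
    1587))) (.leaf (nat_lit 6934)))))) (.node (.node (.node (.node (.node (.leaf (nat_lit 7986))
    (.leaf (nat_lit 10110))) (.node (.leaf (nat_lit 3676)) (.leaf (nat_lit 3898)))) (.node (.node
    (.leaf (nat_lit 9040)) (.leaf (nat_lit 3838))) (.leaf (nat_lit 9581)))) (.node (.node (.node
    (.leaf (nat_lit 2)) (.leaf (nat_lit 3349))) (.node (.leaf (nat_lit 5478)) (.leaf (nat_lit
    4365)))) (.node (.node (.leaf (nat_lit 3298)) (.leaf (nat_lit 10685))) (.leaf (nat_lit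
    2105))))) (.node (.node (.node (.node (.leaf (nat_lit 7476)) (.leaf (nat_lit 2641))) (.node
    (.leaf (nat_lit 9575)) (.leaf (nat_lit 530)))) (.node (.node (.leaf (nat_lit 2632)) (.leaf
    (nat_lit 7993))) (.leaf (nat_lit 8588)))) (.node (.node (.node (.leaf (nat_lit 6898)) (.leaf
    (nat_lit 9635))) (.node (.leaf (nat_lit 4333)) (.leaf (nat_lit 9051)))) (.node (.node (.leaf
    (nat_lit 8014)) (.leaf (nat_lit 7995))) (.leaf (nat_lit 6299)))))))))

/-- Certificate data. -/
def p10_C : TC.Cert := ⟨6, 63, 9, 511, 20011376718272485634933414101046592000, 62462, p10_par, p10_fact, p10_just, p10_rel, 112⟩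

/-- Certificate data. -/
def p10_rs : List (List ℕ) := [[1, 1, 1], [5, 5, 5, 5], [5, 1, 6, 4], [5, 3, 6, 1], [1, 3, 2, 4], [7, 7], [7, 5, 7, 5], [7, 1, 7, 1, 7, 1], [7, 3, 7, 3, 7, 3, 7, 3], [7, 1, 5, 7, 1, 5, 7, 1, 5, 7, 1, 5, 7, 1, 5], [12, 12], [13, 13], [14, 14], [15, 15], [12, 13, 12, 13], [12, 14, 12, 14], [12, 15, 12, 15], [13, 14, 13, 14], [13, 15, 13, 15], [14, 15, 14, 15], [1, 12, 2, 12], [1, 13, 2, 13], [1, 14, 2, 15, 14], [1, 15, 2, 14], [5, 12, 6, 14], [5, 13, 6, 15], [5, 14, 6, 12], [5, 15, 6, 13, 12], [7, 12, 7, 12], [7, 13, 7, 14, 13, 12], [7, 14, 7, 14], [7, 15, 7, 15, 12], [8, 1, 9, 4, 2], [8, 5, 9, 5], [8, 8, 6, 6], [8, 7, 9, 7, 5], [8, 12, 14, 9, 12, 14, 8, 12, 14, 9, 12, 14, 6, 6], [10, 10], [10, 5, 5, 10, 6, 6], [10, 1, 3, 10, 4, 2], [10, 12, 10, 12], [10, 13, 10, 13], [10, 14, 10, 14, 12], [10, 15, 10, 15, 13, 12], [11, 11], [10, 8, 12, 9, 10, 11], [10, 8, 12, 9, 10, 8, 12, 9, 10, 8, 12, 9], [10, 7, 10, 7, 6, 6, 12], [11, 1, 11, 1], [11, 5, 11, 6, 9]]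

/-- Certificate data. -/
def p10_gl : List ℕ := [1, 5891, 11781, 17671, 23560, 29452, 35341, 41230, 47119, 53002]

theorem p10_h1 : allB p10_C.factChk 228 = true := by decide +kernel

theorem p10_h2 : p10_C.finChk 228 23 p10_lv p10_tb p10_gl = true := by decide +kernel

theorem p10_h3 : TC.relChk p10_C.ivc p10_rs p10_C.rel p10_rc p10_C.nrel = true := by decide +kernel

theorem p10_bound {G : Type*} [Group G] {x y w u q f s a b c d : G}
    (r0 : x * x * x = 1)
    (r1 : w * w * w * w = 1)
    (r2 : w * x * w⁻¹ * y⁻¹ = 1)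
    (r3 : w * y * w⁻¹ * x = 1)
    (r4 : x * y * x⁻¹ * y⁻¹ = 1)
    (r5 : u * u = 1)
    (r6 : u * w * u * w = 1)
    (r7 : u * x * u * x * u * x = 1)
    (r8 : u * y * u * y * u * y * u * y = 1)
    (r9 : u * x * w * u * x * w * u * x * w * u * x * w * u * x * w = 1)
    (r10 : a * a = 1)
    (r11 : b * b = 1)
    (r12 : c * c = 1)
    (r13 : d * d = 1)
    (r14 : a * b * a * b = 1)
    (r15 : a * c * a * c = 1)
    (r16 : a * d * a * d = 1)
    (r17 : b * c * b * c = 1)
    (r18 : b * d * b * d = 1)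
    (r19 : c * d * c * d = 1)
    (r20 : x * a * x⁻¹ * a = 1)
    (r21 : x * b * x⁻¹ * b = 1)
    (r22 : x * c * x⁻¹ * d * c = 1)
    (r23 : x * d * x⁻¹ * c = 1)
    (r24 : w * a * w⁻¹ * c = 1)
    (r25 : w * b * w⁻¹ * d = 1)
    (r26 : w * c * w⁻¹ * a = 1)
    (r27 : w * d * w⁻¹ * b * a = 1)
    (r28 : u * a * u * a = 1)
    (r29 : u * b * u * c * b * a = 1)
    (r30 : u * c * u * c = 1)
    (r31 : u * d * u * d * a = 1)
    (r32 : q * x * q⁻¹ * y⁻¹ * x⁻¹ = 1)
    (r33 : q * w * q⁻¹ * w = 1)
    (r34 : q * q * w⁻¹ * w⁻¹ = 1)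
    (r35 : q * u * q⁻¹ * u * w = 1)
    (r36 : q * a * c * q⁻¹ * a * c * q * a * c * q⁻¹ * a * c * w⁻¹ * w⁻¹ = 1)
    (r37 : f * f = 1)
    (r38 : f * w * w * f * w⁻¹ * w⁻¹ = 1)
    (r39 : f * x * y * f * y⁻¹ * x⁻¹ = 1)
    (r40 : f * a * f * a = 1)
    (r41 : f * b * f * b = 1)
    (r42 : f * c * f * c * a = 1)
    (r43 : f * d * f * d * b * a = 1)
    (r44 : s * s = 1)
    (r45 : f * q * a * q⁻¹ * f * s = 1)
    (r46 : f * q * a * q⁻¹ * f * q * a * q⁻¹ * f * q * a * q⁻¹ = 1)
    (r47 : f * u * f * u * w⁻¹ * w⁻¹ * a = 1)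
    (r48 : s * x * s * x = 1)
    (r49 : s * w * s * w⁻¹ * q⁻¹ = 1)
    (H : Subgroup G) [Finite H] (m1 : x ∈ H) (m3 : y ∈ H) (m5 : w ∈ H) (m7 : u ∈ H) (m8 : q ∈ H) (m12 : a ∈ H) (m13 : b ∈ H) (m14 : c ∈ H) (m15 : d ∈ H) :
    Finite (Subgroup.closure ({x, y, w, u, q, a, b, c, d, f} : Set G)) ∧
      Nat.card (Subgroup.closure ({x, y, w, u, q, a, b, c, d, f} : Set G)) ≤ 23 * Nat.card H := by
  have hL : TC.Lett (TC.lett [x, x⁻¹, y, y⁻¹, w, w⁻¹, u, q, q⁻¹, f, s, a, b, c, d]) p10_C.ivc :=
    TC.lett_ok (show Nat.shiftRight p10_C.ivc (8 * 16) = 0 by decide +kernel) (by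
      intro a ha
      change a < 16 at ha
      interval_cases a
      · exact inv_one.symm
      · rfl
      · exact (inv_inv _).symm
      · rfl
      · exact (inv_inv _).symm
      · rfl
      · exact (inv_inv _).symm
      · exact (inv_eq_of_mul_eq_one_right r5).symm
      · rfl
      · exact (inv_inv _).symm
      · exact (inv_eq_of_mul_eq_one_right r37).symm
      · exact (inv_eq_of_mul_eq_one_right r44).symm
      · exact (inv_eq_of_mul_eq_one_right r10).symm
      · exact (inv_eq_of_mul_eq_one_right r11).symm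
      · exact (inv_eq_of_mul_eq_one_right r12).symm
      · exact (inv_eq_of_mul_eq_one_right r13).symm)
  have h := TC.card_le p10_h1 p10_h2 p10_h3 (by decide) hL (by
    simp only [p10_rs, List.forall_mem_cons]
    refine ⟨?_, ?_, ?_, ?_, ?_, ?_, ?_, ?_, ?_, ?_, ?_, ?_, ?_, ?_, ?_, ?_, ?_, ?_, ?_, ?_, ?_, ?_,
    ?_, ?_, ?_, ?_, ?_, ?_, ?_, ?_, ?_, ?_, ?_, ?_, ?_, ?_, ?_, ?_, ?_, ?_, ?_, ?_, ?_, ?_, ?_, ?_,
    ?_, ?_, ?_, ?_, List.forall_mem_nil _⟩
    · show x * (x * (x * 1)) = 1
      simp only [mul_assoc, mul_one] at r0 ⊢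
      exact r0
    · show w * (w * (w * (w * 1))) = 1
      simp only [mul_assoc, mul_one] at r1 ⊢
      exact r1
    · show w * (x * (w⁻¹ * (y⁻¹ * 1))) = 1
      simp only [mul_assoc, mul_one] at r2 ⊢
      exact r2
    · show w * (y * (w⁻¹ * (x * 1))) = 1
      simp only [mul_assoc, mul_one] at r3 ⊢
      exact r3
    · show x * (y * (x⁻¹ * (y⁻¹ * 1))) = 1
      simp only [mul_assoc, mul_one] at r4 ⊢
      exact r4
    · show u * (u * 1) = 1
      simp only [mul_one] at r5 ⊢
      exact r5
    · show u * (w * (u * (w * 1))) = 1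
      simp only [mul_assoc, mul_one] at r6 ⊢
      exact r6
    · show u * (x * (u * (x * (u * (x * 1))))) = 1
      simp only [mul_assoc, mul_one] at r7 ⊢
      exact r7
    · show u * (y * (u * (y * (u * (y * (u * (y * 1))))))) = 1
      simp only [mul_assoc, mul_one] at r8 ⊢
      exact r8
    · show u * (x * (w * (u * (x * (w * (u * (x * (w * (u * (x * (w * (u * (x * (w *
    1)))))))))))))) = 1
      simp only [mul_assoc, mul_one] at r9 ⊢
      exact r9
    · show a * (a * 1) = 1
      simp only [mul_one] at r10 ⊢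
      exact r10
    · show b * (b * 1) = 1
      simp only [mul_one] at r11 ⊢
      exact r11
    · show c * (c * 1) = 1
      simp only [mul_one] at r12 ⊢
      exact r12
    · show d * (d * 1) = 1
      simp only [mul_one] at r13 ⊢
      exact r13
    · show a * (b * (a * (b * 1))) = 1
      simp only [mul_assoc, mul_one] at r14 ⊢
      exact r14
    · show a * (c * (a * (c * 1))) = 1
      simp only [mul_assoc, mul_one] at r15 ⊢
      exact r15
    · show a * (d * (a * (d * 1))) = 1
      simp only [mul_assoc, mul_one] at r16 ⊢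
      exact r16
    · show b * (c * (b * (c * 1))) = 1
      simp only [mul_assoc, mul_one] at r17 ⊢
      exact r17
    · show b * (d * (b * (d * 1))) = 1
      simp only [mul_assoc, mul_one] at r18 ⊢
      exact r18
    · show c * (d * (c * (d * 1))) = 1
      simp only [mul_assoc, mul_one] at r19 ⊢
      exact r19
    · show x * (a * (x⁻¹ * (a * 1))) = 1
      simp only [mul_assoc, mul_one] at r20 ⊢
      exact r20
    · show x * (b * (x⁻¹ * (b * 1))) = 1
      simp only [mul_assoc, mul_one] at r21 ⊢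
      exact r21
    · show x * (c * (x⁻¹ * (d * (c * 1)))) = 1
      simp only [mul_assoc, mul_one] at r22 ⊢
      exact r22
    · show x * (d * (x⁻¹ * (c * 1))) = 1
      simp only [mul_assoc, mul_one] at r23 ⊢
      exact r23
    · show w * (a * (w⁻¹ * (c * 1))) = 1
      simp only [mul_assoc, mul_one] at r24 ⊢
      exact r24
    · show w * (b * (w⁻¹ * (d * 1))) = 1
      simp only [mul_assoc, mul_one] at r25 ⊢
      exact r25
    · show w * (c * (w⁻¹ * (a * 1))) = 1
      simp only [mul_assoc, mul_one] at r26 ⊢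
      exact r26
    · show w * (d * (w⁻¹ * (b * (a * 1)))) = 1
      simp only [mul_assoc, mul_one] at r27 ⊢
      exact r27
    · show u * (a * (u * (a * 1))) = 1
      simp only [mul_assoc, mul_one] at r28 ⊢
      exact r28
    · show u * (b * (u * (c * (b * (a * 1))))) = 1
      simp only [mul_assoc, mul_one] at r29 ⊢
      exact r29
    · show u * (c * (u * (c * 1))) = 1
      simp only [mul_assoc, mul_one] at r30 ⊢
      exact r30
    · show u * (d * (u * (d * (a * 1)))) = 1
      simp only [mul_assoc, mul_one] at r31 ⊢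
      exact r31
    · show q * (x * (q⁻¹ * (y⁻¹ * (x⁻¹ * 1)))) = 1
      simp only [mul_assoc, mul_one] at r32 ⊢
      exact r32
    · show q * (w * (q⁻¹ * (w * 1))) = 1
      simp only [mul_assoc, mul_one] at r33 ⊢
      exact r33
    · show q * (q * (w⁻¹ * (w⁻¹ * 1))) = 1
      simp only [mul_assoc, mul_one] at r34 ⊢
      exact r34
    · show q * (u * (q⁻¹ * (u * (w * 1)))) = 1
      simp only [mul_assoc, mul_one] at r35 ⊢
      exact r35
    · show q * (a * (c * (q⁻¹ * (a * (c * (q * (a * (c * (q⁻¹ * (a * (c * (w⁻¹ * (w⁻¹ *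
    1))))))))))))) = 1
      simp only [mul_assoc, mul_one] at r36 ⊢
      exact r36
    · show f * (f * 1) = 1
      simp only [mul_one] at r37 ⊢
      exact r37
    · show f * (w * (w * (f * (w⁻¹ * (w⁻¹ * 1))))) = 1
      simp only [mul_assoc, mul_one] at r38 ⊢
      exact r38
    · show f * (x * (y * (f * (y⁻¹ * (x⁻¹ * 1))))) = 1
      simp only [mul_assoc, mul_one] at r39 ⊢
      exact r39
    · show f * (a * (f * (a * 1))) = 1
      simp only [mul_assoc, mul_one] at r40 ⊢
      exact r40
    · show f * (b * (f * (b * 1))) = 1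
      simp only [mul_assoc, mul_one] at r41 ⊢
      exact r41
    · show f * (c * (f * (c * (a * 1)))) = 1
      simp only [mul_assoc, mul_one] at r42 ⊢
      exact r42
    · show f * (d * (f * (d * (b * (a * 1))))) = 1
      simp only [mul_assoc, mul_one] at r43 ⊢
      exact r43
    · show s * (s * 1) = 1
      simp only [mul_one] at r44 ⊢
      exact r44
    · show f * (q * (a * (q⁻¹ * (f * (s * 1))))) = 1
      simp only [mul_assoc, mul_one] at r45 ⊢
      exact r45
    · show f * (q * (a * (q⁻¹ * (f * (q * (a * (q⁻¹ * (f * (q * (a * (q⁻¹ * 1))))))))))) = 1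
      simp only [mul_assoc, mul_one] at r46 ⊢
      exact r46
    · show f * (u * (f * (u * (w⁻¹ * (w⁻¹ * (a * 1)))))) = 1
      simp only [mul_assoc, mul_one] at r47 ⊢
      exact r47
    · show s * (x * (s * (x * 1))) = 1
      simp only [mul_assoc, mul_one] at r48 ⊢
      exact r48
    · show s * (w * (s * (w⁻¹ * (q⁻¹ * 1)))) = 1
      simp only [mul_assoc, mul_one] at r49 ⊢
      exact r49) H
    (TC.forall_subs (K := 16) (by decide +kernel) (by
      intro a ha hb
      interval_cases a
      · exact absurd hb (by decide +kernel)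
      · exact m1
      · exact H.inv_mem m1
      · exact m3
      · exact H.inv_mem m3
      · exact m5
      · exact H.inv_mem m5
      · exact m7
      · exact m8
      · exact H.inv_mem m8
      · exact absurd hb (by decide +kernel)
      · exact absurd hb (by decide +kernel)
      · exact m12
      · exact m13
      · exact m14
      · exact m15))
  have e : {g₀ | ∃ ak ∈ p10_gl, TC.lett [x, x⁻¹, y, y⁻¹, w, w⁻¹, u, q, q⁻¹, f, s, a, b, c, d] (ak % 256) = g₀} =
      {x, y, w, u, q, a, b, c, d, f} := by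
    ext g₀
    simp only [p10_gl, List.mem_cons, List.not_mem_nil, or_false, exists_eq_or_imp,
      exists_eq_left, Set.mem_ofPred_eq, Set.mem_insert_iff, Set.mem_singleton_iff]
    exact or_congr eq_comm (or_congr eq_comm (or_congr eq_comm (or_congr eq_comm (or_congr eq_comm (or_congr eq_comm (or_congr eq_comm (or_congr eq_comm (or_congr eq_comm (eq_comm)))))))))
  rw [e] at h
  exact h

theorem p10_card {G : Type*} [Group G] {x y w u q f s a b c d : G}
    (e0 : x ^ 3 = 1)
    (e1 : w ^ 4 = 1)
    (e2 : w * x * w⁻¹ = y)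
    (e3 : w * y * w⁻¹ = x⁻¹)
    (e4 : x * y = y * x)
    (e5 : u * u = 1)
    (e6 : u * w * u = w⁻¹)
    (e7 : (u * x) ^ 3 = 1)
    (e8 : (u * y) ^ 4 = 1)
    (e9 : (u * x * w) ^ 5 = 1)
    (e10 : a * a = 1)
    (e11 : b * b = 1)
    (e12 : c * c = 1)
    (e13 : d * d = 1)
    (e14 : a * b = b * a)
    (e15 : a * c = c * a)
    (e16 : a * d = d * a)
    (e17 : b * c = c * b)
    (e18 : b * d = d * b)
    (e19 : c * d = d * c)
    (e20 : x * a * x⁻¹ = a)
    (e21 : x * b * x⁻¹ = b)
    (e22 : x * c * x⁻¹ = c * d)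
    (e23 : x * d * x⁻¹ = c)
    (e24 : w * a * w⁻¹ = c)
    (e25 : w * b * w⁻¹ = d)
    (e26 : w * c * w⁻¹ = a)
    (e27 : w * d * w⁻¹ = a * b)
    (e28 : u * a * u = a)
    (e29 : u * b * u = a * b * c)
    (e30 : u * c * u = c)
    (e31 : u * d * u = a * d)
    (e32 : q * x * q⁻¹ = x * y)
    (e33 : q * w * q⁻¹ = w⁻¹)
    (e34 : q * q = w * w)
    (e35 : q * u * q⁻¹ = w⁻¹ * u)
    (e36 : (q * (a * c) * q⁻¹ * (a * c)) ^ 2 = w * w)
    (e37 : f * f = 1)
    (e38 : f * (w * w) = w * w * f)
    (e39 : f * (x * y) = x * y * f)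
    (e40 : f * a * f = a)
    (e41 : f * b * f = b)
    (e42 : f * c * f = a * c)
    (e43 : f * d * f = a * b * d)
    (e44 : s * s = 1)
    (e45 : f * (q * a * q⁻¹) * f = s)
    (e46 : (f * (q * a * q⁻¹)) ^ 3 = 1)
    (e47 : f * u * f = a * (w * w * u))
    (e48 : s * x * s = x⁻¹)
    (e49 : s * w * s = q * w)
    (H : Subgroup G) [Finite H] (mx : x ∈ H) (my : y ∈ H) (mw : w ∈ H) (mu : u ∈ H) (mq : q ∈ H) (ma : a ∈ H) (mb : b ∈ H) (mc : c ∈ H) (md : d ∈ H) :
    Finite (Subgroup.closure ({x, y, w, u, q, a, b, c, d, f} : Set G)) ∧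
      Nat.card (Subgroup.closure ({x, y, w, u, q, a, b, c, d, f} : Set G)) ≤ 23 * Nat.card H := by
  have iu : u⁻¹ = u := inv_eq_of_mul_eq_one_right e5
  have jf : f⁻¹ = f := inv_eq_of_mul_eq_one_right e37
  have is : s⁻¹ = s := inv_eq_of_mul_eq_one_right e44
  have ia : a⁻¹ = a := inv_eq_of_mul_eq_one_right e10
  have ib : b⁻¹ = b := inv_eq_of_mul_eq_one_right e11
  have ic : c⁻¹ = c := inv_eq_of_mul_eq_one_right e12
  have id : d⁻¹ = d := inv_eq_of_mul_eq_one_right e13
  refine p10_bound (s := s) ?_ ?_ ?_ ?_ ?_ ?_ ?_ ?_ ?_ ?_ ?_ ?_ ?_ ?_ ?_ ?_ ?_ ?_ ?_ ?_ ?_ ?_ ?_ ?_ ?_ ?_ ?_ ?_ ?_ ?_ ?_ ?_ ?_ ?_ ?_ ?_ ?_ ?_ ?_ ?_ ?_ ?_ ?_ ?_ ?_ ?_ ?_ ?_ ?_ ?_ H mx my mw mu mq ma mb mc md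
  · have h := mul_inv_eq_one.mpr e0
    simp only [pow_succ, pow_zero, mul_inv_rev, inv_inv, inv_one, one_mul, mul_one, mul_assoc,
      mul_inv_cancel_left, inv_mul_cancel_left, mul_inv_cancel, inv_mul_cancel, iu, jf, is, ia, ib, ic, id] at h ⊢
    exact h
  · have h := mul_inv_eq_one.mpr e1
    simp only [pow_succ, pow_zero, mul_inv_rev, inv_inv, inv_one, one_mul, mul_one, mul_assoc,
      mul_inv_cancel_left, inv_mul_cancel_left, mul_inv_cancel, inv_mul_cancel, iu, jf, is, ia, ib, ic, id] at h ⊢
    exact h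
  · have h := mul_inv_eq_one.mpr e2
    simp only [pow_succ, pow_zero, mul_inv_rev, inv_inv, inv_one, one_mul, mul_one, mul_assoc,
      mul_inv_cancel_left, inv_mul_cancel_left, mul_inv_cancel, inv_mul_cancel, iu, jf, is, ia, ib, ic, id] at h ⊢
    exact h
  · have h := mul_inv_eq_one.mpr e3
    simp only [pow_succ, pow_zero, mul_inv_rev, inv_inv, inv_one, one_mul, mul_one, mul_assoc,
      mul_inv_cancel_left, inv_mul_cancel_left, mul_inv_cancel, inv_mul_cancel, iu, jf, is, ia, ib, ic, id] at h ⊢
    exact h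
  · have h := mul_inv_eq_one.mpr e4
    simp only [pow_succ, pow_zero, mul_inv_rev, inv_inv, inv_one, one_mul, mul_one, mul_assoc,
      mul_inv_cancel_left, inv_mul_cancel_left, mul_inv_cancel, inv_mul_cancel, iu, jf, is, ia, ib, ic, id] at h ⊢
    exact h
  · have h := mul_inv_eq_one.mpr e5
    simp only [pow_succ, pow_zero, mul_inv_rev, inv_inv, inv_one, one_mul, mul_one, mul_assoc,
      mul_inv_cancel_left, inv_mul_cancel_left, mul_inv_cancel, inv_mul_cancel, iu, jf, is, ia, ib, ic, id] at h ⊢
    exact h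
  · have h := mul_inv_eq_one.mpr e6
    simp only [pow_succ, pow_zero, mul_inv_rev, inv_inv, inv_one, one_mul, mul_one, mul_assoc,
      mul_inv_cancel_left, inv_mul_cancel_left, mul_inv_cancel, inv_mul_cancel, iu, jf, is, ia, ib, ic, id] at h ⊢
    exact h
  · have h := mul_inv_eq_one.mpr e7
    simp only [pow_succ, pow_zero, mul_inv_rev, inv_inv, inv_one, one_mul, mul_one, mul_assoc,
      mul_inv_cancel_left, inv_mul_cancel_left, mul_inv_cancel, inv_mul_cancel, iu, jf, is, ia, ib, ic, id] at h ⊢
    exact h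
  · have h := mul_inv_eq_one.mpr e8
    simp only [pow_succ, pow_zero, mul_inv_rev, inv_inv, inv_one, one_mul, mul_one, mul_assoc,
      mul_inv_cancel_left, inv_mul_cancel_left, mul_inv_cancel, inv_mul_cancel, iu, jf, is, ia, ib, ic, id] at h ⊢
    exact h
  · have h := mul_inv_eq_one.mpr e9
    simp only [pow_succ, pow_zero, mul_inv_rev, inv_inv, inv_one, one_mul, mul_one, mul_assoc,
      mul_inv_cancel_left, inv_mul_cancel_left, mul_inv_cancel, inv_mul_cancel, iu, jf, is, ia, ib, ic, id] at h ⊢
    exact h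
  · have h := mul_inv_eq_one.mpr e10
    simp only [pow_succ, pow_zero, mul_inv_rev, inv_inv, inv_one, one_mul, mul_one, mul_assoc,
      mul_inv_cancel_left, inv_mul_cancel_left, mul_inv_cancel, inv_mul_cancel, iu, jf, is, ia, ib, ic, id] at h ⊢
    exact h
  · have h := mul_inv_eq_one.mpr e11
    simp only [pow_succ, pow_zero, mul_inv_rev, inv_inv, inv_one, one_mul, mul_one, mul_assoc,
      mul_inv_cancel_left, inv_mul_cancel_left, mul_inv_cancel, inv_mul_cancel, iu, jf, is, ia, ib, ic, id] at h ⊢
    exact h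
  · have h := mul_inv_eq_one.mpr e12
    simp only [pow_succ, pow_zero, mul_inv_rev, inv_inv, inv_one, one_mul, mul_one, mul_assoc,
      mul_inv_cancel_left, inv_mul_cancel_left, mul_inv_cancel, inv_mul_cancel, iu, jf, is, ia, ib, ic, id] at h ⊢
    exact h
  · have h := mul_inv_eq_one.mpr e13
    simp only [pow_succ, pow_zero, mul_inv_rev, inv_inv, inv_one, one_mul, mul_one, mul_assoc,
      mul_inv_cancel_left, inv_mul_cancel_left, mul_inv_cancel, inv_mul_cancel, iu, jf, is, ia, ib, ic, id] at h ⊢
    exact h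
  · have h := mul_inv_eq_one.mpr e14
    simp only [pow_succ, pow_zero, mul_inv_rev, inv_inv, inv_one, one_mul, mul_one, mul_assoc,
      mul_inv_cancel_left, inv_mul_cancel_left, mul_inv_cancel, inv_mul_cancel, iu, jf, is, ia, ib, ic, id] at h ⊢
    exact h
  · have h := mul_inv_eq_one.mpr e15
    simp only [pow_succ, pow_zero, mul_inv_rev, inv_inv, inv_one, one_mul, mul_one, mul_assoc,
      mul_inv_cancel_left, inv_mul_cancel_left, mul_inv_cancel, inv_mul_cancel, iu, jf, is, ia, ib, ic, id] at h ⊢
    exact h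
  · have h := mul_inv_eq_one.mpr e16
    simp only [pow_succ, pow_zero, mul_inv_rev, inv_inv, inv_one, one_mul, mul_one, mul_assoc,
      mul_inv_cancel_left, inv_mul_cancel_left, mul_inv_cancel, inv_mul_cancel, iu, jf, is, ia, ib, ic, id] at h ⊢
    exact h
  · have h := mul_inv_eq_one.mpr e17
    simp only [pow_succ, pow_zero, mul_inv_rev, inv_inv, inv_one, one_mul, mul_one, mul_assoc,
      mul_inv_cancel_left, inv_mul_cancel_left, mul_inv_cancel, inv_mul_cancel, iu, jf, is, ia, ib, ic, id] at h ⊢
    exact h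
  · have h := mul_inv_eq_one.mpr e18
    simp only [pow_succ, pow_zero, mul_inv_rev, inv_inv, inv_one, one_mul, mul_one, mul_assoc,
      mul_inv_cancel_left, inv_mul_cancel_left, mul_inv_cancel, inv_mul_cancel, iu, jf, is, ia, ib, ic, id] at h ⊢
    exact h
  · have h := mul_inv_eq_one.mpr e19
    simp only [pow_succ, pow_zero, mul_inv_rev, inv_inv, inv_one, one_mul, mul_one, mul_assoc,
      mul_inv_cancel_left, inv_mul_cancel_left, mul_inv_cancel, inv_mul_cancel, iu, jf, is, ia, ib, ic, id] at h ⊢
    exact h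
  · have h := mul_inv_eq_one.mpr e20
    simp only [pow_succ, pow_zero, mul_inv_rev, inv_inv, inv_one, one_mul, mul_one, mul_assoc,
      mul_inv_cancel_left, inv_mul_cancel_left, mul_inv_cancel, inv_mul_cancel, iu, jf, is, ia, ib, ic, id] at h ⊢
    exact h
  · have h := mul_inv_eq_one.mpr e21
    simp only [pow_succ, pow_zero, mul_inv_rev, inv_inv, inv_one, one_mul, mul_one, mul_assoc,
      mul_inv_cancel_left, inv_mul_cancel_left, mul_inv_cancel, inv_mul_cancel, iu, jf, is, ia, ib, ic, id] at h ⊢
    exact h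
  · have h := mul_inv_eq_one.mpr e22
    simp only [pow_succ, pow_zero, mul_inv_rev, inv_inv, inv_one, one_mul, mul_one, mul_assoc,
      mul_inv_cancel_left, inv_mul_cancel_left, mul_inv_cancel, inv_mul_cancel, iu, jf, is, ia, ib, ic, id] at h ⊢
    exact h
  · have h := mul_inv_eq_one.mpr e23
    simp only [pow_succ, pow_zero, mul_inv_rev, inv_inv, inv_one, one_mul, mul_one, mul_assoc,
      mul_inv_cancel_left, inv_mul_cancel_left, mul_inv_cancel, inv_mul_cancel, iu, jf, is, ia, ib, ic, id] at h ⊢
    exact h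
  · have h := mul_inv_eq_one.mpr e24
    simp only [pow_succ, pow_zero, mul_inv_rev, inv_inv, inv_one, one_mul, mul_one, mul_assoc,
      mul_inv_cancel_left, inv_mul_cancel_left, mul_inv_cancel, inv_mul_cancel, iu, jf, is, ia, ib, ic, id] at h ⊢
    exact h
  · have h := mul_inv_eq_one.mpr e25
    simp only [pow_succ, pow_zero, mul_inv_rev, inv_inv, inv_one, one_mul, mul_one, mul_assoc,
      mul_inv_cancel_left, inv_mul_cancel_left, mul_inv_cancel, inv_mul_cancel, iu, jf, is, ia, ib, ic, id] at h ⊢
    exact h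
  · have h := mul_inv_eq_one.mpr e26
    simp only [pow_succ, pow_zero, mul_inv_rev, inv_inv, inv_one, one_mul, mul_one, mul_assoc,
      mul_inv_cancel_left, inv_mul_cancel_left, mul_inv_cancel, inv_mul_cancel, iu, jf, is, ia, ib, ic, id] at h ⊢
    exact h
  · have h := mul_inv_eq_one.mpr e27
    simp only [pow_succ, pow_zero, mul_inv_rev, inv_inv, inv_one, one_mul, mul_one, mul_assoc,
      mul_inv_cancel_left, inv_mul_cancel_left, mul_inv_cancel, inv_mul_cancel, iu, jf, is, ia, ib, ic, id] at h ⊢
    exact h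
  · have h := mul_inv_eq_one.mpr e28
    simp only [pow_succ, pow_zero, mul_inv_rev, inv_inv, inv_one, one_mul, mul_one, mul_assoc,
      mul_inv_cancel_left, inv_mul_cancel_left, mul_inv_cancel, inv_mul_cancel, iu, jf, is, ia, ib, ic, id] at h ⊢
    exact h
  · have h := mul_inv_eq_one.mpr e29
    simp only [pow_succ, pow_zero, mul_inv_rev, inv_inv, inv_one, one_mul, mul_one, mul_assoc,
      mul_inv_cancel_left, inv_mul_cancel_left, mul_inv_cancel, inv_mul_cancel, iu, jf, is, ia, ib, ic, id] at h ⊢
    exact h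
  · have h := mul_inv_eq_one.mpr e30
    simp only [pow_succ, pow_zero, mul_inv_rev, inv_inv, inv_one, one_mul, mul_one, mul_assoc,
      mul_inv_cancel_left, inv_mul_cancel_left, mul_inv_cancel, inv_mul_cancel, iu, jf, is, ia, ib, ic, id] at h ⊢
    exact h
  · have h := mul_inv_eq_one.mpr e31
    simp only [pow_succ, pow_zero, mul_inv_rev, inv_inv, inv_one, one_mul, mul_one, mul_assoc,
      mul_inv_cancel_left, inv_mul_cancel_left, mul_inv_cancel, inv_mul_cancel, iu, jf, is, ia, ib, ic, id] at h ⊢
    exact h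
  · have h := mul_inv_eq_one.mpr e32
    simp only [pow_succ, pow_zero, mul_inv_rev, inv_inv, inv_one, one_mul, mul_one, mul_assoc,
      mul_inv_cancel_left, inv_mul_cancel_left, mul_inv_cancel, inv_mul_cancel, iu, jf, is, ia, ib, ic, id] at h ⊢
    exact h
  · have h := mul_inv_eq_one.mpr e33
    simp only [pow_succ, pow_zero, mul_inv_rev, inv_inv, inv_one, one_mul, mul_one, mul_assoc,
      mul_inv_cancel_left, inv_mul_cancel_left, mul_inv_cancel, inv_mul_cancel, iu, jf, is, ia, ib, ic, id] at h ⊢
    exact h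
  · have h := mul_inv_eq_one.mpr e34
    simp only [pow_succ, pow_zero, mul_inv_rev, inv_inv, inv_one, one_mul, mul_one, mul_assoc,
      mul_inv_cancel_left, inv_mul_cancel_left, mul_inv_cancel, inv_mul_cancel, iu, jf, is, ia, ib, ic, id] at h ⊢
    exact h
  · have h := mul_inv_eq_one.mpr e35
    simp only [pow_succ, pow_zero, mul_inv_rev, inv_inv, inv_one, one_mul, mul_one, mul_assoc,
      mul_inv_cancel_left, inv_mul_cancel_left, mul_inv_cancel, inv_mul_cancel, iu, jf, is, ia, ib, ic, id] at h ⊢
    exact h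
  · have h := mul_inv_eq_one.mpr e36
    simp only [pow_succ, pow_zero, mul_inv_rev, inv_inv, inv_one, one_mul, mul_one, mul_assoc,
      mul_inv_cancel_left, inv_mul_cancel_left, mul_inv_cancel, inv_mul_cancel, iu, jf, is, ia, ib, ic, id] at h ⊢
    exact h
  · have h := mul_inv_eq_one.mpr e37
    simp only [pow_succ, pow_zero, mul_inv_rev, inv_inv, inv_one, one_mul, mul_one, mul_assoc,
      mul_inv_cancel_left, inv_mul_cancel_left, mul_inv_cancel, inv_mul_cancel, iu, jf, is, ia, ib, ic, id] at h ⊢
    exact h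
  · have h := mul_inv_eq_one.mpr e38
    simp only [pow_succ, pow_zero, mul_inv_rev, inv_inv, inv_one, one_mul, mul_one, mul_assoc,
      mul_inv_cancel_left, inv_mul_cancel_left, mul_inv_cancel, inv_mul_cancel, iu, jf, is, ia, ib, ic, id] at h ⊢
    exact h
  · have h := mul_inv_eq_one.mpr e39
    simp only [pow_succ, pow_zero, mul_inv_rev, inv_inv, inv_one, one_mul, mul_one, mul_assoc,
      mul_inv_cancel_left, inv_mul_cancel_left, mul_inv_cancel, inv_mul_cancel, iu, jf, is, ia, ib, ic, id] at h ⊢
    exact h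
  · have h := mul_inv_eq_one.mpr e40
    simp only [pow_succ, pow_zero, mul_inv_rev, inv_inv, inv_one, one_mul, mul_one, mul_assoc,
      mul_inv_cancel_left, inv_mul_cancel_left, mul_inv_cancel, inv_mul_cancel, iu, jf, is, ia, ib, ic, id] at h ⊢
    exact h
  · have h := mul_inv_eq_one.mpr e41
    simp only [pow_succ, pow_zero, mul_inv_rev, inv_inv, inv_one, one_mul, mul_one, mul_assoc,
      mul_inv_cancel_left, inv_mul_cancel_left, mul_inv_cancel, inv_mul_cancel, iu, jf, is, ia, ib, ic, id] at h ⊢
    exact h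
  · have h := mul_inv_eq_one.mpr e42
    simp only [pow_succ, pow_zero, mul_inv_rev, inv_inv, inv_one, one_mul, mul_one, mul_assoc,
      mul_inv_cancel_left, inv_mul_cancel_left, mul_inv_cancel, inv_mul_cancel, iu, jf, is, ia, ib, ic, id] at h ⊢
    exact h
  · have h := mul_inv_eq_one.mpr e43
    simp only [pow_succ, pow_zero, mul_inv_rev, inv_inv, inv_one, one_mul, mul_one, mul_assoc,
      mul_inv_cancel_left, inv_mul_cancel_left, mul_inv_cancel, inv_mul_cancel, iu, jf, is, ia, ib, ic, id] at h ⊢
    exact h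
  · have h := mul_inv_eq_one.mpr e44
    simp only [pow_succ, pow_zero, mul_inv_rev, inv_inv, inv_one, one_mul, mul_one, mul_assoc,
      mul_inv_cancel_left, inv_mul_cancel_left, mul_inv_cancel, inv_mul_cancel, iu, jf, is, ia, ib, ic, id] at h ⊢
    exact h
  · have h := mul_inv_eq_one.mpr e45
    simp only [pow_succ, pow_zero, mul_inv_rev, inv_inv, inv_one, one_mul, mul_one, mul_assoc,
      mul_inv_cancel_left, inv_mul_cancel_left, mul_inv_cancel, inv_mul_cancel, iu, jf, is, ia, ib, ic, id] at h ⊢
    exact h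
  · have h := mul_inv_eq_one.mpr e46
    simp only [pow_succ, pow_zero, mul_inv_rev, inv_inv, inv_one, one_mul, mul_one, mul_assoc,
      mul_inv_cancel_left, inv_mul_cancel_left, mul_inv_cancel, inv_mul_cancel, iu, jf, is, ia, ib, ic, id] at h ⊢
    exact h
  · have h := mul_inv_eq_one.mpr e47
    simp only [pow_succ, pow_zero, mul_inv_rev, inv_inv, inv_one, one_mul, mul_one, mul_assoc,
      mul_inv_cancel_left, inv_mul_cancel_left, mul_inv_cancel, inv_mul_cancel, iu, jf, is, ia, ib, ic, id] at h ⊢
    exact h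
  · have h := mul_inv_eq_one.mpr e48
    simp only [pow_succ, pow_zero, mul_inv_rev, inv_inv, inv_one, one_mul, mul_one, mul_assoc,
      mul_inv_cancel_left, inv_mul_cancel_left, mul_inv_cancel, inv_mul_cancel, iu, jf, is, ia, ib, ic, id] at h ⊢
    exact h
  · have h := mul_inv_eq_one.mpr e49
    simp only [pow_succ, pow_zero, mul_inv_rev, inv_inv, inv_one, one_mul, mul_one, mul_assoc,
      mul_inv_cancel_left, inv_mul_cancel_left, mul_inv_cancel, inv_mul_cancel, iu, jf, is, ia, ib, ic, id] at h ⊢
    exact h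

/-- Certificate data. -/
def p11_par : Trie :=
    (.node (.node (.node (.node (.node (.node (.leaf (nat_lit 0)) (.leaf (nat_lit 2567))) (.leaf
    (nat_lit 775))) (.node (.node (.leaf (nat_lit 518)) (.leaf (nat_lit 4869))) (.leaf (nat_lit
    1291)))) (.node (.node (.node (.leaf (nat_lit 258)) (.leaf (nat_lit 3339))) (.leaf (nat_lit
    1031))) (.node (.leaf (nat_lit 522)) (.leaf (nat_lit 1551))))) (.node (.node (.node (.node
    (.leaf (nat_lit 11)) (.leaf (nat_lit 2574))) (.leaf (nat_lit 777))) (.node (.node (.leaf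
    (nat_lit 520)) (.leaf (nat_lit 4873))) (.leaf (nat_lit 1549)))) (.node (.node (.node (.leaf
    (nat_lit 264)) (.leaf (nat_lit 3592))) (.leaf (nat_lit 1288))) (.node (.leaf (nat_lit 773))
    (.leaf (nat_lit 1800)))))) (.node (.node (.node (.node (.node (.leaf (nat_lit 10)) (.leaf
    (nat_lit 2573))) (.leaf (nat_lit 776))) (.node (.node (.leaf (nat_lit 519)) (.leaf (nat_lit
    4872))) (.leaf (nat_lit 1548)))) (.node (.node (.node (.leaf (nat_lit 261)) (.leaf (nat_lit
    3591))) (.leaf (nat_lit 1034))) (.node (.leaf (nat_lit 524)) (.leaf (nat_lit 1797))))) (.node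
    (.node (.node (.node (.leaf (nat_lit 257)) (.leaf (nat_lit 2575))) (.leaf (nat_lit 778)))
    (.node (.leaf (nat_lit 521)) (.leaf (nat_lit 1550)))) (.node (.node (.node (.leaf (nat_lit
    517)) (.leaf (nat_lit 3594))) (.leaf (nat_lit 1290))) (.node (.leaf (nat_lit 774)) (.leaf
    (nat_lit 2314)))))))

/-- Certificate data. -/
def p11_fact : Trie :=
    (.node (.node (.node (.node (.node (.node (.node (.node (.leaf (nat_lit 1)) (.leaf (nat_lit
    450560))) (.leaf (nat_lit 366084))) (.node (.leaf (nat_lit 116481)) (.leaf (nat_lit 493321))))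
    (.node (.node (.node (.leaf (nat_lit 49409)) (.leaf (nat_lit 401152))) (.leaf (nat_lit
    482564))) (.node (.leaf (nat_lit 85763)) (.leaf (nat_lit 271621))))) (.node (.node (.node
    (.node (.leaf (nat_lit 15)) (.leaf (nat_lit 354568))) (.leaf (nat_lit 35840))) (.node (.leaf
    (nat_lit 213516)) (.leaf (nat_lit 434444)))) (.node (.node (.node (.leaf (nat_lit 82181))
    (.leaf (nat_lit 36096))) (.leaf (nat_lit 138760))) (.node (.leaf (nat_lit 328711)) (.leaf
    (nat_lit 628239)))))) (.node (.node (.node (.node (.node (.leaf (nat_lit 8)) (.leaf (nat_lit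
    354055))) (.leaf (nat_lit 411148))) (.node (.leaf (nat_lit 147975)) (.leaf (nat_lit 220935))))
    (.node (.node (.node (.leaf (nat_lit 17412)) (.leaf (nat_lit 91136))) (.leaf (nat_lit 477961)))
    (.node (.leaf (nat_lit 69896)) (.leaf (nat_lit 626184))))) (.node (.node (.node (.node (.leaf
    (nat_lit 16647)) (.leaf (nat_lit 54528))) (.leaf (nat_lit 443918))) (.node (.leaf (nat_lit
    230406)) (.leaf (nat_lit 467724)))) (.node (.node (.leaf (nat_lit 17928)) (.leaf (nat_lit
    40192))) (.node (.leaf (nat_lit 103941)) (.leaf (nat_lit 286976))))))) (.node (.node (.node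
    (.node (.node (.node (.leaf (nat_lit 5)) (.leaf (nat_lit 513803))) (.leaf (nat_lit 394507)))
    (.node (.leaf (nat_lit 133121)) (.leaf (nat_lit 154376)))) (.node (.node (.node (.leaf (nat_lit
    50178)) (.leaf (nat_lit 219143))) (.leaf (nat_lit 171273))) (.node (.leaf (nat_lit 262919))
    (.leaf (nat_lit 58624))))) (.node (.node (.node (.node (.leaf (nat_lit 16652)) (.leaf (nat_lit
    682508))) (.leaf (nat_lit 216330))) (.node (.leaf (nat_lit 230149)) (.leaf (nat_lit 451084))))
    (.node (.node (.node (.leaf (nat_lit 83207)) (.leaf (nat_lit 256))) (.leaf (nat_lit 497166)))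
    (.node (.leaf (nat_lit 345098)) (.leaf (nat_lit 102925)))))) (.node (.node (.node (.node (.node
    (.leaf (nat_lit 13)) (.leaf (nat_lit 354309))) (.leaf (nat_lit 186624))) (.node (.leaf (nat_lit
    180745)) (.leaf (nat_lit 368652)))) (.node (.node (.node (.leaf (nat_lit 66308)) (.leaf
    (nat_lit 153600))) (.leaf (nat_lit 171525))) (.node (.leaf (nat_lit 70153)) (.leaf (nat_lit
    304646))))) (.node (.node (.node (.node (.leaf (nat_lit 33281)) (.leaf (nat_lit 232970)))
    (.leaf (nat_lit 476933))) (.node (.leaf (nat_lit 69382)) (.leaf (nat_lit 593163)))) (.node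
    (.node (.leaf (nat_lit 115205)) (.leaf (nat_lit 116736))) (.node (.leaf (nat_lit 87560)) (.leaf
    (nat_lit 583175)))))))) (.node (.node (.node (.node (.node (.node (.node (.leaf (nat_lit 3))
    (.leaf (nat_lit 367372))) (.leaf (nat_lit 378122))) (.node (.leaf (nat_lit 131590)) (.leaf
    (nat_lit 450055)))) (.node (.node (.node (.leaf (nat_lit 65794)) (.leaf (nat_lit 153610)))
    (.leaf (nat_lit 482561))) (.node (.leaf (nat_lit 233220)) (.leaf (nat_lit 233472))))) (.node
    (.node (.node (.node (.leaf (nat_lit 16394)) (.leaf (nat_lit 693001))) (.leaf (nat_lit 33290)))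
    (.node (.leaf (nat_lit 216322)) (.leaf (nat_lit 559630)))) (.node (.node (.node (.leaf (nat_lit
    17669)) (.leaf (nat_lit 1280))) (.leaf (nat_lit 499201))) (.node (.leaf (nat_lit 267266))
    (.leaf (nat_lit 301568)))))) (.node (.node (.node (.node (.node (.leaf (nat_lit 12)) (.leaf
    (nat_lit 660229))) (.leaf (nat_lit 203016))) (.node (.leaf (nat_lit 164360)) (.leaf (nat_lit
    526855)))) (.node (.node (.node (.leaf (nat_lit 49412)) (.leaf (nat_lit 150784))) (.leaf
    (nat_lit 493320))) (.node (.leaf (nat_lit 295689)) (.leaf (nat_lit 288261))))) (.node (.node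
    (.node (.node (.leaf (nat_lit 32779)) (.leaf (nat_lit 239360))) (.leaf (nat_lit 460303)))
    (.node (.leaf (nat_lit 246534)) (.leaf (nat_lit 566017)))) (.node (.node (.leaf (nat_lit
    99841)) (.leaf (nat_lit 100876))) (.node (.leaf (nat_lit 103942)) (.leaf (nat_lit 299276)))))))
    (.node (.node (.node (.node (.node (.node (.leaf (nat_lit 7)) (.leaf (nat_lit 642570))) (.leaf
    (nat_lit 399361))) (.node (.leaf (nat_lit 133123)) (.leaf (nat_lit 510218)))) (.node (.node
    (.node (.leaf (nat_lit 66572)) (.leaf (nat_lit 219136))) (.leaf (nat_lit 166401))) (.node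
    (.leaf (nat_lit 279304)) (.leaf (nat_lit 230151))))) (.node (.node (.node (.node (.leaf
    (nat_lit 16651)) (.leaf (nat_lit 70400))) (.leaf (nat_lit 427533))) (.node (.leaf (nat_lit
    85506)) (.leaf (nat_lit 576015)))) (.node (.node (.node (.leaf (nat_lit 98568)) (.leaf (nat_lit
    10))) (.leaf (nat_lit 166656))) (.node (.leaf (nat_lit 361736)) (.leaf (nat_lit 545292))))))
    (.node (.node (.node (.node (.node (.leaf (nat_lit 14)) (.leaf (nat_lit 676616))) (.leaf
    (nat_lit 101132))) (.node (.leaf (nat_lit 197130)) (.leaf (nat_lit 543245)))) (.node (.node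
    (.node (.leaf (nat_lit 66315)) (.leaf (nat_lit 35072))) (.leaf (nat_lit 187910))) (.node (.leaf
    (nat_lit 312074)) (.leaf (nat_lit 370178))))) (.node (.node (.node (.node (.leaf (nat_lit
    33284)) (.leaf (nat_lit 87808))) (.leaf (nat_lit 138501))) (.node (.leaf (nat_lit 85761))
    (.leaf (nat_lit 609799)))) (.node (.node (.leaf (nat_lit 116484)) (.leaf (nat_lit 34565)))
    (.node (.leaf (nat_lit 361991)) (.leaf (nat_lit 369152)))))))))

/-- Certificate data. -/
def p11_just : Trie :=
    (.node (.node (.node (.node (.node (.node (.node (.node (.leaf (nat_lit 1)) (.leaf (nat_lit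
    239252407354327042))) (.leaf (nat_lit 138615954899927058))) (.node (.leaf (nat_lit
    67620227101425683)) (.leaf (nat_lit 390038865182722)))) (.node (.node (.node (.leaf (nat_lit
    0)) (.leaf (nat_lit 149248829340975106))) (.leaf (nat_lit 175783996289122322))) (.node (.leaf
    (nat_lit 57493853858627605)) (.leaf (nat_lit 112777865438887983))))) (.node (.node (.node
    (.node (.leaf (nat_lit 1)) (.leaf (nat_lit 302327279156133904))) (.leaf (nat_lit
    87002753083310082))) (.node (.leaf (nat_lit 0)) (.leaf (nat_lit 169294893410353195)))) (.node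
    (.node (.node (.leaf (nat_lit 0)) (.leaf (nat_lit 665384923561986))) (.leaf (nat_lit
    178235967348604944))) (.node (.leaf (nat_lit 0)) (.leaf (nat_lit 137978302081913847858))))))
    (.node (.node (.node (.node (.node (.leaf (nat_lit 1)) (.leaf (nat_lit
    17540986552805768921743365))) (.leaf (nat_lit 0))) (.node (.leaf (nat_lit 0)) (.leaf (nat_lit
    22539964817995132062531589)))) (.node (.node (.node (.leaf (nat_lit 5314392843316934017034))
    (.leaf (nat_lit 150394348658425858))) (.leaf (nat_lit 179163551435522075))) (.node (.leaf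
    (nat_lit 100390252044288016)) (.leaf (nat_lit 0))))) (.node (.node (.node (.node (.leaf
    (nat_lit 2723332031451972132798469)) (.leaf (nat_lit 125588919659200514))) (.leaf (nat_lit 0)))
    (.node (.leaf (nat_lit 98065613880229912)) (.leaf (nat_lit 173798527397462061)))) (.node (.node
    (.leaf (nat_lit 56400784681795600)) (.leaf (nat_lit 87097418457481218))) (.node (.leaf (nat_lit
    60906858210328605)) (.leaf (nat_lit 69203097164032642449460))))))) (.node (.node (.node (.node
    (.node (.node (.leaf (nat_lit 1)) (.leaf (nat_lit 58552563416479750750212))) (.leaf (nat_lit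
    0))) (.node (.leaf (nat_lit 74377851335540756)) (.leaf (nat_lit 41719520397153796137)))) (.node
    (.node (.node (.leaf (nat_lit 70519068164104)) (.leaf (nat_lit 441045896790018))) (.leaf
    (nat_lit 83451407835004965))) (.node (.leaf (nat_lit 0)) (.leaf (nat_lit
    114216026648018946))))) (.node (.node (.node (.node (.leaf (nat_lit 20290469183553539)) (.leaf
    (nat_lit 80642299597898931044407))) (.leaf (nat_lit 90393397835268131))) (.node (.leaf (nat_lit
    0)) (.leaf (nat_lit 171546710403907628)))) (.node (.node (.node (.leaf (nat_lit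
    54096186835140623)) (.leaf (nat_lit 6302606809038850))) (.leaf (nat_lit 197347468009209894)))
    (.node (.leaf (nat_lit 0)) (.leaf (nat_lit 333096188772354)))))) (.node (.node (.node (.node
    (.node (.leaf (nat_lit 1)) (.leaf (nat_lit 34288556828590445232142))) (.leaf (nat_lit
    207313150969198677436705254426627342598178))) (.node (.leaf (nat_lit 0)) (.leaf (nat_lit
    142273278466261034)))) (.node (.node (.node (.leaf (nat_lit 38368716676857868)) (.leaf (nat_lit
    656571650670594))) (.leaf (nat_lit 83451467964547101))) (.node (.leaf (nat_lit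
    103781163084218395)) (.leaf (nat_lit 122919803643166750))))) (.node (.node (.node (.node (.leaf
    (nat_lit 14987986272923156486)) (.leaf (nat_lit 579558592086018))) (.leaf (nat_lit 0))) (.node
    (.leaf (nat_lit 100390200504680473)) (.leaf (nat_lit 0)))) (.node (.node (.leaf (nat_lit 0))
    (.leaf (nat_lit 177173392439574530))) (.node (.leaf (nat_lit 134253084170977311)) (.leaf
    (nat_lit 125265652146537496629)))))))) (.node (.node (.node (.node (.node (.node (.node (.leaf
    (nat_lit 1)) (.leaf (nat_lit 449704550858754))) (.leaf (nat_lit 0))) (.node (.leaf (nat_lit 0))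
    (.leaf (nat_lit 171416839182811176)))) (.node (.node (.node (.leaf (nat_lit 0)) (.leaf (nat_lit
    438846873534466))) (.leaf (nat_lit 175777399219355667))) (.node (.leaf (nat_lit
    99160946504826906)) (.leaf (nat_lit 32177334210820500818581356697772669512344738398256)))))
    (.node (.node (.node (.node (.leaf (nat_lit 0)) (.leaf (nat_lit 0))) (.leaf (nat_lit
    174345607577602))) (.node (.leaf (nat_lit 90136112114368534)) (.leaf (nat_lit 0)))) (.node
    (.node (.node (.leaf (nat_lit 5314972681829087510542)) (.leaf (nat_lit 15907201143617617922)))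
    (.leaf (nat_lit 102110269038913650705))) (.node (.leaf (nat_lit 29533265486957808779292))
    (.leaf (nat_lit 136315224649650929715)))))) (.node (.node (.node (.node (.node (.leaf (nat_lit
    1)) (.leaf (nat_lit 0))) (.leaf (nat_lit 23036546099381352595489))) (.node (.leaf (nat_lit 0))
    (.leaf (nat_lit 0)))) (.node (.node (.node (.leaf (nat_lit 36116903978270731)) (.leaf (nat_lit
    327160320500105218))) (.leaf (nat_lit 0))) (.node (.leaf (nat_lit 0)) (.leaf (nat_lit
    115029708202246173))))) (.node (.node (.node (.node (.leaf (nat_lit 0)) (.leaf (nat_lit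
    259573838956920834))) (.leaf (nat_lit 0))) (.node (.leaf (nat_lit 0)) (.leaf (nat_lit
    236804941715537966)))) (.node (.node (.leaf (nat_lit 32897759778506539025)) (.leaf (nat_lit
    313047281434626))) (.node (.leaf (nat_lit 60909057233584158)) (.leaf (nat_lit
    544228191109122))))))) (.node (.node (.node (.node (.node (.node (.leaf (nat_lit 1)) (.leaf
    (nat_lit 0))) (.leaf (nat_lit 76198867771781808134))) (.node (.leaf (nat_lit
    74373453289029653)) (.leaf (nat_lit 0)))) (.node (.node (.node (.leaf (nat_lit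
    38326926645067785)) (.leaf (nat_lit 12628866142627403137417244))) (.leaf (nat_lit
    94722313914083966993))) (.node (.leaf (nat_lit 0)) (.leaf (nat_lit 491365733629954))))) (.node
    (.node (.node (.node (.leaf (nat_lit 5317286384018567528452)) (.leaf (nat_lit
    319953367207024398369134024943369106227256))) (.leaf (nat_lit 0))) (.node (.leaf (nat_lit
    54138118600851479)) (.leaf (nat_lit 0)))) (.node (.node (.node (.leaf (nat_lit 0)) (.leaf
    (nat_lit 43108586881026))) (.leaf (nat_lit 99354178071120052263))) (.node (.leaf (nat_lit 0))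
    (.leaf (nat_lit 460639537594370)))))) (.node (.node (.node (.node (.node (.leaf (nat_lit 1))
    (.leaf (nat_lit 0))) (.leaf (nat_lit 301871776530434))) (.node (.leaf (nat_lit 0)) (.leaf
    (nat_lit 0)))) (.node (.node (.node (.leaf (nat_lit 19624512531059703821)) (.leaf (nat_lit
    42420050488212062210))) (.leaf (nat_lit 190620866323873822))) (.node (.leaf (nat_lit 0)) (.leaf
    (nat_lit 74496483352876679217))))) (.node (.node (.node (.node (.leaf (nat_lit
    16746635330341568519)) (.leaf (nat_lit 14234261848485963625791545))) (.leaf (nat_lit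
    74444208580263972))) (.node (.leaf (nat_lit 57515844091183124)) (.leaf (nat_lit 0)))) (.node
    (.node (.leaf (nat_lit 67618028078170130)) (.leaf (nat_lit 148146307072002))) (.node (.leaf
    (nat_lit 68082303670325346336)) (.leaf (nat_lit 19058068864373005163561014)))))))))

/-- Certificate data. -/
def p11_rel : Trie :=
    (.node (.node (.node (.node (.node (.node (.leaf (nat_lit 0)) (.leaf (nat_lit
    3723538914965537180174780937))) (.node (.leaf (nat_lit 100795651)) (.leaf (nat_lit
    60164014351)))) (.node (.node (.leaf (nat_lit 1142495119875)) (.leaf (nat_lit 118228748)))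
    (.leaf (nat_lit 83953155)))) (.node (.node (.node (.leaf (nat_lit 47311817474)) (.leaf (nat_lit
    101451022))) (.node (.leaf (nat_lit 201460737)) (.leaf (nat_lit 2229122040327)))) (.node (.node
    (.leaf (nat_lit 6640103655942)) (.leaf (nat_lit 251727362))) (.leaf (nat_lit 151324677)))))
    (.node (.node (.node (.node (.leaf (nat_lit 11033972836875)) (.leaf (nat_lit 101058054)))
    (.node (.leaf (nat_lit 84084226)) (.leaf (nat_lit 51758108421)))) (.node (.node (.leaf (nat_lit
    17039875)) (.leaf (nat_lit 235671052))) (.leaf (nat_lit 7700993869569)))) (.node (.node (.node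
    (.leaf (nat_lit 65793)) (.leaf (nat_lit 235343367))) (.node (.leaf (nat_lit 67502341)) (.leaf
    (nat_lit 2799910162278689748133087242)))) (.node (.node (.leaf (nat_lit 151323913)) (.leaf
    (nat_lit 36387120366767566187149146540409350))) (.leaf (nat_lit 25921259527)))))) (.node (.node
    (.node (.node (.node (.leaf (nat_lit 168561164)) (.leaf (nat_lit 201985034))) (.node (.leaf
    (nat_lit 100926722)) (.leaf (nat_lit 218435334)))) (.node (.node (.leaf (nat_lit 33816835))
    (.leaf (nat_lit 218893580))) (.leaf (nat_lit 134612488)))) (.node (.node (.node (.leaf (nat_lit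
    47262138883)) (.leaf (nat_lit 201723397))) (.node (.leaf (nat_lit 100861185)) (.leaf (nat_lit
    8839227902220)))) (.node (.node (.leaf (nat_lit 84346119)) (.leaf (nat_lit 117835526))) (.leaf
    (nat_lit 84216073))))) (.node (.node (.node (.node (.leaf (nat_lit 2822467908012551)) (.leaf
    (nat_lit 101058568))) (.node (.leaf (nat_lit 84018692)) (.leaf (nat_lit 64542936071)))) (.node
    (.node (.leaf (nat_lit 17197367819)) (.leaf (nat_lit 252448524))) (.leaf (nat_lit 151390214))))
    (.node (.node (.node (.leaf (nat_lit 17564172)) (.leaf (nat_lit 30199318281))) (.node (.leaf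
    (nat_lit 84215045)) (.leaf (nat_lit 11003773977345)))) (.node (.node (.leaf (nat_lit
    34410137858)) (.leaf (nat_lit 38688785153))) (.leaf (nat_lit 13228667767305)))))))

/-- Certificate data. -/
def p11_rc : Trie :=
    (.node (.node (.node (.node (.node (.node (.leaf (nat_lit 98)) (.leaf (nat_lit 393308))) (.node
    (.leaf (nat_lit 5)) (.leaf (nat_lit 131117)))) (.node (.node (.leaf (nat_lit 262222)) (.leaf
    (nat_lit 131128))) (.leaf (nat_lit 131078)))) (.node (.node (.node (.leaf (nat_lit 393313))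
    (.leaf (nat_lit 393264))) (.node (.leaf (nat_lit 40)) (.leaf (nat_lit 131087)))) (.node (.node
    (.leaf (nat_lit 655436)) (.leaf (nat_lit 262190))) (.leaf (nat_lit 393282))))) (.node (.node
    (.node (.node (.leaf (nat_lit 655450)) (.leaf (nat_lit 3))) (.node (.leaf (nat_lit 262149))
    (.leaf (nat_lit 54)))) (.node (.node (.leaf (nat_lit 131080)) (.leaf (nat_lit 30))) (.leaf
    (nat_lit 131086)))) (.node (.node (.node (.leaf (nat_lit 0)) (.leaf (nat_lit 60))) (.node
    (.leaf (nat_lit 4)) (.leaf (nat_lit 92)))) (.node (.node (.leaf (nat_lit 393285)) (.leaf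
    (nat_lit 19))) (.leaf (nat_lit 131143)))))) (.node (.node (.node (.node (.node (.leaf (nat_lit
    131152)) (.leaf (nat_lit 80))) (.node (.leaf (nat_lit 7)) (.leaf (nat_lit 262194)))) (.node
    (.node (.leaf (nat_lit 9)) (.leaf (nat_lit 28))) (.leaf (nat_lit 131140)))) (.node (.node
    (.node (.leaf (nat_lit 393312)) (.leaf (nat_lit 52))) (.node (.leaf (nat_lit 393222)) (.leaf
    (nat_lit 262234)))) (.node (.node (.leaf (nat_lit 12)) (.leaf (nat_lit 13))) (.leaf (nat_lit
    262213))))) (.node (.node (.node (.node (.leaf (nat_lit 655455)) (.leaf (nat_lit 68))) (.node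
    (.leaf (nat_lit 262151)) (.leaf (nat_lit 524351)))) (.node (.node (.leaf (nat_lit 262241))
    (.leaf (nat_lit 32))) (.leaf (nat_lit 67)))) (.node (.node (.node (.leaf (nat_lit 131112))
    (.leaf (nat_lit 262214))) (.node (.leaf (nat_lit 2)) (.leaf (nat_lit 131150)))) (.node (.node
    (.leaf (nat_lit 393281)) (.leaf (nat_lit 65))) (.leaf (nat_lit 393306)))))))

/-- Certificate data. -/
def p11_lv : Trie :=
    (.leaf (nat_lit 0))

/-- Certificate data. -/
def p11_tb : Trie :=
    (.node (.node (.node (.node (.leaf (nat_lit 0)) (.leaf (nat_lit 17))) (.leaf (nat_lit 8)))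
    (.node (.leaf (nat_lit 4)) (.leaf (nat_lit 13)))) (.node (.node (.node (.leaf (nat_lit 2))
    (.leaf (nat_lit 311))) (.leaf (nat_lit 11))) (.node (.leaf (nat_lit 7)) (.leaf (nat_lit 15)))))

/-- Certificate data. -/
def p11_C : TC.Cert := ⟨6, 63, 9, 511, 20011376718272485634933414101046592000, 62462, p11_par, p11_fact, p11_just, p11_rel, 56⟩

/-- Certificate data. -/
def p11_rs : List (List ℕ) := [[1, 1, 1], [5, 5, 5, 5], [5, 1, 6, 4], [5, 3, 6, 1], [1, 3, 2, 4], [7, 7], [7, 5, 7, 5], [7, 1, 7, 1, 7, 1], [7, 3, 7, 3, 7, 3, 7, 3], [7, 1, 5, 7, 1, 5, 7, 1, 5, 7, 1, 5, 7, 1, 5], [12, 12], [13, 13], [14, 14], [15, 15], [12, 13, 12, 13], [12, 14, 12, 14], [12, 15, 12, 15], [13, 14, 13, 14], [13, 15, 13, 15], [14, 15, 14, 15], [1, 12, 2, 12], [1, 13, 2, 13], [1, 14, 2, 15, 14], [1, 15, 2, 14], [5, 12, 6, 14], [5, 13, 6, 15], [5, 14, 6, 12], [5, 15, 6, 13, 12], [7, 12, 7, 12], [7, 13, 7, 14, 13, 12], [7, 14, 7, 14], [7, 15, 7, 15, 12], [8, 1, 9, 4, 2], [8, 5, 9, 5], [8, 8, 6, 6], [8, 7, 9, 7, 5], [8,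 12, 14, 9, 12, 14, 8, 12, 14, 9, 12, 14, 6, 6], [10, 10], [10, 5, 5, 10, 6, 6], [10, 1, 3, 10, 4, 2], [10, 12, 10, 12], [10, 13, 10, 13], [10, 14, 10, 14, 12], [10, 15, 10, 15, 13, 12], [11, 11], [10, 8, 12, 9, 10, 11], [10, 8, 12, 9, 10, 8, 12, 9, 10, 8, 12, 9], [10, 7, 10, 7, 6, 6, 12], [11, 1, 11, 3, 2]]

/-- Certificate data. -/
def p11_gl : List ℕ := [1, 259, 517, 775, 1032, 1292, 1549, 1806, 2063, 2314]

theorem p11_h1 : allB p11_C.factChk 156 = true := by decide +kernel

theorem p11_h2 : p11_C.finChk 156 1 p11_lv p11_tb p11_gl = true := by decide +kernel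

theorem p11_h3 : TC.relChk p11_C.ivc p11_rs p11_C.rel p11_rc p11_C.nrel = true := by decide +kernel

theorem p11_bound {G : Type*} [Group G] {x y w u q f s a b c d : G}
    (r0 : x * x * x = 1)
    (r1 : w * w * w * w = 1)
    (r2 : w * x * w⁻¹ * y⁻¹ = 1)
    (r3 : w * y * w⁻¹ * x = 1)
    (r4 : x * y * x⁻¹ * y⁻¹ = 1)
    (r5 : u * u = 1)
    (r6 : u * w * u * w = 1)
    (r7 : u * x * u * x * u * x = 1)
    (r8 : u * y * u * y * u * y * u * y = 1)
    (r9 : u * x * w * u * x * w * u * x * w * u * x * w * u * x * w = 1)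
    (r10 : a * a = 1)
    (r11 : b * b = 1)
    (r12 : c * c = 1)
    (r13 : d * d = 1)
    (r14 : a * b * a * b = 1)
    (r15 : a * c * a * c = 1)
    (r16 : a * d * a * d = 1)
    (r17 : b * c * b * c = 1)
    (r18 : b * d * b * d = 1)
    (r19 : c * d * c * d = 1)
    (r20 : x * a * x⁻¹ * a = 1)
    (r21 : x * b * x⁻¹ * b = 1)
    (r22 : x * c * x⁻¹ * d * c = 1)
    (r23 : x * d * x⁻¹ * c = 1)
    (r24 : w * a * w⁻¹ * c = 1)
    (r25 : w * b * w⁻¹ * d = 1)
    (r26 : w * c * w⁻¹ * a = 1)
    (r27 : w * d * w⁻¹ * b * a = 1)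
    (r28 : u * a * u * a = 1)
    (r29 : u * b * u * c * b * a = 1)
    (r30 : u * c * u * c = 1)
    (r31 : u * d * u * d * a = 1)
    (r32 : q * x * q⁻¹ * y⁻¹ * x⁻¹ = 1)
    (r33 : q * w * q⁻¹ * w = 1)
    (r34 : q * q * w⁻¹ * w⁻¹ = 1)
    (r35 : q * u * q⁻¹ * u * w = 1)
    (r36 : q * a * c * q⁻¹ * a * c * q * a * c * q⁻¹ * a * c * w⁻¹ * w⁻¹ = 1)
    (r37 : f * f = 1)
    (r38 : f * w * w * f * w⁻¹ * w⁻¹ = 1)
    (r39 : f * x * y * f * y⁻¹ * x⁻¹ = 1)
    (r40 : f * a * f * a = 1)
    (r41 : f * b * f * b = 1)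
    (r42 : f * c * f * c * a = 1)
    (r43 : f * d * f * d * b * a = 1)
    (r44 : s * s = 1)
    (r45 : f * q * a * q⁻¹ * f * s = 1)
    (r46 : f * q * a * q⁻¹ * f * q * a * q⁻¹ * f * q * a * q⁻¹ = 1)
    (r47 : f * u * f * u * w⁻¹ * w⁻¹ * a = 1)
    (r48 : s * x * s * y * x⁻¹ = 1)
    (H : Subgroup G) [Finite H] (m1 : x ∈ H) (m3 : y ∈ H) (m5 : w ∈ H) (m7 : u ∈ H) (m8 : q ∈ H) (m12 : a ∈ H) (m13 : b ∈ H) (m14 : c ∈ H) (m15 : d ∈ H) :
    Finite (Subgroup.closure ({x, y, w, u, q, a, b, c, d, f} : Set G)) ∧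
      Nat.card (Subgroup.closure ({x, y, w, u, q, a, b, c, d, f} : Set G)) ≤ 1 * Nat.card H := by
  have hL : TC.Lett (TC.lett [x, x⁻¹, y, y⁻¹, w, w⁻¹, u, q, q⁻¹, f, s, a, b, c, d]) p11_C.ivc :=
    TC.lett_ok (show Nat.shiftRight p11_C.ivc (8 * 16) = 0 by decide +kernel) (by
      intro a ha
      change a < 16 at ha
      interval_cases a
      · exact inv_one.symm
      · rfl
      · exact (inv_inv _).symm
      · rfl
      · exact (inv_inv _).symm
      · rfl
      · exact (inv_inv _).symm
      · exact (inv_eq_of_mul_eq_one_right r5).symm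
      · rfl
      · exact (inv_inv _).symm
      · exact (inv_eq_of_mul_eq_one_right r37).symm
      · exact (inv_eq_of_mul_eq_one_right r44).symm
      · exact (inv_eq_of_mul_eq_one_right r10).symm
      · exact (inv_eq_of_mul_eq_one_right r11).symm
      · exact (inv_eq_of_mul_eq_one_right r12).symm
      · exact (inv_eq_of_mul_eq_one_right r13).symm)
  have h := TC.card_le p11_h1 p11_h2 p11_h3 (by decide) hL (by
    simp only [p11_rs, List.forall_mem_cons]
    refine ⟨?_, ?_, ?_, ?_, ?_, ?_, ?_, ?_, ?_, ?_, ?_, ?_, ?_, ?_, ?_, ?_, ?_, ?_, ?_, ?_, ?_, ?_,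
    ?_, ?_, ?_, ?_, ?_, ?_, ?_, ?_, ?_, ?_, ?_, ?_, ?_, ?_, ?_, ?_, ?_, ?_, ?_, ?_, ?_, ?_, ?_, ?_,
    ?_, ?_, ?_, List.forall_mem_nil _⟩
    · show x * (x * (x * 1)) = 1
      simp only [mul_assoc, mul_one] at r0 ⊢
      exact r0
    · show w * (w * (w * (w * 1))) = 1
      simp only [mul_assoc, mul_one] at r1 ⊢
      exact r1
    · show w * (x * (w⁻¹ * (y⁻¹ * 1))) = 1
      simp only [mul_assoc, mul_one] at r2 ⊢
      exact r2
    · show w * (y * (w⁻¹ * (x * 1))) = 1
      simp only [mul_assoc, mul_one] at r3 ⊢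
      exact r3
    · show x * (y * (x⁻¹ * (y⁻¹ * 1))) = 1
      simp only [mul_assoc, mul_one] at r4 ⊢
      exact r4
    · show u * (u * 1) = 1
      simp only [mul_one] at r5 ⊢
      exact r5
    · show u * (w * (u * (w * 1))) = 1
      simp only [mul_assoc, mul_one] at r6 ⊢
      exact r6
    · show u * (x * (u * (x * (u * (x * 1))))) = 1
      simp only [mul_assoc, mul_one] at r7 ⊢
      exact r7
    · show u * (y * (u * (y * (u * (y * (u * (y * 1))))))) = 1
      simp only [mul_assoc, mul_one] at r8 ⊢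
      exact r8
    · show u * (x * (w * (u * (x * (w * (u * (x * (w * (u * (x * (w * (u * (x * (w *
    1)))))))))))))) = 1
      simp only [mul_assoc, mul_one] at r9 ⊢
      exact r9
    · show a * (a * 1) = 1
      simp only [mul_one] at r10 ⊢
      exact r10
    · show b * (b * 1) = 1
      simp only [mul_one] at r11 ⊢
      exact r11
    · show c * (c * 1) = 1
      simp only [mul_one] at r12 ⊢
      exact r12
    · show d * (d * 1) = 1
      simp only [mul_one] at r13 ⊢
      exact r13
    · show a * (b * (a * (b * 1))) = 1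
      simp only [mul_assoc, mul_one] at r14 ⊢
      exact r14
    · show a * (c * (a * (c * 1))) = 1
      simp only [mul_assoc, mul_one] at r15 ⊢
      exact r15
    · show a * (d * (a * (d * 1))) = 1
      simp only [mul_assoc, mul_one] at r16 ⊢
      exact r16
    · show b * (c * (b * (c * 1))) = 1
      simp only [mul_assoc, mul_one] at r17 ⊢
      exact r17
    · show b * (d * (b * (d * 1))) = 1
      simp only [mul_assoc, mul_one] at r18 ⊢
      exact r18
    · show c * (d * (c * (d * 1))) = 1
      simp only [mul_assoc, mul_one] at r19 ⊢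
      exact r19
    · show x * (a * (x⁻¹ * (a * 1))) = 1
      simp only [mul_assoc, mul_one] at r20 ⊢
      exact r20
    · show x * (b * (x⁻¹ * (b * 1))) = 1
      simp only [mul_assoc, mul_one] at r21 ⊢
      exact r21
    · show x * (c * (x⁻¹ * (d * (c * 1)))) = 1
      simp only [mul_assoc, mul_one] at r22 ⊢
      exact r22
    · show x * (d * (x⁻¹ * (c * 1))) = 1
      simp only [mul_assoc, mul_one] at r23 ⊢
      exact r23
    · show w * (a * (w⁻¹ * (c * 1))) = 1
      simp only [mul_assoc, mul_one] at r24 ⊢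
      exact r24
    · show w * (b * (w⁻¹ * (d * 1))) = 1
      simp only [mul_assoc, mul_one] at r25 ⊢
      exact r25
    · show w * (c * (w⁻¹ * (a * 1))) = 1
      simp only [mul_assoc, mul_one] at r26 ⊢
      exact r26
    · show w * (d * (w⁻¹ * (b * (a * 1)))) = 1
      simp only [mul_assoc, mul_one] at r27 ⊢
      exact r27
    · show u * (a * (u * (a * 1))) = 1
      simp only [mul_assoc, mul_one] at r28 ⊢
      exact r28
    · show u * (b * (u * (c * (b * (a * 1))))) = 1
      simp only [mul_assoc, mul_one] at r29 ⊢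
      exact r29
    · show u * (c * (u * (c * 1))) = 1
      simp only [mul_assoc, mul_one] at r30 ⊢
      exact r30
    · show u * (d * (u * (d * (a * 1)))) = 1
      simp only [mul_assoc, mul_one] at r31 ⊢
      exact r31
    · show q * (x * (q⁻¹ * (y⁻¹ * (x⁻¹ * 1)))) = 1
      simp only [mul_assoc, mul_one] at r32 ⊢
      exact r32
    · show q * (w * (q⁻¹ * (w * 1))) = 1
      simp only [mul_assoc, mul_one] at r33 ⊢
      exact r33
    · show q * (q * (w⁻¹ * (w⁻¹ * 1))) = 1
      simp only [mul_assoc, mul_one] at r34 ⊢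
      exact r34
    · show q * (u * (q⁻¹ * (u * (w * 1)))) = 1
      simp only [mul_assoc, mul_one] at r35 ⊢
      exact r35
    · show q * (a * (c * (q⁻¹ * (a * (c * (q * (a * (c * (q⁻¹ * (a * (c * (w⁻¹ * (w⁻¹ *
    1))))))))))))) = 1
      simp only [mul_assoc, mul_one] at r36 ⊢
      exact r36
    · show f * (f * 1) = 1
      simp only [mul_one] at r37 ⊢
      exact r37
    · show f * (w * (w * (f * (w⁻¹ * (w⁻¹ * 1))))) = 1
      simp only [mul_assoc, mul_one] at r38 ⊢
      exact r38
    · show f * (x * (y * (f * (y⁻¹ * (x⁻¹ * 1))))) = 1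
      simp only [mul_assoc, mul_one] at r39 ⊢
      exact r39
    · show f * (a * (f * (a * 1))) = 1
      simp only [mul_assoc, mul_one] at r40 ⊢
      exact r40
    · show f * (b * (f * (b * 1))) = 1
      simp only [mul_assoc, mul_one] at r41 ⊢
      exact r41
    · show f * (c * (f * (c * (a * 1)))) = 1
      simp only [mul_assoc, mul_one] at r42 ⊢
      exact r42
    · show f * (d * (f * (d * (b * (a * 1))))) = 1
      simp only [mul_assoc, mul_one] at r43 ⊢
      exact r43
    · show s * (s * 1) = 1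
      simp only [mul_one] at r44 ⊢
      exact r44
    · show f * (q * (a * (q⁻¹ * (f * (s * 1))))) = 1
      simp only [mul_assoc, mul_one] at r45 ⊢
      exact r45
    · show f * (q * (a * (q⁻¹ * (f * (q * (a * (q⁻¹ * (f * (q * (a * (q⁻¹ * 1))))))))))) = 1
      simp only [mul_assoc, mul_one] at r46 ⊢
      exact r46
    · show f * (u * (f * (u * (w⁻¹ * (w⁻¹ * (a * 1)))))) = 1
      simp only [mul_assoc, mul_one] at r47 ⊢
      exact r47
    · show s * (x * (s * (y * (x⁻¹ * 1)))) = 1
      simp only [mul_assoc, mul_one] at r48 ⊢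
      exact r48) H
    (TC.forall_subs (K := 16) (by decide +kernel) (by
      intro a ha hb
      interval_cases a
      · exact absurd hb (by decide +kernel)
      · exact m1
      · exact H.inv_mem m1
      · exact m3
      · exact H.inv_mem m3
      · exact m5
      · exact H.inv_mem m5
      · exact m7
      · exact m8
      · exact H.inv_mem m8
      · exact absurd hb (by decide +kernel)
      · exact absurd hb (by decide +kernel)
      · exact m12
      · exact m13
      · exact m14
      · exact m15))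
  have e : {g₀ | ∃ ak ∈ p11_gl, TC.lett [x, x⁻¹, y, y⁻¹, w, w⁻¹, u, q, q⁻¹, f, s, a, b, c, d] (ak % 256) = g₀} =
      {x, y, w, u, q, a, b, c, d, f} := by
    ext g₀
    simp only [p11_gl, List.mem_cons, List.not_mem_nil, or_false, exists_eq_or_imp,
      exists_eq_left, Set.mem_ofPred_eq, Set.mem_insert_iff, Set.mem_singleton_iff]
    exact or_congr eq_comm (or_congr eq_comm (or_congr eq_comm (or_congr eq_comm (or_congr eq_comm (or_congr eq_comm (or_congr eq_comm (or_congr eq_comm (or_congr eq_comm (eq_comm)))))))))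
  rw [e] at h
  exact h

theorem p11_card {G : Type*} [Group G] {x y w u q f s a b c d : G}
    (e0 : x ^ 3 = 1)
    (e1 : w ^ 4 = 1)
    (e2 : w * x * w⁻¹ = y)
    (e3 : w * y * w⁻¹ = x⁻¹)
    (e4 : x * y = y * x)
    (e5 : u * u = 1)
    (e6 : u * w * u = w⁻¹)
    (e7 : (u * x) ^ 3 = 1)
    (e8 : (u * y) ^ 4 = 1)
    (e9 : (u * x * w) ^ 5 = 1)
    (e10 : a * a = 1)
    (e11 : b * b = 1)
    (e12 : c * c = 1)
    (e13 : d * d = 1)
    (e14 : a * b = b * a)
    (e15 : a * c = c * a)
    (e16 : a * d = d * a)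
    (e17 : b * c = c * b)
    (e18 : b * d = d * b)
    (e19 : c * d = d * c)
    (e20 : x * a * x⁻¹ = a)
    (e21 : x * b * x⁻¹ = b)
    (e22 : x * c * x⁻¹ = c * d)
    (e23 : x * d * x⁻¹ = c)
    (e24 : w * a * w⁻¹ = c)
    (e25 : w * b * w⁻¹ = d)
    (e26 : w * c * w⁻¹ = a)
    (e27 : w * d * w⁻¹ = a * b)
    (e28 : u * a * u = a)
    (e29 : u * b * u = a * b * c)
    (e30 : u * c * u = c)
    (e31 : u * d * u = a * d)
    (e32 : q * x * q⁻¹ = x * y)
    (e33 : q * w * q⁻¹ = w⁻¹)
    (e34 : q * q = w * w)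
    (e35 : q * u * q⁻¹ = w⁻¹ * u)
    (e36 : (q * (a * c) * q⁻¹ * (a * c)) ^ 2 = w * w)
    (e37 : f * f = 1)
    (e38 : f * (w * w) = w * w * f)
    (e39 : f * (x * y) = x * y * f)
    (e40 : f * a * f = a)
    (e41 : f * b * f = b)
    (e42 : f * c * f = a * c)
    (e43 : f * d * f = a * b * d)
    (e44 : s * s = 1)
    (e45 : f * (q * a * q⁻¹) * f = s)
    (e46 : (f * (q * a * q⁻¹)) ^ 3 = 1)
    (e47 : f * u * f = a * (w * w * u))
    (e48 : s * x * s = x * y⁻¹)
    (H : Subgroup G) [Finite H] (mx : x ∈ H) (my : y ∈ H) (mw : w ∈ H) (mu : u ∈ H) (mq : q ∈ H) (ma : a ∈ H) (mb : b ∈ H) (mc : c ∈ H) (md : d ∈ H) :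
    Finite (Subgroup.closure ({x, y, w, u, q, a, b, c, d, f} : Set G)) ∧
      Nat.card (Subgroup.closure ({x, y, w, u, q, a, b, c, d, f} : Set G)) ≤ 1 * Nat.card H := by
  have iu : u⁻¹ = u := inv_eq_of_mul_eq_one_right e5
  have jf : f⁻¹ = f := inv_eq_of_mul_eq_one_right e37
  have is : s⁻¹ = s := inv_eq_of_mul_eq_one_right e44
  have ia : a⁻¹ = a := inv_eq_of_mul_eq_one_right e10
  have ib : b⁻¹ = b := inv_eq_of_mul_eq_one_right e11
  have ic : c⁻¹ = c := inv_eq_of_mul_eq_one_right e12
  have id : d⁻¹ = d := inv_eq_of_mul_eq_one_right e13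
  refine p11_bound (s := s) ?_ ?_ ?_ ?_ ?_ ?_ ?_ ?_ ?_ ?_ ?_ ?_ ?_ ?_ ?_ ?_ ?_ ?_ ?_ ?_ ?_ ?_ ?_ ?_ ?_ ?_ ?_ ?_ ?_ ?_ ?_ ?_ ?_ ?_ ?_ ?_ ?_ ?_ ?_ ?_ ?_ ?_ ?_ ?_ ?_ ?_ ?_ ?_ ?_ H mx my mw mu mq ma mb mc md
  · have h := mul_inv_eq_one.mpr e0
    simp only [pow_succ, pow_zero, mul_inv_rev, inv_inv, inv_one, one_mul, mul_one, mul_assoc,
      mul_inv_cancel_left, inv_mul_cancel_left, mul_inv_cancel, inv_mul_cancel, iu, jf, is, ia, ib, ic, id] at h ⊢
    exact h
  · have h := mul_inv_eq_one.mpr e1
    simp only [pow_succ, pow_zero, mul_inv_rev, inv_inv, inv_one, one_mul, mul_one, mul_assoc,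
      mul_inv_cancel_left, inv_mul_cancel_left, mul_inv_cancel, inv_mul_cancel, iu, jf, is, ia, ib, ic, id] at h ⊢
    exact h
  · have h := mul_inv_eq_one.mpr e2
    simp only [pow_succ, pow_zero, mul_inv_rev, inv_inv, inv_one, one_mul, mul_one, mul_assoc,
      mul_inv_cancel_left, inv_mul_cancel_left, mul_inv_cancel, inv_mul_cancel, iu, jf, is, ia, ib, ic, id] at h ⊢
    exact h
  · have h := mul_inv_eq_one.mpr e3
    simp only [pow_succ, pow_zero, mul_inv_rev, inv_inv, inv_one, one_mul, mul_one, mul_assoc,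
      mul_inv_cancel_left, inv_mul_cancel_left, mul_inv_cancel, inv_mul_cancel, iu, jf, is, ia, ib, ic, id] at h ⊢
    exact h
  · have h := mul_inv_eq_one.mpr e4
    simp only [pow_succ, pow_zero, mul_inv_rev, inv_inv, inv_one, one_mul, mul_one, mul_assoc,
      mul_inv_cancel_left, inv_mul_cancel_left, mul_inv_cancel, inv_mul_cancel, iu, jf, is, ia, ib, ic, id] at h ⊢
    exact h
  · have h := mul_inv_eq_one.mpr e5
    simp only [pow_succ, pow_zero, mul_inv_rev, inv_inv, inv_one, one_mul, mul_one, mul_assoc,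
      mul_inv_cancel_left, inv_mul_cancel_left, mul_inv_cancel, inv_mul_cancel, iu, jf, is, ia, ib, ic, id] at h ⊢
    exact h
  · have h := mul_inv_eq_one.mpr e6
    simp only [pow_succ, pow_zero, mul_inv_rev, inv_inv, inv_one, one_mul, mul_one, mul_assoc,
      mul_inv_cancel_left, inv_mul_cancel_left, mul_inv_cancel, inv_mul_cancel, iu, jf, is, ia, ib, ic, id] at h ⊢
    exact h
  · have h := mul_inv_eq_one.mpr e7
    simp only [pow_succ, pow_zero, mul_inv_rev, inv_inv, inv_one, one_mul, mul_one, mul_assoc,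
      mul_inv_cancel_left, inv_mul_cancel_left, mul_inv_cancel, inv_mul_cancel, iu, jf, is, ia, ib, ic, id] at h ⊢
    exact h
  · have h := mul_inv_eq_one.mpr e8
    simp only [pow_succ, pow_zero, mul_inv_rev, inv_inv, inv_one, one_mul, mul_one, mul_assoc,
      mul_inv_cancel_left, inv_mul_cancel_left, mul_inv_cancel, inv_mul_cancel, iu, jf, is, ia, ib, ic, id] at h ⊢
    exact h
  · have h := mul_inv_eq_one.mpr e9
    simp only [pow_succ, pow_zero, mul_inv_rev, inv_inv, inv_one, one_mul, mul_one, mul_assoc,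
      mul_inv_cancel_left, inv_mul_cancel_left, mul_inv_cancel, inv_mul_cancel, iu, jf, is, ia, ib, ic, id] at h ⊢
    exact h
  · have h := mul_inv_eq_one.mpr e10
    simp only [pow_succ, pow_zero, mul_inv_rev, inv_inv, inv_one, one_mul, mul_one, mul_assoc,
      mul_inv_cancel_left, inv_mul_cancel_left, mul_inv_cancel, inv_mul_cancel, iu, jf, is, ia, ib, ic, id] at h ⊢
    exact h
  · have h := mul_inv_eq_one.mpr e11
    simp only [pow_succ, pow_zero, mul_inv_rev, inv_inv, inv_one, one_mul, mul_one, mul_assoc,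
      mul_inv_cancel_left, inv_mul_cancel_left, mul_inv_cancel, inv_mul_cancel, iu, jf, is, ia, ib, ic, id] at h ⊢
    exact h
  · have h := mul_inv_eq_one.mpr e12
    simp only [pow_succ, pow_zero, mul_inv_rev, inv_inv, inv_one, one_mul, mul_one, mul_assoc,
      mul_inv_cancel_left, inv_mul_cancel_left, mul_inv_cancel, inv_mul_cancel, iu, jf, is, ia, ib, ic, id] at h ⊢
    exact h
  · have h := mul_inv_eq_one.mpr e13
    simp only [pow_succ, pow_zero, mul_inv_rev, inv_inv, inv_one, one_mul, mul_one, mul_assoc,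
      mul_inv_cancel_left, inv_mul_cancel_left, mul_inv_cancel, inv_mul_cancel, iu, jf, is, ia, ib, ic, id] at h ⊢
    exact h
  · have h := mul_inv_eq_one.mpr e14
    simp only [pow_succ, pow_zero, mul_inv_rev, inv_inv, inv_one, one_mul, mul_one, mul_assoc,
      mul_inv_cancel_left, inv_mul_cancel_left, mul_inv_cancel, inv_mul_cancel, iu, jf, is, ia, ib, ic, id] at h ⊢
    exact h
  · have h := mul_inv_eq_one.mpr e15
    simp only [pow_succ, pow_zero, mul_inv_rev, inv_inv, inv_one, one_mul, mul_one, mul_assoc,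
      mul_inv_cancel_left, inv_mul_cancel_left, mul_inv_cancel, inv_mul_cancel, iu, jf, is, ia, ib, ic, id] at h ⊢
    exact h
  · have h := mul_inv_eq_one.mpr e16
    simp only [pow_succ, pow_zero, mul_inv_rev, inv_inv, inv_one, one_mul, mul_one, mul_assoc,
      mul_inv_cancel_left, inv_mul_cancel_left, mul_inv_cancel, inv_mul_cancel, iu, jf, is, ia, ib, ic, id] at h ⊢
    exact h
  · have h := mul_inv_eq_one.mpr e17
    simp only [pow_succ, pow_zero, mul_inv_rev, inv_inv, inv_one, one_mul, mul_one, mul_assoc,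
      mul_inv_cancel_left, inv_mul_cancel_left, mul_inv_cancel, inv_mul_cancel, iu, jf, is, ia, ib, ic, id] at h ⊢
    exact h
  · have h := mul_inv_eq_one.mpr e18
    simp only [pow_succ, pow_zero, mul_inv_rev, inv_inv, inv_one, one_mul, mul_one, mul_assoc,
      mul_inv_cancel_left, inv_mul_cancel_left, mul_inv_cancel, inv_mul_cancel, iu, jf, is, ia, ib, ic, id] at h ⊢
    exact h
  · have h := mul_inv_eq_one.mpr e19
    simp only [pow_succ, pow_zero, mul_inv_rev, inv_inv, inv_one, one_mul, mul_one, mul_assoc,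
      mul_inv_cancel_left, inv_mul_cancel_left, mul_inv_cancel, inv_mul_cancel, iu, jf, is, ia, ib, ic, id] at h ⊢
    exact h
  · have h := mul_inv_eq_one.mpr e20
    simp only [pow_succ, pow_zero, mul_inv_rev, inv_inv, inv_one, one_mul, mul_one, mul_assoc,
      mul_inv_cancel_left, inv_mul_cancel_left, mul_inv_cancel, inv_mul_cancel, iu, jf, is, ia, ib, ic, id] at h ⊢
    exact h
  · have h := mul_inv_eq_one.mpr e21
    simp only [pow_succ, pow_zero, mul_inv_rev, inv_inv, inv_one, one_mul, mul_one, mul_assoc,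
      mul_inv_cancel_left, inv_mul_cancel_left, mul_inv_cancel, inv_mul_cancel, iu, jf, is, ia, ib, ic, id] at h ⊢
    exact h
  · have h := mul_inv_eq_one.mpr e22
    simp only [pow_succ, pow_zero, mul_inv_rev, inv_inv, inv_one, one_mul, mul_one, mul_assoc,
      mul_inv_cancel_left, inv_mul_cancel_left, mul_inv_cancel, inv_mul_cancel, iu, jf, is, ia, ib, ic, id] at h ⊢
    exact h
  · have h := mul_inv_eq_one.mpr e23
    simp only [pow_succ, pow_zero, mul_inv_rev, inv_inv, inv_one, one_mul, mul_one, mul_assoc,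
      mul_inv_cancel_left, inv_mul_cancel_left, mul_inv_cancel, inv_mul_cancel, iu, jf, is, ia, ib, ic, id] at h ⊢
    exact h
  · have h := mul_inv_eq_one.mpr e24
    simp only [pow_succ, pow_zero, mul_inv_rev, inv_inv, inv_one, one_mul, mul_one, mul_assoc,
      mul_inv_cancel_left, inv_mul_cancel_left, mul_inv_cancel, inv_mul_cancel, iu, jf, is, ia, ib, ic, id] at h ⊢
    exact h
  · have h := mul_inv_eq_one.mpr e25
    simp only [pow_succ, pow_zero, mul_inv_rev, inv_inv, inv_one, one_mul, mul_one, mul_assoc,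
      mul_inv_cancel_left, inv_mul_cancel_left, mul_inv_cancel, inv_mul_cancel, iu, jf, is, ia, ib, ic, id] at h ⊢
    exact h
  · have h := mul_inv_eq_one.mpr e26
    simp only [pow_succ, pow_zero, mul_inv_rev, inv_inv, inv_one, one_mul, mul_one, mul_assoc,
      mul_inv_cancel_left, inv_mul_cancel_left, mul_inv_cancel, inv_mul_cancel, iu, jf, is, ia, ib, ic, id] at h ⊢
    exact h
  · have h := mul_inv_eq_one.mpr e27
    simp only [pow_succ, pow_zero, mul_inv_rev, inv_inv, inv_one, one_mul, mul_one, mul_assoc,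
      mul_inv_cancel_left, inv_mul_cancel_left, mul_inv_cancel, inv_mul_cancel, iu, jf, is, ia, ib, ic, id] at h ⊢
    exact h
  · have h := mul_inv_eq_one.mpr e28
    simp only [pow_succ, pow_zero, mul_inv_rev, inv_inv, inv_one, one_mul, mul_one, mul_assoc,
      mul_inv_cancel_left, inv_mul_cancel_left, mul_inv_cancel, inv_mul_cancel, iu, jf, is, ia, ib, ic, id] at h ⊢
    exact h
  · have h := mul_inv_eq_one.mpr e29
    simp only [pow_succ, pow_zero, mul_inv_rev, inv_inv, inv_one, one_mul, mul_one, mul_assoc,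
      mul_inv_cancel_left, inv_mul_cancel_left, mul_inv_cancel, inv_mul_cancel, iu, jf, is, ia, ib, ic, id] at h ⊢
    exact h
  · have h := mul_inv_eq_one.mpr e30
    simp only [pow_succ, pow_zero, mul_inv_rev, inv_inv, inv_one, one_mul, mul_one, mul_assoc,
      mul_inv_cancel_left, inv_mul_cancel_left, mul_inv_cancel, inv_mul_cancel, iu, jf, is, ia, ib, ic, id] at h ⊢
    exact h
  · have h := mul_inv_eq_one.mpr e31
    simp only [pow_succ, pow_zero, mul_inv_rev, inv_inv, inv_one, one_mul, mul_one, mul_assoc,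
      mul_inv_cancel_left, inv_mul_cancel_left, mul_inv_cancel, inv_mul_cancel, iu, jf, is, ia, ib, ic, id] at h ⊢
    exact h
  · have h := mul_inv_eq_one.mpr e32
    simp only [pow_succ, pow_zero, mul_inv_rev, inv_inv, inv_one, one_mul, mul_one, mul_assoc,
      mul_inv_cancel_left, inv_mul_cancel_left, mul_inv_cancel, inv_mul_cancel, iu, jf, is, ia, ib, ic, id] at h ⊢
    exact h
  · have h := mul_inv_eq_one.mpr e33
    simp only [pow_succ, pow_zero, mul_inv_rev, inv_inv, inv_one, one_mul, mul_one, mul_assoc,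
      mul_inv_cancel_left, inv_mul_cancel_left, mul_inv_cancel, inv_mul_cancel, iu, jf, is, ia, ib, ic, id] at h ⊢
    exact h
  · have h := mul_inv_eq_one.mpr e34
    simp only [pow_succ, pow_zero, mul_inv_rev, inv_inv, inv_one, one_mul, mul_one, mul_assoc,
      mul_inv_cancel_left, inv_mul_cancel_left, mul_inv_cancel, inv_mul_cancel, iu, jf, is, ia, ib, ic, id] at h ⊢
    exact h
  · have h := mul_inv_eq_one.mpr e35
    simp only [pow_succ, pow_zero, mul_inv_rev, inv_inv, inv_one, one_mul, mul_one, mul_assoc,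
      mul_inv_cancel_left, inv_mul_cancel_left, mul_inv_cancel, inv_mul_cancel, iu, jf, is, ia, ib, ic, id] at h ⊢
    exact h
  · have h := mul_inv_eq_one.mpr e36
    simp only [pow_succ, pow_zero, mul_inv_rev, inv_inv, inv_one, one_mul, mul_one, mul_assoc,
      mul_inv_cancel_left, inv_mul_cancel_left, mul_inv_cancel, inv_mul_cancel, iu, jf, is, ia, ib, ic, id] at h ⊢
    exact h
  · have h := mul_inv_eq_one.mpr e37
    simp only [pow_succ, pow_zero, mul_inv_rev, inv_inv, inv_one, one_mul, mul_one, mul_assoc,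
      mul_inv_cancel_left, inv_mul_cancel_left, mul_inv_cancel, inv_mul_cancel, iu, jf, is, ia, ib, ic, id] at h ⊢
    exact h
  · have h := mul_inv_eq_one.mpr e38
    simp only [pow_succ, pow_zero, mul_inv_rev, inv_inv, inv_one, one_mul, mul_one, mul_assoc,
      mul_inv_cancel_left, inv_mul_cancel_left, mul_inv_cancel, inv_mul_cancel, iu, jf, is, ia, ib, ic, id] at h ⊢
    exact h
  · have h := mul_inv_eq_one.mpr e39
    simp only [pow_succ, pow_zero, mul_inv_rev, inv_inv, inv_one, one_mul, mul_one, mul_assoc,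
      mul_inv_cancel_left, inv_mul_cancel_left, mul_inv_cancel, inv_mul_cancel, iu, jf, is, ia, ib, ic, id] at h ⊢
    exact h
  · have h := mul_inv_eq_one.mpr e40
    simp only [pow_succ, pow_zero, mul_inv_rev, inv_inv, inv_one, one_mul, mul_one, mul_assoc,
      mul_inv_cancel_left, inv_mul_cancel_left, mul_inv_cancel, inv_mul_cancel, iu, jf, is, ia, ib, ic, id] at h ⊢
    exact h
  · have h := mul_inv_eq_one.mpr e41
    simp only [pow_succ, pow_zero, mul_inv_rev, inv_inv, inv_one, one_mul, mul_one, mul_assoc,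
      mul_inv_cancel_left, inv_mul_cancel_left, mul_inv_cancel, inv_mul_cancel, iu, jf, is, ia, ib, ic, id] at h ⊢
    exact h
  · have h := mul_inv_eq_one.mpr e42
    simp only [pow_succ, pow_zero, mul_inv_rev, inv_inv, inv_one, one_mul, mul_one, mul_assoc,
      mul_inv_cancel_left, inv_mul_cancel_left, mul_inv_cancel, inv_mul_cancel, iu, jf, is, ia, ib, ic, id] at h ⊢
    exact h
  · have h := mul_inv_eq_one.mpr e43
    simp only [pow_succ, pow_zero, mul_inv_rev, inv_inv, inv_one, one_mul, mul_one, mul_assoc,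
      mul_inv_cancel_left, inv_mul_cancel_left, mul_inv_cancel, inv_mul_cancel, iu, jf, is, ia, ib, ic, id] at h ⊢
    exact h
  · have h := mul_inv_eq_one.mpr e44
    simp only [pow_succ, pow_zero, mul_inv_rev, inv_inv, inv_one, one_mul, mul_one, mul_assoc,
      mul_inv_cancel_left, inv_mul_cancel_left, mul_inv_cancel, inv_mul_cancel, iu, jf, is, ia, ib, ic, id] at h ⊢
    exact h
  · have h := mul_inv_eq_one.mpr e45
    simp only [pow_succ, pow_zero, mul_inv_rev, inv_inv, inv_one, one_mul, mul_one, mul_assoc,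
      mul_inv_cancel_left, inv_mul_cancel_left, mul_inv_cancel, inv_mul_cancel, iu, jf, is, ia, ib, ic, id] at h ⊢
    exact h
  · have h := mul_inv_eq_one.mpr e46
    simp only [pow_succ, pow_zero, mul_inv_rev, inv_inv, inv_one, one_mul, mul_one, mul_assoc,
      mul_inv_cancel_left, inv_mul_cancel_left, mul_inv_cancel, inv_mul_cancel, iu, jf, is, ia, ib, ic, id] at h ⊢
    exact h
  · have h := mul_inv_eq_one.mpr e47
    simp only [pow_succ, pow_zero, mul_inv_rev, inv_inv, inv_one, one_mul, mul_one, mul_assoc,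
      mul_inv_cancel_left, inv_mul_cancel_left, mul_inv_cancel, inv_mul_cancel, iu, jf, is, ia, ib, ic, id] at h ⊢
    exact h
  · have h := mul_inv_eq_one.mpr e48
    simp only [pow_succ, pow_zero, mul_inv_rev, inv_inv, inv_one, one_mul, mul_one, mul_assoc,
      mul_inv_cancel_left, inv_mul_cancel_left, mul_inv_cancel, inv_mul_cancel, iu, jf, is, ia, ib, ic, id] at h ⊢
    exact h

/-- Certificate data. -/
def p12_par : Trie :=
    (.node (.node (.node (.node (.node (.node (.leaf (nat_lit 0)) (.leaf (nat_lit 1797))) (.node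
    (.leaf (nat_lit 527)) (.leaf (nat_lit 4362)))) (.node (.node (.leaf (nat_lit 518)) (.leaf
    (nat_lit 2574))) (.leaf (nat_lit 1034)))) (.node (.node (.node (.leaf (nat_lit 258)) (.leaf
    (nat_lit 1807))) (.node (.leaf (nat_lit 776)) (.leaf (nat_lit 5640)))) (.node (.node (.leaf
    (nat_lit 522)) (.leaf (nat_lit 4101))) (.leaf (nat_lit 1548))))) (.node (.node (.node (.node
    (.leaf (nat_lit 11)) (.leaf (nat_lit 1804))) (.node (.leaf (nat_lit 774)) (.leaf (nat_lit
    4619)))) (.node (.node (.leaf (nat_lit 520)) (.leaf (nat_lit 3332))) (.leaf (nat_lit 1290))))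
    (.node (.node (.node (.leaf (nat_lit 264)) (.leaf (nat_lit 2567))) (.leaf (nat_lit 778)))
    (.node (.node (.leaf (nat_lit 525)) (.leaf (nat_lit 4359))) (.leaf (nat_lit 1550)))))) (.node
    (.node (.node (.node (.node (.leaf (nat_lit 10)) (.leaf (nat_lit 1800))) (.node (.leaf (nat_lit
    773)) (.leaf (nat_lit 4363)))) (.node (.node (.leaf (nat_lit 519)) (.leaf (nat_lit 2575)))
    (.leaf (nat_lit 1288)))) (.node (.node (.node (.leaf (nat_lit 261)) (.leaf (nat_lit 2314)))
    (.node (.leaf (nat_lit 777)) (.leaf (nat_lit 5641)))) (.node (.node (.leaf (nat_lit 524))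
    (.leaf (nat_lit 4103))) (.leaf (nat_lit 1549))))) (.node (.node (.node (.node (.leaf (nat_lit
    257)) (.leaf (nat_lit 1806))) (.node (.leaf (nat_lit 775)) (.leaf (nat_lit 5637)))) (.node
    (.node (.leaf (nat_lit 521)) (.leaf (nat_lit 3591))) (.leaf (nat_lit 1291)))) (.node (.node
    (.node (.leaf (nat_lit 517)) (.leaf (nat_lit 2573))) (.leaf (nat_lit 1031))) (.node (.node
    (.leaf (nat_lit 526)) (.leaf (nat_lit 4360))) (.leaf (nat_lit 1551)))))))

/-- Certificate data. -/
def p12_fact : Trie :=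
    (.node (.node (.node (.node (.node (.node (.node (.node (.leaf (nat_lit 1)) (.leaf (nat_lit
    323077))) (.leaf (nat_lit 104709))) (.node (.node (.leaf (nat_lit 131590)) (.leaf (nat_lit
    823819))) (.leaf (nat_lit 100876)))) (.node (.node (.node (.leaf (nat_lit 49409)) (.leaf
    (nat_lit 172288))) (.leaf (nat_lit 509455))) (.node (.node (.leaf (nat_lit 279558)) (.leaf
    (nat_lit 744207))) (.leaf (nat_lit 625159))))) (.node (.node (.node (.node (.leaf (nat_lit 15))
    (.leaf (nat_lit 776463))) (.leaf (nat_lit 203784))) (.node (.node (.leaf (nat_lit 216322))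
    (.leaf (nat_lit 865548))) (.leaf (nat_lit 575246)))) (.node (.node (.node (.leaf (nat_lit
    17669)) (.leaf (nat_lit 272902))) (.leaf (nat_lit 542472))) (.node (.leaf (nat_lit 70664))
    (.leaf (nat_lit 665857)))))) (.node (.node (.node (.node (.node (.leaf (nat_lit 8)) (.leaf
    (nat_lit 774408))) (.leaf (nat_lit 416004))) (.node (.node (.leaf (nat_lit 164360)) (.leaf
    (nat_lit 406277))) (.leaf (nat_lit 499975)))) (.node (.node (.node (.leaf (nat_lit 17412))
    (.leaf (nat_lit 221696))) (.leaf (nat_lit 532481))) (.node (.node (.leaf (nat_lit 86531))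
    (.leaf (nat_lit 39680))) (.leaf (nat_lit 657934))))) (.node (.node (.node (.node (.leaf
    (nat_lit 16647)) (.leaf (nat_lit 337664))) (.leaf (nat_lit 33290))) (.node (.node (.leaf
    (nat_lit 249857)) (.leaf (nat_lit 282890))) (.leaf (nat_lit 238598)))) (.node (.node (.node
    (.leaf (nat_lit 99841)) (.leaf (nat_lit 405511))) (.leaf (nat_lit 549121))) (.node (.leaf
    (nat_lit 377863)) (.leaf (nat_lit 568323))))))) (.node (.node (.node (.node (.node (.node
    (.leaf (nat_lit 5)) (.leaf (nat_lit 60928))) (.leaf (nat_lit 88328))) (.node (.node (.leaf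
    (nat_lit 133123)) (.leaf (nat_lit 455171))) (.leaf (nat_lit 34565)))) (.node (.node (.node
    (.leaf (nat_lit 50178)) (.leaf (nat_lit 34560))) (.leaf (nat_lit 139269))) (.node (.node (.leaf
    (nat_lit 70150)) (.leaf (nat_lit 699136))) (.leaf (nat_lit 641549))))) (.node (.node (.node
    (.node (.leaf (nat_lit 16652)) (.leaf (nat_lit 103693))) (.leaf (nat_lit 101132))) (.node
    (.node (.leaf (nat_lit 246286)) (.leaf (nat_lit 55296))) (.leaf (nat_lit 591631)))) (.node
    (.node (.node (.leaf (nat_lit 98568)) (.leaf (nat_lit 612875))) (.leaf (nat_lit 188678)))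
    (.node (.leaf (nat_lit 70921)) (.leaf (nat_lit 708103)))))) (.node (.node (.node (.node (.node
    (.leaf (nat_lit 13)) (.leaf (nat_lit 356102))) (.leaf (nat_lit 443659))) (.node (.node (.leaf
    (nat_lit 197130)) (.leaf (nat_lit 406536))) (.leaf (nat_lit 558860)))) (.node (.node (.node
    (.leaf (nat_lit 66315)) (.leaf (nat_lit 699392))) (.leaf (nat_lit 166401))) (.node (.node
    (.leaf (nat_lit 312071)) (.leaf (nat_lit 256))) (.leaf (nat_lit 674319))))) (.node (.node
    (.node (.node (.leaf (nat_lit 33284)) (.leaf (nat_lit 683783))) (.leaf (nat_lit 476685)))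
    (.node (.node (.leaf (nat_lit 86276)) (.leaf (nat_lit 451840))) (.leaf (nat_lit 608522))))
    (.node (.node (.node (.leaf (nat_lit 116484)) (.leaf (nat_lit 454916))) (.leaf (nat_lit
    166656))) (.node (.leaf (nat_lit 394250)) (.leaf (nat_lit 617743)))))))) (.node (.node (.node
    (.node (.node (.node (.node (.leaf (nat_lit 3)) (.leaf (nat_lit 283392))) (.leaf (nat_lit
    104710))) (.node (.node (.leaf (nat_lit 133121)) (.leaf (nat_lit 455169))) (.leaf (nat_lit
    116736)))) (.node (.node (.node (.leaf (nat_lit 65794)) (.leaf (nat_lit 501248))) (.leaf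
    (nat_lit 526085))) (.node (.node (.leaf (nat_lit 295686)) (.leaf (nat_lit 831751))) (.leaf
    (nat_lit 419340))))) (.node (.node (.node (.node (.leaf (nat_lit 16394)) (.leaf (nat_lit
    351488))) (.leaf (nat_lit 187392))) (.node (.node (.leaf (nat_lit 229901)) (.leaf (nat_lit
    71168))) (.leaf (nat_lit 221958)))) (.node (.node (.node (.leaf (nat_lit 83207)) (.leaf
    (nat_lit 748294))) (.leaf (nat_lit 172293))) (.node (.leaf (nat_lit 344841)) (.leaf (nat_lit
    691460)))))) (.node (.node (.node (.node (.node (.leaf (nat_lit 12)) (.leaf (nat_lit 339717)))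
    (.leaf (nat_lit 427274))) (.node (.node (.leaf (nat_lit 180745)) (.leaf (nat_lit 857608)))
    (.leaf (nat_lit 155144)))) (.node (.node (.node (.leaf (nat_lit 49412)) (.leaf (nat_lit
    271360))) (.leaf (nat_lit 172041))) (.node (.node (.leaf (nat_lit 283140)) (.leaf (nat_lit
    1280))) (.leaf (nat_lit 501772))))) (.node (.node (.node (.node (.leaf (nat_lit 32779)) (.leaf
    (nat_lit 349196))) (.leaf (nat_lit 216330))) (.node (.node (.leaf (nat_lit 279301)) (.leaf
    (nat_lit 88576))) (.leaf (nat_lit 216580)))) (.node (.node (.node (.leaf (nat_lit 115205))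
    (.leaf (nat_lit 807179))) (.leaf (nat_lit 547086))) (.node (.leaf (nat_lit 317186)) (.leaf
    (nat_lit 741383))))))) (.node (.node (.node (.node (.node (.node (.leaf (nat_lit 7)) (.leaf
    (nat_lit 279303))) (.leaf (nat_lit 411143))) (.node (.node (.leaf (nat_lit 147975)) (.leaf
    (nat_lit 841221))) (.leaf (nat_lit 542473)))) (.node (.node (.node (.leaf (nat_lit 66572))
    (.leaf (nat_lit 417292))) (.leaf (nat_lit 532484))) (.node (.node (.leaf (nat_lit 86529))
    (.leaf (nat_lit 273664))) (.leaf (nat_lit 485132))))) (.node (.node (.node (.node (.leaf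
    (nat_lit 16651)) (.leaf (nat_lit 644364))) (.leaf (nat_lit 35840))) (.node (.node (.leaf
    (nat_lit 262671)) (.leaf (nat_lit 290816))) (.leaf (nat_lit 582657)))) (.node (.node (.node
    (.leaf (nat_lit 17928)) (.leaf (nat_lit 790794))) (.leaf (nat_lit 139528))) (.node (.leaf
    (nat_lit 361226)) (.leaf (nat_lit 724997)))))) (.node (.node (.node (.node (.node (.leaf
    (nat_lit 14)) (.leaf (nat_lit 421634))) (.leaf (nat_lit 460300))) (.node (.node (.leaf (nat_lit
    213516)) (.leaf (nat_lit 873993))) (.leaf (nat_lit 254470)))) (.node (.node (.node (.leaf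
    (nat_lit 82181)) (.leaf (nat_lit 233478))) (.leaf (nat_lit 527113))) (.node (.node (.leaf
    (nat_lit 328456)) (.leaf (nat_lit 10))) (.leaf (nat_lit 518412))))) (.node (.node (.node (.node
    (.leaf (nat_lit 33281)) (.leaf (nat_lit 419840))) (.leaf (nat_lit 493070))) (.node (.node
    (.leaf (nat_lit 86274)) (.leaf (nat_lit 219911))) (.leaf (nat_lit 222471)))) (.node (.node
    (.node (.leaf (nat_lit 116481)) (.leaf (nat_lit 454914))) (.leaf (nat_lit 40960))) (.node
    (.leaf (nat_lit 410888)) (.leaf (nat_lit 758023)))))))))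

/-- Certificate data. -/
def p12_just : Trie :=
    (.node (.node (.node (.node (.node (.node (.node (.node (.leaf (nat_lit 1)) (.leaf (nat_lit
    121798396272115762))) (.leaf (nat_lit 58650694709870621))) (.node (.node (.leaf (nat_lit 0))
    (.leaf (nat_lit 0))) (.leaf (nat_lit 326267190771714)))) (.node (.node (.node (.leaf (nat_lit
    0)) (.leaf (nat_lit 262966601127755778))) (.leaf (nat_lit 0))) (.node (.node (.leaf (nat_lit
    107068415088459800)) (.leaf (nat_lit 557851827372034))) (.leaf (nat_lit 0))))) (.node (.node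
    (.node (.node (.leaf (nat_lit 1)) (.leaf (nat_lit 156431814774973792309))) (.leaf (nat_lit
    22446250284650370236449))) (.node (.node (.leaf (nat_lit 87888701757259797)) (.leaf (nat_lit
    98355783360728598380605))) (.leaf (nat_lit 0)))) (.node (.node (.node (.leaf (nat_lit
    5314972681820497575949)) (.leaf (nat_lit 544451529408514))) (.leaf (nat_lit 0))) (.node (.leaf
    (nat_lit 109410679798300687)) (.leaf (nat_lit 261588028294889494)))))) (.node (.node (.node
    (.node (.node (.leaf (nat_lit 1)) (.leaf (nat_lit 0))) (.leaf (nat_lit 147618790467895313)))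
    (.node (.node (.leaf (nat_lit 0)) (.leaf (nat_lit 36654358529293020364813))) (.leaf (nat_lit
    178189856579715112)))) (.node (.node (.node (.leaf (nat_lit 5314392843316934017034)) (.leaf
    (nat_lit 88463187992838146))) (.leaf (nat_lit 182528426383704082))) (.node (.node (.leaf
    (nat_lit 55242088404680724)) (.leaf (nat_lit 98742054049480706))) (.leaf (nat_lit 0))))) (.node
    (.node (.node (.node (.leaf (nat_lit 2723332031451972132798469)) (.leaf (nat_lit
    78666285951551080300599))) (.leaf (nat_lit 169973330870274))) (.node (.node (.leaf (nat_lit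
    94641936534798358)) (.leaf (nat_lit 685369406390274))) (.leaf (nat_lit 92454449561403435))))
    (.node (.node (.node (.leaf (nat_lit 31744838265309757456)) (.leaf (nat_lit
    18749916990932390867501061))) (.leaf (nat_lit 105566777380643799056))) (.node (.leaf (nat_lit
    0)) (.leaf (nat_lit 233255855620030512))))))) (.node (.node (.node (.node (.node (.node (.leaf
    (nat_lit 1)) (.leaf (nat_lit 123293732085891074))) (.leaf (nat_lit 143277909971501087))) (.node
    (.node (.leaf (nat_lit 72126042931920916)) (.leaf (nat_lit 157851666014732348))) (.leaf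
    (nat_lit 143774030364674)))) (.node (.node (.node (.leaf (nat_lit 70519068164104)) (.leaf
    (nat_lit 82824767811551234))) (.leaf (nat_lit 72188036489871396))) (.node (.node (.leaf
    (nat_lit 109410628258693145)) (.leaf (nat_lit 9613735460120479074660142022720))) (.leaf
    (nat_lit 0))))) (.node (.node (.node (.node (.leaf (nat_lit 20290469183553539)) (.leaf (nat_lit
    346427767259138))) (.leaf (nat_lit 315091685867522))) (.node (.node (.leaf (nat_lit 0)) (.leaf
    (nat_lit 134728094669012994))) (.leaf (nat_lit 0)))) (.node (.node (.node (.leaf (nat_lit 0))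
    (.leaf (nat_lit 65049316644962525577220))) (.leaf (nat_lit 197389485674266654))) (.node (.leaf
    (nat_lit 112805988884742171)) (.leaf (nat_lit 0)))))) (.node (.node (.node (.node (.node (.leaf
    (nat_lit 1)) (.leaf (nat_lit 131944732522905630))) (.leaf (nat_lit 0))) (.node (.node (.leaf
    (nat_lit 0)) (.leaf (nat_lit 370013472660062223))) (.leaf (nat_lit 0)))) (.node (.node (.node
    (.leaf (nat_lit 38329160028061708)) (.leaf (nat_lit 273119753491644418))) (.leaf (nat_lit
    98187847047254900752))) (.node (.node (.leaf (nat_lit 0)) (.leaf (nat_lit 6425743521415170)))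
    (.leaf (nat_lit 0))))) (.node (.node (.node (.node (.leaf (nat_lit 29275712565477382)) (.leaf
    (nat_lit 137954561826278867000))) (.leaf (nat_lit 0))) (.node (.node (.leaf (nat_lit
    51864354324414481)) (.leaf (nat_lit 158388176149479426))) (.leaf (nat_lit 0)))) (.node (.node
    (.node (.leaf (nat_lit 65370617721061393)) (.leaf (nat_lit 157834048058884102))) (.leaf
    (nat_lit 102819715602337497127))) (.node (.leaf (nat_lit 0)) (.leaf (nat_lit
    128638760349457449009)))))))) (.node (.node (.node (.node (.node (.node (.node (.leaf (nat_lit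
    1)) (.leaf (nat_lit 35100337480080657036472414632908390900059956248627))) (.leaf (nat_lit
    58652893733126174))) (.node (.node (.leaf (nat_lit 72121644885409811)) (.leaf (nat_lit
    157856064061243399))) (.leaf (nat_lit 183941977430228994)))) (.node (.node (.node (.leaf
    (nat_lit 0)) (.leaf (nat_lit 264092668538322946))) (.leaf (nat_lit 0))) (.node (.node (.leaf
    (nat_lit 0)) (.leaf (nat_lit 95535201940005951176761))) (.leaf (nat_lit 151293766349815852)))))
    (.node (.node (.node (.node (.leaf (nat_lit 0)) (.leaf (nat_lit 154798015138335293494))) (.leaf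
    (nat_lit 201858061703674914571635330818910446157858))) (.node (.node (.leaf (nat_lit 0)) (.leaf
    (nat_lit 342051077701837976696848403722539216142398))) (.leaf (nat_lit 87950832754163754))))
    (.node (.node (.node (.leaf (nat_lit 51844378431520782)) (.leaf (nat_lit 282142333024272442)))
    (.leaf (nat_lit 81195295874154525))) (.node (.leaf (nat_lit 0)) (.leaf (nat_lit 0)))))) (.node
    (.node (.node (.node (.node (.leaf (nat_lit 1)) (.leaf (nat_lit 124050239035473949))) (.leaf
    (nat_lit 0))) (.node (.node (.leaf (nat_lit 0)) (.leaf (nat_lit 0))) (.leaf (nat_lit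
    40573367511897341993)))) (.node (.node (.node (.leaf (nat_lit 36116903978270731)) (.leaf
    (nat_lit 97470421607317506))) (.leaf (nat_lit 81195235744612389))) (.node (.node (.leaf
    (nat_lit 108168180119306266)) (.leaf (nat_lit 31191547152367618))) (.leaf (nat_lit
    178315398473777198))))) (.node (.node (.node (.node (.leaf (nat_lit 0)) (.leaf (nat_lit
    614734374240258))) (.leaf (nat_lit 88154783571181603))) (.node (.node (.leaf (nat_lit 0))
    (.leaf (nat_lit 15445583448011991629037631))) (.leaf (nat_lit 236910503421739034)))) (.node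
    (.node (.node (.leaf (nat_lit 0)) (.leaf (nat_lit 0))) (.leaf (nat_lit 204116095949537318)))
    (.node (.leaf (nat_lit 31894448728426991124508)) (.leaf (nat_lit 0))))))) (.node (.node (.node
    (.node (.node (.node (.leaf (nat_lit 1)) (.leaf (nat_lit 561871916761090))) (.leaf (nat_lit
    72691755515484831776))) (.node (.node (.leaf (nat_lit 0)) (.leaf (nat_lit 0))) (.leaf (nat_lit
    403258774519810)))) (.node (.node (.node (.leaf (nat_lit 38326926645067785)) (.leaf (nat_lit
    498229091368962))) (.leaf (nat_lit 182535023453470737))) (.node (.node (.leaf (nat_lit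
    55264078637236243)) (.leaf (nat_lit 343057742514290690))) (.leaf (nat_lit
    176063581480222765))))) (.node (.node (.node (.node (.leaf (nat_lit 5317286384018567528452))
    (.leaf (nat_lit 509155488169986))) (.leaf (nat_lit 84764173178961922))) (.node (.node (.leaf
    (nat_lit 0)) (.leaf (nat_lit 295734783529648130))) (.leaf (nat_lit 234324434893340694))))
    (.node (.node (.node (.leaf (nat_lit 54144578231664655)) (.leaf (nat_lit 0))) (.leaf (nat_lit
    185004586698997775))) (.node (.leaf (nat_lit 0)) (.leaf (nat_lit 0)))))) (.node (.node (.node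
    (.node (.node (.leaf (nat_lit 1)) (.leaf (nat_lit 79117194300183806004))) (.leaf (nat_lit 0)))
    (.node (.node (.leaf (nat_lit 0)) (.leaf (nat_lit 0))) (.leaf (nat_lit 94706215015350311))))
    (.node (.node (.node (.leaf (nat_lit 0)) (.leaf (nat_lit 476273218551810))) (.leaf (nat_lit
    185914544240132123))) (.node (.node (.leaf (nat_lit 0)) (.leaf (nat_lit 43349105049602)))
    (.leaf (nat_lit 180567215467331631))))) (.node (.node (.node (.node (.leaf (nat_lit
    29277911588732935)) (.leaf (nat_lit 20266409035962554312425529))) (.leaf (nat_lit 0))) (.node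
    (.node (.leaf (nat_lit 51886344556970007)) (.leaf (nat_lit 489682106449922))) (.leaf (nat_lit
    23446072343404155687534597)))) (.node (.node (.node (.leaf (nat_lit 65364020651294738)) (.leaf
    (nat_lit 157829650012373051))) (.leaf (nat_lit 84858838553133058))) (.node (.leaf (nat_lit 0))
    (.leaf (nat_lit 0)))))))))

/-- Certificate data. -/
def p12_rel : Trie :=
    (.node (.node (.node (.node (.node (.node (.leaf (nat_lit 0)) (.leaf (nat_lit
    3723538914965537180174780937))) (.node (.leaf (nat_lit 100926722)) (.leaf (nat_lit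
    117835526)))) (.node (.node (.leaf (nat_lit 1142495119875)) (.leaf (nat_lit 235277317))) (.node
    (.leaf (nat_lit 83953155)) (.leaf (nat_lit 117769989))))) (.node (.node (.node (.leaf (nat_lit
    184683267)) (.leaf (nat_lit 101451022))) (.node (.leaf (nat_lit 251727362)) (.leaf (nat_lit
    218435334)))) (.node (.node (.leaf (nat_lit 84346119)) (.leaf (nat_lit 235671052))) (.node
    (.leaf (nat_lit 151324677)) (.leaf (nat_lit 2799910162278689748133087242)))))) (.node (.node
    (.node (.node (.leaf (nat_lit 11033972836875)) (.leaf (nat_lit 101058054))) (.node (.leaf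
    (nat_lit 84018692)) (.leaf (nat_lit 38688785153)))) (.node (.node (.leaf (nat_lit 51053067))
    (.leaf (nat_lit 118228748))) (.node (.leaf (nat_lit 7700993869569)) (.leaf (nat_lit
    184617732))))) (.node (.node (.node (.leaf (nat_lit 65793)) (.leaf (nat_lit 235343367))) (.node
    (.leaf (nat_lit 67502341)) (.leaf (nat_lit 64542936071)))) (.node (.node (.leaf (nat_lit
    34410137858)) (.leaf (nat_lit 100730116))) (.node (.leaf (nat_lit 25921259527)) (.leaf (nat_lit
    505536772051306244))))))) (.node (.node (.node (.node (.node (.leaf (nat_lit 168561164)) (.leaf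
    (nat_lit 201985034))) (.node (.leaf (nat_lit 84084226)) (.leaf (nat_lit
    36387120366767566187149146540409350)))) (.node (.node (.leaf (nat_lit 33816835)) (.leaf
    (nat_lit 252054789))) (.node (.leaf (nat_lit 134612488)) (.leaf (nat_lit 184814337))))) (.node
    (.node (.node (.leaf (nat_lit 184748802)) (.leaf (nat_lit 201723397))) (.node (.leaf (nat_lit
    100861185)) (.leaf (nat_lit 51758108421)))) (.node (.node (.leaf (nat_lit 151323913)) (.leaf
    (nat_lit 252448524))) (.node (.leaf (nat_lit 84216073)) (.leaf (nat_lit 11003773977345))))))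
    (.node (.node (.node (.node (.leaf (nat_lit 2822467908012551)) (.leaf (nat_lit 101058568)))
    (.node (.leaf (nat_lit 201460737)) (.leaf (nat_lit 60164014351)))) (.node (.node (.leaf
    (nat_lit 6640103655942)) (.leaf (nat_lit 218893580))) (.node (.leaf (nat_lit 151390214)) (.leaf
    (nat_lit 8839227902220))))) (.node (.node (.node (.leaf (nat_lit 17564172)) (.leaf (nat_lit
    30199318281))) (.node (.leaf (nat_lit 84215045)) (.leaf (nat_lit 2229122040327)))) (.node
    (.node (.leaf (nat_lit 100795651)) (.leaf (nat_lit 30317217551))) (.leaf (nat_lit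
    13228667767305)))))))

/-- Certificate data. -/
def p12_rc : Trie :=
    (.node (.node (.node (.node (.node (.node (.leaf (nat_lit 98)) (.leaf (nat_lit 393308))) (.node
    (.leaf (nat_lit 7)) (.leaf (nat_lit 13)))) (.node (.node (.leaf (nat_lit 262222)) (.leaf
    (nat_lit 48))) (.node (.leaf (nat_lit 131078)) (.leaf (nat_lit 131084))))) (.node (.node (.node
    (.leaf (nat_lit 97)) (.leaf (nat_lit 393264))) (.node (.leaf (nat_lit 262190)) (.leaf (nat_lit
    262194)))) (.node (.node (.leaf (nat_lit 12)) (.leaf (nat_lit 30))) (.node (.leaf (nat_lit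
    393282)) (.leaf (nat_lit 92)))))) (.node (.node (.node (.node (.leaf (nat_lit 655450)) (.leaf
    (nat_lit 3))) (.node (.leaf (nat_lit 262151)) (.leaf (nat_lit 65)))) (.node (.node (.leaf
    (nat_lit 131169)) (.leaf (nat_lit 131128))) (.node (.leaf (nat_lit 131086)) (.leaf (nat_lit
    393312))))) (.node (.node (.node (.leaf (nat_lit 0)) (.leaf (nat_lit 60))) (.node (.leaf
    (nat_lit 4)) (.leaf (nat_lit 524351)))) (.node (.node (.leaf (nat_lit 393281)) (.leaf (nat_lit
    393220))) (.node (.leaf (nat_lit 131143)) (.leaf (nat_lit 17))))))) (.node (.node (.node (.node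
    (.node (.leaf (nat_lit 131152)) (.leaf (nat_lit 80))) (.node (.leaf (nat_lit 262149)) (.leaf
    (nat_lit 19)))) (.node (.node (.leaf (nat_lit 9)) (.leaf (nat_lit 50))) (.node (.leaf (nat_lit
    131140)) (.leaf (nat_lit 131168))))) (.node (.node (.node (.leaf (nat_lit 262241)) (.leaf
    (nat_lit 52))) (.node (.leaf (nat_lit 393222)) (.leaf (nat_lit 54)))) (.node (.node (.leaf
    (nat_lit 393285)) (.leaf (nat_lit 32))) (.node (.leaf (nat_lit 262213)) (.leaf (nat_lit
    131150)))))) (.node (.node (.node (.node (.leaf (nat_lit 655455)) (.leaf (nat_lit 68))) (.node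
    (.leaf (nat_lit 40)) (.leaf (nat_lit 131117)))) (.node (.node (.leaf (nat_lit 655436)) (.leaf
    (nat_lit 28))) (.node (.leaf (nat_lit 67)) (.leaf (nat_lit 262234))))) (.node (.node (.node
    (.leaf (nat_lit 131112)) (.leaf (nat_lit 262214))) (.node (.leaf (nat_lit 2)) (.leaf (nat_lit
    131087)))) (.node (.node (.leaf (nat_lit 5)) (.leaf (nat_lit 393279))) (.leaf (nat_lit
    393306)))))))

/-- Certificate data. -/
def p12_lv : Trie :=
    (.leaf (nat_lit 0))

/-- Certificate data. -/
def p12_tb : Trie :=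
    (.node (.node (.node (.node (.leaf (nat_lit 0)) (.leaf (nat_lit 17))) (.leaf (nat_lit 8)))
    (.node (.leaf (nat_lit 4)) (.leaf (nat_lit 13)))) (.node (.node (.node (.leaf (nat_lit 2))
    (.leaf (nat_lit 367))) (.leaf (nat_lit 11))) (.node (.leaf (nat_lit 7)) (.leaf (nat_lit 15)))))

/-- Certificate data. -/
def p12_C : TC.Cert := ⟨6, 63, 9, 511, 20011376718272485634933414101046592000, 62462, p12_par, p12_fact, p12_just, p12_rel, 63⟩

/-- Certificate data. -/
def p12_rs : List (List ℕ) := [[1, 1, 1], [5, 5, 5, 5], [5, 1, 6, 4], [5, 3, 6, 1], [1, 3, 2, 4], [7, 7], [7, 5, 7, 5], [7, 1, 7, 1, 7, 1], [7, 3, 7, 3, 7, 3, 7, 3], [7, 1, 5, 7, 1, 5, 7, 1, 5, 7, 1, 5, 7, 1, 5], [12, 12], [13, 13], [14, 14], [15, 15], [12, 13, 12, 13], [12, 14, 12, 14], [12, 15, 12, 15], [13, 14, 13, 14], [13, 15, 13, 15], [14, 15, 14, 15], [1, 12, 2, 12], [1, 13, 2, 13], [1, 14, 2, 15, 14], [1, 15, 2, 14], [5, 12, 6, 14], [5, 13, 6, 15], [5, 14, 6, 12], [5, 15, 6, 13, 12], [7, 12, 7, 12], [7, 13, 7, 14, 13, 12], [7, 14,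 7, 14], [7, 15, 7, 15, 12], [8, 1, 9, 4, 2], [8, 5, 9, 5], [8, 8, 6, 6], [8, 7, 9, 7, 5], [8, 12, 14, 9, 12, 14, 8, 12, 14, 9, 12, 14, 6, 6], [10, 10], [10, 5, 5, 10, 6, 6], [10, 1, 3, 10, 4, 2], [10, 12, 10, 12], [10, 13, 10, 13], [10, 14, 10, 14, 12], [10, 15, 10, 15, 13, 12], [11, 11], [10, 8, 12, 9, 10, 11], [10, 8, 12, 9, 10, 8, 12, 9, 10, 8, 12, 9], [10, 7, 10, 7, 6, 6, 12], [11, 1, 11, 4]]

/-- Certificate data. -/
def p12_gl : List ℕ := [1, 259, 517, 775, 1032, 1292, 1549, 1806, 2063, 2314]

theorem p12_h1 : allB p12_C.factChk 184 = true := by decide +kernel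

theorem p12_h2 : p12_C.finChk 184 1 p12_lv p12_tb p12_gl = true := by decide +kernel

theorem p12_h3 : TC.relChk p12_C.ivc p12_rs p12_C.rel p12_rc p12_C.nrel = true := by decide +kernel

theorem p12_bound {G : Type*} [Group G] {x y w u q f s a b c d : G}
    (r0 : x * x * x = 1)
    (r1 : w * w * w * w = 1)
    (r2 : w * x * w⁻¹ * y⁻¹ = 1)
    (r3 : w * y * w⁻¹ * x = 1)
    (r4 : x * y * x⁻¹ * y⁻¹ = 1)
    (r5 : u * u = 1)
    (r6 : u * w * u * w = 1)
    (r7 : u * x * u * x * u * x = 1)
    (r8 : u * y * u * y * u * y * u * y = 1)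
    (r9 : u * x * w * u * x * w * u * x * w * u * x * w * u * x * w = 1)
    (r10 : a * a = 1)
    (r11 : b * b = 1)
    (r12 : c * c = 1)
    (r13 : d * d = 1)
    (r14 : a * b * a * b = 1)
    (r15 : a * c * a * c = 1)
    (r16 : a * d * a * d = 1)
    (r17 : b * c * b * c = 1)
    (r18 : b * d * b * d = 1)
    (r19 : c * d * c * d = 1)
    (r20 : x * a * x⁻¹ * a = 1)
    (r21 : x * b * x⁻¹ * b = 1)
    (r22 : x * c * x⁻¹ * d * c = 1)
    (r23 : x * d * x⁻¹ * c = 1)
    (r24 : w * a * w⁻¹ * c = 1)
    (r25 : w * b * w⁻¹ * d = 1)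
    (r26 : w * c * w⁻¹ * a = 1)
    (r27 : w * d * w⁻¹ * b * a = 1)
    (r28 : u * a * u * a = 1)
    (r29 : u * b * u * c * b * a = 1)
    (r30 : u * c * u * c = 1)
    (r31 : u * d * u * d * a = 1)
    (r32 : q * x * q⁻¹ * y⁻¹ * x⁻¹ = 1)
    (r33 : q * w * q⁻¹ * w = 1)
    (r34 : q * q * w⁻¹ * w⁻¹ = 1)
    (r35 : q * u * q⁻¹ * u * w = 1)
    (r36 : q * a * c * q⁻¹ * a * c * q * a * c * q⁻¹ * a * c * w⁻¹ * w⁻¹ = 1)
    (r37 : f * f = 1)
    (r38 : f * w * w * f * w⁻¹ * w⁻¹ = 1)
    (r39 : f * x * y * f * y⁻¹ * x⁻¹ = 1)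
    (r40 : f * a * f * a = 1)
    (r41 : f * b * f * b = 1)
    (r42 : f * c * f * c * a = 1)
    (r43 : f * d * f * d * b * a = 1)
    (r44 : s * s = 1)
    (r45 : f * q * a * q⁻¹ * f * s = 1)
    (r46 : f * q * a * q⁻¹ * f * q * a * q⁻¹ * f * q * a * q⁻¹ = 1)
    (r47 : f * u * f * u * w⁻¹ * w⁻¹ * a = 1)
    (r48 : s * x * s * y⁻¹ = 1)
    (H : Subgroup G) [Finite H] (m1 : x ∈ H) (m3 : y ∈ H) (m5 : w ∈ H) (m7 : u ∈ H) (m8 : q ∈ H) (m12 : a ∈ H) (m13 : b ∈ H) (m14 : c ∈ H) (m15 : d ∈ H) :
    Finite (Subgroup.closure ({x, y, w, u, q, a, b, c, d, f} : Set G)) ∧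
      Nat.card (Subgroup.closure ({x, y, w, u, q, a, b, c, d, f} : Set G)) ≤ 1 * Nat.card H := by
  have hL : TC.Lett (TC.lett [x, x⁻¹, y, y⁻¹, w, w⁻¹, u, q, q⁻¹, f, s, a, b, c, d]) p12_C.ivc :=
    TC.lett_ok (show Nat.shiftRight p12_C.ivc (8 * 16) = 0 by decide +kernel) (by
      intro a ha
      change a < 16 at ha
      interval_cases a
      · exact inv_one.symm
      · rfl
      · exact (inv_inv _).symm
      · rfl
      · exact (inv_inv _).symm
      · rfl
      · exact (inv_inv _).symm
      · exact (inv_eq_of_mul_eq_one_right r5).symm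
      · rfl
      · exact (inv_inv _).symm
      · exact (inv_eq_of_mul_eq_one_right r37).symm
      · exact (inv_eq_of_mul_eq_one_right r44).symm
      · exact (inv_eq_of_mul_eq_one_right r10).symm
      · exact (inv_eq_of_mul_eq_one_right r11).symm
      · exact (inv_eq_of_mul_eq_one_right r12).symm
      · exact (inv_eq_of_mul_eq_one_right r13).symm)
  have h := TC.card_le p12_h1 p12_h2 p12_h3 (by decide) hL (by
    simp only [p12_rs, List.forall_mem_cons]
    refine ⟨?_, ?_, ?_, ?_, ?_, ?_, ?_, ?_, ?_, ?_, ?_, ?_, ?_, ?_, ?_, ?_, ?_, ?_, ?_, ?_, ?_, ?_,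
    ?_, ?_, ?_, ?_, ?_, ?_, ?_, ?_, ?_, ?_, ?_, ?_, ?_, ?_, ?_, ?_, ?_, ?_, ?_, ?_, ?_, ?_, ?_, ?_,
    ?_, ?_, ?_, List.forall_mem_nil _⟩
    · show x * (x * (x * 1)) = 1
      simp only [mul_assoc, mul_one] at r0 ⊢
      exact r0
    · show w * (w * (w * (w * 1))) = 1
      simp only [mul_assoc, mul_one] at r1 ⊢
      exact r1
    · show w * (x * (w⁻¹ * (y⁻¹ * 1))) = 1
      simp only [mul_assoc, mul_one] at r2 ⊢
      exact r2
    · show w * (y * (w⁻¹ * (x * 1))) = 1
      simp only [mul_assoc, mul_one] at r3 ⊢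
      exact r3
    · show x * (y * (x⁻¹ * (y⁻¹ * 1))) = 1
      simp only [mul_assoc, mul_one] at r4 ⊢
      exact r4
    · show u * (u * 1) = 1
      simp only [mul_one] at r5 ⊢
      exact r5
    · show u * (w * (u * (w * 1))) = 1
      simp only [mul_assoc, mul_one] at r6 ⊢
      exact r6
    · show u * (x * (u * (x * (u * (x * 1))))) = 1
      simp only [mul_assoc, mul_one] at r7 ⊢
      exact r7
    · show u * (y * (u * (y * (u * (y * (u * (y * 1))))))) = 1
      simp only [mul_assoc, mul_one] at r8 ⊢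
      exact r8
    · show u * (x * (w * (u * (x * (w * (u * (x * (w * (u * (x * (w * (u * (x * (w *
    1)))))))))))))) = 1
      simp only [mul_assoc, mul_one] at r9 ⊢
      exact r9
    · show a * (a * 1) = 1
      simp only [mul_one] at r10 ⊢
      exact r10
    · show b * (b * 1) = 1
      simp only [mul_one] at r11 ⊢
      exact r11
    · show c * (c * 1) = 1
      simp only [mul_one] at r12 ⊢
      exact r12
    · show d * (d * 1) = 1
      simp only [mul_one] at r13 ⊢
      exact r13
    · show a * (b * (a * (b * 1))) = 1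
      simp only [mul_assoc, mul_one] at r14 ⊢
      exact r14
    · show a * (c * (a * (c * 1))) = 1
      simp only [mul_assoc, mul_one] at r15 ⊢
      exact r15
    · show a * (d * (a * (d * 1))) = 1
      simp only [mul_assoc, mul_one] at r16 ⊢
      exact r16
    · show b * (c * (b * (c * 1))) = 1
      simp only [mul_assoc, mul_one] at r17 ⊢
      exact r17
    · show b * (d * (b * (d * 1))) = 1
      simp only [mul_assoc, mul_one] at r18 ⊢
      exact r18
    · show c * (d * (c * (d * 1))) = 1
      simp only [mul_assoc, mul_one] at r19 ⊢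
      exact r19
    · show x * (a * (x⁻¹ * (a * 1))) = 1
      simp only [mul_assoc, mul_one] at r20 ⊢
      exact r20
    · show x * (b * (x⁻¹ * (b * 1))) = 1
      simp only [mul_assoc, mul_one] at r21 ⊢
      exact r21
    · show x * (c * (x⁻¹ * (d * (c * 1)))) = 1
      simp only [mul_assoc, mul_one] at r22 ⊢
      exact r22
    · show x * (d * (x⁻¹ * (c * 1))) = 1
      simp only [mul_assoc, mul_one] at r23 ⊢
      exact r23
    · show w * (a * (w⁻¹ * (c * 1))) = 1
      simp only [mul_assoc, mul_one] at r24 ⊢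
      exact r24
    · show w * (b * (w⁻¹ * (d * 1))) = 1
      simp only [mul_assoc, mul_one] at r25 ⊢
      exact r25
    · show w * (c * (w⁻¹ * (a * 1))) = 1
      simp only [mul_assoc, mul_one] at r26 ⊢
      exact r26
    · show w * (d * (w⁻¹ * (b * (a * 1)))) = 1
      simp only [mul_assoc, mul_one] at r27 ⊢
      exact r27
    · show u * (a * (u * (a * 1))) = 1
      simp only [mul_assoc, mul_one] at r28 ⊢
      exact r28
    · show u * (b * (u * (c * (b * (a * 1))))) = 1
      simp only [mul_assoc, mul_one] at r29 ⊢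
      exact r29
    · show u * (c * (u * (c * 1))) = 1
      simp only [mul_assoc, mul_one] at r30 ⊢
      exact r30
    · show u * (d * (u * (d * (a * 1)))) = 1
      simp only [mul_assoc, mul_one] at r31 ⊢
      exact r31
    · show q * (x * (q⁻¹ * (y⁻¹ * (x⁻¹ * 1)))) = 1
      simp only [mul_assoc, mul_one] at r32 ⊢
      exact r32
    · show q * (w * (q⁻¹ * (w * 1))) = 1
      simp only [mul_assoc, mul_one] at r33 ⊢
      exact r33
    · show q * (q * (w⁻¹ * (w⁻¹ * 1))) = 1
      simp only [mul_assoc, mul_one] at r34 ⊢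
      exact r34
    · show q * (u * (q⁻¹ * (u * (w * 1)))) = 1
      simp only [mul_assoc, mul_one] at r35 ⊢
      exact r35
    · show q * (a * (c * (q⁻¹ * (a * (c * (q * (a * (c * (q⁻¹ * (a * (c * (w⁻¹ * (w⁻¹ *
    1))))))))))))) = 1
      simp only [mul_assoc, mul_one] at r36 ⊢
      exact r36
    · show f * (f * 1) = 1
      simp only [mul_one] at r37 ⊢
      exact r37
    · show f * (w * (w * (f * (w⁻¹ * (w⁻¹ * 1))))) = 1
      simp only [mul_assoc, mul_one] at r38 ⊢
      exact r38
    · show f * (x * (y * (f * (y⁻¹ * (x⁻¹ * 1))))) = 1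
      simp only [mul_assoc, mul_one] at r39 ⊢
      exact r39
    · show f * (a * (f * (a * 1))) = 1
      simp only [mul_assoc, mul_one] at r40 ⊢
      exact r40
    · show f * (b * (f * (b * 1))) = 1
      simp only [mul_assoc, mul_one] at r41 ⊢
      exact r41
    · show f * (c * (f * (c * (a * 1)))) = 1
      simp only [mul_assoc, mul_one] at r42 ⊢
      exact r42
    · show f * (d * (f * (d * (b * (a * 1))))) = 1
      simp only [mul_assoc, mul_one] at r43 ⊢
      exact r43
    · show s * (s * 1) = 1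
      simp only [mul_one] at r44 ⊢
      exact r44
    · show f * (q * (a * (q⁻¹ * (f * (s * 1))))) = 1
      simp only [mul_assoc, mul_one] at r45 ⊢
      exact r45
    · show f * (q * (a * (q⁻¹ * (f * (q * (a * (q⁻¹ * (f * (q * (a * (q⁻¹ * 1))))))))))) = 1
      simp only [mul_assoc, mul_one] at r46 ⊢
      exact r46
    · show f * (u * (f * (u * (w⁻¹ * (w⁻¹ * (a * 1)))))) = 1
      simp only [mul_assoc, mul_one] at r47 ⊢
      exact r47
    · show s * (x * (s * (y⁻¹ * 1))) = 1
      simp only [mul_assoc, mul_one] at r48 ⊢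
      exact r48) H
    (TC.forall_subs (K := 16) (by decide +kernel) (by
      intro a ha hb
      interval_cases a
      · exact absurd hb (by decide +kernel)
      · exact m1
      · exact H.inv_mem m1
      · exact m3
      · exact H.inv_mem m3
      · exact m5
      · exact H.inv_mem m5
      · exact m7
      · exact m8
      · exact H.inv_mem m8
      · exact absurd hb (by decide +kernel)
      · exact absurd hb (by decide +kernel)
      · exact m12
      · exact m13
      · exact m14
      · exact m15))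
  have e : {g₀ | ∃ ak ∈ p12_gl, TC.lett [x, x⁻¹, y, y⁻¹, w, w⁻¹, u, q, q⁻¹, f, s, a, b, c, d] (ak % 256) = g₀} =
      {x, y, w, u, q, a, b, c, d, f} := by
    ext g₀
    simp only [p12_gl, List.mem_cons, List.not_mem_nil, or_false, exists_eq_or_imp,
      exists_eq_left, Set.mem_ofPred_eq, Set.mem_insert_iff, Set.mem_singleton_iff]
    exact or_congr eq_comm (or_congr eq_comm (or_congr eq_comm (or_congr eq_comm (or_congr eq_comm (or_congr eq_comm (or_congr eq_comm (or_congr eq_comm (or_congr eq_comm (eq_comm)))))))))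
  rw [e] at h
  exact h

theorem p12_card {G : Type*} [Group G] {x y w u q f s a b c d : G}
    (e0 : x ^ 3 = 1)
    (e1 : w ^ 4 = 1)
    (e2 : w * x * w⁻¹ = y)
    (e3 : w * y * w⁻¹ = x⁻¹)
    (e4 : x * y = y * x)
    (e5 : u * u = 1)
    (e6 : u * w * u = w⁻¹)
    (e7 : (u * x) ^ 3 = 1)
    (e8 : (u * y) ^ 4 = 1)
    (e9 : (u * x * w) ^ 5 = 1)
    (e10 : a * a = 1)
    (e11 : b * b = 1)
    (e12 : c * c = 1)
    (e13 : d * d = 1)
    (e14 : a * b = b * a)
    (e15 : a * c = c * a)
    (e16 : a * d = d * a)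
    (e17 : b * c = c * b)
    (e18 : b * d = d * b)
    (e19 : c * d = d * c)
    (e20 : x * a * x⁻¹ = a)
    (e21 : x * b * x⁻¹ = b)
    (e22 : x * c * x⁻¹ = c * d)
    (e23 : x * d * x⁻¹ = c)
    (e24 : w * a * w⁻¹ = c)
    (e25 : w * b * w⁻¹ = d)
    (e26 : w * c * w⁻¹ = a)
    (e27 : w * d * w⁻¹ = a * b)
    (e28 : u * a * u = a)
    (e29 : u * b * u = a * b * c)
    (e30 : u * c * u = c)
    (e31 : u * d * u = a * d)
    (e32 : q * x * q⁻¹ = x * y)
    (e33 : q * w * q⁻¹ = w⁻¹)
    (e34 : q * q = w * w)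
    (e35 : q * u * q⁻¹ = w⁻¹ * u)
    (e36 : (q * (a * c) * q⁻¹ * (a * c)) ^ 2 = w * w)
    (e37 : f * f = 1)
    (e38 : f * (w * w) = w * w * f)
    (e39 : f * (x * y) = x * y * f)
    (e40 : f * a * f = a)
    (e41 : f * b * f = b)
    (e42 : f * c * f = a * c)
    (e43 : f * d * f = a * b * d)
    (e44 : s * s = 1)
    (e45 : f * (q * a * q⁻¹) * f = s)
    (e46 : (f * (q * a * q⁻¹)) ^ 3 = 1)
    (e47 : f * u * f = a * (w * w * u))
    (e48 : s * x * s = y)
    (H : Subgroup G) [Finite H] (mx : x ∈ H) (my : y ∈ H) (mw : w ∈ H) (mu : u ∈ H) (mq : q ∈ H) (ma : a ∈ H) (mb : b ∈ H) (mc : c ∈ H) (md : d ∈ H) :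
    Finite (Subgroup.closure ({x, y, w, u, q, a, b, c, d, f} : Set G)) ∧
      Nat.card (Subgroup.closure ({x, y, w, u, q, a, b, c, d, f} : Set G)) ≤ 1 * Nat.card H := by
  have iu : u⁻¹ = u := inv_eq_of_mul_eq_one_right e5
  have jf : f⁻¹ = f := inv_eq_of_mul_eq_one_right e37
  have is : s⁻¹ = s := inv_eq_of_mul_eq_one_right e44
  have ia : a⁻¹ = a := inv_eq_of_mul_eq_one_right e10
  have ib : b⁻¹ = b := inv_eq_of_mul_eq_one_right e11
  have ic : c⁻¹ = c := inv_eq_of_mul_eq_one_right e12
  have id : d⁻¹ = d := inv_eq_of_mul_eq_one_right e13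
  refine p12_bound (s := s) ?_ ?_ ?_ ?_ ?_ ?_ ?_ ?_ ?_ ?_ ?_ ?_ ?_ ?_ ?_ ?_ ?_ ?_ ?_ ?_ ?_ ?_ ?_ ?_ ?_ ?_ ?_ ?_ ?_ ?_ ?_ ?_ ?_ ?_ ?_ ?_ ?_ ?_ ?_ ?_ ?_ ?_ ?_ ?_ ?_ ?_ ?_ ?_ ?_ H mx my mw mu mq ma mb mc md
  · have h := mul_inv_eq_one.mpr e0
    simp only [pow_succ, pow_zero, mul_inv_rev, inv_inv, inv_one, one_mul, mul_one, mul_assoc,
      mul_inv_cancel_left, inv_mul_cancel_left, mul_inv_cancel, inv_mul_cancel, iu, jf, is, ia, ib, ic, id] at h ⊢
    exact h
  · have h := mul_inv_eq_one.mpr e1
    simp only [pow_succ, pow_zero, mul_inv_rev, inv_inv, inv_one, one_mul, mul_one, mul_assoc,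
      mul_inv_cancel_left, inv_mul_cancel_left, mul_inv_cancel, inv_mul_cancel, iu, jf, is, ia, ib, ic, id] at h ⊢
    exact h
  · have h := mul_inv_eq_one.mpr e2
    simp only [pow_succ, pow_zero, mul_inv_rev, inv_inv, inv_one, one_mul, mul_one, mul_assoc,
      mul_inv_cancel_left, inv_mul_cancel_left, mul_inv_cancel, inv_mul_cancel, iu, jf, is, ia, ib, ic, id] at h ⊢
    exact h
  · have h := mul_inv_eq_one.mpr e3
    simp only [pow_succ, pow_zero, mul_inv_rev, inv_inv, inv_one, one_mul, mul_one, mul_assoc,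
      mul_inv_cancel_left, inv_mul_cancel_left, mul_inv_cancel, inv_mul_cancel, iu, jf, is, ia, ib, ic, id] at h ⊢
    exact h
  · have h := mul_inv_eq_one.mpr e4
    simp only [pow_succ, pow_zero, mul_inv_rev, inv_inv, inv_one, one_mul, mul_one, mul_assoc,
      mul_inv_cancel_left, inv_mul_cancel_left, mul_inv_cancel, inv_mul_cancel, iu, jf, is, ia, ib, ic, id] at h ⊢
    exact h
  · have h := mul_inv_eq_one.mpr e5
    simp only [pow_succ, pow_zero, mul_inv_rev, inv_inv, inv_one, one_mul, mul_one, mul_assoc,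
      mul_inv_cancel_left, inv_mul_cancel_left, mul_inv_cancel, inv_mul_cancel, iu, jf, is, ia, ib, ic, id] at h ⊢
    exact h
  · have h := mul_inv_eq_one.mpr e6
    simp only [pow_succ, pow_zero, mul_inv_rev, inv_inv, inv_one, one_mul, mul_one, mul_assoc,
      mul_inv_cancel_left, inv_mul_cancel_left, mul_inv_cancel, inv_mul_cancel, iu, jf, is, ia, ib, ic, id] at h ⊢
    exact h
  · have h := mul_inv_eq_one.mpr e7
    simp only [pow_succ, pow_zero, mul_inv_rev, inv_inv, inv_one, one_mul, mul_one, mul_assoc,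
      mul_inv_cancel_left, inv_mul_cancel_left, mul_inv_cancel, inv_mul_cancel, iu, jf, is, ia, ib, ic, id] at h ⊢
    exact h
  · have h := mul_inv_eq_one.mpr e8
    simp only [pow_succ, pow_zero, mul_inv_rev, inv_inv, inv_one, one_mul, mul_one, mul_assoc,
      mul_inv_cancel_left, inv_mul_cancel_left, mul_inv_cancel, inv_mul_cancel, iu, jf, is, ia, ib, ic, id] at h ⊢
    exact h
  · have h := mul_inv_eq_one.mpr e9
    simp only [pow_succ, pow_zero, mul_inv_rev, inv_inv, inv_one, one_mul, mul_one, mul_assoc,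
      mul_inv_cancel_left, inv_mul_cancel_left, mul_inv_cancel, inv_mul_cancel, iu, jf, is, ia, ib, ic, id] at h ⊢
    exact h
  · have h := mul_inv_eq_one.mpr e10
    simp only [pow_succ, pow_zero, mul_inv_rev, inv_inv, inv_one, one_mul, mul_one, mul_assoc,
      mul_inv_cancel_left, inv_mul_cancel_left, mul_inv_cancel, inv_mul_cancel, iu, jf, is, ia, ib, ic, id] at h ⊢
    exact h
  · have h := mul_inv_eq_one.mpr e11
    simp only [pow_succ, pow_zero, mul_inv_rev, inv_inv, inv_one, one_mul, mul_one, mul_assoc,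
      mul_inv_cancel_left, inv_mul_cancel_left, mul_inv_cancel, inv_mul_cancel, iu, jf, is, ia, ib, ic, id] at h ⊢
    exact h
  · have h := mul_inv_eq_one.mpr e12
    simp only [pow_succ, pow_zero, mul_inv_rev, inv_inv, inv_one, one_mul, mul_one, mul_assoc,
      mul_inv_cancel_left, inv_mul_cancel_left, mul_inv_cancel, inv_mul_cancel, iu, jf, is, ia, ib, ic, id] at h ⊢
    exact h
  · have h := mul_inv_eq_one.mpr e13
    simp only [pow_succ, pow_zero, mul_inv_rev, inv_inv, inv_one, one_mul, mul_one, mul_assoc,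
      mul_inv_cancel_left, inv_mul_cancel_left, mul_inv_cancel, inv_mul_cancel, iu, jf, is, ia, ib, ic, id] at h ⊢
    exact h
  · have h := mul_inv_eq_one.mpr e14
    simp only [pow_succ, pow_zero, mul_inv_rev, inv_inv, inv_one, one_mul, mul_one, mul_assoc,
      mul_inv_cancel_left, inv_mul_cancel_left, mul_inv_cancel, inv_mul_cancel, iu, jf, is, ia, ib, ic, id] at h ⊢
    exact h
  · have h := mul_inv_eq_one.mpr e15
    simp only [pow_succ, pow_zero, mul_inv_rev, inv_inv, inv_one, one_mul, mul_one, mul_assoc,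
      mul_inv_cancel_left, inv_mul_cancel_left, mul_inv_cancel, inv_mul_cancel, iu, jf, is, ia, ib, ic, id] at h ⊢
    exact h
  · have h := mul_inv_eq_one.mpr e16
    simp only [pow_succ, pow_zero, mul_inv_rev, inv_inv, inv_one, one_mul, mul_one, mul_assoc,
      mul_inv_cancel_left, inv_mul_cancel_left, mul_inv_cancel, inv_mul_cancel, iu, jf, is, ia, ib, ic, id] at h ⊢
    exact h
  · have h := mul_inv_eq_one.mpr e17
    simp only [pow_succ, pow_zero, mul_inv_rev, inv_inv, inv_one, one_mul, mul_one, mul_assoc,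
      mul_inv_cancel_left, inv_mul_cancel_left, mul_inv_cancel, inv_mul_cancel, iu, jf, is, ia, ib, ic, id] at h ⊢
    exact h
  · have h := mul_inv_eq_one.mpr e18
    simp only [pow_succ, pow_zero, mul_inv_rev, inv_inv, inv_one, one_mul, mul_one, mul_assoc,
      mul_inv_cancel_left, inv_mul_cancel_left, mul_inv_cancel, inv_mul_cancel, iu, jf, is, ia, ib, ic, id] at h ⊢
    exact h
  · have h := mul_inv_eq_one.mpr e19
    simp only [pow_succ, pow_zero, mul_inv_rev, inv_inv, inv_one, one_mul, mul_one, mul_assoc,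
      mul_inv_cancel_left, inv_mul_cancel_left, mul_inv_cancel, inv_mul_cancel, iu, jf, is, ia, ib, ic, id] at h ⊢
    exact h
  · have h := mul_inv_eq_one.mpr e20
    simp only [pow_succ, pow_zero, mul_inv_rev, inv_inv, inv_one, one_mul, mul_one, mul_assoc,
      mul_inv_cancel_left, inv_mul_cancel_left, mul_inv_cancel, inv_mul_cancel, iu, jf, is, ia, ib, ic, id] at h ⊢
    exact h
  · have h := mul_inv_eq_one.mpr e21
    simp only [pow_succ, pow_zero, mul_inv_rev, inv_inv, inv_one, one_mul, mul_one, mul_assoc,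
      mul_inv_cancel_left, inv_mul_cancel_left, mul_inv_cancel, inv_mul_cancel, iu, jf, is, ia, ib, ic, id] at h ⊢
    exact h
  · have h := mul_inv_eq_one.mpr e22
    simp only [pow_succ, pow_zero, mul_inv_rev, inv_inv, inv_one, one_mul, mul_one, mul_assoc,
      mul_inv_cancel_left, inv_mul_cancel_left, mul_inv_cancel, inv_mul_cancel, iu, jf, is, ia, ib, ic, id] at h ⊢
    exact h
  · have h := mul_inv_eq_one.mpr e23
    simp only [pow_succ, pow_zero, mul_inv_rev, inv_inv, inv_one, one_mul, mul_one, mul_assoc,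
      mul_inv_cancel_left, inv_mul_cancel_left, mul_inv_cancel, inv_mul_cancel, iu, jf, is, ia, ib, ic, id] at h ⊢
    exact h
  · have h := mul_inv_eq_one.mpr e24
    simp only [pow_succ, pow_zero, mul_inv_rev, inv_inv, inv_one, one_mul, mul_one, mul_assoc,
      mul_inv_cancel_left, inv_mul_cancel_left, mul_inv_cancel, inv_mul_cancel, iu, jf, is, ia, ib, ic, id] at h ⊢
    exact h
  · have h := mul_inv_eq_one.mpr e25
    simp only [pow_succ, pow_zero, mul_inv_rev, inv_inv, inv_one, one_mul, mul_one, mul_assoc,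
      mul_inv_cancel_left, inv_mul_cancel_left, mul_inv_cancel, inv_mul_cancel, iu, jf, is, ia, ib, ic, id] at h ⊢
    exact h
  · have h := mul_inv_eq_one.mpr e26
    simp only [pow_succ, pow_zero, mul_inv_rev, inv_inv, inv_one, one_mul, mul_one, mul_assoc,
      mul_inv_cancel_left, inv_mul_cancel_left, mul_inv_cancel, inv_mul_cancel, iu, jf, is, ia, ib, ic, id] at h ⊢
    exact h
  · have h := mul_inv_eq_one.mpr e27
    simp only [pow_succ, pow_zero, mul_inv_rev, inv_inv, inv_one, one_mul, mul_one, mul_assoc,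
      mul_inv_cancel_left, inv_mul_cancel_left, mul_inv_cancel, inv_mul_cancel, iu, jf, is, ia, ib, ic, id] at h ⊢
    exact h
  · have h := mul_inv_eq_one.mpr e28
    simp only [pow_succ, pow_zero, mul_inv_rev, inv_inv, inv_one, one_mul, mul_one, mul_assoc,
      mul_inv_cancel_left, inv_mul_cancel_left, mul_inv_cancel, inv_mul_cancel, iu, jf, is, ia, ib, ic, id] at h ⊢
    exact h
  · have h := mul_inv_eq_one.mpr e29
    simp only [pow_succ, pow_zero, mul_inv_rev, inv_inv, inv_one, one_mul, mul_one, mul_assoc,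
      mul_inv_cancel_left, inv_mul_cancel_left, mul_inv_cancel, inv_mul_cancel, iu, jf, is, ia, ib, ic, id] at h ⊢
    exact h
  · have h := mul_inv_eq_one.mpr e30
    simp only [pow_succ, pow_zero, mul_inv_rev, inv_inv, inv_one, one_mul, mul_one, mul_assoc,
      mul_inv_cancel_left, inv_mul_cancel_left, mul_inv_cancel, inv_mul_cancel, iu, jf, is, ia, ib, ic, id] at h ⊢
    exact h
  · have h := mul_inv_eq_one.mpr e31
    simp only [pow_succ, pow_zero, mul_inv_rev, inv_inv, inv_one, one_mul, mul_one, mul_assoc,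
      mul_inv_cancel_left, inv_mul_cancel_left, mul_inv_cancel, inv_mul_cancel, iu, jf, is, ia, ib, ic, id] at h ⊢
    exact h
  · have h := mul_inv_eq_one.mpr e32
    simp only [pow_succ, pow_zero, mul_inv_rev, inv_inv, inv_one, one_mul, mul_one, mul_assoc,
      mul_inv_cancel_left, inv_mul_cancel_left, mul_inv_cancel, inv_mul_cancel, iu, jf, is, ia, ib, ic, id] at h ⊢
    exact h
  · have h := mul_inv_eq_one.mpr e33
    simp only [pow_succ, pow_zero, mul_inv_rev, inv_inv, inv_one, one_mul, mul_one, mul_assoc,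
      mul_inv_cancel_left, inv_mul_cancel_left, mul_inv_cancel, inv_mul_cancel, iu, jf, is, ia, ib, ic, id] at h ⊢
    exact h
  · have h := mul_inv_eq_one.mpr e34
    simp only [pow_succ, pow_zero, mul_inv_rev, inv_inv, inv_one, one_mul, mul_one, mul_assoc,
      mul_inv_cancel_left, inv_mul_cancel_left, mul_inv_cancel, inv_mul_cancel, iu, jf, is, ia, ib, ic, id] at h ⊢
    exact h
  · have h := mul_inv_eq_one.mpr e35
    simp only [pow_succ, pow_zero, mul_inv_rev, inv_inv, inv_one, one_mul, mul_one, mul_assoc,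
      mul_inv_cancel_left, inv_mul_cancel_left, mul_inv_cancel, inv_mul_cancel, iu, jf, is, ia, ib, ic, id] at h ⊢
    exact h
  · have h := mul_inv_eq_one.mpr e36
    simp only [pow_succ, pow_zero, mul_inv_rev, inv_inv, inv_one, one_mul, mul_one, mul_assoc,
      mul_inv_cancel_left, inv_mul_cancel_left, mul_inv_cancel, inv_mul_cancel, iu, jf, is, ia, ib, ic, id] at h ⊢
    exact h
  · have h := mul_inv_eq_one.mpr e37
    simp only [pow_succ, pow_zero, mul_inv_rev, inv_inv, inv_one, one_mul, mul_one, mul_assoc,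
      mul_inv_cancel_left, inv_mul_cancel_left, mul_inv_cancel, inv_mul_cancel, iu, jf, is, ia, ib, ic, id] at h ⊢
    exact h
  · have h := mul_inv_eq_one.mpr e38
    simp only [pow_succ, pow_zero, mul_inv_rev, inv_inv, inv_one, one_mul, mul_one, mul_assoc,
      mul_inv_cancel_left, inv_mul_cancel_left, mul_inv_cancel, inv_mul_cancel, iu, jf, is, ia, ib, ic, id] at h ⊢
    exact h
  · have h := mul_inv_eq_one.mpr e39
    simp only [pow_succ, pow_zero, mul_inv_rev, inv_inv, inv_one, one_mul, mul_one, mul_assoc,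
      mul_inv_cancel_left, inv_mul_cancel_left, mul_inv_cancel, inv_mul_cancel, iu, jf, is, ia, ib, ic, id] at h ⊢
    exact h
  · have h := mul_inv_eq_one.mpr e40
    simp only [pow_succ, pow_zero, mul_inv_rev, inv_inv, inv_one, one_mul, mul_one, mul_assoc,
      mul_inv_cancel_left, inv_mul_cancel_left, mul_inv_cancel, inv_mul_cancel, iu, jf, is, ia, ib, ic, id] at h ⊢
    exact h
  · have h := mul_inv_eq_one.mpr e41
    simp only [pow_succ, pow_zero, mul_inv_rev, inv_inv, inv_one, one_mul, mul_one, mul_assoc,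
      mul_inv_cancel_left, inv_mul_cancel_left, mul_inv_cancel, inv_mul_cancel, iu, jf, is, ia, ib, ic, id] at h ⊢
    exact h
  · have h := mul_inv_eq_one.mpr e42
    simp only [pow_succ, pow_zero, mul_inv_rev, inv_inv, inv_one, one_mul, mul_one, mul_assoc,
      mul_inv_cancel_left, inv_mul_cancel_left, mul_inv_cancel, inv_mul_cancel, iu, jf, is, ia, ib, ic, id] at h ⊢
    exact h
  · have h := mul_inv_eq_one.mpr e43
    simp only [pow_succ, pow_zero, mul_inv_rev, inv_inv, inv_one, one_mul, mul_one, mul_assoc,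
      mul_inv_cancel_left, inv_mul_cancel_left, mul_inv_cancel, inv_mul_cancel, iu, jf, is, ia, ib, ic, id] at h ⊢
    exact h
  · have h := mul_inv_eq_one.mpr e44
    simp only [pow_succ, pow_zero, mul_inv_rev, inv_inv, inv_one, one_mul, mul_one, mul_assoc,
      mul_inv_cancel_left, inv_mul_cancel_left, mul_inv_cancel, inv_mul_cancel, iu, jf, is, ia, ib, ic, id] at h ⊢
    exact h
  · have h := mul_inv_eq_one.mpr e45
    simp only [pow_succ, pow_zero, mul_inv_rev, inv_inv, inv_one, one_mul, mul_one, mul_assoc,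
      mul_inv_cancel_left, inv_mul_cancel_left, mul_inv_cancel, inv_mul_cancel, iu, jf, is, ia, ib, ic, id] at h ⊢
    exact h
  · have h := mul_inv_eq_one.mpr e46
    simp only [pow_succ, pow_zero, mul_inv_rev, inv_inv, inv_one, one_mul, mul_one, mul_assoc,
      mul_inv_cancel_left, inv_mul_cancel_left, mul_inv_cancel, inv_mul_cancel, iu, jf, is, ia, ib, ic, id] at h ⊢
    exact h
  · have h := mul_inv_eq_one.mpr e47
    simp only [pow_succ, pow_zero, mul_inv_rev, inv_inv, inv_one, one_mul, mul_one, mul_assoc,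
      mul_inv_cancel_left, inv_mul_cancel_left, mul_inv_cancel, inv_mul_cancel, iu, jf, is, ia, ib, ic, id] at h ⊢
    exact h
  · have h := mul_inv_eq_one.mpr e48
    simp only [pow_succ, pow_zero, mul_inv_rev, inv_inv, inv_one, one_mul, mul_one, mul_assoc,
      mul_inv_cancel_left, inv_mul_cancel_left, mul_inv_cancel, inv_mul_cancel, iu, jf, is, ia, ib, ic, id] at h ⊢
    exact h

/-- The relations. -/
structure Rel0 {G : Type*} [Group G] (x y w u q a b c d f s : G) : Prop
    extends Rel x y w u q a b c d where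
  f0 : f * f = 1
  f1 : f * (w * w) = w * w * f
  f2 : f * (x * y) = x * y * f
  f3 : f * a * f = a
  f4 : f * b * f = b
  f5 : f * c * f = a * c
  f6 : f * d * f = a * b * d
  f7 : s * s = 1
  f8 : f * (q * a * q⁻¹) * f = s
  f9 : (f * (q * a * q⁻¹)) ^ 3 = 1

variable {G : Type*} [Group G] {x y w u q a b c d f s : G}

theorem Rel0.c00 (r : Rel0 x y w u q a b c d f s)
    (h0 : f * u * f = w * w * u) (h1 : s * x * s = x⁻¹) :
    Nat.card (Subgroup.closure ({x, y, w, u, q, a, b, c, d, f} : Set G)) ≤ 887040 := by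
  obtain ⟨f1, c1⟩ := r.toRel.card
  have := (p00_card
    r.e0 r.e1 r.e2 r.e3 r.e4 r.e5 r.e6 r.e7 r.e8 r.e9 r.e10 r.e11 r.e12 r.e13 r.e14 r.e15 r.e16
    r.e17 r.e18 r.e19 r.e20 r.e21 r.e22 r.e23 r.e24 r.e25 r.e26 r.e27 r.e28 r.e29 r.e30 r.e31 r.e32
    r.e33 r.e34 r.e35 r.e36 r.f0 r.f1 r.f2 r.f3 r.f4 r.f5 r.f6 r.f7 r.f8 r.f9
    h0 h1 (Subgroup.closure {x, y, w, u, q, a, b, c, d})
    (Subgroup.subset_closure (by simp)) (Subgroup.subset_closure (by simp))
    (Subgroup.subset_closure (by simp)) (Subgroup.subset_closure (by simp))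
    (Subgroup.subset_closure (by simp)) (Subgroup.subset_closure (by simp))
    (Subgroup.subset_closure (by simp)) (Subgroup.subset_closure (by simp))
    (Subgroup.subset_closure (by simp))).2
  omega

theorem Rel0.c01 (r : Rel0 x y w u q a b c d f s)
    (h0 : f * u * f = w * w * u) (h1 : s * x * s = x * y⁻¹) :
    Nat.card (Subgroup.closure ({x, y, w, u, q, a, b, c, d, f} : Set G)) ≤ 887040 := by
  obtain ⟨f1, c1⟩ := r.toRel.card
  have := (p01_card
    r.e0 r.e1 r.e2 r.e3 r.e4 r.e5 r.e6 r.e7 r.e8 r.e9 r.e10 r.e11 r.e12 r.e13 r.e14 r.e15 r.e16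
    r.e17 r.e18 r.e19 r.e20 r.e21 r.e22 r.e23 r.e24 r.e25 r.e26 r.e27 r.e28 r.e29 r.e30 r.e31 r.e32
    r.e33 r.e34 r.e35 r.e36 r.f0 r.f1 r.f2 r.f3 r.f4 r.f5 r.f6 r.f7 r.f8 r.f9
    h0 h1 (Subgroup.closure {x, y, w, u, q, a, b, c, d})
    (Subgroup.subset_closure (by simp)) (Subgroup.subset_closure (by simp))
    (Subgroup.subset_closure (by simp)) (Subgroup.subset_closure (by simp))
    (Subgroup.subset_closure (by simp)) (Subgroup.subset_closure (by simp))
    (Subgroup.subset_closure (by simp)) (Subgroup.subset_closure (by simp))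
    (Subgroup.subset_closure (by simp))).2
  omega

theorem Rel0.c02 (r : Rel0 x y w u q a b c d f s)
    (h0 : f * u * f = w * w * u) (h1 : s * x * s = y) :
    Nat.card (Subgroup.closure ({x, y, w, u, q, a, b, c, d, f} : Set G)) ≤ 887040 := by
  obtain ⟨f1, c1⟩ := r.toRel.card
  have := (p02_card
    r.e0 r.e1 r.e2 r.e3 r.e4 r.e5 r.e6 r.e7 r.e8 r.e9 r.e10 r.e11 r.e12 r.e13 r.e14 r.e15 r.e16
    r.e17 r.e18 r.e19 r.e20 r.e21 r.e22 r.e23 r.e24 r.e25 r.e26 r.e27 r.e28 r.e29 r.e30 r.e31 r.e32
    r.e33 r.e34 r.e35 r.e36 r.f0 r.f1 r.f2 r.f3 r.f4 r.f5 r.f6 r.f7 r.f8 r.f9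
    h0 h1 (Subgroup.closure {x, y, w, u, q, a, b, c, d})
    (Subgroup.subset_closure (by simp)) (Subgroup.subset_closure (by simp))
    (Subgroup.subset_closure (by simp)) (Subgroup.subset_closure (by simp))
    (Subgroup.subset_closure (by simp)) (Subgroup.subset_closure (by simp))
    (Subgroup.subset_closure (by simp)) (Subgroup.subset_closure (by simp))
    (Subgroup.subset_closure (by simp))).2
  omega

theorem Rel0.c10 (r : Rel0 x y w u q a b c d f s)
    (h0 : f * u * f = a * (w * w * u)) (h1 : s * x * s = x⁻¹) (h2 : s * w * s = q * w) :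
    Nat.card (Subgroup.closure ({x, y, w, u, q, a, b, c, d, f} : Set G)) ≤ 20401920 := by
  obtain ⟨f1, c1⟩ := r.toRel.card
  have := (p10_card
    r.e0 r.e1 r.e2 r.e3 r.e4 r.e5 r.e6 r.e7 r.e8 r.e9 r.e10 r.e11 r.e12 r.e13 r.e14 r.e15 r.e16
    r.e17 r.e18 r.e19 r.e20 r.e21 r.e22 r.e23 r.e24 r.e25 r.e26 r.e27 r.e28 r.e29 r.e30 r.e31 r.e32
    r.e33 r.e34 r.e35 r.e36 r.f0 r.f1 r.f2 r.f3 r.f4 r.f5 r.f6 r.f7 r.f8 r.f9
    h0 h1 h2 (Subgroup.closure {x, y, w, u, q, a, b, c, d})
    (Subgroup.subset_closure (by simp)) (Subgroup.subset_closure (by simp))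
    (Subgroup.subset_closure (by simp)) (Subgroup.subset_closure (by simp))
    (Subgroup.subset_closure (by simp)) (Subgroup.subset_closure (by simp))
    (Subgroup.subset_closure (by simp)) (Subgroup.subset_closure (by simp))
    (Subgroup.subset_closure (by simp))).2
  omega

theorem Rel0.c11 (r : Rel0 x y w u q a b c d f s)
    (h0 : f * u * f = a * (w * w * u)) (h1 : s * x * s = x * y⁻¹) :
    Nat.card (Subgroup.closure ({x, y, w, u, q, a, b, c, d, f} : Set G)) ≤ 887040 := by
  obtain ⟨f1, c1⟩ := r.toRel.card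
  have := (p11_card
    r.e0 r.e1 r.e2 r.e3 r.e4 r.e5 r.e6 r.e7 r.e8 r.e9 r.e10 r.e11 r.e12 r.e13 r.e14 r.e15 r.e16
    r.e17 r.e18 r.e19 r.e20 r.e21 r.e22 r.e23 r.e24 r.e25 r.e26 r.e27 r.e28 r.e29 r.e30 r.e31 r.e32
    r.e33 r.e34 r.e35 r.e36 r.f0 r.f1 r.f2 r.f3 r.f4 r.f5 r.f6 r.f7 r.f8 r.f9
    h0 h1 (Subgroup.closure {x, y, w, u, q, a, b, c, d})
    (Subgroup.subset_closure (by simp)) (Subgroup.subset_closure (by simp))
    (Subgroup.subset_closure (by simp)) (Subgroup.subset_closure (by simp))
    (Subgroup.subset_closure (by simp)) (Subgroup.subset_closure (by simp))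
    (Subgroup.subset_closure (by simp)) (Subgroup.subset_closure (by simp))
    (Subgroup.subset_closure (by simp))).2
  omega

theorem Rel0.c12 (r : Rel0 x y w u q a b c d f s)
    (h0 : f * u * f = a * (w * w * u)) (h1 : s * x * s = y) :
    Nat.card (Subgroup.closure ({x, y, w, u, q, a, b, c, d, f} : Set G)) ≤ 887040 := by
  obtain ⟨f1, c1⟩ := r.toRel.card
  have := (p12_card
    r.e0 r.e1 r.e2 r.e3 r.e4 r.e5 r.e6 r.e7 r.e8 r.e9 r.e10 r.e11 r.e12 r.e13 r.e14 r.e15 r.e16
    r.e17 r.e18 r.e19 r.e20 r.e21 r.e22 r.e23 r.e24 r.e25 r.e26 r.e27 r.e28 r.e29 r.e30 r.e31 r.e32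
    r.e33 r.e34 r.e35 r.e36 r.f0 r.f1 r.f2 r.f3 r.f4 r.f5 r.f6 r.f7 r.f8 r.f9
    h0 h1 (Subgroup.closure {x, y, w, u, q, a, b, c, d})
    (Subgroup.subset_closure (by simp)) (Subgroup.subset_closure (by simp))
    (Subgroup.subset_closure (by simp)) (Subgroup.subset_closure (by simp))
    (Subgroup.subset_closure (by simp)) (Subgroup.subset_closure (by simp))
    (Subgroup.subset_closure (by simp)) (Subgroup.subset_closure (by simp))
    (Subgroup.subset_closure (by simp))).2
  omega

theorem Rel0.prod {M : Type*} [Group M] {x' y' w' u' q' a' b' c' d' f' s' : M}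
    (r : Rel0 x y w u q a b c d f s) (t : Rel0 x' y' w' u' q' a' b' c' d' f' s') :
    Rel0 (x, x') (y, y') (w, w') (u, u') (q, q') (a, a') (b, b') (c, c') (d, d') (f, f') (s, s') :=
    ⟨r.toRel.prod t.toRel, Prod.ext r.f0 t.f0, Prod.ext r.f1 t.f1, Prod.ext r.f2 t.f2, Prod.ext
    r.f3 t.f3, Prod.ext r.f4 t.f4, Prod.ext r.f5 t.f5, Prod.ext r.f6 t.f6, Prod.ext r.f7 t.f7,
    Prod.ext r.f8 t.f8, Prod.ext r.f9 t.f9⟩

end Cfsg.Agent.Ma
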