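import Cfsg.Agent.H9.M22d

/-! Groups with the order and the element order statistics of `M₂₃`: centralizers. -/

set_option autoImplicit false

namespace Cfsg.Agent.Ma

open Subgroup Cfsg.Agent.H7 Cfsg.Agent.H4 Cfsg.Agent.Fx4 Cfsg.Agent.H4.Nse
open MulAut (conj)
open scoped Pointwise

universe u
variable {G : Type u} [Group G] [Finite G] {L P T K H R V : Subgroup G}
  {x y z g p s t v w q a b f : G}

/-- The conjugates of `x` under `W`. -/
def orb (W : Subgroup G) (x : G) : Set G := (fun g => g * x * g⁻¹) '' (W : Set G)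

theorem card_orb (W : Subgroup G) (x : G) :
    Nat.card W = Nat.card ↥(C₁[x] ⊓ W) * (orb W x).ncard := by
  refine le_antisymm (card_le_cent_mul W x fun g hg => ⟨g, hg, rfl⟩) ?_
  rw [← card_inf_mul_relIndex C₁[x] W]
  exact Nat.mul_le_mul_left _ (ncard_le_relIndex W C₁[x] _ fun a _ b _ e => by
    calc a * x * a⁻¹ = b * (a⁻¹ * b)⁻¹ * (x * (a⁻¹ * b)) * b⁻¹ := by group
      _ = _ := by rw [← mem_cent1_iff.mp e]; group)

theorem inverts_of_prime {n : ℕ} (hn : n.Prime) (hf : orderOf f = n) (ha : a ∈ N[zpowers f])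
    (a2 : a * a = 1) (hc : a ∉ C₁[f]) : a * f * a⁻¹ = f⁻¹ := by
  have h1 := conj_mem_of_norm ha (mem_zpowers f)
  by_contra k
  have h2 : a ∈ C₁[f * (a * f * a⁻¹)] := by
    rw [mem_cent1_iff, ← mul_inv_eq_iff_eq_mul, ← conj_mul, conj_conj, a2, one_mul, inv_one,
      mul_one, comm_of_abel (abel_zpowers f) h1 (mem_zpowers f)]
  rw [cent1_eq_cent_of_card_prime (by rwa [Nat.card_zpowers, hf]) (mul_mem (mem_zpowers f) h1)
    fun e => k (eq_inv_of_mul_eq_one_right e), cent_zpowers] at h2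
  exact hc h2

theorem pg_of_dvd {p k : ℕ} (hp : p.Prime) (h : Nat.card L ∣ p ^ k) : IsPGroup p L := by
  obtain ⟨k, -, hk⟩ := (Nat.dvd_prime_pow hp).mp h
  exact .of_card hk

omit [Finite G] in
theorem cop_of {p n : ℕ} (hp : p.Prime) (h : ¬ p ∣ n) : n.Coprime p :=
  ((Nat.Prime.coprime_iff_not_dvd hp).mpr h).symm

/-- A four-group centralizing `x`. -/
def IsV (x : G) (V : Subgroup G) : Prop := Nat.card V = 4 ∧ V ≤ C₁[x]

omit [Finite G] in
theorem IsV.pg (hV : IsV x V) : IsPGroup 2 V := .of_card (n := 2) hV.1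

omit [Finite G] in
theorem IsV.comm (hV : IsV x V) : V ≤ C[V] := le_cent_of_abel (abel_of_card_sq (p := 2) hV.1)

omit [Finite G] in
theorem IsV.cent (hV : IsV x V) : x ∈ C[V] := le_cent1_iff.mp hV.2

omit [Finite G] in
theorem IsV.smul (hV : IsV x V) (g : G) : IsV (g * x * g⁻¹) (conj g • V) :=
  ⟨(card_conj_smul g V).trans hV.1, conj_smul_cent1 g x ▸ conj_smul_mono g hV.2⟩

omit [Finite G] in
theorem IsV.ex (hV : IsV x V) : ∃ v ∈ V, v ≠ 1 :=
  exists_ne_one_of_ne_bot fun e => by simpa [e] using hV.1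

/-- The hypothesis. -/
structure H23 (G : Type u) [Group G] : Prop where
  card : Nat.card G = 10200960
  ord : ∀ g : G, orderOf g ∈ [1, 2, 3, 4, 5, 6, 7, 8, 11, 14, 15, 23]
  m2 : mo G 2 = 3795
  m3 : mo G 3 = 56672
  m5 : mo G 5 = 680064
  m6 : mo G 6 = 850080
  m7 : mo G 7 = 1457280

namespace H23

variable (h : H23 G)
include h

theorem idx (H : Subgroup G) : H.index * Nat.card H = 10200960 := index_mul_card' H h.card

theorem dvd (H : Subgroup G) : Nat.card H ∣ 10200960 := Dvd.intro_left _ (h.idx H)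

theorem cop {n r : ℕ} (hy : orderOf y = n) (hp : r.Prime) (hco : n.Coprime r)
    (hn : n * r ∉ [1, 2, 3, 4, 5, 6, 7, 8, 11, 14, 15, 23]) : (Nat.card C₁[y]).Coprime r := by
  refine cop_of hp fun hd => ?_
  obtain ⟨x, hx, hxp⟩ := exists_mem_orderOf hp hd
  have := h.ord (y * x)
  rw [Commute.orderOf_mul_eq_mul_orderOf_of_coprime (mem_cent1_iff.mp hx).symm
    (by rwa [hy, hxp]), hy, hxp] at this
  exact hn this

omit [Finite G] in
theorem cube (hP : IsPGroup 3 P) (hg : g ∈ P) : g ^ 3 = 1 := by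
  obtain ⟨k, hk⟩ := hP.exists_orderOf_eq_pow ⟨g, hg⟩
  have h1 := h.ord g
  rw [← orderOf_coe] at hk
  rw [← orderOf_dvd_iff_pow_eq_one]
  rcases k with _ | k
  · exact hk.dvd.trans (one_dvd 3)
  have h2 : ∀ r : ℕ, r.Prime → r ∣ orderOf g → r ∣ 3 := fun r hr e => hr.dvd_of_dvd_pow (hk ▸ e)
  have h3 : 3 ∣ orderOf g := hk ▸ dvd_pow_self 3 k.succ_ne_zero
  have := h2 2 (by norm_num)
  have := h2 5 (by norm_num)
  simp only [List.mem_cons, List.not_mem_nil, or_false] at h1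
  rw [show orderOf g = 3 by omega]

omit [Finite G] in
theorem sq (hR : IsPGroup 2 R) (hg : g ∈ R) (hx : orderOf x = 3) (hc : g ∈ C₁[x]) :
    g * g = 1 := by
  obtain ⟨k, hk⟩ := hR.exists_orderOf_eq_pow ⟨g, hg⟩
  rw [← orderOf_coe] at hk
  have h1 := h.ord (g * x)
  rw [Commute.orderOf_mul_eq_mul_orderOf_of_coprime (mem_cent1_iff.mp hc) (by
    rw [hx]; exact hk ▸ Nat.Coprime.pow_left _ (by norm_num)), hx] at h1
  have h2 : 5 ∣ orderOf g → 5 ∣ 2 := fun e => Nat.prime_five.dvd_of_dvd_pow (hk ▸ e)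
  rw [← pow_two, ← orderOf_dvd_iff_pow_eq_one]
  simp only [List.mem_cons, List.not_mem_nil, or_false] at h1
  rcases (by omega : orderOf g = 1 ∨ orderOf g = 2) with e | e <;> simp [e]

theorem pow_le (hL : IsPGroup 2 L) : ∃ k ≤ 7, Nat.card L = 2 ^ k := by
  obtain ⟨k, hk⟩ := hL.exists_card_eq
  refine ⟨k, ?_, hk⟩
  by_contra e
  have := ((pow_dvd_pow 2 (show 8 ≤ k by omega)).trans hk.symm.dvd).trans (h.dvd L)
  norm_num at this

theorem norm7 (hs : orderOf s = 7) : Nat.card N[zpowers s] = 42 := by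
  have : Fact (Nat.Prime 7) := ⟨by norm_num⟩
  have := mo_prime hs (by rw [h.card]; norm_num)
  rw [h.m7, h.card] at this
  omega

theorem cent7 (hs : orderOf s = 7) : Nat.card C₁[s] ∣ 14 :=
  (h.cop hs Nat.prime_three (by norm_num) (by decide)).dvd_of_dvd_mul_right
    (h.norm7 hs ▸ card_dvd_of_le (le_norm_zpowers le_rfl) :)

theorem inv7 (hs : orderOf s = 7) (ha : a ∈ C₁[s]) (a1 : a ≠ 1) (a2 : a * a = 1) (hb : b ∈ C₁[s])
    (b1 : b ≠ 1) (b2 : b * b = 1) : a = b := by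
  have h1 := h.cent7 hs
  have h2 := zpowers_le.mpr (mem_cent1_self s)
  have h3 := card_dvd_of_le h2
  have h4 := o2 a1 a2 ▸ orderOf_dvd_card_of_mem ha
  have k : ∀ c : G, c * c = 1 → c ∈ zpowers s → c = 1 := fun c c2 e => by
    have := orderOf_dvd_card_of_mem e
    rw [Nat.card_zpowers, hs] at this
    exact orderOf_eq_one_iff.mp (Nat.eq_one_of_dvd_coprimes (by norm_num) this
      (orderOf_dvd_of_pow_eq_one (pow_two c ▸ c2)))
  rw [Nat.card_zpowers, hs] at h3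
  have h5 := mul_mem_of_index_two h2 (by
    have := Nat.le_of_dvd (by norm_num) h1
    have := card_pos' C₁[s]
    rw [Nat.card_zpowers, hs]
    omega) ha hb (fun e => a1 (k a a2 e)) fun e => b1 (k b b2 e)
  have h6 := comm_of_mem_cent (cent_zpowers s ▸ ha) h5
  rw [← mul_assoc, a2, one_mul] at h6
  exact mul_left_cancel (a2.trans (k _ (by rw [← mul_assoc, h6, b2]) h5).symm)

theorem seven (ht : orderOf t = 2) : 7 ∣ Nat.card C₁[t] := by
  obtain ⟨k, hk⟩ : Nat.card C₁[t] ∣ 8064 :=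
    (h.cop ht (r := 5) (by norm_num) (by norm_num) (by decide)).dvd_of_dvd_mul_right
      ((h.cop ht (r := 11) (by norm_num) (by norm_num) (by decide)).dvd_of_dvd_mul_right
        ((h.cop ht (r := 23) (by norm_num) (by norm_num) (by decide)).dvd_of_dvd_mul_right
          (h.dvd _)))
  have h4 := index_le_mo t
  have h5 := h.idx C₁[t]
  rw [ht, h.m2] at h4
  have h6 := Nat.mul_le_mul_right (Nat.card C₁[t]) h4
  have h7 : k ≤ 3 := by
    by_contra e
    have := Nat.mul_le_mul_left (Nat.card C₁[t]) (show 4 ≤ k by omega)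
    omega
  interval_cases k <;> omega

theorem conj2 (ht : orderOf t = 2) (hv : orderOf v = 2) : ∃ g, g * t * g⁻¹ = v := by
  have : Fact (Nat.Prime 7) := ⟨by norm_num⟩
  obtain ⟨s, hs, os⟩ := exists_mem_orderOf (by norm_num) (h.seven ht)
  obtain ⟨r, hr, or⟩ := exists_mem_orderOf (by norm_num) (h.seven hv)
  obtain ⟨c, -, hc⟩ := exists_conj_le (p := 7) (H := ⊤) (T := zpowers r) (R := zpowers s) le_top
    (.of_card (n := 1) (by rw [Nat.card_zpowers, os]; rfl)) (by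
      have := h.idx (zpowers r)
      rw [Nat.card_zpowers, or] at this
      rw [relIndex_top_right]
      omega)
  refine ⟨c, h.inv7 ((orderOf_conj' c s).trans os) ?_ (by simpa using (of_o2 ht).1)
    (conj_sq (of_o2 ht).2 c) (mem_cent1_comm.mp (zpowers_le.mpr hr (hc s (mem_zpowers s))))
    (of_o2 hv).1 (of_o2 hv).2⟩
  rw [← conj_smul_cent1, conj_mem_conj_smul]
  exact mem_cent1_comm.mp hs

theorem cent2 (t1 : t ≠ 1) (t2 : t * t = 1) : Nat.card C₁[t] = 2688 := by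
  have ht := o2 t1 t2
  have h1 := index_eq_of_conj (y := t) fun x hx => h.conj2 ht (hx.trans ht)
  have h2 := h.idx C₁[t]
  rw [h1, ht, h.m2] at h2
  omega

theorem not_le (hP : Nat.card P = 9) (t1 : t ≠ 1) (t2 : t * t = 1) : ¬ P ≤ C₁[t] := fun e => by
  have := card_dvd_of_le e
  rw [hP, h.cent2 t1 t2] at this
  omega

theorem norm5 (hf : orderOf f = 5) : Nat.card N[zpowers f] = 60 := by
  have : Fact (Nat.Prime 5) := ⟨by norm_num⟩
  have := mo_prime hf (by rw [h.card]; norm_num)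
  rw [h.m5, h.card] at this
  omega

theorem cent5 (hf : orderOf f = 5) : Nat.card C₁[f] ∣ 15 :=
  ((h.cop hf Nat.prime_two (by norm_num) (by decide)).pow_right 2).dvd_of_dvd_mul_right
    (h.norm5 hf ▸ card_dvd_of_le (le_norm_zpowers le_rfl) :)

theorem four5 (hf : orderOf f = 5) (hR : R ≤ N[zpowers f]) (h4 : Nat.card R = 4) :
    ∃ g ∈ R, g * g ≠ 1 := by
  classical
  by_contra k
  push Not at k
  have h1 : ∀ a ∈ R, a ∈ C₁[f] → a = 1 := fun a ha e => by_contra fun a1 => by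
    have := (o2 a1 (k a ha) ▸ orderOf_dvd_card_of_mem e).trans (h.cent5 hf)
    omega
  obtain ⟨a, ha, a1⟩ := exists_notMem (H := R) (s := {1}) (by simp [h4])
  obtain ⟨b, hb, b1⟩ := exists_notMem (H := R) (s := {1, a})
    (Finset.card_le_two.trans_lt (by omega))
  simp only [Finset.mem_insert, Finset.mem_singleton, not_or] at a1 b1
  have h2 := fun a (ha : a ∈ R) (a1 : a ≠ 1) => inverts_of_prime Nat.prime_five hf (hR ha) (k a ha)
    fun e => a1 (h1 a ha e)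
  refine b1.2 (mul_left_cancel ((h1 _ (mul_mem ha hb) ?_).trans (k a ha).symm))
  rw [mem_cent1_iff, ← mul_inv_eq_iff_eq_mul, ← conj_conj, h2 b hb b1.1, ← conj_inv, h2 a ha a1,
    inv_inv]

theorem cent3' (hx : orderOf x = 3) : Nat.card C₁[x] = 180 ∨ 32 ∣ Nat.card C₁[x] := by
  obtain ⟨n, hn⟩ := nine_dvd (by rw [h.card]; norm_num) hx
  have h1 : Nat.card C₁[x] ∣ 9 * 640 :=
    (h.cop hx (r := 7) (by norm_num) (by norm_num) (by decide)).dvd_of_dvd_mul_right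
      ((h.cop hx (r := 11) (by norm_num) (by norm_num) (by decide)).dvd_of_dvd_mul_right
        ((h.cop hx (r := 23) (by norm_num) (by norm_num) (by decide)).dvd_of_dvd_mul_right
          (h.dvd _)))
  have h4 := index_le_mo x
  have h5 := h.idx C₁[x]
  rw [hx, h.m3] at h4
  have h6 := Nat.mul_le_mul_right (Nat.card C₁[x]) h4
  rw [hn] at h1
  replace h1 := Nat.dvd_of_mul_dvd_mul_left (by norm_num) h1
  by_cases h7 : 5 ∣ n
  · obtain ⟨m, rfl⟩ := h7
    obtain ⟨k, hk, rfl⟩ := (Nat.dvd_prime_pow (m := 7) Nat.prime_two).mp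
      (Nat.dvd_of_mul_dvd_mul_left (by norm_num) h1)
    obtain ⟨f, hf, of⟩ := exists_mem_orderOf Nat.prime_five (H := C₁[x]) (by omega)
    have h8 : Nat.card (zpowers f) = 5 := by rw [Nat.card_zpowers, of]
    have h9 := relIndex_modEq Nat.prime_five (.of_card (n := 1) h8) (fun e => by
      have := (mul_dvd_mul_right e _).trans
        ((relIndex_mul_card (zpowers_le.mpr hf)).dvd.trans (h.dvd _))
      rw [h8] at this
      omega) (zpowers_le.mpr hf)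
    have k1 := card_inf_mul_relIndex N[zpowers f] C₁[x]
    have k2 := h.norm5 of ▸ card_dvd_of_le (inf_le_left (a := N[zpowers f]) (b := C₁[x]))
    have k3 := hx ▸ orderOf_dvd_card_of_mem (A := N[zpowers f] ⊓ C₁[x])
      ⟨le_norm_zpowers le_rfl (mem_cent1_comm.mp hf), mem_cent1_self x⟩
    have k4 := of ▸ orderOf_dvd_card_of_mem (A := N[zpowers f] ⊓ C₁[x])
      ⟨le_norm_self _ (mem_zpowers f), hf⟩
    have k5 : ¬ 2 ^ 2 ∣ Nat.card ↥(N[zpowers f] ⊓ C₁[x]) := fun e => by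
      obtain ⟨R, r1, r2⟩ := exists_le_card Nat.prime_two e
      obtain ⟨g, hg, g2⟩ := h.four5 of (r1.trans inf_le_left) r2
      exact g2 (h.sq (.of_card r2) hg hx (r1 hg).2)
    have k6 := Nat.le_of_dvd (by norm_num) k2
    have k7 := card_pos' (N[zpowers f] ⊓ C₁[x])
    unfold Nat.ModEq at h9
    rw [hn] at k1
    generalize Nat.card ↥(N[zpowers f] ⊓ C₁[x]) = c at *
    rcases (by omega : c = 15 ∨ c = 30 ∨ c = 45) with rfl | rfl | rfl <;>
      interval_cases k <;> omega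
  · obtain ⟨k, hk, rfl⟩ := (Nat.dvd_prime_pow (m := 7) Nat.prime_two).mp
      ((cop_of Nat.prime_five h7).dvd_of_dvd_mul_right h1)
    interval_cases k <;> omega

theorem cent3'' : ∃ x : G, orderOf x = 3 ∧ Nat.card C₁[x] = 180 := by
  classical
  have := Fintype.ofFinite G
  by_contra k
  push Not at k
  have h8 := mo_mul_sum (G := G) (a := 3) (b := 2) (by norm_num)
  have h9 := Finset.card_nsmul_le_sum _ (fun x => mo C₁[x] 2) 31
    fun x (hx : x ∈ ({x | orderOf x = 3} : Finset G)) => by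
      have ox := (Finset.mem_filter.mp hx).2
      have h1 := (h.cent3' ox).resolve_left (k x ox)
      obtain ⟨R, r1, r2⟩ := exists_le_card (n := 5) Nat.prime_two h1
      have := card_le_mo r1 (fun g hg => h.sq (.of_card r2) hg ox (r1 hg)) (by omega)
      omega
  rw [← h8, ← mo_eq, h.m3, h.m6] at h9
  norm_num at h9

theorem conj3 (hx : orderOf x = 3) (hy : orderOf y = 3) : ∃ g, g * x * g⁻¹ = y := by
  obtain ⟨z, hz, h1⟩ := h.cent3''
  have k : ∀ x : G, orderOf x = 3 → ∃ g, g * z * g⁻¹ = x := fun x hx => by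
    refine conj_of_index ?_ (hx.trans hz.symm)
    have := h.idx C₁[z]
    rw [h1] at this
    rw [hz, h.m3]
    omega
  obtain ⟨a, rfl⟩ := k x hx
  obtain ⟨b, rfl⟩ := k y hy
  exact ⟨b * a⁻¹, by group⟩

theorem cent3 (hx : orderOf x = 3) : Nat.card C₁[x] = 180 := by
  obtain ⟨z, hz, h1⟩ := h.cent3''
  obtain ⟨g, rfl⟩ := h.conj3 hz hx
  rwa [card_centralizer_conj]

theorem mo32 (hx : orderOf x = 3) : mo C₁[x] 2 = 15 := by
  have := mo_mul (G := G) (a := 3) (b := 2) (k := mo C₁[x] 2) (by norm_num) fun y hy => by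
    obtain ⟨g, rfl⟩ := h.conj3 hx hy
    rw [← conj_smul_cent1, ← mo_congr (conjEquiv g C₁[x])]
  rw [h.m6, h.m3] at this
  omega

theorem cent32' (hx : orderOf x = 3) (t1 : t ≠ 1) (t2 : t * t = 1) :
    Nat.card ↥(C₁[t] ⊓ C₁[x]) ∣ 12 :=
  Nat.dvd_gcd (h.cent2 t1 t2 ▸ card_dvd_of_le inf_le_left) (h.cent3 hx ▸ card_dvd_of_le inf_le_right)

theorem cent32 (hx : orderOf x = 3) (ht : t ∈ C₁[x]) (t1 : t ≠ 1) (t2 : t * t = 1) :
    Nat.card ↥(C₁[t] ⊓ C₁[x]) = 12 := by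
  have h1 := Nat.le_of_dvd (by norm_num) (h.cent32' hx t1 t2)
  have h2 := index_le_mo (⟨t, ht⟩ : C₁[x])
  have h3 := (C₁[(⟨t, ht⟩ : C₁[x])]).index_mul_card
  rw [← orderOf_coe, o2 t1 t2, h.mo32 hx] at h2
  rw [card_cent1_coe, h.cent3 hx] at h3
  have := Nat.mul_le_mul_right (Nat.card ↥(C₁[t] ⊓ C₁[x])) h2
  omega

theorem conj32 (hx : orderOf x = 3) (ht : t ∈ C₁[x]) (t1 : t ≠ 1) (t2 : t * t = 1)
    (hv : v ∈ C₁[x]) (v1 : v ≠ 1) (v2 : v * v = 1) : ∃ c ∈ C₁[x], c * t * c⁻¹ = v := by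
  have h3 := (C₁[(⟨t, ht⟩ : C₁[x])]).index_mul_card
  rw [card_cent1_coe, h.cent3 hx, h.cent32 hx ht t1 t2] at h3
  obtain ⟨c, e⟩ := conj_of_index (y := (⟨t, ht⟩ : C₁[x])) (x := ⟨v, hv⟩)
    (by rw [← orderOf_coe, o2 t1 t2, h.mo32 hx]; omega)
    (by rw [← orderOf_coe, ← orderOf_coe, o2 t1 t2, o2 v1 v2])
  exact ⟨c, c.2, congrArg Subtype.val e⟩

theorem exists_V (hx : orderOf x = 3) (ht : t ∈ C₁[x]) (t1 : t ≠ 1) (t2 : t * t = 1) :
    ∃ V, IsV x V ∧ t ∈ V := by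
  obtain ⟨V, h1, h2, h3⟩ := exists_between (n := 1) (m := 2) Nat.prime_two (zpowers_le.mpr ht)
    (by rw [Nat.card_zpowers, o2 t1 t2]; rfl) (by norm_num) (by rw [h.cent3 hx]; norm_num)
  exact ⟨V, ⟨h3, h2⟩, h1 (mem_zpowers t)⟩

variable (hx : orderOf x = 3) (hV : IsV x V)
include hx hV

omit [Finite G] in
theorem V_sq (v : G) (hv : v ∈ V) : v * v = 1 := h.sq hV.pg hv hx (hV.2 hv)

theorem V_sup (ht : t ∈ V) (t1 : t ≠ 1) : V ⊔ zpowers x = C₁[t] ⊓ C₁[x] :=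
  Cfsg.Agent.H7.eq_of_le_of_card_le (sup_le (le_inf (hV.comm.trans (cent_le_cent1 ht)) hV.2)
    (zpowers_le.mpr ⟨mem_cent1_comm.mp (hV.2 ht), mem_cent1_self x⟩)) (by
      rw [card_sup_of_inf_eq_bot (zpowers_le.mpr (cent_le_norm V hV.cent)) (inf_eq_bot_of_coprime'
        (by rw [hV.1, Nat.card_zpowers, hx]; norm_num)), hV.1, Nat.card_zpowers, hx,
        h.cent32 hx (hV.2 ht) t1 (h.V_sq hx hV t ht)])

theorem V_cent (ht : t ∈ V) (t1 : t ≠ 1) : C₁[t] ⊓ C₁[x] ≤ C[V] :=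
  h.V_sup hx hV ht t1 ▸ sup_le hV.comm (zpowers_le.mpr hV.cent)

theorem le_V (ht : t ∈ V) (t1 : t ≠ 1) (hR : IsPGroup 2 R) (h1 : R ≤ C₁[t]) (h2 : R ≤ C₁[x]) :
    R ≤ V := by
  refine le_of_coprime_relIndex ((h.V_cent hx hV ht t1).trans (cent_le_norm V)) (le_inf h1 h2) ?_
  rw [relIndex_eq (le_inf (hV.comm.trans (cent_le_cent1 ht)) hV.2) (n := 3)
    (by rw [h.cent32 hx (hV.2 ht) t1 (h.V_sq hx hV t ht), hV.1])]
  obtain ⟨k, hk⟩ := hR.exists_card_eq
  exact hk ▸ Nat.Coprime.pow_left _ (by norm_num)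

theorem V_eq (hR : IsV x R) (ht : t ∈ V) (t1 : t ≠ 1) (h1 : t ∈ R) : R = V :=
  eq_of_le_of_card_eq (h.le_V hx hV ht t1 hR.pg (hR.comm.trans (cent_le_cent1 h1)) hR.2)
    (hR.1.trans hV.1.symm)

theorem V_norm (ht : t ∈ V) (t1 : t ≠ 1) (hg : g * x * g⁻¹ = x ∨ g * x * g⁻¹ = x⁻¹)
    (h1 : g * t * g⁻¹ ∈ V) : g ∈ N[V] := by
  refine mem_norm_of_conj_smul_eq (h.V_eq hx hV ⟨(hV.smul g).1, ?_⟩ h1 (by simpa using t1)
    (conj_mem_conj_smul.mpr ht))
  have := (hV.smul g).2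
  rcases hg with e | e <;> rw [e] at this
  · exact this
  · rwa [← cent_zpowers, zpowers_inv, cent_zpowers] at this

theorem V_tr (ht : t ∈ V) (t1 : t ≠ 1) (hv : v ∈ V) (v1 : v ≠ 1) :
    ∃ c ∈ N[V] ⊓ C₁[x], c * t * c⁻¹ = v := by
  obtain ⟨c, hc, e⟩ := h.conj32 hx (hV.2 ht) t1 (h.V_sq hx hV t ht) (hV.2 hv) v1
    (h.V_sq hx hV v hv)
  exact ⟨c, ⟨h.V_norm hx hV ht t1 (Or.inl (mul_inv_eq_iff_eq_mul.mpr (mem_cent1_iff.mp hc)))
    (e ▸ hv), hc⟩, e⟩

theorem card_NV : Nat.card ↥(N[V] ⊓ C₁[x]) = 36 := by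
  obtain ⟨t, ht, t1⟩ := hV.ex
  rw [card_orb _ t, show orb (N[V] ⊓ C₁[x]) t = (V : Set G) \ {1} from Set.Subset.antisymm (by
    rintro _ ⟨g, hg, rfl⟩
    exact ⟨conj_mem_of_norm hg.1 ht, by simpa using t1⟩)
    fun v hv => h.V_tr hx hV ht t1 hv.1 hv.2, ncard_sdiff_one, hV.1,
    show C₁[t] ⊓ (N[V] ⊓ C₁[x]) = C₁[t] ⊓ C₁[x] from le_antisymm
      (inf_le_inf_left _ inf_le_right) (le_inf inf_le_left
        (le_inf ((h.V_cent hx hV ht t1).trans (cent_le_norm V)) inf_le_right)),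
    h.cent32 hx (hV.2 ht) t1 (h.V_sq hx hV t ht)]

theorem exists_P : ∃ P : Subgroup G, Nat.card P = 9 ∧ x ∈ P ∧ P ≤ N[V] := by
  obtain ⟨P, h1, h2, h3⟩ := exists_between (n := 1) (m := 2) Nat.prime_three
    (K := N[V] ⊓ C₁[x]) (zpowers_le.mpr ⟨cent_le_norm V hV.cent, mem_cent1_self x⟩)
    (by rw [Nat.card_zpowers, hx]; rfl) (by norm_num) (by rw [h.card_NV hx hV]; norm_num)
  exact ⟨P, h3, h1 (mem_zpowers x), h2.trans inf_le_left⟩

theorem NV_eq (hP : Nat.card P = 9) (h1 : x ∈ P) (h2 : P ≤ N[V]) : V ⊔ P = N[V] ⊓ C₁[x] :=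
  Cfsg.Agent.H7.eq_of_le_of_card_le (sup_le (le_inf (le_norm_self V) hV.2) (le_inf h2 fun _ hg =>
    mem_cent1_iff.mpr (comm_of_abel (abel_of_card_sq (p := 3) hP) hg h1))) (by
      rw [card_sup_of_inf_eq_bot h2 (inf_eq_bot_of_coprime' (by rw [hV.1, hP]; norm_num)), hV.1, hP,
        h.card_NV hx hV])

omit hx hV in
theorem o_P (hP : Nat.card P = 9) (hp : p ∈ P) (p1 : p ≠ 1) : orderOf p = 3 :=
  o3 p1 (h.cube (.of_card (n := 2) hP) hp)

omit hx hV in
theorem cent_P (hP : Nat.card P = 9) : C[P] = P := by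
  have h1 := le_cent_of_abel (abel_of_card_sq (p := 3) hP)
  obtain ⟨x, hx, ox⟩ := exists_mem_orderOf Nat.prime_three (H := P) (by rw [hP]; norm_num)
  refine (Cfsg.Agent.H7.eq_of_le_of_card_le h1 (Nat.le_of_dvd (card_pos' P) ?_)).symm
  refine hP ▸ ((cop_of Nat.prime_two fun e => ?_).pow_right 2).dvd_of_dvd_mul_right
    ((cop_of Nat.prime_five fun e => ?_).dvd_of_dvd_mul_right
      (h.cent3 ox ▸ card_dvd_of_le (cent_le_cent1 hx) :))
  · obtain ⟨t, ht, ot⟩ := exists_mem_orderOf Nat.prime_two e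
    exact h.not_le hP (of_o2 ot).1 (of_o2 ot).2 (le_cent1_iff.mpr ht)
  · obtain ⟨f, hf, of⟩ := exists_mem_orderOf Nat.prime_five e
    have := hP ▸ (card_dvd_of_le (le_cent1_iff.mpr hf)).trans (h.cent5 of)
    omega

omit hx hV in
/-- an element of a two-group normalized by `P` which normalizes `P` is trivial -/
theorem eq_one_of_norm (hP : Nat.card P = 9) (hR : IsPGroup 2 R) (hn : P ≤ N[R]) (hv : v ∈ R)
    (h1 : v ∈ N[P]) : v = 1 := by
  obtain ⟨k, hk⟩ := hR.exists_card_eq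
  have h2 : R ⊓ P = ⊥ := inf_eq_bot_of_coprime' (by
    rw [hk, hP]; exact Nat.Coprime.pow_left _ (by norm_num))
  refine eq_one_of_mem_inf h2 hv (h.cent_P hP ▸ mem_cent_iff.mpr fun y hy => ?_)
  refine mul_inv_eq_iff_eq_mul.mp (mul_inv_eq_one.mp (eq_one_of_mem_inf h2
    (mul_mem (conj_mem_of_norm (hn hy) hv) (inv_mem hv)) ?_))
  rw [mul_assoc, mul_assoc, ← mul_assoc v]
  exact mul_mem hy (conj_mem_of_norm h1 (inv_mem hy))

end H23

end Cfsg.Agent.Ma
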