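import Cfsg.Agent.H9.M23a

/-! Groups with the order and the element order statistics of `M₂₃`: the four-groups. -/

set_option autoImplicit false

namespace Cfsg.Agent.Ma

open Subgroup Cfsg.Agent.H7 Cfsg.Agent.H4 Cfsg.Agent.Fx4 Cfsg.Agent.H4.Nse
open MulAut (conj)
open scoped Pointwise

universe u
variable {G : Type u} [Group G] [Finite G] {L P T K H R V W M C : Subgroup G}
  {x y z g p s t v w q a b f : G}

theorem exists_core (M C : Subgroup G) : ∃ K ≤ C, C ≤ N[K] ∧ K.relIndex C ∣ (M.relIndex C).factorial ∧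
    K ≤ M ∧ ∀ t ∈ C, (∀ g ∈ C, g * t * g⁻¹ ∈ M) → t ∈ K := by
  refine ⟨(M.subgroupOf C).normalCore.map C.subtype, map_subtype_le _, le_norm_of_conj ?_, ?_, ?_,
    fun t ht h => ⟨⟨t, ht⟩, fun g => h g g.2, rfl⟩⟩
  · rintro g hg _ ⟨k, hk, rfl⟩
    exact ⟨_, (normalCore_normal _).conj_mem k hk ⟨g, hg⟩, rfl⟩
  · rw [relIndex, subgroupOf, comap_map_eq_self_of_injective C.subtype_injective, normalCore_eq_ker,
      index_ker, relIndex, index_eq_card, ← Nat.card_perm]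
    exact card_subgroup_dvd_card _
  · rintro _ ⟨k, hk, rfl⟩
    exact normalCore_le (M.subgroupOf C) hk

omit [Finite G] in
theorem cent1_inv (x : G) : C₁[x⁻¹] = C₁[x] := by rw [← cent_zpowers, zpowers_inv, cent_zpowers]

omit [Finite G] in
theorem comm_of_sqs (sq : ∀ g ∈ K, g * g = 1) : K ≤ C[K] := le_cent_iff.mpr fun b hb a ha => by
  rw [← inv_eq_of_mul_eq_one_right (sq _ (mul_mem ha hb)), mul_inv_rev,
    inv_eq_of_mul_eq_one_right (sq a ha), inv_eq_of_mul_eq_one_right (sq b hb)]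

theorem cent_two (h4 : Nat.card V = 4) (ht : t ∈ V) (t1 : t ≠ 1) (t2 : t * t = 1) (hv : v ∈ V)
    (v1 : v ≠ 1) (tv : t ≠ v) : C₁[v] ⊓ C₁[t] = C[V] :=
  le_antisymm (fun g hg => mem_cent_iff.mpr fun u hu => by
    have k1 := mem_cent1_iff.mp hg.1
    have k2 := mem_cent1_iff.mp hg.2
    rcases mem_four h4 ht hv t1 v1 tv t2 hu with rfl | rfl | rfl | rfl
    · simp
    · exact k2.symm
    · exact k1.symm
    · exact (Commute.mul_right k2 k1).symm) (le_inf (cent_le_cent1 hv) (cent_le_cent1 ht))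

theorem exists_third (h4 : Nat.card V = 4) (t : G) : ∃ v ∈ V, v ≠ 1 ∧ t ≠ v := by
  classical
  obtain ⟨v, hv, hn⟩ := exists_notMem (H := V) (s := {1, t}) (Finset.card_le_two.trans_lt (by omega))
  simp only [Finset.mem_insert, Finset.mem_singleton, not_or] at hn
  exact ⟨v, hv, hn.1, Ne.symm hn.2⟩

theorem exists_second (hP : Nat.card P = 9) (hx : x ∈ P) (ox : orderOf x = 3) :
    ∃ y ∈ P, y ∉ zpowers x :=
  SetLike.exists_of_lt (lt_of_le_of_ne (zpowers_le.mpr hx) fun e => by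
    rw [← e, Nat.card_zpowers, ox] at hP
    omega)

theorem mem_norm_three (ox : orderOf x = 3) :
    g ∈ N[zpowers x] ↔ g * x * g⁻¹ = x ∨ g * x * g⁻¹ = x⁻¹ :=
  H1.T3.mem_normalizer_zpowers_three (of_o3 ox).2 (of_o3 ox).1

omit [Finite G] in
theorem ne_inv_three (ox : orderOf x = 3) : x ≠ x⁻¹ := fun e =>
  (of_o3 ox).1 (eq_one_of_sq_cube (mul_eq_one_iff_eq_inv.mpr e) (of_o3 ox).2)

omit [Finite G] in
theorem sq_three (x3 : x ^ 3 = 1) : x * x = x⁻¹ :=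
  eq_inv_of_mul_eq_one_left (by rw [← x3, pow_three'])

omit [Finite G] in
theorem inv_inverts (e : s * x * s⁻¹ = x⁻¹) : s⁻¹ * x * s⁻¹⁻¹ = x⁻¹ :=
  calc s⁻¹ * x * s⁻¹⁻¹ = s⁻¹ * (s * x * s⁻¹)⁻¹ * s⁻¹⁻¹ := by rw [e, inv_inv x]
    _ = x⁻¹ := by group

omit [Finite G] in
theorem mul_inverts (e : a * x * a⁻¹ = x⁻¹) (k : b * x * b⁻¹ = x⁻¹) : a * b ∈ C₁[x] := by
  rw [mem_cent1_iff, ← mul_inv_eq_iff_eq_mul, ← conj_conj, k, ← conj_inv, e, inv_inv]

omit [Finite G] in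
theorem conj_inverts (e : s * x * s⁻¹ = x⁻¹) (k : p * x = x * p) :
    p * s * p⁻¹ * x * (p * s * p⁻¹)⁻¹ = x⁻¹ := by
  have k' := mul_inv_eq_iff_eq_mul.mpr k
  rw [← k', conj_inv, conj_mul, conj_mul, e, conj_inv]

/-- The basic data. -/
structure XV (x : G) (V P : Subgroup G) : Prop where
  ox : orderOf x = 3
  hV : IsV x V
  cP : Nat.card P = 9
  xP : x ∈ P
  PV : P ≤ N[V]

/-- The largest two-subgroup centralizing `V`. -/
structure IsW' (V W : Subgroup G) : Prop where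
  le : W ≤ C[V]
  pg : IsPGroup 2 W
  norm : N[V] ≤ N[W]
  max : ∀ R ≤ C[V], IsPGroup 2 R → R ≤ W
  card : Nat.card C[V] = 3 * Nat.card W

namespace H23

variable (h : H23 G)
include h

theorem exists_XV (t1 : t ≠ 1) (t2 : t * t = 1) : ∃ x V P, XV x V P ∧ t ∈ V := by
  obtain ⟨x, hx, ox⟩ := exists_mem_orderOf Nat.prime_three (H := C₁[t])
    (by rw [h.cent2 t1 t2]; norm_num)
  obtain ⟨V, hV, ht⟩ := h.exists_V ox (mem_cent1_comm.mp hx) t1 t2
  obtain ⟨P, h1, h2, h3⟩ := h.exists_P ox hV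
  exact ⟨x, V, P, ⟨ox, hV, h1, h2, h3⟩, ht⟩

theorem exists_inv (ox : orderOf x = 3) (ht : t ∈ C₁[x]) (t1 : t ≠ 1) (t2 : t * t = 1) :
    ∃ z ∈ C₁[t], z * x * z⁻¹ = x⁻¹ := by
  by_contra k
  push Not at k
  have h4 : Nat.card (zpowers x) = 3 := by rw [Nat.card_zpowers, ox]
  have h0 := zpowers_le.mpr (mem_cent1_comm.mp ht)
  have h1 := relIndex_modEq Nat.prime_three (.of_card (n := 1) h4) (by
    rw [relIndex_eq h0 (n := 896) (by rw [h.cent2 t1 t2, h4])]; norm_num) h0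
  have h2 := card_inf_mul_relIndex N[zpowers x] C₁[t]
  rw [show N[zpowers x] ⊓ C₁[t] = C₁[t] ⊓ C₁[x] from le_antisymm (fun g hg => ⟨hg.2,
    mem_cent1_iff.mpr (mul_inv_eq_iff_eq_mul.mp (((mem_norm_three ox).mp hg.1).resolve_right
      (k g hg.2)))⟩) (le_inf (inf_le_right.trans (le_norm_zpowers le_rfl)) inf_le_left),
    h.cent32 ox ht t1 t2, h.cent2 t1 t2] at h2
  unfold Nat.ModEq at h1
  omega

theorem ex4 (ox : orderOf x = 3) : ∃ R ≤ N[zpowers x], IsPGroup 2 R ∧ ∃ g ∈ R, g * g ≠ 1 := by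
  obtain ⟨f, hf, of⟩ := exists_mem_orderOf Nat.prime_five (H := C₁[x]) (by rw [h.cent3 ox]; norm_num)
  obtain ⟨R, h1, h2⟩ := exists_le_card (n := 2) Nat.prime_two (H := N[zpowers f])
    (by rw [h.norm5 of]; norm_num)
  refine ⟨R, fun g hg => mem_normalizer_zpowers.mpr ?_, .of_card h2, h.four5 of h1 h2⟩
  have xf := mem_cent1_comm.mp hf
  have h3 := h.cent5 of
  have h4 := ox ▸ orderOf_dvd_card_of_mem xf
  have h5 := of ▸ orderOf_dvd_card_of_mem (mem_cent1_self f)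
  have h6 : Nat.card C₁[f] = 15 := by
    have := Nat.le_of_dvd (by norm_num) h3
    have := card_pos' C₁[f]
    omega
  have h7 : zpowers x ⊔ zpowers f = C₁[f] := Cfsg.Agent.H7.eq_of_le_of_card_le
    (sup_le (zpowers_le.mpr xf) (zpowers_le.mpr (mem_cent1_self f))) (by
      rw [card_sup_of_inf_eq_bot (le_norm_zpowers (zpowers_le.mpr hf)) (inf_eq_bot_of_coprime'
        (by rw [Nat.card_zpowers, Nat.card_zpowers, ox, of]; norm_num)), Nat.card_zpowers,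
        Nat.card_zpowers, ox, of, h6])
  refine zpowers_le.mp (le_of_coprime_relIndex (L := C₁[f]) (h7 ▸ sup_le (le_norm_self _)
    (le_norm_zpowers (zpowers_le.mpr hf))) (zpowers_le.mpr (conj_mem_of_norm
      (cent_zpowers f ▸ norm_le_norm_cent _ (h1 hg)) xf)) ?_)
  rw [Nat.card_zpowers, orderOf_conj', ox, relIndex_eq (zpowers_le.mpr xf) (n := 5)
    (by rw [h6, Nat.card_zpowers, ox])]
  norm_num

theorem fixV (ox : orderOf x = 3) (hV : IsV x V) (hL : IsPGroup 2 L) (h1 : V ≤ L) :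
    L ⊓ C₁[x] = V := by
  refine (Cfsg.Agent.H7.eq_of_le_of_card_le (le_inf h1 hV.2) ?_).symm
  obtain ⟨k, -, hk⟩ := h.pow_le (hL.to_inf_left (K := C₁[x]))
  have h2 := h.cent3 ox ▸ card_dvd_of_le (inf_le_right (a := L) (b := C₁[x]))
  rw [hV.1]
  exact Nat.le_of_dvd (by norm_num) ((show (Nat.card ↥(L ⊓ C₁[x])).Coprime 45 from
    hk ▸ Nat.Coprime.pow_left _ (by norm_num)).dvd_of_dvd_mul_right h2)

theorem mod3 (ox : orderOf x = 3) (hV : IsV x V) (hL : IsPGroup 2 L) (h1 : V ≤ L)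
    (h2 : x ∈ N[L]) : Nat.card L = 4 ∨ Nat.card L = 16 ∨ Nat.card L = 64 := by
  have h3 := card_modEq_conj Nat.prime_three (of_o3 ox).2 fun _ => conj_mem_of_norm h2
  obtain ⟨k, hk, e⟩ := h.pow_le hL
  have h4 := card_le_of_le' h1
  rw [h.fixV ox hV hL h1, hV.1] at h3
  rw [hV.1] at h4
  unfold Nat.ModEq at h3
  interval_cases k <;> omega

theorem fcard (hP : Nat.card P = 9) (hL : IsPGroup 2 L) (hn : P ≤ N[L]) (hp : p ∈ P) (p1 : p ≠ 1) :
    Nat.card ↥(L ⊓ C₁[p]) = 1 ∨ Nat.card ↥(L ⊓ C₁[p]) = 4 := by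
  obtain ⟨k, hk, e⟩ := h.pow_le (hL.to_inf_left (K := C₁[p]))
  have h2 := h.cent3 (h.o_P hP hp p1) ▸ card_dvd_of_le (inf_le_right (a := L) (b := C₁[p]))
  have h3 : Nat.card ↥(L ⊓ C₁[p]) ≠ 2 := fun e => by
    obtain ⟨s, s1, s2, hs⟩ := card_two_eq e
    refine h.not_le hP s1 s2 fun y hy => mem_cent1_iff.mpr (mul_inv_eq_iff_eq_mul.mp ?_)
    exact ((hs _).mp (conj_mem_of_norm (le_norm_inf hn (le_norm_cent1 fun g hg => mem_cent1_iff.mpr
      (comm_of_abel (abel_of_card_sq (p := 3) hP) hg hp)) hy) ((hs s).mpr (Or.inr rfl)))).resolve_left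
      (by simpa using s1)
  rw [e] at h2 h3 ⊢
  interval_cases k <;> omega

variable (r : XV x V P)
include r

theorem not_cent (hp : p ∈ P) (hn : p ∉ zpowers x) (ht : t ∈ V) (t1 : t ≠ 1) : p ∉ C₁[t] := fun e =>
  h.not_le r.cP t1 (h.V_sq r.ox r.hV t ht) (sup_eq_nine r.cP r.xP hp r.ox hn ▸
    sup_le (zpowers_le.mpr (mem_cent1_comm.mp (r.hV.2 ht))) (zpowers_le.mpr e))

theorem noinv (hs : s ∈ C[V]) : s * x * s⁻¹ ≠ x⁻¹ := by
  intro e
  have ox := r.ox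
  obtain ⟨t, ht, t1⟩ := r.hV.ex
  have sq := h.V_sq ox r.hV
  have k : ∀ g ∈ C[V], g ∈ C₁[x] → ∃ v ∈ V, ∃ c ∈ zpowers x, v * c = g := fun g h1 h2 =>
    (mem_sup_of_norm (zpowers_le.mpr (cent_le_norm V r.hV.cent))).mp
      (h.V_sup ox r.hV ht t1 ▸ ⟨cent_le_cent1 ht h1, h2⟩)
  have ei : ∀ c ∈ zpowers x, s * c * s⁻¹ = c⁻¹ := fun c hc => by
    rcases mem_zpowers_three (of_o3 ox).2 hc with rfl | rfl | rfl
    · simp
    · exact e
    · rw [← conj_inv, e]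
  have h1 : s * s ∈ V := by
    obtain ⟨v, hv, c, hc, k1⟩ := k _ (mul_mem hs hs) (mul_inverts e e)
    have k2 : s * (v * c) * s⁻¹ = v * c := by rw [k1]; group
    rw [← conj_mul, conj_eq_of_mem_cent hs hv, ei c hc, mul_right_inj] at k2
    rw [← k1, eq_one_of_sq_cube (mul_eq_one_iff_eq_inv.mpr k2.symm)
      (ox ▸ Nat.card_zpowers x ▸ pow_card_eq_one_of_mem hc), mul_one]
    exact hv
  have h2 : s * s = 1 := by
    obtain ⟨p, hp, hn⟩ := exists_second r.cP r.xP ox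
    have pc := comm_of_abel (abel_of_card_sq (p := 3) r.cP) hp r.xP
    obtain ⟨v, hv, c, hc, k1⟩ := k (p * s * p⁻¹ * s⁻¹) (mul_mem
      (conj_mem_of_norm (le_norm_cent r.PV hp) hs) (inv_mem hs))
      (mul_inverts (conj_inverts e pc) (inv_inverts e))
    by_contra k2
    refine h.not_cent r hp hn h1 k2 (mem_cent1_iff.mpr (mul_inv_eq_iff_eq_mul.mp ?_))
    rw [← conj_mul, ← eq_mul_inv_iff_mul_eq.mp k1]
    calc _ = v * c * (s * v * s⁻¹) * (s * c * s⁻¹) * (s * s) := by group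
      _ = _ := by
        rw [conj_eq_of_mem_cent hs hv, ei c hc, mul_assoc v, ← comm_of_mem_cent
          (zpowers_le.mpr r.hV.cent hc) hv, ← mul_assoc v, sq v hv]
        group
  have sV : s ∉ V := fun k => ne_inv_three ox
    (by rw [← e, mem_cent1_iff.mp (r.hV.2 k), mul_inv_cancel_right])
  have h3 : V ⊔ zpowers s ≤ N[zpowers x] := sup_le (le_norm_zpowers r.hV.2)
    (zpowers_le.mpr ((mem_norm_three ox).mpr (Or.inr e)))
  have h4 : Nat.card ↥(V ⊔ zpowers s) = 8 := by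
    rw [card_sup_of_inf_eq_bot (zpowers_le.mpr (cent_le_norm V hs)) (inf_eq_bot_of_forall
      fun g h2' h3 => ((mem_zpowers_invol h2).mp h3).resolve_right fun e => sV (e ▸ h2')), r.hV.1,
      Nat.card_zpowers, o2 (ne_one_of sV) h2]
  have h5 := card_le_cent_mul N[zpowers x] x (T := {x, x⁻¹}) fun g hg => (mem_norm_three ox).mp hg
  have h6 := h.cent3 ox ▸ card_dvd_of_le (le_norm_zpowers (le_refl C₁[x]))
  have h7 := relIndex_mul_card h3
  have h8 := card_pos' N[zpowers x]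
  rw [inf_eq_left.mpr (le_norm_zpowers le_rfl), h.cent3 ox, Set.ncard_pair (ne_inv_three ox)] at h5
  rw [h4] at h7
  obtain ⟨R, r1, r2, g, hg, g2⟩ := h.ex4 ox
  obtain ⟨c, -, hc⟩ := exists_conj_le (p := 2) (T := V ⊔ zpowers s) r1 r2 (by omega)
  obtain ⟨v, hv, b, hb, k⟩ := (mem_sup_of_norm (zpowers_le.mpr (cent_le_norm V hs))).mp (hc g hg)
  refine g2 (conj_eq_one_iff.mp (show c * (g * g) * c⁻¹ = 1 from ?_))
  rw [← conj_mul, ← k]
  rcases (mem_zpowers_invol h2).mp hb with rfl | rfl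
  · simpa using sq v hv
  · rw [mul_assoc, ← mul_assoc b, ← comm_of_mem_cent hs hv, mul_assoc, h2, mul_one, sq v hv]

theorem cent_V_dvd : Nat.card C[V] ∣ 3 * 2 ^ 7 := by
  obtain ⟨t, ht, t1⟩ := r.hV.ex
  refine (cop_of (p := 7) (by norm_num) fun e => ?_).dvd_of_dvd_mul_right
    (h.cent2 t1 (h.V_sq r.ox r.hV t ht) ▸ card_dvd_of_le (cent_le_cent1 ht) :)
  obtain ⟨s, hs, os⟩ := exists_mem_orderOf (by norm_num) e
  have := r.hV.1 ▸ (card_dvd_of_le (le_cent1_iff.mpr hs)).trans (h.cent7 os)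
  omega

theorem exists_W : ∃ W, IsW' V W := by
  have h1 := h.cent_V_dvd r
  have h2 := H1.T3.pnil_three r.hV.cent (of_o3 r.ox).2 (of_o3 r.ox).1
    (fun e => by have := e.trans h1; norm_num at this) fun g hg => h.noinv r hg
  have h3 : Nat.card h2.compl ∣ 2 ^ 7 :=
    h2.coprime_card_compl.dvd_of_dvd_mul_left ((card_dvd_of_le h2.compl_le).trans h1)
  have h4 : ∀ R ≤ C[V], IsPGroup 2 R → R ≤ h2.compl := fun R h3 h4 g hg =>
    h2.mem_compl.mpr ⟨h3 hg, by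
      obtain ⟨k, hk⟩ := h4.exists_orderOf_eq_pow ⟨g, hg⟩
      rw [← orderOf_coe] at hk
      exact hk ▸ Nat.Coprime.pow_left _ (by norm_num)⟩
  refine ⟨h2.compl, h2.compl_le, pg_of_dvd Nat.prime_two h3,
    (norm_le_norm_cent _).trans h2.normalizer_le, h4, ?_⟩
  obtain ⟨n, hn⟩ := r.ox ▸ orderOf_dvd_card_of_mem r.hV.cent
  obtain ⟨k, -, rfl⟩ := (Nat.dvd_prime_pow Nat.prime_two).mp
    (Nat.dvd_of_mul_dvd_mul_left (by norm_num) (hn ▸ h1))
  obtain ⟨R, r1, r2⟩ := exists_le_card Nat.prime_two (Dvd.intro_left _ hn.symm)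
  rw [hn, Nat.dvd_antisymm (r2 ▸ card_dvd_of_le (h4 R r1 (.of_card r2)) :)
    (h2.coprime_card_compl.dvd_of_dvd_mul_left (hn ▸ card_dvd_of_le h2.compl_le :))]

variable (hW : IsW' V W)
include hW

omit [Finite G] h in
theorem V_le_W : V ≤ W := hW.max V r.hV.comm r.hV.pg

theorem card_W : Nat.card W = 16 ∨ Nat.card W = 64 := by
  refine (h.mod3 r.ox r.hV hW.pg (V_le_W r hW) (hW.norm (r.PV r.xP))).resolve_left fun e => ?_
  obtain ⟨t, ht, t1⟩ := r.hV.ex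
  have t2 := h.V_sq r.ox r.hV t ht
  obtain ⟨T, h1, h2, h3⟩ := exists_between (n := 2) (m := 7) Nat.prime_two
    (r.hV.comm.trans (cent_le_cent1 ht)) r.hV.1 (by norm_num) (by rw [h.cent2 t1 t2]; norm_num)
  obtain ⟨v, hv, v1, tv⟩ := exists_third r.hV.1 t
  have pT : IsPGroup 2 T := .of_card h3
  obtain ⟨c, hc⟩ := exists_big pT (h1 hv) (e ▸ card_le_of_le' (hW.max _
    (cent_two r.hV.1 ht t1 t2 hv v1 tv ▸ inf_le_inf_left _ h2) pT.to_inf_right))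
  have := h.ord c
  rw [h3] at hc
  simp only [List.mem_cons, List.not_mem_nil, or_false] at this
  omega

omit hW in
theorem card_M0 (ht : t ∈ V) (t1 : t ≠ 1) : Nat.card ↥(N[V] ⊓ C₁[t]) = 2 * Nat.card C[V] ∧
    ∃ z ∈ N[V] ⊓ C₁[t], z * x * z⁻¹ = x⁻¹ := by
  have t2 := h.V_sq r.ox r.hV t ht
  obtain ⟨z, hz, e⟩ := h.exists_inv r.ox (r.hV.2 ht) t1 t2
  have h1 : z ∈ N[V] := h.V_norm r.ox r.hV ht t1 (Or.inr e)
    (by rwa [mem_cent1_iff.mp hz, mul_inv_cancel_right])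
  have h2 : C[V] ≤ N[V] ⊓ C₁[t] := le_inf (cent_le_norm V) (cent_le_cent1 ht)
  refine ⟨le_antisymm ?_ (two_mul_card_le h2 fun k => h.noinv r (k ⟨h1, hz⟩) e), z, ⟨h1, hz⟩, e⟩
  obtain ⟨v, hv, v1, tv⟩ := exists_third r.hV.1 t
  have h3 := card_le_cent_mul (N[V] ⊓ C₁[t]) v (T := {v, t * v}) fun g hg => by
    rcases mem_four r.hV.1 ht hv t1 v1 tv t2 (conj_mem_of_norm hg.1 hv) with k | k | k | k
    · exact absurd (conj_eq_one_iff.mp k) v1
    · rw [mul_inv_eq_iff_eq_mul, ← mem_cent1_iff.mp hg.2, mul_right_inj] at k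
      exact absurd k.symm tv
    · exact Or.inl k
    · exact Or.inr k
  rw [Set.ncard_pair (by simpa using t1), mul_comm] at h3
  exact h3.trans (Nat.mul_le_mul_left 2 (card_le_of_le'
    (cent_two r.hV.1 ht t1 t2 hv v1 tv ▸ inf_le_inf_left _ inf_le_right)))

omit hW in
theorem ex_two (hL : Nat.card L = 16) (hn : P ≤ N[L]) (h1 : V ≤ L) :
    ∃ y ∈ P, y ∉ zpowers x ∧ Nat.card ↥(L ⊓ C₁[y]) = 4 := by
  have pL : IsPGroup 2 L := .of_card (n := 4) hL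
  obtain ⟨y, hy, hy'⟩ := exists_second r.cP r.xP r.ox
  have hi : y⁻¹ ∉ zpowers x := by rwa [inv_mem_iff]
  have c := cnt9 (of_o3 r.ox).2 (h.cube (.of_card (n := 2) r.cP) hy)
    (comm_of_abel (abel_of_card_sq (p := 3) r.cP) r.xP hy) (hn r.xP) (hn hy)
  have k1 := h.fcard r.cP pL hn hy (ne_one_of hy')
  have k2 := h.fcard r.cP pL hn (mul_mem r.xP hy) (ne_one_of (mul_notMem hy'))
  have k3 := h.fcard r.cP pL hn (mul_mem r.xP (inv_mem hy)) (ne_one_of (mul_notMem hi))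
  rw [h.fixV r.ox r.hV pL h1, r.hV.1, hL] at c
  by_contra k
  push Not at k
  have := k y hy hy'
  have := k _ (mul_mem r.xP hy) (mul_notMem hy')
  have := k _ (mul_mem r.xP (inv_mem hy)) (mul_notMem hi)
  omega

omit hW in
theorem eq_sup (hL : Nat.card L = 16) (h1 : V ≤ L) (h2 : L ≤ N[V]) (hy : y ∈ P)
    (hn : y ∉ zpowers x) (h4 : Nat.card ↥(L ⊓ C₁[y]) = 4) :
    V ⊓ (L ⊓ C₁[y]) = ⊥ ∧ V ⊔ L ⊓ C₁[y] = L := by
  have h3 : V ⊓ (L ⊓ C₁[y]) = ⊥ := inf_eq_bot_of_forall fun v h1 h2 => by_contra fun v1 =>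
    h.not_cent r hy hn h1 v1 (mem_cent1_comm.mp h2.2)
  exact ⟨h3, Cfsg.Agent.H7.eq_of_le_of_card_le (sup_le h1 inf_le_left) (by
    rw [card_sup_of_inf_eq_bot (inf_le_left.trans h2) h3, r.hV.1, h4, hL])⟩

theorem cw4 (h16 : Nat.card W = 16) (ab : W ≤ C[W]) (ht : t ∈ V) (t1 : t ≠ 1)
    (hs : s ∈ N[V] ⊓ C₁[t]) (sn : s ∉ C[V]) : Nat.card ↥(W ⊓ C₁[s]) ≤ 4 := by
  by_contra k
  obtain ⟨h1, z, hz, e⟩ := h.card_M0 r ht t1
  have xW := hW.norm (r.PV r.xP)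
  have h2 := mul_mem_of_index_two (le_inf (cent_le_norm V) (cent_le_cent1 ht)) h1 hs (inv_mem hz) sn
    (by rw [inv_mem_iff]; exact fun k => h.noinv r k e)
  have h3 : W ⊔ zpowers x = C[V] := Cfsg.Agent.H7.eq_of_le_of_card_le
    (sup_le hW.le (zpowers_le.mpr r.hV.cent)) (by
      rw [card_sup_of_inf_eq_bot (zpowers_le.mpr xW) (inf_eq_bot_of_coprime'
        (by rw [h16, Nat.card_zpowers, r.ox]; norm_num)), hW.card, h16, Nat.card_zpowers, r.ox])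
  obtain ⟨w, hw, c, hc, k1⟩ := (mem_sup_of_norm (zpowers_le.mpr xW)).mp (h3 ▸ h2)
  have h4 : s * x * s⁻¹ = w * x⁻¹ * w⁻¹ := by
    rw [← eq_mul_inv_iff_mul_eq.mp k1, ← conj_conj, e, ← conj_conj,
      comm_of_abel (abel_zpowers x) hc (inv_mem (mem_zpowers x)), mul_inv_cancel_right]
  have h5 : Nat.card ↥(W ⊓ C₁[x * s * x⁻¹]) = Nat.card ↥(W ⊓ C₁[s]) := by
    rw [← conj_smul_cent1, ← card_conj_smul x (W ⊓ C₁[s]), conj_smul_inf, conj_smul_of_norm xW]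
  have h6 := card_sup_mul_card_inf (A := W ⊓ C₁[s]) (B := W ⊓ C₁[x * s * x⁻¹])
    (le_norm_of_le_cent (le_cent_mono ab inf_le_left inf_le_left))
  have h7 := h16 ▸ card_le_of_le' (sup_le (inf_le_left (a := W) (b := C₁[s]))
    (inf_le_left (b := C₁[x * s * x⁻¹])))
  have h8 : 8 ≤ Nat.card ↥(W ⊓ C₁[s]) := by
    obtain ⟨k, hk, e⟩ := h.pow_le (hW.pg.to_inf_left (K := C₁[s]))
    interval_cases k <;> omega
  have h9 : (W ⊓ C₁[s]) ⊓ (W ⊓ C₁[x * s * x⁻¹]) ≤ V := fun d hd => by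
    rw [← h.fixV r.ox r.hV hW.pg (V_le_W r hW)]
    refine ⟨hd.1.1, mem_cent1_comm.mp ?_⟩
    have k2 := mul_mem (mem_cent1_comm.mp hd.1.2) (inv_mem (mem_cent1_comm.mp hd.2.2))
    rw [show s * (x * s * x⁻¹)⁻¹ = w * (x⁻¹ * w⁻¹ * x⁻¹⁻¹) * (x * x)⁻¹ by
      rw [show s * (x * s * x⁻¹)⁻¹ = s * x * s⁻¹ * x⁻¹ by group, h4]; group,
      mul_mem_cancel_left (cent_le_cent1 hd.1.1 (ab (mul_mem hw
        (conj_mem_of_norm (inv_mem xW) (inv_mem hw))))), sq_three (of_o3 r.ox).2, inv_inv] at k2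
    exact k2
  rw [h5] at h6
  have h10 := Nat.mul_le_mul h8 h8
  refine sn (le_cent1_iff.mp ((Cfsg.Agent.H7.eq_of_le_of_card_le h9 ?_).ge.trans
    (inf_le_left.trans inf_le_right)))
  by_contra k
  rw [r.hV.1, Nat.not_le, Nat.lt_succ_iff] at k
  have := Nat.mul_le_mul h7 k
  omega

theorem exists_M (ht : t ∈ V) (t1 : t ≠ 1) : (Nat.card W = 16 ∧ C₁[t] ≤ N[W]) ∨
    ∃ M : Subgroup G, t ∈ M ∧ M.relIndex C₁[t] = 7 := by
  have t2 := h.V_sq r.ox r.hV t ht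
  have hc := h.cent2 t1 t2
  obtain ⟨h1, -⟩ := h.card_M0 r ht t1
  have tM : t ∈ N[V] := le_norm_self V ht
  rcases h.card_W r hW with h16 | e
  swap
  · exact Or.inr ⟨N[V] ⊓ C₁[t], ⟨tM, mem_cent1_self t⟩, relIndex_eq inf_le_right (by rw [h1, hW.card, e, hc])⟩
  have PW := r.PV.trans hW.norm
  obtain ⟨y, hy, hn, h4⟩ := h.ex_two r h16 PW (V_le_W r hW)
  have ab : W ≤ C[W] := (h.eq_sup r h16 (V_le_W r hW) (hW.le.trans (cent_le_norm V)) hy hn h4).2 ▸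
    le_cent_of_abel (abel_sup (abel_of_card_sq (p := 2) r.hV.1) (abel_of_card_sq (p := 2) h4)
      (inf_le_left.trans hW.le))
  rw [hW.card, h16] at h1
  obtain ⟨R, r1, r2, r3⟩ := exists_between (n := 4) (m := 5) Nat.prime_two
    (hW.le.trans (le_inf (cent_le_norm V) (cent_le_cent1 ht))) h16 (by norm_num)
    (by rw [h1]; norm_num)
  obtain ⟨T, k1, k2, k3⟩ := exists_between (m := 6) Nat.prime_two (r2.trans inf_le_right) r3
    (by norm_num) (by rw [hc]; norm_num)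
  have h5 : T ≤ N[W] := fun g hg => mem_norm_of_conj_smul_le fun s hs => by_contra fun k => by
    have m1 : conj g • W ≤ R := by
      rintro _ ⟨v, hv, rfl⟩
      exact conj_mem_of_index_two k1 (by rw [k3, r3]; rfl) hg (r1 hv)
    have m2 := (card_le_of_le' (A := W ⊓ conj g • W) (B := W ⊓ C₁[s]) (inf_le_inf_left _
      ((le_cent_smul ab g).trans (cent_le_cent1 hs)))).trans (h.cw4 r hW h16 ab ht t1 (r2 (m1 hs))
        fun e => k (hW.max (C[V] ⊓ R) inf_le_left (IsPGroup.of_card r3).to_inf_right ⟨e, m1 hs⟩))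
    have m3 := card_inf_mul_relIndex W (conj g • W)
    have m4 := relIndex_le_of_le_right (H := W) m1 (relIndex_ne_zero' _ _)
    rw [relIndex_eq r1 (n := 2) (by rw [r3, h16]; rfl)] at m4
    have := Nat.mul_le_mul m2 m4
    rw [m3, card_conj_smul, h16] at this
    omega
  have h6 : zpowers x ≤ N[W] ⊓ C₁[t] := zpowers_le.mpr ⟨PW r.xP, mem_cent1_comm.mp (r.hV.2 ht)⟩
  have h7 : Nat.card (zpowers x) = 3 := by rw [Nat.card_zpowers, r.ox]
  have h8 := relIndex_mod Nat.prime_three (.of_card (n := 1) h7) h6 inf_le_right (by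
    rw [relIndex_eq (h6.trans inf_le_right) (n := 896) (by rw [hc, h7])]; norm_num) fun g hg =>
      ⟨hW.norm (h.V_norm r.ox r.hV ht t1 ((mem_norm_three r.ox).mp hg.1)
        (by rwa [mem_cent1_iff.mp hg.2, mul_inv_cancel_right])), hg.2⟩
  have h9 := relIndex_mul_card (inf_le_right (a := N[W]) (b := C₁[t]))
  obtain ⟨k, h10⟩ : 192 ∣ Nat.card ↥(N[W] ⊓ C₁[t]) := Nat.Coprime.mul_dvd_of_dvd_of_dvd
    (m := 64) (n := 3) (by norm_num) (k3 ▸ card_dvd_of_le (le_inf h5 k2) :) (h7 ▸ card_dvd_of_le h6)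
  rw [h10, hc] at h9
  have h11 : (N[W] ⊓ C₁[t]).relIndex C₁[t] * k = 14 := by linarith
  have h12 : (N[W] ⊓ C₁[t]).relIndex C₁[t] = 1 ∨ (N[W] ⊓ C₁[t]).relIndex C₁[t] = 7 := by
    generalize (N[W] ⊓ C₁[t]).relIndex C₁[t] = n at *
    have := Nat.le_of_dvd (by norm_num) (Dvd.intro _ h11)
    unfold Nat.ModEq at h8
    interval_cases n <;> omega
  exact h12.imp (fun e => ⟨h16, (relIndex_eq_one'.mp e).trans inf_le_left⟩)
    fun e => ⟨N[W] ⊓ C₁[t], ⟨hW.norm tM, mem_cent1_self t⟩, e⟩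

end H23

end Cfsg.Agent.Ma
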