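import Cfsg.Agent.H9.M23b

/-! Groups with the order and the element order statistics of `M₂₃`: the group `2⁴`. -/

set_option autoImplicit false

namespace Cfsg.Agent.Ma

open Subgroup Cfsg.Agent.H7 Cfsg.Agent.H4 Cfsg.Agent.Fx4 Cfsg.Agent.H4.Nse
open MulAut (conj)
open scoped Pointwise

universe u
variable {G : Type u} [Group G] [Finite G] {L P T K H R V W M C E A B : Subgroup G}
  {x y z g p s t v w q a b f : G}

/-- A normal subgroup of order sixteen of the centralizer of `t`. -/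
structure IsE (t : G) (K : Subgroup G) : Prop where
  t1 : t ≠ 1
  t2 : t * t = 1
  le : K ≤ C₁[t]
  norm : C₁[t] ≤ N[K]
  card : Nat.card K = 16

omit [Finite G] in
theorem IsE.smul (e : IsE t K) (g : G) : IsE (g * t * g⁻¹) (conj g • K) :=
  ⟨by simpa using e.t1, conj_sq e.t2 g, conj_smul_cent1 g t ▸ conj_smul_mono g e.le,
    conj_smul_cent1 g t ▸ le_norm_smul e.norm g, (card_conj_smul g K).trans e.card⟩

omit [Finite G] in
theorem IsE.pg (e : IsE t K) : IsPGroup 2 K := .of_card (n := 4) e.card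

namespace H23

variable (h : H23 G)
include h

theorem mod7 (t1 : t ≠ 1) (t2 : t * t = 1) (hn : C₁[t] ≤ N[K]) (h7 : ¬ 7 ∣ Nat.card K) :
    (t ∈ K ∧ Nat.card K % 7 = 2) ∨ (t ∉ K ∧ Nat.card K % 7 = 1) := by
  obtain ⟨s, hs, os⟩ := exists_mem_orderOf (by norm_num) (h.seven (o2 t1 t2))
  have h1 := card_modEq_conj (p := 7) (by norm_num) (os ▸ pow_orderOf_eq_one s)
    fun _ => conj_mem_of_norm (hn hs)
  have h2 : Nat.card ↥(K ⊓ C₁[s]) ∣ 2 := (cop_of (p := 7) (by norm_num) fun e =>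
    h7 (e.trans (card_dvd_of_le inf_le_left))).dvd_of_dvd_mul_right
      ((card_dvd_of_le inf_le_right).trans (h.cent7 os))
  unfold Nat.ModEq at h1
  rcases (Nat.dvd_prime Nat.prime_two).mp h2 with e | e
  · exact Or.inr ⟨fun k => t1 (eq_one_of_mem_inf (eq_bot_iff_card'.mpr e) k
      (mem_cent1_comm.mp hs)), by omega⟩
  · obtain ⟨a, a1, a2, ha⟩ := card_two_eq e
    have h3 := (ha a).mpr (Or.inr rfl)
    exact Or.inl ⟨h.inv7 os h3.2 a1 a2 (mem_cent1_comm.mp hs) t1 t2 ▸ h3.1, by omega⟩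

theorem not128 (t1 : t ≠ 1) (t2 : t * t = 1) (h1 : K ≤ C₁[t]) (hn : C₁[t] ≤ N[K]) :
    Nat.card K ≠ 128 := fun e => by
  have hc := h.cent2 t1 t2
  obtain ⟨x, hx, ox⟩ := exists_mem_orderOf Nat.prime_three (H := C₁[t]) (by rw [hc]; norm_num)
  obtain ⟨z, hz, ez⟩ := h.exists_inv ox (mem_cent1_comm.mp hx) t1 t2
  have h2 := pow_relIndex_mem_of_norm hn hz
  rw [relIndex_eq h1 (n := 21) (by rw [hc, e])] at h2
  have h3 := mul_mem h2 (conj_mem_of_norm (hn hx) (inv_mem h2))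
  have h4 : z ^ 21 * x * (z ^ 21)⁻¹ = x⁻¹ := by
    rw [show z ^ 21 = z * (z * z) ^ 10 by rw [← pow_two, ← pow_mul, ← pow_succ'], ← conj_conj,
      mem_cent1_iff.mp (pow_mem (mul_inverts ez ez) 10), mul_inv_cancel_right, ez]
  rw [← mul_assoc, ← mul_assoc, h4, ← mul_inv_rev, sq_three (of_o3 ox).2, inv_inv] at h3
  have := orderOf_dvd_card_of_mem h3
  rw [ox, e] at this
  omega

theorem ker (t1 : t ≠ 1) (t2 : t * t = 1) (ht : t ∈ M) (h7 : M.relIndex C₁[t] = 7) :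
    ∃ K, IsE t K := by
  obtain ⟨K, h1, h2, h3, h4, h5⟩ := exists_core M C₁[t]
  have h6 := relIndex_mul_card h1
  have h8 := h7 ▸ relIndex_dvd_of_le_left' h4 C₁[t]
  rw [h.cent2 t1 t2] at h6
  rw [h7] at h3
  obtain ⟨n, hn⟩ := h8
  rw [hn] at h3 h6
  have h9 : n ∣ 48 := Nat.dvd_gcd (Nat.dvd_of_mul_dvd_mul_left (by norm_num) h3 : n ∣ 720)
    (⟨Nat.card K, by linarith⟩ : n ∣ 384)
  have h10 := h.not128 t1 t2 h1 h2
  have h11 := (h.mod7 t1 t2 h2 (fun ⟨k, hk⟩ => by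
    rw [hk, show 7 * n * (7 * k) = 49 * (n * k) by ring] at h6
    omega)).resolve_right fun e => e.1 (h5 t (mem_cent1_self t) fun g hg => by
      rwa [mem_cent1_iff.mp hg, mul_inv_cancel_right])
  refine ⟨K, t1, t2, h1, h2, ?_⟩
  have := Nat.le_of_dvd (by norm_num) h9
  interval_cases n <;> omega

theorem exists_E (t1 : t ≠ 1) (t2 : t * t = 1) : ∃ K, IsE t K := by
  obtain ⟨x, V, P, r, ht⟩ := h.exists_XV t1 t2
  obtain ⟨W, hW⟩ := h.exists_W r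
  rcases h.exists_M r hW ht t1 with e | ⟨M, h1, h2⟩
  · exact ⟨W, t1, t2, hW.le.trans (cent_le_cent1 ht), e.2, e.1⟩
  · exact h.ker t1 t2 h1 h2

theorem E_mem (e : IsE t K) : t ∈ K :=
  ((h.mod7 e.t1 e.t2 e.norm (by rw [e.card]; norm_num)).resolve_right fun k => by
    simpa [e.card] using k.2).1

theorem V_le_E (ox : orderOf x = 3) (hV : IsV x V) (ht : t ∈ V) (e : IsE t K) : V ≤ K := by
  have h1 := card_modEq_conj Nat.prime_three (of_o3 ox).2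
    fun _ => conj_mem_of_norm (e.norm (mem_cent1_comm.mp (hV.2 ht)))
  have h2 := h.le_V ox hV ht e.t1 e.pg.to_inf_left (inf_le_left.trans e.le) inf_le_right
  have h3 := hV.1 ▸ card_le_of_le' h2
  have h4 := one_lt_card_of_ne_bot (ne_bot_of_mem (A := K ⊓ C₁[x]) ⟨h.E_mem e, hV.2 ht⟩ e.t1)
  rw [e.card] at h1
  unfold Nat.ModEq at h1
  exact (Cfsg.Agent.H7.eq_of_le_of_card_le h2 (by rw [hV.1]; omega)).ge.trans inf_le_left

theorem E_orb (r : XV x V P) (hW : IsW' V W) (ht : t ∈ V) (hv : v ∈ V) (v1 : v ≠ 1) (tv : t ≠ v)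
    (e : IsE t K) : Nat.card W = 64 ∧ orb C₁[t] v = ((K : Set G) \ {1}) \ {t} := by
  have h1 : orb C₁[t] v ⊆ ((K : Set G) \ {1}) \ {t} := by
    rintro _ ⟨g, hg, rfl⟩
    refine ⟨⟨conj_mem_of_norm (e.norm hg) (h.V_le_E r.ox r.hV ht e hv), by simpa using v1⟩,
      fun k => tv ?_⟩
    rw [Set.mem_singleton_iff, mul_inv_eq_iff_eq_mul, ← mem_cent1_iff.mp hg, mul_right_inj] at k
    exact k.symm
  have h2 := card_orb C₁[t] v
  have h3 := Set.ncard_le_ncard h1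
  have h4 : (((K : Set G) \ {1}) \ {t}).ncard = 14 := by
    rw [Set.ncard_sdiff_singleton_of_mem (show t ∈ (K : Set G) \ {1} from ⟨h.E_mem e, e.t1⟩),
      ncard_sdiff_one, e.card]
  rw [cent_two r.hV.1 ht e.t1 e.t2 hv v1 tv, hW.card, h.cent2 e.t1 e.t2] at h2
  rcases h.card_W r hW with k | k <;> rw [k] at h2
  · omega
  · exact ⟨k, Set.eq_of_subset_of_ncard_le h1 (by omega)⟩

theorem E_spec (t1 : t ≠ 1) (t2 : t * t = 1) : ∃ v, v * v = 1 ∧ ∀ K, IsE t K →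
    ∀ g, g ∈ K ↔ g = 1 ∨ g = t ∨ g ∈ orb C₁[t] v := by
  obtain ⟨x, V, P, r, ht⟩ := h.exists_XV t1 t2
  obtain ⟨W, hW⟩ := h.exists_W r
  obtain ⟨v, hv, v1, tv⟩ := exists_third r.hV.1 t
  refine ⟨v, h.V_sq r.ox r.hV v hv, fun K e g => ?_⟩
  rw [(h.E_orb r hW ht hv v1 tv e).2]
  refine ⟨fun hg => by simp only [Set.mem_sdiff, Set.mem_singleton_iff, SetLike.mem_coe]; tauto, ?_⟩
  rintro (rfl | rfl | k)
  exacts [one_mem _, h.E_mem e, k.1.1]

theorem E_uniq (e : IsE t K) (e' : IsE t L) : K = L := by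
  obtain ⟨v, -, k⟩ := h.E_spec e.t1 e.t2
  ext g
  rw [k K e, k L e']

theorem E_sq (e : IsE t K) (g : G) (hg : g ∈ K) : g * g = 1 := by
  obtain ⟨v, v2, k⟩ := h.E_spec e.t1 e.t2
  rcases (k K e g).mp hg with rfl | rfl | ⟨c, -, rfl⟩
  exacts [mul_one 1, e.t2, conj_sq v2 c]

theorem E_cent (e : IsE t K) : C[K] = K := by
  have h0 := comm_of_sqs (h.E_sq e)
  have h1 : C[K] ≤ C₁[t] := cent_le_cent1 (h.E_mem e)
  have h2 := e.norm.trans (norm_le_norm_cent K)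
  have h3 : ¬ 7 ∣ Nat.card C[K] := fun k => by
    obtain ⟨s, hs, os⟩ := exists_mem_orderOf (by norm_num) k
    have := e.card ▸ (card_dvd_of_le (le_cent1_iff.mpr hs)).trans (h.cent7 os)
    omega
  have h4 : ¬ 3 ∣ Nat.card C[K] := fun k => by
    obtain ⟨s, hs, os⟩ := exists_mem_orderOf (by norm_num) k
    have := e.card ▸ h.cent3 os ▸ card_dvd_of_le (le_cent1_iff.mpr hs)
    omega
  obtain ⟨k, hk, h5⟩ := (Nat.dvd_prime_pow (m := 7) Nat.prime_two).mp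
    ((cop_of Nat.prime_three h4).dvd_of_dvd_mul_right ((cop_of (by norm_num) h3).dvd_of_dvd_mul_right
      (h.cent2 e.t1 e.t2 ▸ card_dvd_of_le h1 :)))
  have h6 := h.not128 e.t1 e.t2 h1 h2
  have h7 := (h.mod7 e.t1 e.t2 h2 h3).resolve_right fun k => k.1 (h0 (h.E_mem e))
  have h8 := e.card ▸ card_le_of_le' h0
  refine (Cfsg.Agent.H7.eq_of_le_of_card_le h0 ?_).symm
  rw [e.card]
  interval_cases k <;> omega

theorem E_inf (r : XV x V P) (ha : a ∈ V) (hb : b ∈ V) (ea : IsE a A) (eb : IsE b B) (hn : A ≠ B) :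
    A ⊓ B = V := by
  have h1 := le_inf (h.V_le_E r.ox r.hV ha ea) (h.V_le_E r.ox r.hV hb eb)
  have h2 := card_lt_of_lt (lt_of_le_of_ne (inf_le_left (a := A) (b := B)) fun e =>
    hn (eq_of_le_of_card_eq (inf_eq_left.mp e) (ea.card.trans eb.card.symm)))
  have h3 := h.mod3 r.ox r.hV ea.pg.to_inf_left h1 (le_norm_inf (X := C[V])
    ((cent_le_cent1 ha).trans ea.norm) ((cent_le_cent1 hb).trans eb.norm) r.hV.cent)
  rw [ea.card] at h2
  exact (Cfsg.Agent.H7.eq_of_le_of_card_le h1 (by rw [r.hV.1]; omega)).symm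

theorem E_norm (r : XV x V P) (ht : t ∈ V) (e : IsE t K) (hp : p ∈ P) (hn : p ∉ zpowers x) :
    p ∈ N[K] := by
  obtain ⟨W, hW⟩ := h.exists_W r
  obtain ⟨v, hv, v1, tv⟩ := exists_third r.hV.1 t
  have h64 := (h.E_orb r hW ht hv v1 tv e).1
  have p3 := h.cube (.of_card (n := 2) r.cP) hp
  have m2 := conj_mem_of_norm (r.PV hp) ht
  have m3 := conj_mem_of_norm (r.PV hp) m2
  have e2 := e.smul p
  have e3 := e2.smul p
  have sq := h.V_sq r.ox r.hV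
  have kW : ∀ {a A}, a ∈ V → IsE a A → V ≤ A ∧ A ≤ W ∧ C[V] ≤ N[A] := fun ha ea =>
    have k := h.V_le_E r.ox r.hV ha ea
    ⟨k, hW.max _ ((h.E_cent ea).ge.trans (cent_anti k)) ea.pg, (cent_le_cent1 ha).trans ea.norm⟩
  obtain ⟨a1, b1, c1⟩ := kW ht e
  obtain ⟨a2, b2, c2⟩ := kW m2 e2
  obtain ⟨a3, b3, -⟩ := kW m3 e3
  refine mem_norm_of_conj_smul_eq (by_contra fun k => ?_)
  have i12 := h.E_inf r ht m2 e e2 (Ne.symm k)
  have i23 := h.E_inf r m2 m3 e2 e3 fun e => k (conj_smul_inj.mp e).symm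
  have i13 := h.E_inf r ht m3 e e3 fun e => k (by
    nth_rewrite 1 [e]
    rw [conj_smul_smul, conj_smul_smul, ← pow_three', p3, conj_one_smul])
  have n21 := (b2.trans hW.le).trans c1
  have hs : K ⊔ conj p • K = W := Cfsg.Agent.H7.eq_of_le_of_card_le (sup_le b1 b2) (by
    have := card_sup_mul_card_inf n21
    rw [i12, r.hV.1, e.card, e2.card] at this
    omega)
  obtain ⟨g, hg, gV⟩ := SetLike.exists_of_lt (lt_of_le_of_ne a3 fun k => by
    have := e3.card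
    rw [← k, r.hV.1] at this
    omega)
  obtain ⟨a, ha, b, hb, rfl⟩ := (mem_sup_of_norm n21).mp (hs ▸ b3 hg)
  have aK : a ∉ conj p • K := fun k => gV (i23 ▸ ⟨mul_mem k hb, hg⟩)
  have bK : b ∉ K := fun k => gV (i13 ▸ ⟨mul_mem ha k, hg⟩)
  have ab : b ∈ C₁[a] := by
    rw [mem_cent1_iff, ← inv_eq_of_mul_eq_one_right (h.E_sq e3 _ hg), mul_inv_rev,
      inv_eq_of_mul_eq_one_right (h.E_sq e a ha), inv_eq_of_mul_eq_one_right (h.E_sq e2 b hb)]
  have h1 := two_mul_card_le (le_inf b1 ((h.E_cent e).ge.trans (cent_le_cent1 ha)))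
    fun k => bK (k ⟨b2 hb, ab⟩)
  obtain ⟨d, hd, dn⟩ : ∃ d ∈ conj p • K, d ∉ C₁[a] := by
    by_contra k
    push Not at k
    exact aK (h.E_cent e2 ▸ le_cent1_iff.mp k)
  have cV : a * d * a⁻¹ * d⁻¹ ∈ V := i12 ▸ comm_le_inf ((b1.trans hW.le).trans c2) n21
    (comm_mem ha hd)
  have c1' : a * d * a⁻¹ * d⁻¹ ≠ 1 := fun k => dn (mem_cent1_iff.mpr
    (mul_inv_eq_iff_eq_mul.mp (mul_inv_eq_one.mp k)).symm)
  have nX : C[V] ≤ N[zpowers (a * d * a⁻¹ * d⁻¹)] := le_norm_zpowers (cent_le_cent1 cV)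
  have h2 : a ∈ centMod W (zpowers (a * d * a⁻¹ * d⁻¹)) := ⟨le_norm_self W (b1 ha),
    nX (hW.le (b1 ha)), fun u hu => by
      by_cases k : u ∈ C₁[a]
      · rw [← mem_cent1_iff.mp k]
        simp
      have k1 := (mul_mem_iff_of_card (inf_le_left (a := W) (b := C₁[a])) (by
        rw [e.card] at h1; omega) (inv_mem (b2 hd)) hu).mpr
        ⟨fun e => absurd ((C₁[a]).inv_mem_iff.mp e.2) dn, fun e => absurd e.2 k⟩
      rw [show a * u * a⁻¹ * u⁻¹ = a * d * (d⁻¹ * u * a⁻¹) * u⁻¹ by group,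
        (Commute.inv_right (mem_cent1_iff.mp k1.2)).eq, show a * d * (a⁻¹ * (d⁻¹ * u)) * u⁻¹ =
          a * d * a⁻¹ * d⁻¹ by group]
      exact mem_zpowers _⟩
  have h3 : V ≤ K ⊓ centMod W (zpowers (a * d * a⁻¹ * d⁻¹)) := le_inf a1 fun v hv =>
    ⟨le_norm_self W (b1 (a1 hv)), nX (r.hV.comm hv), fun u hu => by
      rw [comm_of_mem_cent (hW.le hu) hv]
      simp⟩
  have h4 := h.mod3 r.ox r.hV e.pg.to_inf_left h3 (le_norm_inf (X := C[V]) c1
    (le_norm_centMod ((cent_le_norm V).trans hW.norm) nX) r.hV.cent)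
  have h5 := card_lt_of_lt (lt_of_le_of_ne h3 fun k => aK (a2 (k ▸ ⟨ha, h2⟩)))
  have h6 := e.card ▸ card_le_of_le'
    (inf_le_left (a := K) (b := centMod W (zpowers (a * d * a⁻¹ * d⁻¹))))
  rw [r.hV.1] at h5
  have h7 := ((Cfsg.Agent.H7.eq_of_le_of_card_le inf_le_left (by rw [e.card]; omega)).ge.trans
    (inf_le_right (b := centMod W (zpowers (a * d * a⁻¹ * d⁻¹)))) (mem_conj_smul.mp hd)).2.2 _
      (conj_mem_of_norm' (hW.norm (r.PV hp)) (b1 ha))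
  rw [show p⁻¹ * d * p * (p⁻¹ * a * p) * (p⁻¹ * d * p)⁻¹ * (p⁻¹ * a * p)⁻¹ =
    p⁻¹ * (a * d * a⁻¹ * d⁻¹)⁻¹ * p by group, inv_eq_of_mul_eq_one_right (sq _ cV),
    mem_zpowers_invol (sq _ cV)] at h7
  generalize a * d * a⁻¹ * d⁻¹ = c at *
  refine h.not_cent r hp hn cV c1' (mem_cent1_iff.mpr ?_)
  rcases h7 with k | k
  · rw [mul_assoc, inv_mul_eq_one, right_eq_mul] at k
    exact absurd k c1'
  · rw [mul_assoc, inv_mul_eq_iff_eq_mul] at k
    exact k.symm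

theorem E_all (e : IsE t K) (hs : s ∈ K) (s1 : s ≠ 1) : IsE s K := by
  obtain ⟨x, V, P, r, ht⟩ := h.exists_XV e.t1 e.t2
  obtain ⟨W, hW⟩ := h.exists_W r
  obtain ⟨p, hp, hn⟩ := exists_second r.cP r.xP r.ox
  have e2 := e.smul p
  rw [conj_smul_of_norm (h.E_norm r ht e hp hn)] at e2
  by_cases st : s = t
  · exact st ▸ e
  obtain ⟨g, hg, rfl⟩ := (h.E_orb r hW ht (conj_mem_of_norm (r.PV hp) ht) e2.t1 (fun k =>
    h.not_cent r hp hn ht e.t1 (mem_cent1_iff.mpr (mul_inv_eq_iff_eq_mul.mp k.symm))) e).2.ge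
    ⟨⟨hs, s1⟩, st⟩
  exact conj_smul_of_norm (e.norm hg) ▸ e2.smul g

theorem E_ti (e : IsE t E) (hs : s ∈ E) (s1 : s ≠ 1) (hg : g * s * g⁻¹ ∈ E) : g ∈ N[E] :=
  mem_norm_of_conj_smul_eq (h.E_uniq ((h.E_all e hs s1).smul g) (h.E_all e hg (by simpa using s1)))

theorem card_NE (e : IsE t E) : Nat.card N[E] = 40320 := by
  rw [card_orb _ t, show orb N[E] t = (E : Set G) \ {1} from Set.Subset.antisymm (by
    rintro _ ⟨g, hg, rfl⟩
    exact ⟨conj_mem_of_norm hg (h.E_mem e), by simpa using e.t1⟩) fun v hv => by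
      obtain ⟨g, rfl⟩ := h.conj2 (o2 e.t1 e.t2) (o2 hv.2 (h.E_sq e v hv.1))
      exact ⟨g, h.E_ti e (h.E_mem e) e.t1 hv.1, rfl⟩, ncard_sdiff_one, e.card,
    inf_eq_left.mpr e.norm, h.cent2 e.t1 e.t2]

theorem no15 (e : IsE t E) (hp : p ∈ N[E]) (op : orderOf p = 3) :
    ¬ 5 ∣ Nat.card ↥(N[E] ⊓ C₁[p]) := fun k => by
  obtain ⟨f, hf, of⟩ := exists_mem_orderOf Nat.prime_five k
  have h8 : Nat.card (zpowers f) = 5 := by rw [Nat.card_zpowers, of]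
  have h9 := relIndex_modEq Nat.prime_five (.of_card (n := 1) h8) (by
    rw [relIndex_eq (zpowers_le.mpr hf.1) (n := 8064) (by rw [h.card_NE e, h8])]; norm_num)
    (zpowers_le.mpr hf.1)
  have k1 := card_inf_mul_relIndex N[zpowers f] N[E]
  have k2 := h.norm5 of ▸ card_dvd_of_le (inf_le_left (a := N[zpowers f]) (b := N[E]))
  have k3 := op ▸ orderOf_dvd_card_of_mem (A := N[zpowers f] ⊓ N[E])
    ⟨le_norm_zpowers le_rfl (mem_cent1_comm.mp hf.2), hp⟩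
  have k4 := of ▸ orderOf_dvd_card_of_mem (A := N[zpowers f] ⊓ N[E])
    ⟨le_norm_self _ (mem_zpowers f), hf.1⟩
  have k6 := Nat.le_of_dvd (by norm_num) k2
  have k7 := card_pos' (N[zpowers f] ⊓ N[E])
  unfold Nat.ModEq at h9
  rw [h.card_NE e] at k1
  generalize Nat.card ↥(N[zpowers f] ⊓ N[E]) = c at *
  rcases (by omega : c = 15 ∨ c = 30 ∨ c = 45 ∨ c = 60) with rfl | rfl | rfl | rfl <;> omega

theorem NE_cent (e : IsE t E) (r : XV p V P) (h1 : V ≤ N[E]) (h2 : P ≤ N[E]) :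
    N[E] ⊓ C₁[p] = V ⊔ P := by
  have h3 := h.NV_eq r.ox r.hV r.cP r.xP r.PV
  have h4 : V ⊔ P ≤ N[E] ⊓ C₁[p] := le_inf (sup_le h1 h2) (h3.le.trans inf_le_right)
  refine (Cfsg.Agent.H7.eq_of_le_of_card_le h4 (Nat.le_of_dvd (card_pos' _) ?_)).symm
  rw [h3, h.card_NV r.ox r.hV]
  exact (cop_of Nat.prime_five (h.no15 e (h2 r.xP) r.ox)).dvd_of_dvd_mul_right
    (h.cent3 r.ox ▸ card_dvd_of_le inf_le_right :)

end H23

end Cfsg.Agent.Ma
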