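import Cfsg.Agent.H9.M23b

/-! Matrices of the elements normalizing an elementary abelian group of order nine. -/

set_option autoImplicit false

namespace Cfsg.Agent.Ma

open Subgroup Cfsg.Agent.H7 Cfsg.Agent.H4 Cfsg.Agent.Fx4 Cfsg.Agent.H4.Nse
open MulAut (conj)
open scoped Pointwise

/-- Vectors. -/
abbrev V3 := Fin 3 × Fin 3

/-- Matrices. -/
abbrev M3 := V3 × V3

/-- Image of a vector. -/
def a3 (m : M3) (v : V3) : V3 := v.1.val • m.1 + v.2.val • m.2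

/-- Product of matrices. -/
def m3 (m n : M3) : M3 := (a3 m n.1, a3 m n.2)

/-- The unit matrix. -/
def I3 : M3 := ((1, 0), (0, 1))

/-- The matrix of `w`. -/
def W3 : M3 := ((0, 1), (2, 0))

/-- The matrix of `q`. -/
def Q3 : M3 := ((1, 1), (1, 2))

/-- The other matrix of `q`. -/
def C3 : M3 := ((1, 1), (2, 1))

universe u
variable {G : Type u} [Group G] {P : Subgroup G} {x y z g k p w q : G} {m n : M3}

/-- The element with given exponents. -/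
def ev (x y : G) (v : V3) : G := x ^ v.1.val * y ^ v.2.val

/-- The matrix of `g`. -/
def R3 (x y : G) (m : M3) (g : G) : Prop := g * x * g⁻¹ = ev x y m.1 ∧ g * y * g⁻¹ = ev x y m.2

/-- A basis. -/
structure B3 (P : Subgroup G) (x y z : G) : Prop where
  cP : Nat.card P = 9
  hx : x ∈ P
  hy : y ∈ P
  ox : orderOf x = 3
  cube : ∀ p ∈ P, p ^ 3 = 1
  hn : y ∉ zpowers x
  cent : C[P] = P
  zx : z * x * z⁻¹ = x⁻¹
  zy : z * y * z⁻¹ = y⁻¹
  syl : ¬ 27 ∣ Nat.card G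

theorem R3.one : R3 x y I3 1 := by simp [R3, ev, I3]

namespace B3

variable (b : B3 P x y z)
include b

theorem comm (h1 : g ∈ P) (h2 : k ∈ P) : g * k = k * g :=
  comm_of_abel (abel_of_card_sq (p := 3) b.cP) h1 h2

theorem ev_add (v u : V3) : ev x y (v + u) = ev x y v * ev x y u := by
  simp only [ev, Prod.fst_add, Prod.snd_add, pow_fin_add (b.cube x b.hx),
    pow_fin_add (b.cube y b.hy)]
  exact (Commute.pow_pow (b.comm b.hx b.hy) _ _).mul_mul_mul_comm _ _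

theorem ev_smul (v : V3) (n : ℕ) : ev x y (n • v) = ev x y v ^ n := by
  induction n with
  | zero => simp [ev]
  | succ n ih => rw [succ_nsmul, b.ev_add, ih, pow_succ]

theorem ev_mem (v : V3) : ev x y v ∈ P := mul_mem (pow_mem b.hx _) (pow_mem b.hy _)

theorem ev_zero {v : V3} (h : ev x y v = 1) : v = 0 := by
  obtain ⟨i, j⟩ := v
  have h1 : y ^ j.val ∈ zpowers x := by
    rw [eq_inv_of_mul_eq_one_right h]
    exact inv_mem (pow_mem (mem_zpowers x) _)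
  obtain rfl : j = 0 := by
    fin_cases j
    · rfl
    · exact absurd (by simpa using h1) b.hn
    · refine absurd ?_ b.hn
      simpa [pow_two, sq_three (b.cube y b.hy)] using h1
  have := orderOf_dvd_of_pow_eq_one (show x ^ i.val = 1 by simpa [ev] using h)
  rw [b.ox] at this
  exact Prod.ext (Fin.ext (by simp only [Prod.fst_zero, Fin.val_zero]; omega)) rfl

theorem ev_inj {v u : V3} (h : ev x y v = ev x y u) : v = u :=
  sub_eq_zero.mp (b.ev_zero (mul_right_cancel (b := ev x y u)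
    (by rw [← b.ev_add, sub_add_cancel, one_mul, h])))

theorem app (h : R3 x y m g) (v : V3) : g * ev x y v * g⁻¹ = ev x y (a3 m v) := by
  rw [a3, b.ev_add, b.ev_smul, b.ev_smul, ← h.1, ← h.2, conj_pow, conj_pow, conj_mul, ev]

theorem mul (h : R3 x y m g) (h' : R3 x y n k) : R3 x y (m3 m n) (g * k) :=
  ⟨by rw [← conj_conj, h'.1, b.app h, m3], by rw [← conj_conj, h'.2, b.app h, m3]⟩

theorem code (h : R3 x y m g) (h' : R3 x y n k) (e : g = k) : m = n :=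
  Prod.ext (b.ev_inj (h.1.symm.trans (e ▸ h'.1))) (b.ev_inj (h.2.symm.trans (e ▸ h'.2)))

theorem inj (h : R3 x y m g) (v : V3) (e : a3 m v = 0) : v = 0 :=
  b.ev_zero (conj_eq_one_iff.mp (by rw [b.app h, e]; simp [ev]))

variable [Finite G]

theorem P_eq : zpowers x ⊔ zpowers y = P := sup_eq_nine b.cP b.hx b.hy b.ox b.hn

theorem ex_ev (hp : p ∈ P) : ∃ v, p = ev x y v := by
  rw [← b.P_eq, mem_sup_of_norm (le_norm_zpowers (zpowers_le.mpr
    (mem_cent1_iff.mpr (b.comm b.hy b.hx))))] at hp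
  obtain ⟨a, ha, c, hc, rfl⟩ := hp
  obtain ⟨i, hi, rfl⟩ := exists_pow b.ox ha
  obtain ⟨j, hj, rfl⟩ := exists_pow (o3 (ne_one_of b.hn) (b.cube y b.hy)) hc
  exact ⟨(⟨i, hi⟩, ⟨j, hj⟩), rfl⟩

theorem ex (hg : g ∈ N[P]) : ∃ m, R3 x y m g := by
  obtain ⟨v, hv⟩ := b.ex_ev (conj_mem_of_norm hg b.hx)
  obtain ⟨u, hu⟩ := b.ex_ev (conj_mem_of_norm hg b.hy)
  exact ⟨(v, u), hv, hu⟩

theorem norm (h : R3 x y m g) : g ∈ N[P] := mem_norm_of_conj fun p hp => by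
  obtain ⟨v, rfl⟩ := b.ex_ev hp
  exact b.app h v ▸ b.ev_mem _

theorem mem_P (h1 : g ∈ C₁[x]) (h2 : g ∈ C₁[y]) : g ∈ P := by
  rw [← b.cent, ← b.P_eq, cent_sup, cent_zpowers, cent_zpowers]
  exact ⟨h1, h2⟩

theorem inverts (hp : p ∈ P) : z * p * z⁻¹ = p⁻¹ := by
  obtain ⟨v, rfl⟩ := b.ex_ev hp
  rw [ev, ← conj_mul, ← conj_pow, ← conj_pow, b.zx, b.zy, inv_pow, inv_pow, ← mul_inv_rev,
    (Commute.pow_pow (b.comm b.hy b.hx) _ _).eq]

theorem eq_one (hp : p ∈ P) (h : p ∈ C₁[z]) : p = 1 := by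
  have := b.inverts hp
  rw [← mem_cent1_iff.mp h, mul_inv_cancel_right] at this
  exact eq_one_of_sq_cube (mul_eq_one_iff_eq_inv.mpr this) (b.cube p hp)

theorem eq (h : R3 x y m g) (h' : R3 x y n k) (h1 : g ∈ C₁[z]) (h2 : k ∈ C₁[z]) (e : m = n) :
    g = k := by
  subst e
  have c : ∀ a : G, g * a * g⁻¹ = k * a * k⁻¹ → k⁻¹ * g ∈ C₁[a] := fun a e => by
    rw [mem_cent1_iff, ← mul_inv_eq_iff_eq_mul, ← conj_conj, e]
    group
  exact (inv_mul_eq_one.mp (b.eq_one (b.mem_P (c x (h.1.trans h'.1.symm))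
    (c y (h.2.trans h'.2.symm))) (mul_mem (inv_mem h2) h1))).symm

theorem toS (hg : g ∈ N[P]) : ∃ p ∈ P, p * g ∈ C₁[z] := by
  have c : ∀ a ∈ P, g * z * g⁻¹ * z⁻¹ ∈ C₁[a] := fun a ha => mul_inverts (by
    rw [← conj_conj, ← conj_conj, inv_inv, b.inverts (conj_mem_of_norm' hg ha)]
    group) (inv_inverts (b.inverts ha))
  have h1 := b.mem_P (c x b.hx) (c y b.hy)
  refine ⟨_, h1, ?_⟩
  generalize hp : g * z * g⁻¹ * z⁻¹ = p at h1
  rw [mem_cent1_iff, ← mul_inv_eq_iff_eq_mul, ← conj_conj, mul_inv_eq_iff_eq_mul.mp hp]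
  calc _ = p * p * (z * p * z⁻¹)⁻¹ * z := by group
    _ = z := by rw [b.inverts h1, inv_inv, ← pow_three', b.cube p h1, one_mul]

theorem eq_one_of_cube (hg : g ∈ N[P]) (h : g ∈ C₁[z]) (h3 : g ^ 3 = 1) : g = 1 := by
  refine b.eq_one (by_contra fun k => b.syl ?_) h
  have og := o3 (ne_one_of k) h3
  have h1 : Nat.card (zpowers g) = 3 := by rw [Nat.card_zpowers, og]
  have h2 := card_sup_of_inf_eq_bot (zpowers_le.mpr hg) (inf_comm P _ ▸
    (inf_eq_bot_or_le_of_card_prime P (h1 ▸ Nat.prime_three)).resolve_right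
      fun e => k (e (mem_zpowers g)))
  rw [b.cP, h1] at h2
  exact (h2 ▸ card_subgroup_dvd_card (P ⊔ zpowers g) :)

theorem exists_q (rw : R3 x y W3 w) (hw : w ∈ C₁[z]) (hg : g ∈ N[P]) (e : g * x * g⁻¹ = x * y) :
    ∃ q ∈ C₁[z], R3 x y Q3 q ∨ R3 x y C3 q := by
  obtain ⟨p, hp, h1⟩ := b.toS hg
  have h2 := mul_mem (le_norm_self P hp) hg
  obtain ⟨m, r⟩ := b.ex h2
  have h3 : m.1 = (1, 1) := b.ev_inj (by
    rw [← r.1, ← conj_conj, e, b.comm hp (mul_mem b.hx b.hy), mul_inv_cancel_right]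
    simp [ev])
  generalize p * g = q at *
  have r2 := b.mul r r
  have c2 := mul_mem h1 h1
  rcases (by decide +kernel : ∀ m : M3, m.1 = (1, 1) → (∀ v, a3 m v = 0 → v = 0) →
      (m3 (m3 m m) (m3 (m3 m m) (m3 m m)) = I3 → m3 m m = I3) → m = Q3 ∨ m = C3 ∨
      m3 (m3 W3 (m3 W3 W3)) (m3 m m) = Q3 ∨ m3 (m3 W3 W3) (m3 (m3 W3 m) (m3 W3 m)) = Q3)
    m h3 (b.inj r) (fun k => b.code r2 R3.one (b.eq_one_of_cube (mul_mem h2 h2) c2
      (pow_three (q * q) ▸ b.eq (b.mul r2 (b.mul r2 r2)) R3.one (mul_mem c2 (mul_mem c2 c2))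
        (one_mem _) k))) with rfl | rfl | k | k
  · exact ⟨q, h1, Or.inl r⟩
  · exact ⟨q, h1, Or.inr r⟩
  · exact ⟨_, mul_mem (mul_mem hw (mul_mem hw hw)) c2,
      Or.inl (k ▸ b.mul (b.mul rw (b.mul rw rw)) r2)⟩
  · exact ⟨_, mul_mem (mul_mem hw hw) (mul_mem (mul_mem hw h1) (mul_mem hw h1)),
      Or.inl (k ▸ b.mul (b.mul rw rw) (b.mul (b.mul rw r) (b.mul rw r)))⟩

theorem qw (rw : R3 x y W3 w) (hw : w ∈ C₁[z]) (hq : q ∈ C₁[z])
    (rq : R3 x y Q3 q ∨ R3 x y C3 q) :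
    (R3 x y Q3 q ∧ q * w * q⁻¹ = w⁻¹ ∧ q * q = w * w) ∨ (q * w * q⁻¹ = w ∧ q * q = w⁻¹) := by
  refine rq.imp (fun r => ⟨r, ?_, b.eq (b.mul r r) (b.mul rw rw) (mul_mem hq hq) (mul_mem hw hw)
    (by decide)⟩) fun r => ⟨mul_inv_eq_iff_eq_mul.mpr (b.eq (b.mul r rw) (b.mul rw r)
      (mul_mem hq hw) (mul_mem hw hq) (by decide)), eq_inv_of_mul_eq_one_left
        (b.eq (b.mul (b.mul r r) rw) R3.one (mul_mem (mul_mem hq hq) hw) (one_mem _) (by decide))⟩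
  rw [mul_inv_eq_iff_eq_mul, eq_inv_mul_iff_mul_eq]
  exact b.eq (b.mul rw (b.mul r rw)) r (mul_mem hw (mul_mem hq hw)) hq (by decide)

end B3

theorem R3.W (wx : w * x * w⁻¹ = y) (wy : w * y * w⁻¹ = x⁻¹) (x3 : x ^ 3 = 1) : R3 x y W3 w :=
  ⟨by simpa [ev, W3] using wx, by simpa [ev, W3, pow_two, sq_three x3] using wy⟩

end Cfsg.Agent.Ma
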