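import Cfsg.Agent.H9.M23c
import Cfsg.Agent.H9.MaR3

/-! Groups with the order and the element order statistics of `M₂₃`: the frame. -/

set_option autoImplicit false

namespace Cfsg.Agent.Ma

open Subgroup Cfsg.Agent.H7 Cfsg.Agent.H4 Cfsg.Agent.Fx4 Cfsg.Agent.H4.Nse
open MulAut (conj)
open scoped Pointwise

universe u
variable {G : Type u} [Group G] [Finite G] {L P T K H R V U W E : Subgroup G}
  {x y z g p t v w q a f : G} {F : Fr G}

theorem not_dvd_relIndex (h27 : ¬ 27 ∣ Nat.card G) (hP : Nat.card P = 9) (h : P ≤ H) :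
    ¬ 3 ∣ P.relIndex H := fun e => h27
  ((mul_dvd_mul_right e 9).trans
    (hP ▸ (relIndex_mul_card h).dvd.trans (card_subgroup_dvd_card H)))

theorem fuse (h27 : ¬ 27 ∣ Nat.card G) (hP : Nat.card P = 9) (h : P ≤ H) (hg : g ∈ H) (ha : a ∈ P)
    (hb : g * a * g⁻¹ ∈ P) : ∃ w ∈ H ⊓ N[P], w * a * w⁻¹ = g * a * g⁻¹ := by
  have k : ∀ c ∈ P, P ≤ C₁[c] := fun c hc => (le_cent_of_abel (abel_of_card_sq (p := 3) hP)).trans
    (cent_le_cent1 hc)
  obtain ⟨c, h1, h2⟩ := exists_conj_le (R := conj g • P) (T := P) (H := H ⊓ C₁[g * a * g⁻¹]) (p := 3)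
    (le_inf (conj_smul_le_of_mem hg h) (conj_smul_cent1 g a ▸ conj_smul_mono g (k a ha)))
    (.of_card (n := 2) (by rw [card_conj_smul, hP]; rfl)) (not_dvd_relIndex h27 hP (le_inf h (k _ hb)))
  refine ⟨c * g, ⟨mul_mem h1.1 hg, mem_norm_of_conj fun a ha => ?_⟩, ?_⟩
  · rw [← conj_conj]; exact h2 _ (conj_mem_conj_smul.mpr ha)
  · rw [← conj_conj, mem_cent1_iff.mp h1.2, mul_inv_cancel_right]

omit [Finite G] in
theorem card_fix_conj (hg : g ∈ N[L]) (p : G) :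
    Nat.card ↥(L ⊓ C₁[g * p * g⁻¹]) = Nat.card ↥(L ⊓ C₁[p]) := by
  rw [← conj_smul_cent1, ← card_conj_smul g (L ⊓ C₁[p]), conj_smul_inf, conj_smul_of_norm hg]

omit [Finite G] in
theorem H23.syl (h : H23 G) : ¬ 27 ∣ Nat.card G := by rw [h.card]; norm_num

theorem H23.mkXV (h : H23 G) (hP : Nat.card P = 9) (hp : p ∈ P) (p1 : p ≠ 1) (hn : P ≤ N[L])
    (h4 : Nat.card ↥(L ⊓ C₁[p]) = 4) : XV p (L ⊓ C₁[p]) P :=
  ⟨h.o_P hP hp p1, ⟨h4, inf_le_right⟩, hP, hp, le_norm_inf hn (le_norm_cent1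
    ((le_cent_of_abel (abel_of_card_sq (p := 3) hP)).trans (cent_le_cent1 hp)))⟩

theorem H23.memP (h : H23 G) (e : IsE t E) (r : XV p U P) (h1 : U ≤ N[E]) (h2 : P ≤ N[E])
    (hg : g ∈ N[E] ⊓ C₁[p]) (hn : g ∈ N[P]) : g ∈ P := by
  obtain ⟨v, hv, c, hc, rfl⟩ := (mem_sup_of_norm r.PV).mp (h.NE_cent e r h1 h2 ▸ hg)
  rwa [h.eq_one_of_norm r.cP r.hV.pg r.PV hv
    ((mul_mem_cancel_right (le_norm_self P hc)).mp hn), one_mul]

/-- The configuration of the three-subgroup. -/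
structure Y23 (E V P W : Subgroup G) (t x y : G) : Prop where
  r : XV x V P
  e : IsE t E
  tV : t ∈ V
  PE : P ≤ N[E]
  hW : IsW' V W
  hy : y ∈ P
  hn : y ∉ zpowers x
  cy : Nat.card ↥(E ⊓ C₁[y]) = 4
  cw : Nat.card ↥(W ⊓ C₁[x * y]) = 4

theorem H23.E_le_W (h : H23 G) (r : XV x V P) (e : IsE t E) (tV : t ∈ V) (hW : IsW' V W) : E ≤ W :=
  hW.max _ ((h.E_cent e).ge.trans (cent_anti (h.V_le_E r.ox r.hV tV e))) e.pg

theorem H23.exists_Y (h : H23 G) : ∃ (E V P W : Subgroup G) (t x y : G), Y23 E V P W t x y := by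
  obtain ⟨t, -, ot⟩ := exists_mem_orderOf Nat.prime_two (H := (⊤ : Subgroup G))
    (by rw [card_top, h.card]; norm_num)
  obtain ⟨t1, t2⟩ := of_o2 ot
  obtain ⟨x, V, P, r, ht⟩ := h.exists_XV t1 t2
  obtain ⟨E, e⟩ := h.exists_E t1 t2
  obtain ⟨W, hW⟩ := h.exists_W r
  have PE : P ≤ N[E] := fun p hp => by
    by_cases k : p ∈ zpowers x
    · exact e.norm (zpowers_le.mpr (mem_cent1_comm.mp (r.hV.2 ht)) k)
    · exact h.E_norm r ht e hp k
  obtain ⟨y, hy, hn, h4⟩ := h.ex_two r e.card PE (h.V_le_E r.ox r.hV ht e)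
  obtain ⟨v, hv, v1, tv⟩ := exists_third r.hV.1 t
  have hi : y⁻¹ ∉ zpowers x := by rwa [inv_mem_iff]
  have PW := r.PV.trans hW.norm
  have c := cnt9 (of_o3 r.ox).2 (h.cube (.of_card (n := 2) r.cP) hy)
    (comm_of_abel (abel_of_card_sq (p := 3) r.cP) r.xP hy) (PW r.xP) (PW hy)
  have k0 := h4 ▸ card_le_of_le' (inf_le_inf_right C₁[y] (h.E_le_W r e ht hW))
  have k1 := h.fcard r.cP hW.pg PW hy (ne_one_of hn)
  have k2 := h.fcard r.cP hW.pg PW (mul_mem r.xP hy) (ne_one_of (mul_notMem hn))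
  have k3 := h.fcard r.cP hW.pg PW (mul_mem r.xP (inv_mem hy)) (ne_one_of (mul_notMem hi))
  rw [h.fixV r.ox r.hV hW.pg (H23.V_le_W r hW), r.hV.1, (h.E_orb r hW ht hv v1 tv e).1] at c
  rcases k2 with k2 | k2
  · exact ⟨E, V, P, W, t, x, y⁻¹, r, e, ht, PE, hW, inv_mem hy, hi, by rwa [cent1_inv], by omega⟩
  · exact ⟨E, V, P, W, t, x, y, r, e, ht, PE, hW, hy, hn, h4, k2⟩

namespace Y23

variable (h : H23 G) (s : Y23 E V P W t x y)
include s

omit [Finite G] in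
theorem xy : x * y ∈ P := mul_mem s.r.xP s.hy

omit [Finite G] in
theorem xy1 : x * y ≠ 1 := ne_one_of (mul_notMem s.hn)

omit [Finite G] in
theorem PW : P ≤ N[W] := s.r.PV.trans s.hW.norm

include h

theorem VE : V ≤ E := h.V_le_E s.r.ox s.r.hV s.tV s.e

theorem Vx : E ⊓ C₁[x] = V := h.fixV s.r.ox s.r.hV s.e.pg (s.VE h)

theorem WN : W ≤ N[E] := (s.hW.le.trans (cent_le_cent1 s.tV)).trans s.e.norm

theorem rxy : XV (x * y) (W ⊓ C₁[x * y]) P := h.mkXV s.r.cP s.xy s.xy1 s.PW s.cw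

omit [Finite G] in
theorem y3 : y ^ 3 = 1 := h.cube (.of_card (n := 2) s.r.cP) s.hy

theorem c1 : Nat.card ↥(E ⊓ C₁[x * y]) = 1 ∧ Nat.card ↥(E ⊓ C₁[x * y⁻¹]) = 1 := by
  have c := cnt9 (of_o3 s.r.ox).2 (s.y3 h)
    (comm_of_abel (abel_of_card_sq (p := 3) s.r.cP) s.r.xP s.hy) (s.PE s.r.xP) (s.PE s.hy)
  have k2 := h.fcard s.r.cP s.e.pg s.PE s.xy s.xy1
  have k3 := h.fcard s.r.cP s.e.pg s.PE (mul_mem s.r.xP (inv_mem s.hy))
    (ne_one_of (mul_notMem (by rw [inv_mem_iff]; exact s.hn)))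
  rw [s.Vx h, s.r.hV.1, s.cy, s.e.card] at c
  omega

theorem four (hp : p ∈ P) (p1 : p ≠ 1) (h4 : Nat.card ↥(E ⊓ C₁[p]) = 4) :
    p = x ∨ p = x⁻¹ ∨ p = y ∨ p = y⁻¹ := by
  obtain ⟨k1, k2⟩ := s.c1 h
  rcases mem_nine s.r.cP s.r.xP s.hy s.r.ox (s.y3 h) s.hn hp p1 with
    e | e | e | e | e | e | e | e <;> first | (simp only [e, true_or, or_true]; done) | skip
  all_goals
    rw [e] at h4
    try rw [cent1_inv] at h4
    omega

theorem exists_w : ∃ w ∈ N[E], w * x * w⁻¹ = y ∧ w * y * w⁻¹ = x⁻¹ := by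
  have y1 := ne_one_of s.hn
  have ry := h.mkXV s.r.cP s.hy y1 s.PE s.cy
  obtain ⟨g, e⟩ := h.conj3 s.r.ox ry.ox
  obtain ⟨v, hv, v1⟩ := ry.hV.ex
  have e1 := s.e.smul g
  obtain ⟨c, hc, k⟩ := h.conj32 ry.ox (by
    rw [← e, ← conj_smul_cent1, conj_mem_conj_smul]
    exact s.r.hV.2 s.tV) e1.t1 e1.t2 hv.2 v1 (h.E_sq s.e v hv.1)
  have h1 : c * g * x * (c * g)⁻¹ = y := by
    rw [← conj_conj, e, mem_cent1_iff.mp hc, mul_inv_cancel_right]
  obtain ⟨w, hw, wx⟩ := fuse h.syl s.r.cP s.PE (h.E_ti s.e (h.E_mem s.e) s.e.t1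
    (show c * g * t * (c * g)⁻¹ ∈ E by rw [← conj_conj, k]; exact hv.1)) s.r.xP (h1 ▸ s.hy)
  rw [h1] at wx
  refine ⟨w, hw.1, wx, ?_⟩
  rcases s.four h (conj_mem_of_norm hw.2 s.hy) (by simpa using y1)
    (by rw [card_fix_conj hw.1, s.cy]) with k | k | k | k
  · have h2 := h.memP s.e (s.rxy h) (inf_le_left.trans (s.WN h)) s.PE
      ⟨hw.1, mem_cent1_iff.mpr (by
        rw [← mul_inv_eq_iff_eq_mul, ← conj_mul, wx, k]
        exact comm_of_abel (abel_of_card_sq (p := 3) s.r.cP) s.hy s.r.xP)⟩ hw.2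
    rw [comm_of_abel (abel_of_card_sq (p := 3) s.r.cP) h2 s.r.xP, mul_inv_cancel_right] at wx
    exact absurd (wx ▸ mem_zpowers x) s.hn
  · exact k
  · nth_rewrite 2 [← wx] at k
    exact absurd (by simpa using k : y = x).symm fun e => s.hn (e ▸ mem_zpowers x)
  · nth_rewrite 2 [← wx] at k
    rw [conj_inv] at k
    exact absurd (by simpa using k : y = x⁻¹).symm fun e => s.hn (e ▸ inv_mem (mem_zpowers x))

theorem b3 (wx : w * x * w⁻¹ = y) (wy : w * y * w⁻¹ = x⁻¹) : B3 P x y (w * w) :=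
  ⟨s.r.cP, s.r.xP, s.hy, s.r.ox, fun _ => h.cube (.of_card (n := 2) s.r.cP), s.hn, h.cent_P s.r.cP,
    by rw [← conj_conj, wx, wy], by rw [← conj_conj, wy, ← conj_inv, wx], h.syl⟩

theorem w4 (wx : w * x * w⁻¹ = y) (wy : w * y * w⁻¹ = x⁻¹) : w * w * (w * w) = 1 :=
  have b := s.b3 h wx wy
  b.eq_one (b.mem_P (mul_inverts b.zx b.zx) (mul_inverts b.zy b.zy))
    (mul_mem (mem_cent1_self _) (mem_cent1_self _))

theorem zV (hw : w ∈ N[E]) (wx : w * x * w⁻¹ = y) (wy : w * y * w⁻¹ = x⁻¹) : w * w ∈ N[V] :=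
  mem_norm_of_conj_smul_eq (by
    rw [← s.Vx h, conj_smul_inf, conj_smul_of_norm (mul_mem hw hw), conj_smul_cent1,
      (s.b3 h wx wy).zx, cent1_inv])

theorem exists_F (hw : w ∈ N[E]) (wx : w * x * w⁻¹ = y) (wy : w * y * w⁻¹ = x⁻¹) :
    ∃ F : Fr G, F.E = E ∧ F.R 19489 x ∧ F.R 33842 y ∧ F.R 12676 w := by
  have h1 : conj w • V = E ⊓ C₁[y] := by
    rw [← s.Vx h, conj_smul_inf, conj_smul_of_norm hw, conj_smul_cent1, wx]
  have h2 : E ≤ C[V] := (h.E_cent s.e).ge.trans (cent_anti (s.VE h))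
  obtain ⟨h3, h4⟩ := h.eq_sup s.r s.e.card (s.VE h) (h2.trans (cent_le_norm V)) s.hy s.hn s.cy
  obtain ⟨F, h5, h6⟩ := exists_Fr s.r.hV.1 (h.V_sq s.r.ox s.r.hV) s.r.hV.cent (s.r.PV s.hy)
    (fun e => h.not_cent s.r s.hy s.hn s.tV s.e.t1 (cent_le_cent1 s.tV e)) (s.y3 h) wx wy
    (s.zV h hw wx wy) (s.w4 h wx wy) (h1 ▸ h3) (h1 ▸ inf_le_left.trans h2)
  exact ⟨F, by rw [h5, h1, h4], h6⟩

end Y23

/-- The configuration. -/
structure S23 (F : Fr G) (V P W : Subgroup G) (t x y w q : G) : Prop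
    extends Y23 F.E V P W t x y where
  wx : w * x * w⁻¹ = y
  wy : w * y * w⁻¹ = x⁻¹
  rx : F.R 19489 x
  ry : F.R 33842 y
  rw : F.R 12676 w
  qz : q ∈ C₁[w * w]
  rq : R3 x y Q3 q ∨ R3 x y C3 q

omit [Finite G] in
theorem w_mem (w : G) : w ∈ C₁[w * w] := mem_cent1_iff.mpr (mul_assoc w w w).symm

theorem H23.exists_S (h : H23 G) : ∃ (F : Fr G) (V P W : Subgroup G) (t x y w q : G),
    S23 F V P W t x y w q := by
  obtain ⟨E, V, P, W, t, x, y, s⟩ := h.exists_Y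
  obtain ⟨w, hw, wx, wy⟩ := s.exists_w h
  obtain ⟨F, rfl, rx, ry, rw⟩ := s.exists_F h hw wx wy
  obtain ⟨g, e⟩ := h.conj3 s.r.ox (s.rxy h).ox
  obtain ⟨c, hc, k⟩ := fuse h.syl s.r.cP le_top (mem_top g) s.r.xP (e ▸ s.xy)
  obtain ⟨q, hq, rq⟩ := (s.b3 h wx wy).exists_q (R3.W wx wy (of_o3 s.r.ox).2) (w_mem w) hc.2
    (k.trans e)
  exact ⟨F, V, P, W, t, x, y, w, q, s, wx, wy, rx, ry, rw, hq, rq⟩

namespace S23

variable (h : H23 G) (s : S23 F V P W t x y w q)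
include h s

theorem b : B3 P x y (w * w) := s.toY23.b3 h s.wx s.wy

omit [Finite G] h in
theorem r3w : R3 x y W3 w := R3.W s.wx s.wy (of_o3 s.r.ox).2

omit [Finite G] h in
theorem qx : q * x * q⁻¹ = x * y := by
  rcases s.rq with r | r <;> simpa [ev, Q3, C3] using r.1

theorem qP : q ∈ N[P] := s.rq.elim (s.b h).norm (s.b h).norm

theorem qw : (q * w * q⁻¹ = w⁻¹ ∧ q * q = w * w) ∨ (q * w * q⁻¹ = w ∧ q * q = w⁻¹) :=
  ((s.b h).qw s.r3w (w_mem w) s.qz s.rq).imp_left And.right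

theorem wN : w ∈ N[conj q • F.E] := by
  rw [← conj_smul_norm]
  rcases s.qw h with ⟨e, -⟩ | ⟨e, -⟩
  · exact (inv_mem_iff (x := w)).mp (e ▸ conj_mem_conj_smul.mpr s.rw.norm)
  · exact e ▸ conj_mem_conj_smul.mpr s.rw.norm

theorem PN' : P ≤ N[conj q • F.E] := conj_smul_of_norm (s.qP h) ▸ le_norm_smul s.PE q

theorem qq : q * q ∈ N[F.E] := by
  rcases s.qw h with ⟨-, e⟩ | ⟨-, e⟩ <;> rw [e]
  · exact (s.rw.mul s.rw).norm
  · exact inv_mem s.rw.norm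

theorem qA : q ∈ N[N[F.E] ⊓ N[conj q • F.E]] := mem_norm_of_conj_smul_eq (by
  rw [conj_smul_inf, conj_smul_norm, conj_smul_norm, conj_smul_smul, inf_comm,
    conj_smul_of_norm (s.qq h)])

theorem qn : q ∉ N[F.E] := fun e => by
  have := card_fix_conj e x
  rw [s.qx, (s.toY23.c1 h).1, s.toY23.Vx h, s.r.hV.1] at this
  omega

theorem inf_E : conj q • F.E ⊓ F.E = ⊥ := inf_eq_bot_of_forall (by
  rintro _ ⟨t, ht, rfl⟩ k
  exact by_contra fun e => s.qn h (h.E_ti s.e ht (fun f => e (by simp [f])) k))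

theorem inf_N : F.E ⊓ N[conj q • F.E] = ⊥ := by
  have k : ∀ g ∈ N[F.E], g ∈ N[conj q • F.E] → g ∈ N[F.E ⊓ N[conj q • F.E]] := fun g h1 h2 =>
    le_norm_inf (X := N[F.E] ⊓ N[conj q • F.E]) inf_le_left (le_norm_norm inf_le_right) ⟨h1, h2⟩
  refine (irr s.rx s.ry s.rw inf_le_left (k _ s.rx.norm (s.PN' h s.r.xP))
    (k _ s.ry.norm (s.PN' h s.hy)) (k _ s.rw.norm (s.wN h))).resolve_right fun e => ?_
  have := h.dvd (conj q • F.E ⊔ F.E)
  rw [card_sup_of_inf_eq_bot (inf_eq_left.mp e) (s.inf_E h), card_conj_smul, F.card_E] at this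
  norm_num at this

theorem inf_A : F.E ⊓ (N[F.E] ⊓ N[conj q • F.E]) = ⊥ :=
  inf_eq_bot_mono (s.inf_N h) le_rfl inf_le_right

theorem ow : orderOf w = 4 := orderOf_eq_prime_pow (p := 2) (n := 1)
  (fun e => ne_inv_three s.r.ox (by rw [← (s.b h).zx, ← pow_two, ← pow_one 2, e]; simp))
  (by rw [← s.toY23.w4 h s.wx s.wy, ← pow_two, ← pow_two, ← pow_mul]; rfl)

theorem card_NP : Nat.card ↥(N[F.E] ⊓ N[P]) ≤ 36 := by
  classical
  have h1 := card_le_cent_mul (N[F.E] ⊓ N[P]) x (T := ({x, x⁻¹, y, y⁻¹} : Finset G)) fun g hg => by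
    simpa using s.toY23.four h (conj_mem_of_norm hg.2 s.r.xP) (by simpa using (of_o3 s.r.ox).1)
      (by rw [card_fix_conj hg.1, s.toY23.Vx h, s.r.hV.1])
  have h2 := s.r.cP ▸ card_le_of_le' (A := C₁[x] ⊓ (N[F.E] ⊓ N[P])) (B := P) fun g hg =>
    h.memP s.e s.r ((s.toY23.VE h).trans (le_norm_self _)) s.PE ⟨hg.2.1, hg.1⟩ hg.2.2
  rw [Set.ncard_coe_finset] at h1
  exact h1.trans (Nat.mul_le_mul h2 Finset.card_le_four)

theorem card_A' : Nat.card ↥(N[F.E] ⊓ N[conj q • F.E]) ∣ 360 := by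
  have h1 := card_dvd_of_le (sup_le (le_norm_self F.E)
    (inf_le_left (a := N[F.E]) (b := N[conj q • F.E])))
  rw [card_sup_of_inf_eq_bot inf_le_left (s.inf_A h), F.card_E, h.card_NE s.e] at h1
  refine (cop_of (p := 7) (by norm_num) fun e => ?_).dvd_of_dvd_mul_right
    (Nat.dvd_of_mul_dvd_mul_left (by norm_num) h1)
  obtain ⟨c, hc, oc⟩ := exists_mem_orderOf (by norm_num) e
  have k : ∀ {t K}, IsE t K → c ∈ N[K] → ∃ a ∈ K ⊓ C₁[c], a ≠ 1 ∧ a * a = 1 := fun e hn => by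
    have h1 := card_modEq_conj (p := 7) (by norm_num) (oc ▸ pow_orderOf_eq_one c)
      fun _ => conj_mem_of_norm hn
    obtain ⟨a, ha, a1⟩ := exists_ne_one_of_ne_bot (A := _ ⊓ C₁[c]) fun k => by
      rw [k, e.card, card_bot] at h1
      exact absurd h1 (by decide)
    exact ⟨a, ha, a1, h.E_sq e a ha.1⟩
  obtain ⟨a, ha, a1, a2⟩ := k s.e hc.1
  obtain ⟨b, hb, b1, b2⟩ := k (s.e.smul q) hc.2
  exact a1 (eq_one_of_mem_inf (s.inf_E h) (h.inv7 oc hb.2 b1 b2 ha.2 a1 a2 ▸ hb.1) ha.1)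

theorem card_L (hL : L ≤ N[F.E] ⊓ N[conj q • F.E]) (h1 : P ≤ L) (h2 : w ∈ L) :
    (Nat.card L = 36 ∧ L ≤ N[P]) ∨ Nat.card L = 360 := by
  have k1 := (card_dvd_of_le hL).trans (s.card_A' h)
  have k2 := relIndex_modEq Nat.prime_three (.of_card (n := 2) s.r.cP)
    (not_dvd_relIndex h.syl s.r.cP h1) h1
  have k3 := card_inf_mul_relIndex N[P] L
  have k4 : 36 ∣ Nat.card ↥(N[P] ⊓ L) := Nat.Coprime.mul_dvd_of_dvd_of_dvd (m := 9) (n := 4)
    (by norm_num) (s.r.cP ▸ card_dvd_of_le (le_inf (le_norm_self P) h1))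
    (s.ow h ▸ orderOf_dvd_card_of_mem ⟨(s.b h).norm s.r3w, h2⟩)
  have k5 := (card_le_of_le' (A := N[P] ⊓ L) (B := N[F.E] ⊓ N[P])
    fun g hg => ⟨(hL hg.2).1, hg.1⟩).trans (s.card_NP h)
  have k6 := card_pos' (N[P] ⊓ L)
  rw [show Nat.card ↥(N[P] ⊓ L) = 36 by omega] at k3
  rw [← k3] at k1 ⊢
  rw [← relIndex_eq_one']
  generalize (N[P]).relIndex L = n at *
  have := Nat.le_of_dvd (by norm_num) k1
  have : n ≤ 10 := by omega
  unfold Nat.ModEq at k2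
  interval_cases n <;> omega

theorem index_N : (N[F.E]).index = 253 := by
  have := h.idx N[F.E]
  rw [h.card_NE s.e] at this
  omega

theorem card_A : Nat.card ↥(N[F.E] ⊓ N[conj q • F.E]) = 360 := by
  refine (s.card_L h le_rfl (le_inf s.PE (s.PN' h)) ⟨s.rw.norm, s.wN h⟩).resolve_left
    fun e => ?_
  have h1 := card_inf_mul_relIndex N[F.E] N[conj q • F.E]
  have h2 := relIndex_le_index N[F.E] N[conj q • F.E]
  rw [e.1, h.card_NE (s.e.smul q)] at h1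
  rw [s.index_N h] at h2
  omega

theorem invE (hp : p ∈ P) (p1 : p ≠ 1) (h4 : Nat.card ↥(F.E ⊓ C₁[p]) = 4)
    (ha : a ∈ N[F.E] ⊓ N[conj q • F.E]) (hc : a ∈ C₁[p]) (a2 : a * a = 1) : a = 1 := by
  have r := h.mkXV s.r.cP hp p1 s.PE h4
  have h1 := h.NE_cent s.e r (inf_le_left.trans (le_norm_self _)) s.PE
  refine eq_one_of_mem_inf (s.inf_A h) (le_of_coprime_relIndex (B := zpowers a) (A := F.E ⊓ C₁[p])
    (L := N[F.E] ⊓ C₁[p]) (h1 ▸ sup_le (le_norm_self _) r.PV) (zpowers_le.mpr ⟨ha.1, hc⟩) ?_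
    (mem_zpowers a)).1 ha
  rw [relIndex_eq (h1 ▸ le_sup_left) (n := 9) (by
    rw [h1, h.NV_eq r.ox r.hV r.cP hp r.PV, h.card_NV r.ox r.hV, h4]), Nat.card_zpowers]
  exact Nat.Coprime.coprime_dvd_left (orderOf_dvd_of_pow_eq_one (pow_two a ▸ a2)) (by norm_num)

theorem four' (hp : p ∈ P) (p1 : p ≠ 1) :
    Nat.card ↥(F.E ⊓ C₁[p]) = 4 ∨ Nat.card ↥(F.E ⊓ C₁[q⁻¹ * p * q⁻¹⁻¹]) = 4 := by
  have b := s.b h
  have k1 : Nat.card ↥(F.E ⊓ C₁[x]) = 4 := by rw [s.toY23.Vx h, s.r.hV.1]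
  have k2 : q⁻¹ * (x * y) * q⁻¹⁻¹ = x := by rw [← s.qx]; group
  have k3 : C₁[q⁻¹ * (x * y⁻¹) * q⁻¹⁻¹] = C₁[y] := by
    have y2 := sq_three (s.toY23.y3 h)
    rcases s.rq with r | r
    · rw [show x * y⁻¹ = q * y * q⁻¹ by simpa [ev, Q3, pow_two, y2] using r.2.symm]
      congr 2
      group
    · rw [← cent1_inv, conj_inv, show (x * y⁻¹)⁻¹ = q * y * q⁻¹ by
        simpa [ev, C3, pow_two, sq_three (of_o3 s.r.ox).2, b.comm b.hy (inv_mem b.hx)]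
          using r.2.symm]
      congr 2
      group
  rcases mem_nine s.r.cP s.r.xP s.hy s.r.ox (s.toY23.y3 h) s.hn hp p1 with
    rfl | rfl | rfl | rfl | rfl | rfl | rfl | rfl
  · exact Or.inl k1
  · exact Or.inl (by rwa [cent1_inv])
  · exact Or.inl s.cy
  · exact Or.inl (by rw [cent1_inv, s.cy])
  · exact Or.inr (by rwa [k2])
  · exact Or.inr (by rwa [← conj_inv, cent1_inv, k2])
  · exact Or.inr (by rw [k3, s.cy])
  · exact Or.inr (by rw [← conj_inv, cent1_inv, k3, s.cy])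

theorem ord (hg : g ∈ N[F.E] ⊓ N[conj q • F.E]) : g ^ 3 = 1 ∨ g ^ 8 = 1 ∨ g ^ 5 = 1 := by
  have h1 := s.card_A h ▸ orderOf_dvd_card_of_mem hg
  have h2 := h.ord g
  have h3 : orderOf g ≠ 6 := fun e => by
    obtain ⟨p, t, op, ot, hc, -, hp, ht⟩ := exists_split (a := 3) (b := 2) (by norm_num) e
    have k0 := le_inf s.PE (s.PN' h)
    obtain ⟨c, h4, h5⟩ := exists_conj_le (p := 3) (T := P) (zpowers_le.mpr (zpowers_le.mpr hg hp))
      (.of_card (n := 1) (by rw [Nat.card_zpowers, op]; rfl)) (not_dvd_relIndex h.syl s.r.cP k0)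
    have k1 := h5 p (mem_zpowers p)
    have k2 := mul_mem (mul_mem h4 (zpowers_le.mpr hg ht)) (inv_mem h4)
    have k3 : c * p * c⁻¹ ≠ 1 := by simpa using (of_o3 op).1
    have k4 : c * t * c⁻¹ ∈ C₁[c * p * c⁻¹] := by
      rw [← conj_smul_cent1, conj_mem_conj_smul]
      exact mem_cent1_iff.mpr hc.symm
    have k5 := conj_sq (of_o2 ot).2 c
    refine (of_o2 ot).1 (conj_eq_one_iff.mp (show c * t * c⁻¹ = 1 from ?_))
    rcases s.four' h k1 k3 with e | e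
    · exact s.invE h k1 k3 e k2 k4 k5
    · refine conj_eq_one_iff.mp (s.invE h (conj_mem_of_norm (inv_mem (s.qP h)) k1)
        (fun e => k3 (conj_eq_one_iff.mp e)) e (conj_mem_of_norm (inv_mem (s.qA h)) k2) ?_ (conj_sq k5 _))
      rwa [← conj_smul_cent1, conj_mem_conj_smul]
  have h4 : orderOf g ≠ 15 := fun e => by
    obtain ⟨p, f, op, of, hc, -, hp, hf⟩ := exists_split (a := 3) (b := 5) (by norm_num) e
    exact h.no15 s.e (zpowers_le.mpr hg.1 hp) op (of ▸ orderOf_dvd_card_of_mem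
      ⟨zpowers_le.mpr hg.1 hf, mem_cent1_iff.mpr hc.symm⟩)
  simp only [← orderOf_dvd_iff_pow_eq_one]
  simp only [List.mem_cons, List.not_mem_nil, or_false] at h2
  rcases h2 with e | e | e | e | e | e | e | e | e | e | e | e <;> simp_all

theorem cfg : Cfg F (N[F.E] ⊓ N[conj q • F.E]) x y w q where
  hA := by rw [h.E_cent s.e, inf_comm, s.inf_A h]
  AN := inf_le_left
  rx := .of_R s.rx ⟨s.rx.norm, s.PN' h s.r.xP⟩ (by norm_num)
  ry := .of_R s.ry ⟨s.ry.norm, s.PN' h s.hy⟩ (by norm_num)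
  rw := .of_R s.rw ⟨s.rw.norm, s.wN h⟩ (by norm_num)
  qA := s.qA h
  qn := fun e => s.qn h e.1
  qx := s.qx
  qw := s.qw h
  ord := fun _ => s.ord h
  eight := by rw [s.card_A h]; norm_num
  ten := fun g e => by
    have h2 := h.ord g
    simp only [← orderOf_dvd_iff_pow_eq_one] at e ⊢
    simp only [List.mem_cons, List.not_mem_nil, or_false] at h2
    rcases h2 with e | e | e | e | e | e | e | e | e | e | e | e <;> simp_all
  pw := by
    have k := fun r hr h1 h2 => h.cop (r := r) (s.ow h) hr h1 h2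
    exact pg_of_dvd (k := 7) Nat.prime_two
      (((k 3 (by norm_num) (by norm_num) (by decide)).pow_right 2).dvd_of_dvd_mul_right
        ((k 5 (by norm_num) (by norm_num) (by decide)).dvd_of_dvd_mul_right
          ((k 7 (by norm_num) (by norm_num) (by decide)).dvd_of_dvd_mul_right
            ((k 11 (by norm_num) (by norm_num) (by decide)).dvd_of_dvd_mul_right
              ((k 23 (by norm_num) (by norm_num) (by decide)).dvd_of_dvd_mul_right (h.dvd _))))))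
  syl := by rw [h.card]; norm_num
  nc := fun e => by
    have z0 : F.a * F.c = F.e 5 := by rw [← F.e1, ← F.e4, ← F.e_xor]; rfl
    have z1 := F.e_ne (v := 5) (by omega) (by omega)
    rw [z0] at e
    refine z1 (eq_one_of_mem_inf (s.inf_A h) (F.e_mem 5) (mem_of_conj_mem_of_norm (s.qA h)
      ⟨h.E_ti s.e (F.e_mem 5) z1 ?_, le_norm_self _ (conj_mem_conj_smul.mpr (F.e_mem 5))⟩))
    rw [mem_cent1_iff.mp e, mul_inv_cancel_right]
    exact F.e_mem 5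

end S23

end Cfsg.Agent.Ma
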