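import Cfsg.Agent.H9.M23d
import Cfsg.Agent.H9.M23Pres

/-! Groups with the order and the element order statistics of `M₂₃`: uniqueness. -/

set_option autoImplicit false

namespace Cfsg.Agent.Ma

open Subgroup Cfsg.Agent.H7 Cfsg.Agent.H4 Cfsg.Agent.Fx4 Cfsg.Agent.H4.Nse
open MulAut (conj)
open scoped Pointwise

universe u
variable {G : Type u} [Group G] [Finite G] {L P T K H R V U W E D : Subgroup G}
  {x y z g p t v w q a f u : G} {F : Fr G}

theorem dih6 (hD : Nat.card D ∣ 12) (h4 : ¬ 4 ∣ Nat.card D) (hf : f ∈ D) (f1 : f ≠ 1)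
    (f2 : f * f = 1) (ha : a ∈ D) (a1 : a ≠ 1) (a2 : a * a = 1) (fa : f ≠ a) :
    (f * a) ^ 3 = 1 ∧ ∀ g ∈ D, g ≠ 1 → g * g = 1 → g = f ∨ g = a ∨ g = f * a * f := by
  have h1 : f * a ≠ a * f := fun e => h4 (by
    have := card_dvd_of_le (sup_le (zpowers_le.mpr hf) (zpowers_le.mpr ha))
    rwa [card_sup_of_inf_eq_bot (le_norm_zpowers (zpowers_le.mpr (mem_cent1_iff.mpr e.symm)))
      (inf_eq_bot_of_forall fun g h1 h2 => ((mem_zpowers_invol f2).mp h1).elim id fun k =>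
        ((mem_zpowers_invol a2).mp h2).resolve_right fun l => fa (k.symm.trans l)),
      Nat.card_zpowers, Nat.card_zpowers, o2 f1 f2, o2 a1 a2] at this)
  have fi := inv_eq_of_mul_eq_one_right f2
  have h2 := orderOf_dvd_card_of_mem (mul_mem hf ha)
  have h3 := o2 f1 f2 ▸ orderOf_dvd_card_of_mem hf
  have h5 : ¬ orderOf (f * a) ∣ 2 := fun e => h1 (by
    rw [← inv_eq_of_mul_eq_one_right ((pow_two (f * a)).symm.trans
      (orderOf_dvd_iff_pow_eq_one.mp e)), mul_inv_rev, fi, inv_eq_of_mul_eq_one_right a2])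
  have h6 : orderOf (f * a) ≠ Nat.card D := fun e => h1 (comm_of_abel (eq_of_le_of_card_eq
    (zpowers_le.mpr (mul_mem hf ha)) ((Nat.card_zpowers _).trans e) ▸ abel_zpowers _) hf ha)
  have h7 : orderOf (f * a) = 3 ∧ Nat.card D = 6 := by
    have := Nat.le_of_dvd (by norm_num) hD
    have := Nat.le_of_dvd (card_pos' D) h2
    generalize Nat.card D = n at *
    generalize orderOf (f * a) = m at *
    interval_cases n <;> interval_cases m <;> omega
  refine ⟨(of_o3 h7.1).2, fun g hg g1 g2 => ?_⟩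
  have k : ∀ c : G, c ≠ 1 → c * c = 1 → c ∉ zpowers (f * a) := fun c c1 c2 e => by
    have := orderOf_dvd_card_of_mem e
    rw [o2 c1 c2, Nat.card_zpowers, h7.1] at this
    omega
  rcases mem_zpowers_three (of_o3 h7.1).2 (mul_mem_of_index_two (zpowers_le.mpr (mul_mem hf ha))
    (by rw [Nat.card_zpowers, h7.1, h7.2]) hf hg (k f f1 f2) (k g g1 g2)) with e | e | e
  · exact Or.inl (mul_left_cancel (e.trans f2.symm))
  · exact Or.inr (Or.inl (mul_left_cancel e))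
  · refine Or.inr (Or.inr ?_)
    rw [mul_inv_rev, fi, inv_eq_of_mul_eq_one_right a2, ← eq_inv_mul_iff_mul_eq, fi] at e
    rw [e, mul_assoc]

/-- Equality of matrices. -/
def c4 (m n : ℕ) : Prop := ∀ j < 4, col m j = col n j

instance (m n : ℕ) : Decidable (c4 m n) := Nat.decidableBallLT _ _

set_option synthInstance.maxSize 1000 in
theorem chkF : ∀ k < 16, ∀ l < 16, ∀ m, m = 1 + 16 * 2 + 256 * k + 4096 * l →
    c4 (am m m) 33825 → c4 (am m (am 19489 33842)) (am (am 19489 33842) m) →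
    c4 (am m (am 12676 12676)) (am (am 12676 12676) m) → m = 33825 ∨ m = 46369 := by
  simp only [forall_eq]
  decide +kernel

namespace S23

variable (h : H23 G) (s : S23 F V P W t x y w q)
include h s

theorem z1 : w * w ≠ 1 := fun e => by
  have := s.ow h ▸ orderOf_dvd_of_pow_eq_one (pow_two w ▸ e)
  omega

theorem exists_f : ∃ f ∈ W ⊓ C₁[x * y], f ≠ 1 ∧ f * f = 1 ∧ f ∈ C₁[w * w] ∧ F.R 46369 f := by
  have r := s.toY23.rxy h
  have z2 := s.toY23.w4 h s.wx s.wy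
  have h1 : w * w ∈ N[W ⊓ C₁[x * y]] := mem_norm_of_conj_smul_eq (by
    rw [conj_smul_inf, conj_smul_of_norm (s.hW.norm (s.toY23.zV h s.rw.norm s.wx s.wy)),
      conj_smul_cent1, (s.b h).inverts s.toY23.xy, cent1_inv])
  have h2 := card_modEq_conj Nat.prime_two (pow_two (w * w) ▸ z2) fun _ => conj_mem_of_norm h1
  obtain ⟨f, hf, f1⟩ := exists_ne_one_of_ne_bot (A := _ ⊓ C₁[w * w]) fun k => by
    rw [k, s.cw, card_bot] at h2
    exact absurd h2 (by decide)
  have f2 := h.V_sq r.ox r.hV f hf.1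
  refine ⟨f, hf.1, f1, f2, hf.2, ?_⟩
  have fN := s.toY23.WN h hf.1.1
  have k : ∀ v, app 19489 v = v → f * F.e v * f⁻¹ = F.e v := fun v e =>
    conj_eq_of_mem_cent (s.hW.le hf.1.1) (s.toY23.Vx h ▸ ⟨F.e_mem v, mem_cent1_iff.mpr
      (mul_inv_eq_iff_eq_mul.mp ((s.rx.app v).trans (congrArg F.e e))).symm⟩)
  obtain ⟨i, hi, e2⟩ := conj_mem_of_norm fN (F.e4 ▸ F.e_mem 4)
  obtain ⟨j, hj, e3⟩ := conj_mem_of_norm fN (F.e8 ▸ F.e_mem 8)
  have rf := Fr.R.of_cols (i := 1) (j := 2) (by omega) (by omega) hi hj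
    (by rw [← F.e1]; exact k 1 rfl) (by rw [← F.e2]; exact k 2 rfl) e2.symm e3.symm
  have rxy := s.rx.mul s.ry
  have rz := s.rw.mul s.rw
  rcases chkF i hi j hj _ rfl (fun _ => (rf.mul rf).col_eq (f2 ▸ Fr.R.one))
    (fun _ => (rf.mul rxy).col_eq (mem_cent1_iff.mp hf.1.2 ▸ rxy.mul rf))
    (fun _ => (rf.mul rz).col_eq (mem_cent1_iff.mp hf.2 ▸ rz.mul rf)) with e | e <;> rw [e] at rf
  · have := rf.cent Fr.R.one
    rw [inv_one, one_mul, h.E_cent s.e] at this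
    exact absurd (eq_one_of_mem_inf (eq_bot_iff_card'.mpr (s.toY23.c1 h).1) this hf.1.2) f1
  · exact rf

omit s in
theorem fuf (e : IsE t F.E) (rw : F.R 12676 w) (ru : F.R 38001 u) (rf : F.R 46369 f)
    (f2 : f * f = 1) (fz : f ∈ C₁[w * w]) (uz : u ∈ C₁[w * w]) (z2 : w * w * (w * w) = 1) :
    f * u * f = w * w * u ∨ f * u * f = F.a * (w * w * u) := by
  have r1 := (rw.mul rw).mul ru
  obtain ⟨v, hv, k⟩ := conj_mem_of_norm r1.norm (h.E_cent e ▸
    (((rf.mul ru).mul rf).congr (by decide)).cent r1)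
  rw [mul_inv_cancel_left, eq_mul_inv_iff_mul_eq] at k
  have h1 : w * w * F.e v * (w * w)⁻¹ = F.e v := by
    have := mul_mem (mul_mem fz uz) fz
    rw [← k, mul_mem_cancel_right (mul_mem (mem_cent1_self _) uz), mem_cent1_iff] at this
    rw [← this, mul_inv_cancel_right]
  have h2 : f * F.e v * f⁻¹ = F.e v := by
    have fi := inv_eq_of_mul_eq_one_right f2
    rw [fi]
    generalize w * w = z at *
    refine mul_right_cancel (b := F.e v * u) ?_
    calc _ = f * F.e v * f * (z * F.e v * z⁻¹) * u := by rw [h1]; group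
      _ = f * F.e v * (f * z) * (F.e v * (z * u)) := by
        rw [inv_eq_of_mul_eq_one_right z2]; group
      _ = f * (F.e v * (z * (f * f * u))) * f := by rw [mem_cent1_iff.mp fz, k]; group
      _ = f * (f * u * f) * f := by rw [f2, one_mul, k]
      _ = f * f * u * (f * f) := by simp only [mul_assoc]
      _ = _ := by rw [f2, ← mul_assoc, F.e_sq, mul_one]
  rw [(rw.mul rw).app] at h1
  rw [rf.app] at h2
  have h3 := F.e_inj (by interval_cases v <;> decide) hv h1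
  have h4 := F.e_inj (by interval_cases v <;> decide) hv h2
  rw [← k]
  interval_cases v <;> first | exact absurd h3 (by decide) | exact absurd h4 (by decide) |
    simp [F.e0, F.e1]

theorem card_D : ¬ 4 ∣ Nat.card ↥(C₁[w * w] ⊓ C₁[x * y]) := fun e => by
  obtain ⟨R, h1, h2⟩ := exists_le_card (n := 2) Nat.prime_two e
  have o := (s.toY23.rxy h).ox
  have hR : IsV (x * y) R := ⟨h2, h1.trans inf_le_right⟩
  obtain ⟨Q, k1, k2, k3⟩ := h.exists_P o hR
  exact h.noinv ⟨o, hR, k1, k2, k3⟩ (le_cent1_iff.mp (h1.trans inf_le_left))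
    ((s.b h).inverts s.toY23.xy)

theorem exists_refl : ∃ g ∈ N[P], g ∈ C₁[w * w] ⊓ C₁[x * y] ∧ g ≠ 1 ∧ g * g = 1 := by
  have o := (s.toY23.rxy h).ox
  have h0 : P ≤ C₁[x * y] := fun g hg => mem_cent1_iff.mpr ((s.b h).comm hg s.toY23.xy)
  have h1 := relIndex_modEq Nat.prime_three (.of_card (n := 2) s.r.cP)
    (not_dvd_relIndex h.syl s.r.cP h0) h0
  have h2 := card_inf_mul_relIndex N[P] C₁[x * y]
  obtain ⟨g, hg, hn⟩ := SetLike.exists_of_lt (lt_of_le_of_ne (le_inf (le_norm_self P) h0) fun e => by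
    rw [← e, s.r.cP, h.cent3 o] at h2
    unfold Nat.ModEq at h1
    omega)
  obtain ⟨p, hp, k⟩ := (s.b h).toS hg.1
  have h3 := mul_mem (le_norm_self P hp) hg.1
  have h4 : p * g ∈ C₁[w * w] ⊓ C₁[x * y] := ⟨k, mul_mem (h0 hp) hg.2⟩
  refine ⟨_, h3, h4, fun e => hn ((mul_mem_cancel_left hp).mp (e ▸ one_mem P)),
    (s.b h).eq_one_of_cube (mul_mem h3 h3) (mul_mem k k) ?_⟩
  have h5 := h.cent32' o (s.z1 h) (s.toY23.w4 h s.wx s.wy)
  have h6 := s.card_D h
  have h7 := Nat.le_of_dvd (by norm_num) h5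
  rw [← pow_two, ← pow_mul, ← orderOf_dvd_iff_pow_eq_one]
  refine (orderOf_dvd_card_of_mem h4).trans ?_
  generalize Nat.card ↥(C₁[w * w] ⊓ C₁[x * y]) = n at *
  interval_cases n <;> omega

theorem refl (hf : f ∈ W ⊓ C₁[x * y]) (f1 : f ≠ 1) (f2 : f * f = 1) (fz : f ∈ C₁[w * w]) :
    (f * (q * F.a * q⁻¹)) ^ 3 = 1 ∧ ∀ g, g = f * (q * F.a * q⁻¹) * f → g * g = 1 ∧
      ((g * x * g = x⁻¹ ∧ (R3 x y Q3 q → g * w * g = q * w)) ∨ g * x * g = x * y⁻¹ ∨
        g * x * g = y) := by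
  have b := s.b h
  have a1 := F.e1 ▸ F.e_ne (v := 1) (by omega) (by omega)
  have aE := F.e1 ▸ F.e_mem 1
  obtain ⟨k1, k2⟩ := dih6 (h.cent32' (s.toY23.rxy h).ox (s.z1 h) (s.toY23.w4 h s.wx s.wy))
    (s.card_D h) ⟨fz, hf.2⟩ f1 f2 (a := q * F.a * q⁻¹) ⟨mul_mem (mul_mem s.qz (mem_cent1_iff.mpr
      (mul_inv_eq_iff_eq_mul.mp (F.e1 ▸ (s.rw.mul s.rw).app 1)).symm)) ((C₁[w * w]).inv_mem s.qz), by
        rw [← s.qx, ← conj_smul_cent1]
        exact conj_mem_conj_smul.mpr (mem_cent1_iff.mpr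
          (mul_inv_eq_iff_eq_mul.mp (F.e1 ▸ s.rx.app 1)).symm)⟩ (by simpa using a1)
    (conj_sq F.aa q) fun e => a1 (eq_one_of_mem_inf (s.inf_N h) aE (by
      rw [← conj_mem_conj_smul (g := q), conj_smul_norm, conj_smul_smul,
        conj_smul_of_norm (s.qq h), ← e]
      exact s.toY23.WN h hf.1))
  obtain ⟨g, hg, h1, g1, g2⟩ := s.exists_refl h
  refine ⟨k1, ?_⟩
  rcases k2 g h1 g1 g2 with rfl | rfl | e
  · exact absurd (h.eq_one_of_norm s.r.cP s.hW.pg s.toY23.PW hf.1 hg) g1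
  · exact absurd (h.eq_one_of_norm s.r.cP (s.e.smul q).pg (s.PN' h)
      (conj_mem_conj_smul.mpr aE) hg) g1
  rw [← e]
  rintro _ rfl
  obtain ⟨m, r⟩ := b.ex hg
  have h2 := r.1
  have h3 : ev x y (1, 1) = x * y := by simp [ev]
  rw [inv_eq_of_mul_eq_one_right g2] at h2
  refine ⟨g2, ?_⟩
  rcases (by decide +kernel : ∀ m : M3, a3 m (1, 1) = (1, 1) → m3 m m = I3 → m = I3 ∨
      (m.1 = (2, 0) ∧ m3 (m3 m W3) m = m3 Q3 W3) ∨ m.1 = (1, 2) ∨ m.1 = (0, 1)) m
    (b.ev_inj (by rw [← b.app r, h3, mem_cent1_iff.mp h1.2, mul_inv_cancel_right]))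
    (b.code (b.mul r r) R3.one g2) with k | k | k | k
  · exact absurd (b.eq r R3.one h1.1 (one_mem _) k) g1
  · exact Or.inl ⟨by simpa [k.1, ev, pow_two, sq_three (of_o3 b.ox).2] using h2, fun rq =>
      b.eq (b.mul (b.mul r s.r3w) r) (b.mul rq s.r3w) (mul_mem (mul_mem h1.1 (w_mem w)) h1.1)
        (mul_mem s.qz (w_mem w)) k.2⟩
  · exact Or.inr (Or.inl (by simpa [k, ev, pow_two, sq_three (b.cube y b.hy)] using h2))
  · exact Or.inr (Or.inr (by simpa [k, ev] using h2))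

theorem gen (ru : F.Rp (N[F.E] ⊓ N[conj q • F.E]) 38001 u) (rf : F.R 46369 f) :
    closure {x, y, w, u, q, F.a, F.b, F.c, F.d, f} = ⊤ := by
  have c := s.cfg h
  have m : ∀ g ∈ ({x, y, w, u, q, F.a, F.b, F.c, F.d, f} : Set G),
      g ∈ closure {x, y, w, u, q, F.a, F.b, F.c, F.d, f} := fun g hg => subset_closure hg
  generalize closure {x, y, w, u, q, F.a, F.b, F.c, F.d, f} = K at m
  simp only [Set.mem_insert_iff, Set.mem_singleton_iff, forall_eq_or_imp, forall_eq] at m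
  obtain ⟨mx, my, mw, mu, mq, ma, mb, mc, md, mf⟩ := m
  have hA := s.card_A h
  have hN := h.card_NE s.e
  have h1 := (s.card_L h (inf_le_left (b := K)) ((s.b h).P_eq ▸ sup_le (zpowers_le.mpr ⟨c.xA, mx⟩)
    (zpowers_le.mpr ⟨c.yA, my⟩)) ⟨c.wA, mw⟩).resolve_left fun e =>
      c.not_norm ru s.r.cP s.r.xP (e.2 ⟨ru.mem rfl, mu⟩)
  have h0 := sup_le (le_norm_self F.E) c.AN
  have h2 : N[F.E] ≤ K := by
    refine inf_eq_left.mp ((eq_or_eq_of_relIndex_prime (le_inf h0 (sup_le (F.E_le ma mb mc md)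
      (inf_eq_left.mp (eq_of_le_of_card_eq inf_le_left (h1.trans hA.symm))))) inf_le_left (by
        rw [relIndex_eq h0 (n := 7) (by
          rw [card_sup_of_inf_eq_bot c.AN (s.inf_A h), F.card_E, hA, hN])]
        norm_num)).resolve_left fun e => ?_)
    obtain ⟨_, ⟨v, -, rfl⟩, g, hg, k⟩ := (mem_sup_of_norm c.AN).mp (e.le ⟨rf.norm, mf⟩)
    have r1 : F.R 46369 g := fun i hi => by
      rw [← rf i hi, ← k, ← conj_conj]
      exact (conj_eq_of_mem_cent (F.E_comm (F.e_mem v))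
        (conj_mem_of_norm (c.AN hg) (F.e_mem _))).symm
    exact absurd (c.good ((Fr.Rp.of_R r1 hg (by norm_num)).mul (c.rx.mul c.ry))
      (mul_mem hg (mul_mem c.xA c.yA))) (by decide +kernel)
  have h3 := relIndex_le_of_le_right (H := N[F.E]) (conj_smul_le_of_mem mq h2)
    (relIndex_ne_zero' _ _)
  have h4 := card_inf_mul_relIndex N[F.E] (conj q • N[F.E])
  have h5 := relIndex_mul_index h2
  rw [card_conj_smul, hN, conj_smul_norm, hA, ← conj_smul_norm] at h4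
  rw [s.index_N h] at h5
  rw [← index_eq_one]
  have h6 := Nat.mul_le_mul_right K.index (show 112 ≤ (N[F.E]).relIndex K by omega)
  have h7 := Dvd.intro_left _ h5
  generalize K.index = n at *
  have : n ≤ 2 := by omega
  interval_cases n <;> omega

end S23

theorem H23.exists_gen (h : H23 G) : ∃ x y w u q a b c d f s : G, Rel0 x y w u q a b c d f s ∧
    f * u * f = a * (w * w * u) ∧ s * x * s = x⁻¹ ∧ s * w * s = q * w ∧
    closure {x, y, w, u, q, a, b, c, d, f} = ⊤ := by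
  obtain ⟨F, V, P, W, t, x, y, w, q, s⟩ := h.exists_S
  obtain ⟨u, ru, hr⟩ := (s.cfg h).exists_rel
  obtain ⟨f, hf, f1, f2, fz, rf⟩ := s.exists_f h
  obtain ⟨h1, h2⟩ := s.refl h hf f1 f2 fz
  obtain ⟨h3, h4⟩ := h2 _ rfl
  have z2 := s.toY23.w4 h s.wx s.wy
  have fi := inv_eq_of_mul_eq_one_right f2
  have k := fun v => fi ▸ rf.app v
  have r : Rel0 x y w u q F.a F.b F.c F.d f (f * (q * F.a * q⁻¹) * f) :=
    ⟨hr, f2, mem_cent1_iff.mp fz, mem_cent1_iff.mp hf.2, F.e1 ▸ k 1, F.e2 ▸ k 2,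
      by rw [← F.e1, ← F.e4, ← F.e_xor]; exact k 4,
      by rw [← F.e1, ← F.e2, ← F.e8, ← F.e_xor, ← F.e_xor]; exact k 8, h3, rfl, h1⟩
  have g := s.gen h ru rf
  have n : ¬ Nat.card (closure ({x, y, w, u, q, F.a, F.b, F.c, F.d, f} : Set G)) ≤ 887040 := by
    rw [g, card_top, h.card]
    norm_num
  have rq : R3 x y Q3 q := (((s.b h).qw s.r3w (w_mem w) s.qz s.rq).resolve_right fun e =>
    s.z1 h (mul_eq_one_iff_eq_inv.mpr (e.1.symm.trans hr.e33))).1
  rcases S23.fuf h s.e s.rw ru.R rf f2 fz (mem_cent1_iff.mpr (by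
    calc u * (w * w) = u * w * (u * u) * w * (u * u) := by rw [hr.e5]; group
      _ = u * w * u * (u * w * u) * u := by group
      _ = _ := by rw [hr.e6, ← mul_inv_rev, inv_eq_of_mul_eq_one_right z2])) z2 with e | e <;>
    rcases h4 with l | l | l
  · exact absurd (r.c00 e l.1) n
  · exact absurd (r.c01 e l) n
  · exact absurd (r.c02 e l) n
  · exact ⟨_, _, _, _, _, _, _, _, _, _, _, r, e, l.1, l.2 rq, g⟩
  · exact absurd (r.c11 e l) n
  · exact absurd (r.c12 e l) n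

theorem H23.iso {M : Type*} [Group M] [Finite M] (h : H23 G) (h' : H23 M) : Nonempty (G ≃* M) := by
  obtain ⟨x, y, w, u, q, a, b, c, d, f, s, r, e1, e2, e3, e⟩ := h.exists_gen
  obtain ⟨x', y', w', u', q', a', b', c', d', f', s', r', e1', e2', e3', e'⟩ := h'.exists_gen
  refine goursat (n := 2) (h.card.trans h'.card.symm) ?_ ?_ (((r.prod r').c10 (Prod.ext e1 e1')
    (Prod.ext e2 e2') (Prod.ext e3 e3')).trans (by rw [h'.card])) fun K hK h2 => by_contra fun k => ?_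
  · rw [MonoidHom.map_closure]
    simpa [Set.image_insert_eq] using e
  · rw [MonoidHom.map_closure]
    simpa [Set.image_insert_eq] using e'
  · obtain ⟨s, s1, s2, hs⟩ := card_two_eq (le_antisymm h2 (one_lt_card_of_ne_bot k))
    have := h.cent2 s1 s2
    rw [(eq_top_iff' _).mpr fun g => mem_cent1_iff.mpr (mul_inv_eq_iff_eq_mul.mp (((hs _).mp
      (hK.conj_mem s ((hs s).mpr (Or.inr rfl)) g)).resolve_left (by simpa using s1))), card_top,
      h.card] at this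
    omega

end Cfsg.Agent.Ma
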