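import Cfsg.Agent.H9.M23e
import Cfsg.Agent.H9.MaCnt
import Cfsg.Agent.H4.NseSolve2

/-! The hypothesis `H23` from the set of the numbers of elements of each order. -/

set_option autoImplicit false

namespace Cfsg.Agent.Ma

open Cfsg.Agent.H4.Nse Cfsg.Spor

/-- The values of the counting function. -/
def S23v : List ℕ :=
  [1, 3795, 56672, 318780, 680064, 850080, 887040, 1275120, 1360128, 1457280, 1854720]

theorem spec23 : (∀ k, mo M23 k ∈ 0 :: S23v) ∧ ∀ c ∈ S23v, 0 < c ∧ ∃ n, mo M23 n = c :=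
  Md.spec_of Md.mo_M23 (by decide +kernel)

/-- The divisors of the order. -/
def D23 : List ℕ :=
  [1, 2, 3, 5, 7, 11, 23, 6, 10, 14, 15, 21, 22, 33, 35, 46, 55, 69, 77, 115, 161, 253, 30, 42,
  66, 70, 105, 110, 138, 154, 165, 230, 231, 322, 345, 385, 483, 506, 759, 805, 1265, 1771, 210,
  330, 462, 690, 770, 966, 1155, 1518, 1610, 2415, 2530, 3542, 3795, 5313, 8855, 2310, 4830, 7590,
  10626, 17710, 26565, 53130, 4, 9, 8, 12, 18, 20, 28, 44, 45, 63, 92, 99, 207, 16, 24, 36, 40,
  56, 60, 84, 88, 90, 126, 132, 140, 184, 198, 220, 276, 308, 315, 414, 460, 495, 644, 693, 1012,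
  1035, 1449, 2277, 32, 48, 72, 80, 112, 120, 168, 176, 180, 252, 264, 280, 368, 396, 420, 440,
  552, 616, 630, 660, 828, 920, 924, 990, 1288, 1380, 1386, 1540, 1932, 2024, 2070, 2898, 3036,
  3220, 3465, 4554, 5060, 7084, 7245, 11385, 15939, 64, 96, 144, 160, 224, 240, 336, 352, 360,
  504, 528, 560, 736, 792, 840, 880, 1104, 1232, 1260, 1320, 1656, 1840, 1848, 1980, 2576, 2760,
  2772, 3080, 3864, 4048, 4140, 4620, 5796, 6072, 6440, 6930, 9108, 9660, 10120, 14168, 14490,
  15180, 21252, 22770, 31878, 35420, 79695, 128, 192, 288, 320, 448, 480, 672, 704, 720, 1008,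
  1056, 1120, 1472, 1584, 1680, 1760, 2208, 2464, 2520, 2640, 3312, 3680, 3696, 3960, 5152, 5520,
  5544, 6160, 7728, 8096, 8280, 9240, 11592, 12144, 12880, 13860, 18216, 19320, 20240, 28336,
  28980, 30360, 42504, 45540, 63756, 70840, 106260, 159390, 384, 576, 640, 896, 960, 1344, 1408,
  1440, 2016, 2112, 2240, 2944, 3168, 3360, 3520, 4416, 4928, 5040, 5280, 6624, 7360, 7392, 7920,
  10304, 11040, 11088, 12320, 15456, 16192, 16560, 18480, 23184, 24288, 25760, 27720, 36432,
  38640, 40480, 56672, 57960, 60720, 85008, 91080, 127512, 141680, 212520, 318780, 1152, 1920,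
  2688, 2880, 4032, 4224, 4480, 6336, 6720, 7040, 8832, 9856, 10080, 10560, 13248, 14720, 14784,
  15840, 20608, 22080, 22176, 24640, 30912, 32384, 33120, 36960, 46368, 48576, 51520, 55440,
  72864, 77280, 80960, 113344, 115920, 121440, 170016, 182160, 255024, 283360, 425040, 637560,
  5760, 8064, 12672, 13440, 20160, 21120, 26496, 29568, 31680, 44160, 44352, 49280, 61824, 66240,
  73920, 92736, 97152, 103040, 110880, 145728, 154560, 161920, 226688, 231840, 242880, 340032,
  364320, 510048, 566720, 850080, 1275120, 40320, 63360, 88704, 132480, 147840, 185472, 221760,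
  291456, 309120, 463680, 485760, 680064, 728640, 1020096, 1133440, 1700160, 2550240, 443520,
  927360, 1457280, 2040192, 3400320, 5100480, 10200960]

/-- The additional filter. -/
def ex23 (n v : ℕ) : Bool :=
  (n % 23 != 0 || n == 23 || v % 40320 == 0) && (n % 11 != 0 || n == 11 || v % 185472 == 0) &&
    (n % 7 != 0 || n == 7 || v % 242880 == 0) && (n % 5 != 0 || n == 5 || v % 170016 == 0)

theorem sols23 : (sols2 S23v ex23 D23 10200960).all (fun s =>
    s.map Prod.fst == [8, 4, 15, 14, 6, 23, 11, 7, 5, 3, 2, 1] &&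
    [(2, 3795), (3, 56672), (6, 850080)].all s.contains) = true := by
  decide +kernel

theorem H23.of_nse {G : Type*} [Group G] [Finite G] (hc : Nat.card G = 10200960)
    (h1 : ∀ n, mo G n ∈ 0 :: S23v) (h2 : ∀ c ∈ S23v, ∃ n, mo G n = c) : H23 G := by
  have f5 : 5 ∣ mo G 1 + mo G 5 := frob (d := 5) (by rw [hc]; norm_num)
  have f7 : 7 ∣ mo G 1 + mo G 7 := frob (d := 7) (by rw [hc]; norm_num)
  have f11 : 11 ∣ mo G 1 + mo G 11 := frob (d := 11) (by rw [hc]; norm_num)
  have f23 : 23 ∣ mo G 1 + mo G 23 := frob (d := 23) (by rw [hc]; norm_num)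
  rw [mo_one] at f5 f7 f11 f23
  have m5 := h1 5
  have m7 := h1 7
  have m11 := h1 11
  have m23 := h1 23
  simp only [S23v, List.mem_cons, List.not_mem_nil, or_false] at m5 m7 m11 m23
  replace m5 : mo G 5 = 680064 := by omega
  replace m7 : mo G 7 = 1457280 := by omega
  replace m11 : mo G 11 = 1854720 := by omega
  replace m23 : mo G 23 = 887040 := by omega
  obtain ⟨s, hs, h3, h4⟩ := exists_mem_sols2 h1 h2 (by decide) (ex := ex23) (fun n => by
      have a := mo_prime_dvd (G := G) (p := 5) (n := n) (by norm_num) (by rw [hc]; norm_num)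
      have b := mo_prime_dvd (G := G) (p := 7) (n := n) (by norm_num) (by rw [hc]; norm_num)
      have c := mo_prime_dvd (G := G) (p := 11) (n := n) (by norm_num) (by rw [hc]; norm_num)
      have d := mo_prime_dvd (G := G) (p := 23) (n := n) (by norm_num) (by rw [hc]; norm_num)
      rw [m5] at a
      rw [m7] at b
      rw [m11] at c
      rw [m23] at d
      simp only [ex23, Bool.and_eq_true, Bool.or_eq_true, bne_iff_ne, beq_iff_eq]
      refine ⟨⟨⟨?_, ?_⟩, ?_⟩, ?_⟩ <;> omega) (D := D23) (by decide +kernel)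
    fun e he => mem_of_dvd_mul (a := 1152) (b := 8855) (by norm_num) (by norm_num)
      (by decide +kernel) (by rwa [hc] at he)
  have h5 := List.all_eq_true.mp sols23 s (hc ▸ hs)
  simp only [Bool.and_eq_true, beq_iff_eq, List.all_cons, List.all_nil, List.contains_iff_mem] at h5
  obtain ⟨h6, a, b, c, -⟩ := h5
  refine ⟨hc, fun g => ?_, h3 _ a, h3 _ b, m5, h3 _ c, m7⟩
  have := h4 g
  rw [h6] at this
  revert this
  generalize orderOf g = n
  simp only [List.mem_cons, List.not_mem_nil, or_false]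
  omega

theorem H23_M23 : H23 M23 := H23.of_nse Md.card_M23 spec23.1 fun c hc => (spec23.2 c hc).2

end Cfsg.Agent.Ma
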