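import Cfsg.Agent.H4.TC

/-!
# Coset enumerations for a presentation of `M₂₄`
-/

set_option autoImplicit false
set_option maxRecDepth 100000
set_option linter.unusedSimpArgs false

namespace Cfsg.Agent.Ma

open Cfsg.Agent.H4

/-- Certificate data. -/
def pt0_par : Trie :=
    (.node (.node (.node (.leaf (nat_lit 0)) (.leaf (nat_lit 266))) (.leaf (nat_lit 10))) (.node
    (.node (.leaf (nat_lit 7)) (.leaf (nat_lit 267))) (.leaf (nat_lit 11))))

/-- Certificate data. -/
def pt0_fact : Trie :=
    (.node (.node (.node (.node (.node (.node (.leaf (nat_lit 1)) (.leaf (nat_lit 11536))) (.leaf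
    (nat_lit 6155))) (.node (.node (.leaf (nat_lit 263)) (.leaf (nat_lit 1024))) (.leaf (nat_lit
    9483)))) (.node (.node (.node (.leaf (nat_lit 12)) (.leaf (nat_lit 4623))) (.leaf (nat_lit
    9224))) (.node (.node (.leaf (nat_lit 4106)) (.leaf (nat_lit 11))) (.leaf (nat_lit 11523)))))
    (.node (.node (.node (.node (.leaf (nat_lit 5)) (.leaf (nat_lit 4626))) (.leaf (nat_lit 4873)))
    (.node (.node (.leaf (nat_lit 2305)) (.leaf (nat_lit 768))) (.leaf (nat_lit 7430)))) (.node
    (.node (.node (.leaf (nat_lit 2055)) (.leaf (nat_lit 5376))) (.leaf (nat_lit 5125))) (.node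
    (.leaf (nat_lit 4616)) (.leaf (nat_lit 7432)))))) (.node (.node (.node (.node (.node (.leaf
    (nat_lit 3)) (.leaf (nat_lit 9232))) (.leaf (nat_lit 4875))) (.node (.node (.leaf (nat_lit
    2313)) (.leaf (nat_lit 256))) (.leaf (nat_lit 7429)))) (.node (.node (.node (.leaf (nat_lit
    15)) (.leaf (nat_lit 11532))) (.leaf (nat_lit 5126))) (.node (.leaf (nat_lit 4610)) (.leaf
    (nat_lit 7431))))) (.node (.node (.node (.node (.leaf (nat_lit 9)) (.leaf (nat_lit 4625)))
    (.leaf (nat_lit 8458))) (.node (.node (.leaf (nat_lit 2308)) (.leaf (nat_lit 512))) (.leaf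
    (nat_lit 9481)))) (.node (.node (.node (.leaf (nat_lit 2309)) (.leaf (nat_lit 2816))) (.leaf
    (nat_lit 10507))) (.node (.leaf (nat_lit 4620)) (.leaf (nat_lit 11535)))))))

/-- Certificate data. -/
def pt0_just : Trie :=
    (.node (.node (.node (.node (.node (.node (.leaf (nat_lit 1)) (.leaf (nat_lit
    3974979347742741))) (.leaf (nat_lit 0))) (.node (.node (.leaf (nat_lit 922550385442820)) (.leaf
    (nat_lit 1801210499891202))) (.leaf (nat_lit 21092584521739)))) (.node (.node (.node (.leaf
    (nat_lit 1)) (.leaf (nat_lit 641731189912371225))) (.leaf (nat_lit 2682426119880713))) (.node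
    (.node (.leaf (nat_lit 0)) (.leaf (nat_lit 14117557633026))) (.leaf (nat_lit
    415751386849083409))))) (.node (.node (.node (.node (.leaf (nat_lit 1)) (.leaf (nat_lit
    3132701901258775))) (.leaf (nat_lit 1692839885078540))) (.node (.node (.leaf (nat_lit
    153123555561963526)) (.leaf (nat_lit 45414984318978))) (.leaf (nat_lit 2259148502925328))))
    (.node (.node (.node (.leaf (nat_lit 0)) (.leaf (nat_lit 13749328994962356202203840538)))
    (.leaf (nat_lit 217320294296322062))) (.node (.leaf (nat_lit 1691706013712393)) (.leaf (nat_lit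
    289153618026954771)))))) (.node (.node (.node (.node (.node (.leaf (nat_lit 1)) (.leaf (nat_lit
    490787042490581014))) (.leaf (nat_lit 13335873585163))) (.node (.node (.leaf (nat_lit
    108371770159136773)) (.leaf (nat_lit 92626406337908375554))) (.leaf (nat_lit
    2260797770366991)))) (.node (.node (.node (.leaf (nat_lit 1)) (.leaf (nat_lit
    70648549253910429706))) (.leaf (nat_lit 262904942577319949))) (.node (.leaf (nat_lit
    1689506990456840)) (.leaf (nat_lit 288520849085169682))))) (.node (.node (.node (.node (.leaf
    (nat_lit 1)) (.leaf (nat_lit 1937451157487640))) (.leaf (nat_lit 0))) (.node (.node (.leaf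
    (nat_lit 996771715284999)) (.leaf (nat_lit 760728576017563650))) (.leaf (nat_lit
    2684659502874636)))) (.node (.node (.node (.leaf (nat_lit 847229543972867)) (.leaf (nat_lit
    3349808203104258))) (.leaf (nat_lit 0))) (.node (.leaf (nat_lit 33651684336053059594)) (.leaf
    (nat_lit 53188153915899969556)))))))

/-- Certificate data. -/
def pt0_rel : Trie :=
    (.node (.node (.node (.node (.node (.leaf (nat_lit 0)) (.leaf (nat_lit 43067443976))) (.node
    (.leaf (nat_lit 8843589977868)) (.leaf (nat_lit 222010867838618437893)))) (.node (.node (.leaf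
    (nat_lit 30115170306)) (.leaf (nat_lit 38924126480))) (.leaf (nat_lit 34544749062)))) (.node
    (.node (.node (.leaf (nat_lit 84215816)) (.leaf (nat_lit 11025382902543))) (.leaf (nat_lit
    168364553))) (.node (.node (.leaf (nat_lit 184683009)) (.leaf (nat_lit 34734353))) (.leaf
    (nat_lit 168299269))))) (.node (.node (.node (.node (.leaf (nat_lit 134612742)) (.leaf (nat_lit
    43050863367))) (.leaf (nat_lit 657930))) (.node (.node (.leaf (nat_lit 100795651)) (.leaf
    (nat_lit 101713170))) (.leaf (nat_lit 168233734)))) (.node (.node (.node (.leaf (nat_lit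
    34511062793)) (.leaf (nat_lit 68092688))) (.leaf (nat_lit 47379515141))) (.node (.node (.leaf
    (nat_lit 184945159)) (.leaf (nat_lit 51825611023))) (.leaf (nat_lit 43000072964))))))

/-- Certificate data. -/
def pt0_rc : Trie :=
    (.node (.node (.node (.node (.node (.leaf (nat_lit 124)) (.leaf (nat_lit 393249))) (.node
    (.leaf (nat_lit 655482)) (.leaf (nat_lit 131114)))) (.node (.node (.leaf (nat_lit 393227))
    (.leaf (nat_lit 393325))) (.leaf (nat_lit 524320)))) (.node (.node (.node (.leaf (nat_lit
    262159)) (.leaf (nat_lit 262266))) (.leaf (nat_lit 34))) (.node (.node (.leaf (nat_lit 27))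
    (.leaf (nat_lit 393296))) (.leaf (nat_lit 131102))))) (.node (.node (.node (.node (.leaf
    (nat_lit 13)) (.leaf (nat_lit 131104))) (.leaf (nat_lit 24))) (.node (.node (.leaf (nat_lit 5))
    (.leaf (nat_lit 393308))) (.leaf (nat_lit 262175)))) (.node (.node (.node (.leaf (nat_lit
    524311)) (.leaf (nat_lit 393298))) (.leaf (nat_lit 33))) (.node (.node (.leaf (nat_lit 31))
    (.leaf (nat_lit 119))) (.leaf (nat_lit 393245))))))

/-- Certificate data. -/
def pt0_lv : Trie :=
    (.leaf (nat_lit 0))

/-- Certificate data. -/
def pt0_tb : Trie :=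
    (.node (.node (.node (.leaf (nat_lit 0)) (.leaf (nat_lit 11))) (.leaf (nat_lit 89))) (.node
    (.node (.leaf (nat_lit 4)) (.leaf (nat_lit 7))) (.leaf (nat_lit 9))))

/-- Certificate data. -/
def pt0_C : TC.Cert := ⟨3, 7, 7, 127, 402899786958466579271334009711561899337908736, 520830, pt0_par, pt0_fact, pt0_just, pt0_rel, 25⟩

/-- Certificate data. -/
def pt0_rs : List (List ℕ) := [[1, 1, 1], [5, 5, 5, 5], [5, 1, 6, 4], [5, 3, 6, 1], [1, 3, 2, 4], [7, 1, 8, 4, 2], [7, 5, 8, 5], [7, 7, 6, 6], [9, 9], [9, 1, 9, 2], [9, 5, 9, 5], [9, 7, 9, 6, 8], [10, 10, 10], [10, 1, 11, 2], [10, 3, 11, 4, 2], [10, 5, 11, 8], [10, 7, 11, 8, 6], [9, 10, 9, 10], [15, 9, 10, 15, 9, 10, 15, 9, 10], [12, 12], [12, 1, 12, 1, 12, 1], [12, 5, 9, 12, 5, 9, 12, 5, 9], [12, 1, 3, 12, 4, 2], [12, 5, 5, 12, 6, 6], [12, 5, 12, 5, 12, 5, 14], [13, 1, 3, 13, 1, 3, 13, 1, 3, 13, 1, 3, 13, 1, 3], [5, 12, 5, 12, 5, 12, 5, 12, 5, 12, 5, 12], [15, 15], [16, 16], [17, 17], [18, 18], [15, 16, 15, 16], [15, 17, 15, 17], [15, 18, 15, 18], [16, 17, 16, 17], [16, 18, 16, 18], [17, 18, 17, 18], [1, 15, 2, 15], [1, 16, 2,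 16], [1, 17, 2, 18, 17], [1, 18, 2, 17], [3, 15, 4, 16], [3, 16, 4, 16, 15], [3, 17, 4, 17], [3, 18, 4, 18], [5, 15, 6, 17], [5, 16, 6, 18], [5, 17, 6, 15], [5, 18, 6, 16, 15], [13, 15, 14, 15], [13, 16, 14, 17, 16, 15], [13, 17, 14, 17], [13, 18, 14, 18, 15], [9, 15, 9, 15], [9, 16, 9, 16, 15], [9, 17, 9, 17], [9, 18, 9, 18], [12, 15, 12, 15], [12, 16, 12, 16], [12, 17, 12, 17, 15], [12, 18, 12, 18, 16, 15], [7, 10, 15, 11, 8, 12]]

/-- Certificate data. -/
def pt0_gl : List ℕ := [1, 261, 522, 780, 1039, 1289]

theorem pt0_h1 : allB pt0_C.factChk 45 = true := by decide +kernel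

theorem pt0_h2 : pt0_C.finChk 45 1 pt0_lv pt0_tb pt0_gl = true := by decide +kernel

theorem pt0_h3 : TC.relChk pt0_C.ivc pt0_rs pt0_C.rel pt0_rc pt0_C.nrel = true := by decide +kernel

theorem pt0_bound {G : Type*} [Group G] {x y w q r g f u a b c d : G}
    (r0 : x * x * x = 1)
    (r1 : w * w * w * w = 1)
    (r2 : w * x * w⁻¹ * y⁻¹ = 1)
    (r3 : w * y * w⁻¹ * x = 1)
    (r4 : x * y * x⁻¹ * y⁻¹ = 1)
    (r5 : q * x * q⁻¹ * y⁻¹ * x⁻¹ = 1)
    (r6 : q * w * q⁻¹ * w = 1)
    (r7 : q * q * w⁻¹ * w⁻¹ = 1)
    (r8 : r * r = 1)
    (r9 : r * x * r * x⁻¹ = 1)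
    (r10 : r * w * r * w = 1)
    (r11 : r * q * r * w⁻¹ * q⁻¹ = 1)
    (r12 : g * g * g = 1)
    (r13 : g * x * g⁻¹ * x⁻¹ = 1)
    (r14 : g * y * g⁻¹ * y⁻¹ * x⁻¹ = 1)
    (r15 : g * w * g⁻¹ * q⁻¹ = 1)
    (r16 : g * q * g⁻¹ * q⁻¹ * w⁻¹ = 1)
    (r17 : r * g * r * g = 1)
    (r18 : a * r * g * a * r * g * a * r * g = 1)
    (r19 : f * f = 1)
    (r20 : f * x * f * x * f * x = 1)
    (r21 : f * w * r * f * w * r * f * w * r = 1)
    (r22 : f * x * y * f * y⁻¹ * x⁻¹ = 1)
    (r23 : f * w * w * f * w⁻¹ * w⁻¹ = 1)
    (r24 : f * w * f * w * f * w * u⁻¹ = 1)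
    (r25 : u * x * y * u * x * y * u * x * y * u * x * y * u * x * y = 1)
    (r26 : w * f * w * f * w * f * w * f * w * f * w * f = 1)
    (r27 : a * a = 1)
    (r28 : b * b = 1)
    (r29 : c * c = 1)
    (r30 : d * d = 1)
    (r31 : a * b * a * b = 1)
    (r32 : a * c * a * c = 1)
    (r33 : a * d * a * d = 1)
    (r34 : b * c * b * c = 1)
    (r35 : b * d * b * d = 1)
    (r36 : c * d * c * d = 1)
    (r37 : x * a * x⁻¹ * a = 1)
    (r38 : x * b * x⁻¹ * b = 1)
    (r39 : x * c * x⁻¹ * d * c = 1)
    (r40 : x * d * x⁻¹ * c = 1)
    (r41 : y * a * y⁻¹ * b = 1)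
    (r42 : y * b * y⁻¹ * b * a = 1)
    (r43 : y * c * y⁻¹ * c = 1)
    (r44 : y * d * y⁻¹ * d = 1)
    (r45 : w * a * w⁻¹ * c = 1)
    (r46 : w * b * w⁻¹ * d = 1)
    (r47 : w * c * w⁻¹ * a = 1)
    (r48 : w * d * w⁻¹ * b * a = 1)
    (r49 : u * a * u⁻¹ * a = 1)
    (r50 : u * b * u⁻¹ * c * b * a = 1)
    (r51 : u * c * u⁻¹ * c = 1)
    (r52 : u * d * u⁻¹ * d * a = 1)
    (r53 : r * a * r * a = 1)
    (r54 : r * b * r * b * a = 1)
    (r55 : r * c * r * c = 1)
    (r56 : r * d * r * d = 1)
    (r57 : f * a * f * a = 1)
    (r58 : f * b * f * b = 1)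
    (r59 : f * c * f * c * a = 1)
    (r60 : f * d * f * d * b * a = 1)
    (r61 : q * g * a * g⁻¹ * q⁻¹ * f = 1)
    (H : Subgroup G) [Finite H] (m1 : x ∈ H) (m3 : y ∈ H) (m5 : w ∈ H) (m9 : r ∈ H) (m12 : f ∈ H) (m13 : u ∈ H) (m15 : a ∈ H) (m16 : b ∈ H) (m17 : c ∈ H) (m18 : d ∈ H) :
    Finite (Subgroup.closure ({x, w, g, f, a, r} : Set G)) ∧
      Nat.card (Subgroup.closure ({x, w, g, f, a, r} : Set G)) ≤ 1 * Nat.card H := by
  have hL : TC.Lett (TC.lett [x, x⁻¹, y, y⁻¹, w, w⁻¹, q, q⁻¹, r, g, g⁻¹, f, u, u⁻¹, a, b, c, d]) pt0_C.ivc :=
    TC.lett_ok (show Nat.shiftRight pt0_C.ivc (8 * 19) = 0 by decide +kernel) (by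
      intro a ha
      change a < 19 at ha
      interval_cases a
      · exact inv_one.symm
      · rfl
      · exact (inv_inv _).symm
      · rfl
      · exact (inv_inv _).symm
      · rfl
      · exact (inv_inv _).symm
      · rfl
      · exact (inv_inv _).symm
      · exact (inv_eq_of_mul_eq_one_right r8).symm
      · rfl
      · exact (inv_inv _).symm
      · exact (inv_eq_of_mul_eq_one_right r19).symm
      · rfl
      · exact (inv_inv _).symm
      · exact (inv_eq_of_mul_eq_one_right r27).symm
      · exact (inv_eq_of_mul_eq_one_right r28).symm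
      · exact (inv_eq_of_mul_eq_one_right r29).symm
      · exact (inv_eq_of_mul_eq_one_right r30).symm)
  have h := TC.card_le pt0_h1 pt0_h2 pt0_h3 (by decide) hL (by
    simp only [pt0_rs, List.forall_mem_cons]
    refine ⟨?_, ?_, ?_, ?_, ?_, ?_, ?_, ?_, ?_, ?_, ?_, ?_, ?_, ?_, ?_, ?_, ?_, ?_, ?_, ?_, ?_, ?_,
    ?_, ?_, ?_, ?_, ?_, ?_, ?_, ?_, ?_, ?_, ?_, ?_, ?_, ?_, ?_, ?_, ?_, ?_, ?_, ?_, ?_, ?_, ?_, ?_,
    ?_, ?_, ?_, ?_, ?_, ?_, ?_, ?_, ?_, ?_, ?_, ?_, ?_, ?_, ?_, ?_, List.forall_mem_nil _⟩
    · show x * (x * (x * 1)) = 1
      simp only [mul_assoc, mul_one] at r0 ⊢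
      exact r0
    · show w * (w * (w * (w * 1))) = 1
      simp only [mul_assoc, mul_one] at r1 ⊢
      exact r1
    · show w * (x * (w⁻¹ * (y⁻¹ * 1))) = 1
      simp only [mul_assoc, mul_one] at r2 ⊢
      exact r2
    · show w * (y * (w⁻¹ * (x * 1))) = 1
      simp only [mul_assoc, mul_one] at r3 ⊢
      exact r3
    · show x * (y * (x⁻¹ * (y⁻¹ * 1))) = 1
      simp only [mul_assoc, mul_one] at r4 ⊢
      exact r4
    · show q * (x * (q⁻¹ * (y⁻¹ * (x⁻¹ * 1)))) = 1
      simp only [mul_assoc, mul_one] at r5 ⊢
      exact r5
    · show q * (w * (q⁻¹ * (w * 1))) = 1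
      simp only [mul_assoc, mul_one] at r6 ⊢
      exact r6
    · show q * (q * (w⁻¹ * (w⁻¹ * 1))) = 1
      simp only [mul_assoc, mul_one] at r7 ⊢
      exact r7
    · show r * (r * 1) = 1
      simp only [mul_one] at r8 ⊢
      exact r8
    · show r * (x * (r * (x⁻¹ * 1))) = 1
      simp only [mul_assoc, mul_one] at r9 ⊢
      exact r9
    · show r * (w * (r * (w * 1))) = 1
      simp only [mul_assoc, mul_one] at r10 ⊢
      exact r10
    · show r * (q * (r * (w⁻¹ * (q⁻¹ * 1)))) = 1
      simp only [mul_assoc, mul_one] at r11 ⊢
      exact r11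
    · show g * (g * (g * 1)) = 1
      simp only [mul_assoc, mul_one] at r12 ⊢
      exact r12
    · show g * (x * (g⁻¹ * (x⁻¹ * 1))) = 1
      simp only [mul_assoc, mul_one] at r13 ⊢
      exact r13
    · show g * (y * (g⁻¹ * (y⁻¹ * (x⁻¹ * 1)))) = 1
      simp only [mul_assoc, mul_one] at r14 ⊢
      exact r14
    · show g * (w * (g⁻¹ * (q⁻¹ * 1))) = 1
      simp only [mul_assoc, mul_one] at r15 ⊢
      exact r15
    · show g * (q * (g⁻¹ * (q⁻¹ * (w⁻¹ * 1)))) = 1
      simp only [mul_assoc, mul_one] at r16 ⊢
      exact r16
    · show r * (g * (r * (g * 1))) = 1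
      simp only [mul_assoc, mul_one] at r17 ⊢
      exact r17
    · show a * (r * (g * (a * (r * (g * (a * (r * (g * 1)))))))) = 1
      simp only [mul_assoc, mul_one] at r18 ⊢
      exact r18
    · show f * (f * 1) = 1
      simp only [mul_one] at r19 ⊢
      exact r19
    · show f * (x * (f * (x * (f * (x * 1))))) = 1
      simp only [mul_assoc, mul_one] at r20 ⊢
      exact r20
    · show f * (w * (r * (f * (w * (r * (f * (w * (r * 1)))))))) = 1
      simp only [mul_assoc, mul_one] at r21 ⊢
      exact r21
    · show f * (x * (y * (f * (y⁻¹ * (x⁻¹ * 1))))) = 1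
      simp only [mul_assoc, mul_one] at r22 ⊢
      exact r22
    · show f * (w * (w * (f * (w⁻¹ * (w⁻¹ * 1))))) = 1
      simp only [mul_assoc, mul_one] at r23 ⊢
      exact r23
    · show f * (w * (f * (w * (f * (w * (u⁻¹ * 1)))))) = 1
      simp only [mul_assoc, mul_one] at r24 ⊢
      exact r24
    · show u * (x * (y * (u * (x * (y * (u * (x * (y * (u * (x * (y * (u * (x * (y *
    1)))))))))))))) = 1
      simp only [mul_assoc, mul_one] at r25 ⊢
      exact r25
    · show w * (f * (w * (f * (w * (f * (w * (f * (w * (f * (w * (f * 1))))))))))) = 1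
      simp only [mul_assoc, mul_one] at r26 ⊢
      exact r26
    · show a * (a * 1) = 1
      simp only [mul_one] at r27 ⊢
      exact r27
    · show b * (b * 1) = 1
      simp only [mul_one] at r28 ⊢
      exact r28
    · show c * (c * 1) = 1
      simp only [mul_one] at r29 ⊢
      exact r29
    · show d * (d * 1) = 1
      simp only [mul_one] at r30 ⊢
      exact r30
    · show a * (b * (a * (b * 1))) = 1
      simp only [mul_assoc, mul_one] at r31 ⊢
      exact r31
    · show a * (c * (a * (c * 1))) = 1
      simp only [mul_assoc, mul_one] at r32 ⊢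
      exact r32
    · show a * (d * (a * (d * 1))) = 1
      simp only [mul_assoc, mul_one] at r33 ⊢
      exact r33
    · show b * (c * (b * (c * 1))) = 1
      simp only [mul_assoc, mul_one] at r34 ⊢
      exact r34
    · show b * (d * (b * (d * 1))) = 1
      simp only [mul_assoc, mul_one] at r35 ⊢
      exact r35
    · show c * (d * (c * (d * 1))) = 1
      simp only [mul_assoc, mul_one] at r36 ⊢
      exact r36
    · show x * (a * (x⁻¹ * (a * 1))) = 1
      simp only [mul_assoc, mul_one] at r37 ⊢
      exact r37
    · show x * (b * (x⁻¹ * (b * 1))) = 1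
      simp only [mul_assoc, mul_one] at r38 ⊢
      exact r38
    · show x * (c * (x⁻¹ * (d * (c * 1)))) = 1
      simp only [mul_assoc, mul_one] at r39 ⊢
      exact r39
    · show x * (d * (x⁻¹ * (c * 1))) = 1
      simp only [mul_assoc, mul_one] at r40 ⊢
      exact r40
    · show y * (a * (y⁻¹ * (b * 1))) = 1
      simp only [mul_assoc, mul_one] at r41 ⊢
      exact r41
    · show y * (b * (y⁻¹ * (b * (a * 1)))) = 1
      simp only [mul_assoc, mul_one] at r42 ⊢
      exact r42
    · show y * (c * (y⁻¹ * (c * 1))) = 1
      simp only [mul_assoc, mul_one] at r43 ⊢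
      exact r43
    · show y * (d * (y⁻¹ * (d * 1))) = 1
      simp only [mul_assoc, mul_one] at r44 ⊢
      exact r44
    · show w * (a * (w⁻¹ * (c * 1))) = 1
      simp only [mul_assoc, mul_one] at r45 ⊢
      exact r45
    · show w * (b * (w⁻¹ * (d * 1))) = 1
      simp only [mul_assoc, mul_one] at r46 ⊢
      exact r46
    · show w * (c * (w⁻¹ * (a * 1))) = 1
      simp only [mul_assoc, mul_one] at r47 ⊢
      exact r47
    · show w * (d * (w⁻¹ * (b * (a * 1)))) = 1
      simp only [mul_assoc, mul_one] at r48 ⊢
      exact r48
    · show u * (a * (u⁻¹ * (a * 1))) = 1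
      simp only [mul_assoc, mul_one] at r49 ⊢
      exact r49
    · show u * (b * (u⁻¹ * (c * (b * (a * 1))))) = 1
      simp only [mul_assoc, mul_one] at r50 ⊢
      exact r50
    · show u * (c * (u⁻¹ * (c * 1))) = 1
      simp only [mul_assoc, mul_one] at r51 ⊢
      exact r51
    · show u * (d * (u⁻¹ * (d * (a * 1)))) = 1
      simp only [mul_assoc, mul_one] at r52 ⊢
      exact r52
    · show r * (a * (r * (a * 1))) = 1
      simp only [mul_assoc, mul_one] at r53 ⊢
      exact r53
    · show r * (b * (r * (b * (a * 1)))) = 1
      simp only [mul_assoc, mul_one] at r54 ⊢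
      exact r54
    · show r * (c * (r * (c * 1))) = 1
      simp only [mul_assoc, mul_one] at r55 ⊢
      exact r55
    · show r * (d * (r * (d * 1))) = 1
      simp only [mul_assoc, mul_one] at r56 ⊢
      exact r56
    · show f * (a * (f * (a * 1))) = 1
      simp only [mul_assoc, mul_one] at r57 ⊢
      exact r57
    · show f * (b * (f * (b * 1))) = 1
      simp only [mul_assoc, mul_one] at r58 ⊢
      exact r58
    · show f * (c * (f * (c * (a * 1)))) = 1
      simp only [mul_assoc, mul_one] at r59 ⊢
      exact r59
    · show f * (d * (f * (d * (b * (a * 1))))) = 1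
      simp only [mul_assoc, mul_one] at r60 ⊢
      exact r60
    · show q * (g * (a * (g⁻¹ * (q⁻¹ * (f * 1))))) = 1
      simp only [mul_assoc, mul_one] at r61 ⊢
      exact r61) H
    (TC.forall_subs (K := 19) (by decide +kernel) (by
      intro a ha hb
      interval_cases a
      · exact absurd hb (by decide +kernel)
      · exact m1
      · exact H.inv_mem m1
      · exact m3
      · exact H.inv_mem m3
      · exact m5
      · exact H.inv_mem m5
      · exact absurd hb (by decide +kernel)
      · exact absurd hb (by decide +kernel)
      · exact m9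
      · exact absurd hb (by decide +kernel)
      · exact absurd hb (by decide +kernel)
      · exact m12
      · exact m13
      · exact H.inv_mem m13
      · exact m15
      · exact m16
      · exact m17
      · exact m18))
  have e : {g₀ | ∃ ak ∈ pt0_gl, TC.lett [x, x⁻¹, y, y⁻¹, w, w⁻¹, q, q⁻¹, r, g, g⁻¹, f, u, u⁻¹, a, b, c, d] (ak % 256) = g₀} =
      {x, w, g, f, a, r} := by
    ext g₀
    simp only [pt0_gl, List.mem_cons, List.not_mem_nil, or_false, exists_eq_or_imp,
      exists_eq_left, Set.mem_ofPred_eq, Set.mem_insert_iff, Set.mem_singleton_iff]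
    exact or_congr eq_comm (or_congr eq_comm (or_congr eq_comm (or_congr eq_comm (or_congr eq_comm (eq_comm)))))
  rw [e] at h
  exact h

theorem pt0_card {G : Type*} [Group G] {x y w q r g f u a b c d : G}
    (e0 : x ^ 3 = 1)
    (e1 : w ^ 4 = 1)
    (e2 : w * x * w⁻¹ = y)
    (e3 : w * y * w⁻¹ = x⁻¹)
    (e4 : x * y = y * x)
    (e5 : q * x * q⁻¹ = x * y)
    (e6 : q * w * q⁻¹ = w⁻¹)
    (e7 : q * q = w * w)
    (e8 : r * r = 1)
    (e9 : r * x * r = x)
    (e10 : r * w * r = w⁻¹)
    (e11 : r * q * r = q * w)
    (e12 : g ^ 3 = 1)
    (e13 : g * x * g⁻¹ = x)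
    (e14 : g * y * g⁻¹ = x * y)
    (e15 : g * w * g⁻¹ = q)
    (e16 : g * q * g⁻¹ = w * q)
    (e17 : r * g * r = g⁻¹)
    (e18 : (a * r * g) ^ 3 = 1)
    (e19 : f * f = 1)
    (e20 : (f * x) ^ 3 = 1)
    (e21 : (f * (w * r)) ^ 3 = 1)
    (e22 : f * (x * y) = x * y * f)
    (e23 : f * (w * w) = w * w * f)
    (e24 : f * w * f * w * f * w = u)
    (e25 : (u * x * y) ^ 5 = 1)
    (e26 : (w * f * w * f) ^ 3 = 1)
    (e27 : a * a = 1)
    (e28 : b * b = 1)
    (e29 : c * c = 1)
    (e30 : d * d = 1)
    (e31 : a * b = b * a)
    (e32 : a * c = c * a)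
    (e33 : a * d = d * a)
    (e34 : b * c = c * b)
    (e35 : b * d = d * b)
    (e36 : c * d = d * c)
    (e37 : x * a * x⁻¹ = a)
    (e38 : x * b * x⁻¹ = b)
    (e39 : x * c * x⁻¹ = c * d)
    (e40 : x * d * x⁻¹ = c)
    (e41 : y * a * y⁻¹ = b)
    (e42 : y * b * y⁻¹ = a * b)
    (e43 : y * c * y⁻¹ = c)
    (e44 : y * d * y⁻¹ = d)
    (e45 : w * a * w⁻¹ = c)
    (e46 : w * b * w⁻¹ = d)
    (e47 : w * c * w⁻¹ = a)
    (e48 : w * d * w⁻¹ = a * b)
    (e49 : u * a * u⁻¹ = a)
    (e50 : u * b * u⁻¹ = a * b * c)
    (e51 : u * c * u⁻¹ = c)
    (e52 : u * d * u⁻¹ = a * d)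
    (e53 : r * a * r = a)
    (e54 : r * b * r = a * b)
    (e55 : r * c * r = c)
    (e56 : r * d * r = d)
    (e57 : f * a * f = a)
    (e58 : f * b * f = b)
    (e59 : f * c * f = a * c)
    (e60 : f * d * f = a * b * d)
    (e61 : q * (g * a * g⁻¹) * q⁻¹ = f)
    (H : Subgroup G) [Finite H] (mx : x ∈ H) (my : y ∈ H) (mw : w ∈ H) (mr : r ∈ H) (mf : f ∈ H) (mu : u ∈ H) (ma : a ∈ H) (mb : b ∈ H) (mc : c ∈ H) (md : d ∈ H) :
    Finite (Subgroup.closure ({x, w, g, f, a, r} : Set G)) ∧
      Nat.card (Subgroup.closure ({x, w, g, f, a, r} : Set G)) ≤ 1 * Nat.card H := by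
  have ir : r⁻¹ = r := inv_eq_of_mul_eq_one_right e8
  have jf : f⁻¹ = f := inv_eq_of_mul_eq_one_right e19
  have ia : a⁻¹ = a := inv_eq_of_mul_eq_one_right e27
  have ib : b⁻¹ = b := inv_eq_of_mul_eq_one_right e28
  have ic : c⁻¹ = c := inv_eq_of_mul_eq_one_right e29
  have id : d⁻¹ = d := inv_eq_of_mul_eq_one_right e30
  refine pt0_bound (q := q) ?_ ?_ ?_ ?_ ?_ ?_ ?_ ?_ ?_ ?_ ?_ ?_ ?_ ?_ ?_ ?_ ?_ ?_ ?_ ?_ ?_ ?_ ?_ ?_ ?_ ?_ ?_ ?_ ?_ ?_ ?_ ?_ ?_ ?_ ?_ ?_ ?_ ?_ ?_ ?_ ?_ ?_ ?_ ?_ ?_ ?_ ?_ ?_ ?_ ?_ ?_ ?_ ?_ ?_ ?_ ?_ ?_ ?_ ?_ ?_ ?_ ?_ H mx my mw mr mf mu ma mb mc md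
  · have h := mul_inv_eq_one.mpr e0
    simp only [pow_succ, pow_zero, mul_inv_rev, inv_inv, inv_one, one_mul, mul_one, mul_assoc,
      mul_inv_cancel_left, inv_mul_cancel_left, mul_inv_cancel, inv_mul_cancel, ir, jf, ia, ib, ic, id] at h ⊢
    exact h
  · have h := mul_inv_eq_one.mpr e1
    simp only [pow_succ, pow_zero, mul_inv_rev, inv_inv, inv_one, one_mul, mul_one, mul_assoc,
      mul_inv_cancel_left, inv_mul_cancel_left, mul_inv_cancel, inv_mul_cancel, ir, jf, ia, ib, ic, id] at h ⊢
    exact h
  · have h := mul_inv_eq_one.mpr e2
    simp only [pow_succ, pow_zero, mul_inv_rev, inv_inv, inv_one, one_mul, mul_one, mul_assoc,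
      mul_inv_cancel_left, inv_mul_cancel_left, mul_inv_cancel, inv_mul_cancel, ir, jf, ia, ib, ic, id] at h ⊢
    exact h
  · have h := mul_inv_eq_one.mpr e3
    simp only [pow_succ, pow_zero, mul_inv_rev, inv_inv, inv_one, one_mul, mul_one, mul_assoc,
      mul_inv_cancel_left, inv_mul_cancel_left, mul_inv_cancel, inv_mul_cancel, ir, jf, ia, ib, ic, id] at h ⊢
    exact h
  · have h := mul_inv_eq_one.mpr e4
    simp only [pow_succ, pow_zero, mul_inv_rev, inv_inv, inv_one, one_mul, mul_one, mul_assoc,
      mul_inv_cancel_left, inv_mul_cancel_left, mul_inv_cancel, inv_mul_cancel, ir, jf, ia, ib, ic, id] at h ⊢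
    exact h
  · have h := mul_inv_eq_one.mpr e5
    simp only [pow_succ, pow_zero, mul_inv_rev, inv_inv, inv_one, one_mul, mul_one, mul_assoc,
      mul_inv_cancel_left, inv_mul_cancel_left, mul_inv_cancel, inv_mul_cancel, ir, jf, ia, ib, ic, id] at h ⊢
    exact h
  · have h := mul_inv_eq_one.mpr e6
    simp only [pow_succ, pow_zero, mul_inv_rev, inv_inv, inv_one, one_mul, mul_one, mul_assoc,
      mul_inv_cancel_left, inv_mul_cancel_left, mul_inv_cancel, inv_mul_cancel, ir, jf, ia, ib, ic, id] at h ⊢
    exact h
  · have h := mul_inv_eq_one.mpr e7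
    simp only [pow_succ, pow_zero, mul_inv_rev, inv_inv, inv_one, one_mul, mul_one, mul_assoc,
      mul_inv_cancel_left, inv_mul_cancel_left, mul_inv_cancel, inv_mul_cancel, ir, jf, ia, ib, ic, id] at h ⊢
    exact h
  · have h := mul_inv_eq_one.mpr e8
    simp only [pow_succ, pow_zero, mul_inv_rev, inv_inv, inv_one, one_mul, mul_one, mul_assoc,
      mul_inv_cancel_left, inv_mul_cancel_left, mul_inv_cancel, inv_mul_cancel, ir, jf, ia, ib, ic, id] at h ⊢
    exact h
  · have h := mul_inv_eq_one.mpr e9
    simp only [pow_succ, pow_zero, mul_inv_rev, inv_inv, inv_one, one_mul, mul_one, mul_assoc,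
      mul_inv_cancel_left, inv_mul_cancel_left, mul_inv_cancel, inv_mul_cancel, ir, jf, ia, ib, ic, id] at h ⊢
    exact h
  · have h := mul_inv_eq_one.mpr e10
    simp only [pow_succ, pow_zero, mul_inv_rev, inv_inv, inv_one, one_mul, mul_one, mul_assoc,
      mul_inv_cancel_left, inv_mul_cancel_left, mul_inv_cancel, inv_mul_cancel, ir, jf, ia, ib, ic, id] at h ⊢
    exact h
  · have h := mul_inv_eq_one.mpr e11
    simp only [pow_succ, pow_zero, mul_inv_rev, inv_inv, inv_one, one_mul, mul_one, mul_assoc,
      mul_inv_cancel_left, inv_mul_cancel_left, mul_inv_cancel, inv_mul_cancel, ir, jf, ia, ib, ic, id] at h ⊢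
    exact h
  · have h := mul_inv_eq_one.mpr e12
    simp only [pow_succ, pow_zero, mul_inv_rev, inv_inv, inv_one, one_mul, mul_one, mul_assoc,
      mul_inv_cancel_left, inv_mul_cancel_left, mul_inv_cancel, inv_mul_cancel, ir, jf, ia, ib, ic, id] at h ⊢
    exact h
  · have h := mul_inv_eq_one.mpr e13
    simp only [pow_succ, pow_zero, mul_inv_rev, inv_inv, inv_one, one_mul, mul_one, mul_assoc,
      mul_inv_cancel_left, inv_mul_cancel_left, mul_inv_cancel, inv_mul_cancel, ir, jf, ia, ib, ic, id] at h ⊢
    exact h
  · have h := mul_inv_eq_one.mpr e14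
    simp only [pow_succ, pow_zero, mul_inv_rev, inv_inv, inv_one, one_mul, mul_one, mul_assoc,
      mul_inv_cancel_left, inv_mul_cancel_left, mul_inv_cancel, inv_mul_cancel, ir, jf, ia, ib, ic, id] at h ⊢
    exact h
  · have h := mul_inv_eq_one.mpr e15
    simp only [pow_succ, pow_zero, mul_inv_rev, inv_inv, inv_one, one_mul, mul_one, mul_assoc,
      mul_inv_cancel_left, inv_mul_cancel_left, mul_inv_cancel, inv_mul_cancel, ir, jf, ia, ib, ic, id] at h ⊢
    exact h
  · have h := mul_inv_eq_one.mpr e16
    simp only [pow_succ, pow_zero, mul_inv_rev, inv_inv, inv_one, one_mul, mul_one, mul_assoc,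
      mul_inv_cancel_left, inv_mul_cancel_left, mul_inv_cancel, inv_mul_cancel, ir, jf, ia, ib, ic, id] at h ⊢
    exact h
  · have h := mul_inv_eq_one.mpr e17
    simp only [pow_succ, pow_zero, mul_inv_rev, inv_inv, inv_one, one_mul, mul_one, mul_assoc,
      mul_inv_cancel_left, inv_mul_cancel_left, mul_inv_cancel, inv_mul_cancel, ir, jf, ia, ib, ic, id] at h ⊢
    exact h
  · have h := mul_inv_eq_one.mpr e18
    simp only [pow_succ, pow_zero, mul_inv_rev, inv_inv, inv_one, one_mul, mul_one, mul_assoc,
      mul_inv_cancel_left, inv_mul_cancel_left, mul_inv_cancel, inv_mul_cancel, ir, jf, ia, ib, ic, id] at h ⊢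
    exact h
  · have h := mul_inv_eq_one.mpr e19
    simp only [pow_succ, pow_zero, mul_inv_rev, inv_inv, inv_one, one_mul, mul_one, mul_assoc,
      mul_inv_cancel_left, inv_mul_cancel_left, mul_inv_cancel, inv_mul_cancel, ir, jf, ia, ib, ic, id] at h ⊢
    exact h
  · have h := mul_inv_eq_one.mpr e20
    simp only [pow_succ, pow_zero, mul_inv_rev, inv_inv, inv_one, one_mul, mul_one, mul_assoc,
      mul_inv_cancel_left, inv_mul_cancel_left, mul_inv_cancel, inv_mul_cancel, ir, jf, ia, ib, ic, id] at h ⊢
    exact h
  · have h := mul_inv_eq_one.mpr e21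
    simp only [pow_succ, pow_zero, mul_inv_rev, inv_inv, inv_one, one_mul, mul_one, mul_assoc,
      mul_inv_cancel_left, inv_mul_cancel_left, mul_inv_cancel, inv_mul_cancel, ir, jf, ia, ib, ic, id] at h ⊢
    exact h
  · have h := mul_inv_eq_one.mpr e22
    simp only [pow_succ, pow_zero, mul_inv_rev, inv_inv, inv_one, one_mul, mul_one, mul_assoc,
      mul_inv_cancel_left, inv_mul_cancel_left, mul_inv_cancel, inv_mul_cancel, ir, jf, ia, ib, ic, id] at h ⊢
    exact h
  · have h := mul_inv_eq_one.mpr e23
    simp only [pow_succ, pow_zero, mul_inv_rev, inv_inv, inv_one, one_mul, mul_one, mul_assoc,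
      mul_inv_cancel_left, inv_mul_cancel_left, mul_inv_cancel, inv_mul_cancel, ir, jf, ia, ib, ic, id] at h ⊢
    exact h
  · have h := mul_inv_eq_one.mpr e24
    simp only [pow_succ, pow_zero, mul_inv_rev, inv_inv, inv_one, one_mul, mul_one, mul_assoc,
      mul_inv_cancel_left, inv_mul_cancel_left, mul_inv_cancel, inv_mul_cancel, ir, jf, ia, ib, ic, id] at h ⊢
    exact h
  · have h := mul_inv_eq_one.mpr e25
    simp only [pow_succ, pow_zero, mul_inv_rev, inv_inv, inv_one, one_mul, mul_one, mul_assoc,
      mul_inv_cancel_left, inv_mul_cancel_left, mul_inv_cancel, inv_mul_cancel, ir, jf, ia, ib, ic, id] at h ⊢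
    exact h
  · have h := mul_inv_eq_one.mpr e26
    simp only [pow_succ, pow_zero, mul_inv_rev, inv_inv, inv_one, one_mul, mul_one, mul_assoc,
      mul_inv_cancel_left, inv_mul_cancel_left, mul_inv_cancel, inv_mul_cancel, ir, jf, ia, ib, ic, id] at h ⊢
    exact h
  · have h := mul_inv_eq_one.mpr e27
    simp only [pow_succ, pow_zero, mul_inv_rev, inv_inv, inv_one, one_mul, mul_one, mul_assoc,
      mul_inv_cancel_left, inv_mul_cancel_left, mul_inv_cancel, inv_mul_cancel, ir, jf, ia, ib, ic, id] at h ⊢
    exact h
  · have h := mul_inv_eq_one.mpr e28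
    simp only [pow_succ, pow_zero, mul_inv_rev, inv_inv, inv_one, one_mul, mul_one, mul_assoc,
      mul_inv_cancel_left, inv_mul_cancel_left, mul_inv_cancel, inv_mul_cancel, ir, jf, ia, ib, ic, id] at h ⊢
    exact h
  · have h := mul_inv_eq_one.mpr e29
    simp only [pow_succ, pow_zero, mul_inv_rev, inv_inv, inv_one, one_mul, mul_one, mul_assoc,
      mul_inv_cancel_left, inv_mul_cancel_left, mul_inv_cancel, inv_mul_cancel, ir, jf, ia, ib, ic, id] at h ⊢
    exact h
  · have h := mul_inv_eq_one.mpr e30
    simp only [pow_succ, pow_zero, mul_inv_rev, inv_inv, inv_one, one_mul, mul_one, mul_assoc,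
      mul_inv_cancel_left, inv_mul_cancel_left, mul_inv_cancel, inv_mul_cancel, ir, jf, ia, ib, ic, id] at h ⊢
    exact h
  · have h := mul_inv_eq_one.mpr e31
    simp only [pow_succ, pow_zero, mul_inv_rev, inv_inv, inv_one, one_mul, mul_one, mul_assoc,
      mul_inv_cancel_left, inv_mul_cancel_left, mul_inv_cancel, inv_mul_cancel, ir, jf, ia, ib, ic, id] at h ⊢
    exact h
  · have h := mul_inv_eq_one.mpr e32
    simp only [pow_succ, pow_zero, mul_inv_rev, inv_inv, inv_one, one_mul, mul_one, mul_assoc,
      mul_inv_cancel_left, inv_mul_cancel_left, mul_inv_cancel, inv_mul_cancel, ir, jf, ia, ib, ic, id] at h ⊢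
    exact h
  · have h := mul_inv_eq_one.mpr e33
    simp only [pow_succ, pow_zero, mul_inv_rev, inv_inv, inv_one, one_mul, mul_one, mul_assoc,
      mul_inv_cancel_left, inv_mul_cancel_left, mul_inv_cancel, inv_mul_cancel, ir, jf, ia, ib, ic, id] at h ⊢
    exact h
  · have h := mul_inv_eq_one.mpr e34
    simp only [pow_succ, pow_zero, mul_inv_rev, inv_inv, inv_one, one_mul, mul_one, mul_assoc,
      mul_inv_cancel_left, inv_mul_cancel_left, mul_inv_cancel, inv_mul_cancel, ir, jf, ia, ib, ic, id] at h ⊢
    exact h
  · have h := mul_inv_eq_one.mpr e35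
    simp only [pow_succ, pow_zero, mul_inv_rev, inv_inv, inv_one, one_mul, mul_one, mul_assoc,
      mul_inv_cancel_left, inv_mul_cancel_left, mul_inv_cancel, inv_mul_cancel, ir, jf, ia, ib, ic, id] at h ⊢
    exact h
  · have h := mul_inv_eq_one.mpr e36
    simp only [pow_succ, pow_zero, mul_inv_rev, inv_inv, inv_one, one_mul, mul_one, mul_assoc,
      mul_inv_cancel_left, inv_mul_cancel_left, mul_inv_cancel, inv_mul_cancel, ir, jf, ia, ib, ic, id] at h ⊢
    exact h
  · have h := mul_inv_eq_one.mpr e37
    simp only [pow_succ, pow_zero, mul_inv_rev, inv_inv, inv_one, one_mul, mul_one, mul_assoc,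
      mul_inv_cancel_left, inv_mul_cancel_left, mul_inv_cancel, inv_mul_cancel, ir, jf, ia, ib, ic, id] at h ⊢
    exact h
  · have h := mul_inv_eq_one.mpr e38
    simp only [pow_succ, pow_zero, mul_inv_rev, inv_inv, inv_one, one_mul, mul_one, mul_assoc,
      mul_inv_cancel_left, inv_mul_cancel_left, mul_inv_cancel, inv_mul_cancel, ir, jf, ia, ib, ic, id] at h ⊢
    exact h
  · have h := mul_inv_eq_one.mpr e39
    simp only [pow_succ, pow_zero, mul_inv_rev, inv_inv, inv_one, one_mul, mul_one, mul_assoc,
      mul_inv_cancel_left, inv_mul_cancel_left, mul_inv_cancel, inv_mul_cancel, ir, jf, ia, ib, ic, id] at h ⊢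
    exact h
  · have h := mul_inv_eq_one.mpr e40
    simp only [pow_succ, pow_zero, mul_inv_rev, inv_inv, inv_one, one_mul, mul_one, mul_assoc,
      mul_inv_cancel_left, inv_mul_cancel_left, mul_inv_cancel, inv_mul_cancel, ir, jf, ia, ib, ic, id] at h ⊢
    exact h
  · have h := mul_inv_eq_one.mpr e41
    simp only [pow_succ, pow_zero, mul_inv_rev, inv_inv, inv_one, one_mul, mul_one, mul_assoc,
      mul_inv_cancel_left, inv_mul_cancel_left, mul_inv_cancel, inv_mul_cancel, ir, jf, ia, ib, ic, id] at h ⊢
    exact h
  · have h := mul_inv_eq_one.mpr e42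
    simp only [pow_succ, pow_zero, mul_inv_rev, inv_inv, inv_one, one_mul, mul_one, mul_assoc,
      mul_inv_cancel_left, inv_mul_cancel_left, mul_inv_cancel, inv_mul_cancel, ir, jf, ia, ib, ic, id] at h ⊢
    exact h
  · have h := mul_inv_eq_one.mpr e43
    simp only [pow_succ, pow_zero, mul_inv_rev, inv_inv, inv_one, one_mul, mul_one, mul_assoc,
      mul_inv_cancel_left, inv_mul_cancel_left, mul_inv_cancel, inv_mul_cancel, ir, jf, ia, ib, ic, id] at h ⊢
    exact h
  · have h := mul_inv_eq_one.mpr e44
    simp only [pow_succ, pow_zero, mul_inv_rev, inv_inv, inv_one, one_mul, mul_one, mul_assoc,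
      mul_inv_cancel_left, inv_mul_cancel_left, mul_inv_cancel, inv_mul_cancel, ir, jf, ia, ib, ic, id] at h ⊢
    exact h
  · have h := mul_inv_eq_one.mpr e45
    simp only [pow_succ, pow_zero, mul_inv_rev, inv_inv, inv_one, one_mul, mul_one, mul_assoc,
      mul_inv_cancel_left, inv_mul_cancel_left, mul_inv_cancel, inv_mul_cancel, ir, jf, ia, ib, ic, id] at h ⊢
    exact h
  · have h := mul_inv_eq_one.mpr e46
    simp only [pow_succ, pow_zero, mul_inv_rev, inv_inv, inv_one, one_mul, mul_one, mul_assoc,
      mul_inv_cancel_left, inv_mul_cancel_left, mul_inv_cancel, inv_mul_cancel, ir, jf, ia, ib, ic, id] at h ⊢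
    exact h
  · have h := mul_inv_eq_one.mpr e47
    simp only [pow_succ, pow_zero, mul_inv_rev, inv_inv, inv_one, one_mul, mul_one, mul_assoc,
      mul_inv_cancel_left, inv_mul_cancel_left, mul_inv_cancel, inv_mul_cancel, ir, jf, ia, ib, ic, id] at h ⊢
    exact h
  · have h := mul_inv_eq_one.mpr e48
    simp only [pow_succ, pow_zero, mul_inv_rev, inv_inv, inv_one, one_mul, mul_one, mul_assoc,
      mul_inv_cancel_left, inv_mul_cancel_left, mul_inv_cancel, inv_mul_cancel, ir, jf, ia, ib, ic, id] at h ⊢
    exact h
  · have h := mul_inv_eq_one.mpr e49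
    simp only [pow_succ, pow_zero, mul_inv_rev, inv_inv, inv_one, one_mul, mul_one, mul_assoc,
      mul_inv_cancel_left, inv_mul_cancel_left, mul_inv_cancel, inv_mul_cancel, ir, jf, ia, ib, ic, id] at h ⊢
    exact h
  · have h := mul_inv_eq_one.mpr e50
    simp only [pow_succ, pow_zero, mul_inv_rev, inv_inv, inv_one, one_mul, mul_one, mul_assoc,
      mul_inv_cancel_left, inv_mul_cancel_left, mul_inv_cancel, inv_mul_cancel, ir, jf, ia, ib, ic, id] at h ⊢
    exact h
  · have h := mul_inv_eq_one.mpr e51
    simp only [pow_succ, pow_zero, mul_inv_rev, inv_inv, inv_one, one_mul, mul_one, mul_assoc,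
      mul_inv_cancel_left, inv_mul_cancel_left, mul_inv_cancel, inv_mul_cancel, ir, jf, ia, ib, ic, id] at h ⊢
    exact h
  · have h := mul_inv_eq_one.mpr e52
    simp only [pow_succ, pow_zero, mul_inv_rev, inv_inv, inv_one, one_mul, mul_one, mul_assoc,
      mul_inv_cancel_left, inv_mul_cancel_left, mul_inv_cancel, inv_mul_cancel, ir, jf, ia, ib, ic, id] at h ⊢
    exact h
  · have h := mul_inv_eq_one.mpr e53
    simp only [pow_succ, pow_zero, mul_inv_rev, inv_inv, inv_one, one_mul, mul_one, mul_assoc,
      mul_inv_cancel_left, inv_mul_cancel_left, mul_inv_cancel, inv_mul_cancel, ir, jf, ia, ib, ic, id] at h ⊢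
    exact h
  · have h := mul_inv_eq_one.mpr e54
    simp only [pow_succ, pow_zero, mul_inv_rev, inv_inv, inv_one, one_mul, mul_one, mul_assoc,
      mul_inv_cancel_left, inv_mul_cancel_left, mul_inv_cancel, inv_mul_cancel, ir, jf, ia, ib, ic, id] at h ⊢
    exact h
  · have h := mul_inv_eq_one.mpr e55
    simp only [pow_succ, pow_zero, mul_inv_rev, inv_inv, inv_one, one_mul, mul_one, mul_assoc,
      mul_inv_cancel_left, inv_mul_cancel_left, mul_inv_cancel, inv_mul_cancel, ir, jf, ia, ib, ic, id] at h ⊢
    exact h
  · have h := mul_inv_eq_one.mpr e56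
    simp only [pow_succ, pow_zero, mul_inv_rev, inv_inv, inv_one, one_mul, mul_one, mul_assoc,
      mul_inv_cancel_left, inv_mul_cancel_left, mul_inv_cancel, inv_mul_cancel, ir, jf, ia, ib, ic, id] at h ⊢
    exact h
  · have h := mul_inv_eq_one.mpr e57
    simp only [pow_succ, pow_zero, mul_inv_rev, inv_inv, inv_one, one_mul, mul_one, mul_assoc,
      mul_inv_cancel_left, inv_mul_cancel_left, mul_inv_cancel, inv_mul_cancel, ir, jf, ia, ib, ic, id] at h ⊢
    exact h
  · have h := mul_inv_eq_one.mpr e58
    simp only [pow_succ, pow_zero, mul_inv_rev, inv_inv, inv_one, one_mul, mul_one, mul_assoc,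
      mul_inv_cancel_left, inv_mul_cancel_left, mul_inv_cancel, inv_mul_cancel, ir, jf, ia, ib, ic, id] at h ⊢
    exact h
  · have h := mul_inv_eq_one.mpr e59
    simp only [pow_succ, pow_zero, mul_inv_rev, inv_inv, inv_one, one_mul, mul_one, mul_assoc,
      mul_inv_cancel_left, inv_mul_cancel_left, mul_inv_cancel, inv_mul_cancel, ir, jf, ia, ib, ic, id] at h ⊢
    exact h
  · have h := mul_inv_eq_one.mpr e60
    simp only [pow_succ, pow_zero, mul_inv_rev, inv_inv, inv_one, one_mul, mul_one, mul_assoc,
      mul_inv_cancel_left, inv_mul_cancel_left, mul_inv_cancel, inv_mul_cancel, ir, jf, ia, ib, ic, id] at h ⊢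
    exact h
  · have h := mul_inv_eq_one.mpr e61
    simp only [pow_succ, pow_zero, mul_inv_rev, inv_inv, inv_one, one_mul, mul_one, mul_assoc,
      mul_inv_cancel_left, inv_mul_cancel_left, mul_inv_cancel, inv_mul_cancel, ir, jf, ia, ib, ic, id] at h ⊢
    exact h

/-- Certificate data. -/
def pt1_par : Trie :=
    (.node (.node (.node (.node (.node (.node (.node (.node (.node (.node (.node (.leaf (nat_lit
    0)) (.leaf (nat_lit 85008))) (.leaf (nat_lit 31498))) (.node (.node (.leaf (nat_lit 13071))
    (.leaf (nat_lit 110607))) (.leaf (nat_lit 50951)))) (.node (.node (.node (.leaf (nat_lit 6913))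
    (.leaf (nat_lit 100872))) (.leaf (nat_lit 39689))) (.node (.node (.leaf (nat_lit 21262)) (.leaf
    (nat_lit 162322))) (.leaf (nat_lit 61954))))) (.node (.node (.node (.node (.leaf (nat_lit
    2566)) (.leaf (nat_lit 95759))) (.leaf (nat_lit 35845))) (.node (.node (.leaf (nat_lit 17671))
    (.leaf (nat_lit 124943))) (.leaf (nat_lit 55313)))) (.node (.node (.node (.leaf (nat_lit
    10251)) (.leaf (nat_lit 106252))) (.leaf (nat_lit 44562))) (.node (.node (.leaf (nat_lit
    25864)) (.leaf (nat_lit 279812))) (.leaf (nat_lit 71431)))))) (.node (.node (.node (.node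
    (.node (.leaf (nat_lit 1538)) (.leaf (nat_lit 90642))) (.leaf (nat_lit 33038))) (.node (.node
    (.leaf (nat_lit 14850)) (.leaf (nat_lit 114704))) (.leaf (nat_lit 53008)))) (.node (.node
    (.node (.leaf (nat_lit 8720)) (.leaf (nat_lit 103172))) (.leaf (nat_lit 41997))) (.node (.node
    (.leaf (nat_lit 23304)) (.leaf (nat_lit 196623))) (.leaf (nat_lit 66311))))) (.node (.node
    (.node (.node (.leaf (nat_lit 4360)) (.leaf (nat_lit 97804))) (.leaf (nat_lit 37393))) (.node
    (.node (.leaf (nat_lit 19212)) (.leaf (nat_lit 132625))) (.leaf (nat_lit 58896)))) (.node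
    (.node (.node (.leaf (nat_lit 11275)) (.leaf (nat_lit 108560))) (.leaf (nat_lit 47117))) (.node
    (.leaf (nat_lit 28678)) (.leaf (nat_lit 78858))))))) (.node (.node (.node (.node (.node (.node
    (.leaf (nat_lit 527)) (.leaf (nat_lit 88850))) (.leaf (nat_lit 32524))) (.node (.node (.leaf
    (nat_lit 14096)) (.leaf (nat_lit 113162))) (.leaf (nat_lit 51467)))) (.node (.node (.node
    (.leaf (nat_lit 7953)) (.leaf (nat_lit 102154))) (.leaf (nat_lit 40973))) (.node (.node (.leaf
    (nat_lit 22273)) (.leaf (nat_lit 170768))) (.leaf (nat_lit 64772))))) (.node (.node (.node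
    (.node (.leaf (nat_lit 3343)) (.leaf (nat_lit 96525))) (.leaf (nat_lit 36369))) (.node (.node
    (.leaf (nat_lit 18448)) (.leaf (nat_lit 129538))) (.leaf (nat_lit 57105)))) (.node (.node
    (.node (.leaf (nat_lit 10763)) (.leaf (nat_lit 106764))) (.leaf (nat_lit 45835))) (.node (.leaf
    (nat_lit 26893)) (.leaf (nat_lit 76049)))))) (.node (.node (.node (.node (.node (.leaf (nat_lit
    1799)) (.leaf (nat_lit 92427))) (.leaf (nat_lit 34827))) (.node (.node (.leaf (nat_lit 16653))
    (.leaf (nat_lit 116999))) (.leaf (nat_lit 53514)))) (.node (.node (.node (.leaf (nat_lit 9732))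
    (.leaf (nat_lit 104963))) (.leaf (nat_lit 42767))) (.node (.node (.leaf (nat_lit 24589)) (.leaf
    (nat_lit 272648))) (.leaf (nat_lit 67843))))) (.node (.node (.node (.node (.leaf (nat_lit
    4880)) (.leaf (nat_lit 99087))) (.leaf (nat_lit 38917))) (.node (.node (.leaf (nat_lit 20237))
    (.leaf (nat_lit 145680))) (.leaf (nat_lit 60426)))) (.node (.node (.node (.leaf (nat_lit
    12298)) (.leaf (nat_lit 108817))) (.leaf (nat_lit 48139))) (.node (.leaf (nat_lit 29700))
    (.leaf (nat_lit 81932)))))))) (.node (.node (.node (.node (.node (.node (.node (.leaf (nat_lit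
    270)) (.leaf (nat_lit 86544))) (.leaf (nat_lit 32014))) (.node (.node (.leaf (nat_lit 13327))
    (.leaf (nat_lit 111370))) (.leaf (nat_lit 51211)))) (.node (.node (.node (.leaf (nat_lit 6930))
    (.leaf (nat_lit 101391))) (.leaf (nat_lit 40196))) (.node (.node (.leaf (nat_lit 21520)) (.leaf
    (nat_lit 166408))) (.leaf (nat_lit 64272))))) (.node (.node (.node (.node (.leaf (nat_lit
    3079)) (.leaf (nat_lit 96016))) (.leaf (nat_lit 35855))) (.node (.node (.leaf (nat_lit 18179))
    (.leaf (nat_lit 126730))) (.leaf (nat_lit 56590)))) (.node (.node (.node (.leaf (nat_lit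
    10508)) (.leaf (nat_lit 106508))) (.leaf (nat_lit 45328))) (.node (.node (.leaf (nat_lit
    26381)) (.leaf (nat_lit 314897))) (.leaf (nat_lit 74513)))))) (.node (.node (.node (.node
    (.node (.leaf (nat_lit 1553)) (.leaf (nat_lit 91151))) (.leaf (nat_lit 33548))) (.node (.node
    (.leaf (nat_lit 15883)) (.leaf (nat_lit 115724))) (.leaf (nat_lit 53264)))) (.node (.node
    (.node (.leaf (nat_lit 9223)) (.leaf (nat_lit 103950))) (.leaf (nat_lit 42256))) (.node (.node
    (.leaf (nat_lit 24332)) (.leaf (nat_lit 211468))) (.leaf (nat_lit 66578))))) (.node (.node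
    (.node (.node (.leaf (nat_lit 4866)) (.leaf (nat_lit 98568))) (.leaf (nat_lit 37647))) (.node
    (.node (.leaf (nat_lit 19473)) (.leaf (nat_lit 137736))) (.leaf (nat_lit 59403)))) (.node
    (.node (.node (.leaf (nat_lit 11532)) (.leaf (nat_lit 108808))) (.leaf (nat_lit 47880))) (.node
    (.leaf (nat_lit 29195)) (.leaf (nat_lit 80908))))))) (.node (.node (.node (.node (.node (.node
    (.leaf (nat_lit 1038)) (.leaf (nat_lit 89362))) (.leaf (nat_lit 32781))) (.node (.node (.leaf
    (nat_lit 14349)) (.leaf (nat_lit 113668))) (.leaf (nat_lit 52490)))) (.node (.node (.node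
    (.leaf (nat_lit 8210)) (.leaf (nat_lit 102669))) (.leaf (nat_lit 41482))) (.node (.node (.leaf
    (nat_lit 22799)) (.leaf (nat_lit 188178))) (.leaf (nat_lit 65800))))) (.node (.node (.node
    (.node (.leaf (nat_lit 3594)) (.leaf (nat_lit 97039))) (.leaf (nat_lit 36876))) (.node (.node
    (.leaf (nat_lit 18946)) (.leaf (nat_lit 131338))) (.leaf (nat_lit 57611)))) (.node (.node
    (.node (.leaf (nat_lit 11019)) (.leaf (nat_lit 107794))) (.leaf (nat_lit 46605))) (.node (.leaf
    (nat_lit 27152)) (.leaf (nat_lit 76814)))))) (.node (.node (.node (.node (.node (.leaf (nat_lit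
    1808)) (.leaf (nat_lit 95502))) (.leaf (nat_lit 35344))) (.node (.node (.leaf (nat_lit 16913))
    (.leaf (nat_lit 123660))) (.leaf (nat_lit 55055)))) (.node (.node (.node (.leaf (nat_lit 9995))
    (.leaf (nat_lit 105738))) (.leaf (nat_lit 44295))) (.node (.node (.leaf (nat_lit 25103)) (.leaf
    (nat_lit 275977))) (.leaf (nat_lit 68362))))) (.node (.node (.node (.node (.leaf (nat_lit
    5897)) (.leaf (nat_lit 100358))) (.leaf (nat_lit 39171))) (.node (.node (.leaf (nat_lit 20747))
    (.leaf (nat_lit 155152))) (.leaf (nat_lit 60938)))) (.node (.node (.node (.leaf (nat_lit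
    12815)) (.leaf (nat_lit 110352))) (.leaf (nat_lit 49930))) (.node (.leaf (nat_lit 29966))
    (.leaf (nat_lit 82703))))))))) (.node (.node (.node (.node (.node (.node (.node (.node (.leaf
    (nat_lit 266)) (.leaf (nat_lit 85263))) (.leaf (nat_lit 31754))) (.node (.node (.leaf (nat_lit
    13315)) (.leaf (nat_lit 110864))) (.leaf (nat_lit 51202)))) (.node (.node (.node (.leaf
    (nat_lit 6919)) (.leaf (nat_lit 101128))) (.leaf (nat_lit 39949))) (.node (.node (.leaf
    (nat_lit 21508)) (.leaf (nat_lit 165650))) (.leaf (nat_lit 61970))))) (.node (.node (.node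
    (.node (.leaf (nat_lit 2577)) (.leaf (nat_lit 96012))) (.leaf (nat_lit 35849))) (.node (.node
    (.leaf (nat_lit 17677)) (.leaf (nat_lit 125202))) (.leaf (nat_lit 55563)))) (.node (.node
    (.node (.leaf (nat_lit 10503)) (.leaf (nat_lit 106498))) (.leaf (nat_lit 44811))) (.node (.node
    (.leaf (nat_lit 26123)) (.leaf (nat_lit 283405))) (.leaf (nat_lit 73474)))))) (.node (.node
    (.node (.node (.node (.leaf (nat_lit 1549)) (.leaf (nat_lit 91143))) (.leaf (nat_lit 33293)))
    (.node (.node (.leaf (nat_lit 14860)) (.leaf (nat_lit 115212))) (.leaf (nat_lit 53255))))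
    (.node (.node (.node (.leaf (nat_lit 9217)) (.leaf (nat_lit 103690))) (.leaf (nat_lit 42001)))
    (.node (.node (.leaf (nat_lit 23822)) (.leaf (nat_lit 204304))) (.leaf (nat_lit 66317)))))
    (.node (.node (.node (.node (.leaf (nat_lit 4623)) (.leaf (nat_lit 98061))) (.leaf (nat_lit
    37636))) (.node (.node (.leaf (nat_lit 19469)) (.leaf (nat_lit 133906))) (.leaf (nat_lit
    59152)))) (.node (.node (.node (.leaf (nat_lit 11281)) (.leaf (nat_lit 108802))) (.leaf
    (nat_lit 47361))) (.node (.leaf (nat_lit 28683)) (.leaf (nat_lit 79629))))))) (.node (.node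
    (.node (.node (.node (.node (.leaf (nat_lit 782)) (.leaf (nat_lit 89357))) (.leaf (nat_lit
    32528))) (.node (.node (.leaf (nat_lit 14343)) (.leaf (nat_lit 113420))) (.leaf (nat_lit
    51980)))) (.node (.node (.node (.leaf (nat_lit 8206)) (.leaf (nat_lit 102414))) (.leaf (nat_lit
    41234))) (.node (.node (.leaf (nat_lit 22285)) (.leaf (nat_lit 177159))) (.leaf (nat_lit
    64786))))) (.node (.node (.node (.node (.leaf (nat_lit 3586)) (.leaf (nat_lit 96529))) (.leaf
    (nat_lit 36871))) (.node (.node (.leaf (nat_lit 18702)) (.leaf (nat_lit 129810))) (.leaf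
    (nat_lit 57601)))) (.node (.node (.node (.leaf (nat_lit 11011)) (.leaf (nat_lit 106770)))
    (.leaf (nat_lit 46349))) (.node (.leaf (nat_lit 27146)) (.leaf (nat_lit 76557)))))) (.node
    (.node (.node (.node (.node (.leaf (nat_lit 1803)) (.leaf (nat_lit 94738))) (.leaf (nat_lit
    35087))) (.node (.node (.leaf (nat_lit 16909)) (.leaf (nat_lit 119307))) (.leaf (nat_lit
    54026)))) (.node (.node (.node (.leaf (nat_lit 9987)) (.leaf (nat_lit 105232))) (.leaf (nat_lit
    43792))) (.node (.node (.leaf (nat_lit 24593)) (.leaf (nat_lit 275713))) (.leaf (nat_lit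
    67851))))) (.node (.node (.node (.node (.leaf (nat_lit 5890)) (.leaf (nat_lit 99596))) (.leaf
    (nat_lit 38923))) (.node (.node (.leaf (nat_lit 20742)) (.leaf (nat_lit 149009))) (.leaf
    (nat_lit 60683)))) (.node (.node (.node (.leaf (nat_lit 12304)) (.leaf (nat_lit 109836)))
    (.leaf (nat_lit 49168))) (.node (.leaf (nat_lit 29713)) (.leaf (nat_lit 82438)))))))) (.node
    (.node (.node (.node (.node (.node (.node (.leaf (nat_lit 274)) (.leaf (nat_lit 87565))) (.leaf
    (nat_lit 32269))) (.node (.node (.leaf (nat_lit 14084)) (.leaf (nat_lit 111886))) (.leaf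
    (nat_lit 51460)))) (.node (.node (.node (.leaf (nat_lit 7949)) (.leaf (nat_lit 101895))) (.leaf
    (nat_lit 40452))) (.node (.node (.leaf (nat_lit 22027)) (.leaf (nat_lit 169999))) (.leaf
    (nat_lit 64526))))) (.node (.node (.node (.node (.leaf (nat_lit 3329)) (.leaf (nat_lit 96264)))
    (.leaf (nat_lit 36101))) (.node (.node (.leaf (nat_lit 18444)) (.leaf (nat_lit 127249))) (.leaf
    (nat_lit 56847)))) (.node (.node (.node (.leaf (nat_lit 10759)) (.leaf (nat_lit 106755)))
    (.leaf (nat_lit 45829))) (.node (.leaf (nat_lit 26638)) (.leaf (nat_lit 75018)))))) (.node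
    (.node (.node (.node (.node (.leaf (nat_lit 1795)) (.leaf (nat_lit 91911))) (.leaf (nat_lit
    34818))) (.node (.node (.leaf (nat_lit 16139)) (.leaf (nat_lit 115985))) (.leaf (nat_lit
    53507)))) (.node (.node (.node (.leaf (nat_lit 9231)) (.leaf (nat_lit 104714))) (.leaf (nat_lit
    42512))) (.node (.node (.leaf (nat_lit 24336)) (.leaf (nat_lit 238097))) (.leaf (nat_lit
    66834))))) (.node (.node (.node (.node (.leaf (nat_lit 4873)) (.leaf (nat_lit 98823))) (.leaf
    (nat_lit 38413))) (.node (.node (.leaf (nat_lit 19728)) (.leaf (nat_lit 143116))) (.leaf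
    (nat_lit 60172)))) (.node (.node (.node (.leaf (nat_lit 12290)) (.leaf (nat_lit 108812)))
    (.leaf (nat_lit 48133))) (.node (.leaf (nat_lit 29454)) (.leaf (nat_lit 81665))))))) (.node
    (.node (.node (.node (.node (.node (.leaf (nat_lit 1294)) (.leaf (nat_lit 90116))) (.leaf
    (nat_lit 32786))) (.node (.node (.leaf (nat_lit 14599)) (.leaf (nat_lit 114448))) (.leaf
    (nat_lit 52997)))) (.node (.node (.node (.leaf (nat_lit 8466)) (.leaf (nat_lit 102930))) (.leaf
    (nat_lit 41738))) (.node (.node (.leaf (nat_lit 23051)) (.leaf (nat_lit 194833))) (.leaf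
    (nat_lit 65810))))) (.node (.node (.node (.node (.leaf (nat_lit 4100)) (.leaf (nat_lit 97297)))
    (.leaf (nat_lit 37132))) (.node (.node (.leaf (nat_lit 18953)) (.leaf (nat_lit 132111))) (.leaf
    (nat_lit 58380)))) (.node (.node (.node (.leaf (nat_lit 11026)) (.leaf (nat_lit 108550)))
    (.leaf (nat_lit 46861))) (.node (.leaf (nat_lit 27408)) (.leaf (nat_lit 77834)))))) (.node
    (.node (.node (.node (.node (.leaf (nat_lit 2063)) (.leaf (nat_lit 95506))) (.leaf (nat_lit
    35841))) (.node (.node (.leaf (nat_lit 17416)) (.leaf (nat_lit 123919))) (.leaf (nat_lit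
    55308)))) (.node (.node (.node (.leaf (nat_lit 10002)) (.leaf (nat_lit 106242))) (.leaf
    (nat_lit 44299))) (.node (.node (.leaf (nat_lit 25355)) (.leaf (nat_lit 277776))) (.leaf
    (nat_lit 70411))))) (.node (.node (.node (.node (.leaf (nat_lit 5906)) (.leaf (nat_lit
    100363))) (.leaf (nat_lit 39184))) (.node (.node (.leaf (nat_lit 21252)) (.leaf (nat_lit
    157457))) (.leaf (nat_lit 60943)))) (.node (.node (.node (.leaf (nat_lit 13060)) (.leaf
    (nat_lit 110594))) (.leaf (nat_lit 50700))) (.node (.leaf (nat_lit 30223)) (.leaf (nat_lit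
    83981)))))))))) (.node (.node (.node (.node (.node (.node (.node (.node (.node (.leaf (nat_lit
    10)) (.leaf (nat_lit 85255))) (.leaf (nat_lit 31751))) (.node (.node (.leaf (nat_lit 13073))
    (.leaf (nat_lit 110609))) (.leaf (nat_lit 50956)))) (.node (.node (.node (.leaf (nat_lit 6915))
    (.leaf (nat_lit 100875))) (.leaf (nat_lit 39693))) (.node (.node (.leaf (nat_lit 21264)) (.leaf
    (nat_lit 165389))) (.leaf (nat_lit 61962))))) (.node (.node (.node (.node (.leaf (nat_lit
    2568)) (.leaf (nat_lit 95761))) (.leaf (nat_lit 35847))) (.node (.node (.leaf (nat_lit 17674))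
    (.leaf (nat_lit 124946))) (.leaf (nat_lit 55556)))) (.node (.node (.node (.leaf (nat_lit
    10498)) (.leaf (nat_lit 106258))) (.leaf (nat_lit 44805))) (.node (.node (.leaf (nat_lit
    25867)) (.leaf (nat_lit 281613))) (.leaf (nat_lit 71690)))))) (.node (.node (.node (.node
    (.node (.leaf (nat_lit 1545)) (.leaf (nat_lit 90893))) (.leaf (nat_lit 33041))) (.node (.node
    (.leaf (nat_lit 14858)) (.leaf (nat_lit 114959))) (.leaf (nat_lit 53010)))) (.node (.node
    (.node (.leaf (nat_lit 8722)) (.leaf (nat_lit 103687))) (.leaf (nat_lit 41999))) (.node (.node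
    (.leaf (nat_lit 23307)) (.leaf (nat_lit 196881))) (.leaf (nat_lit 66314))))) (.node (.node
    (.node (.node (.leaf (nat_lit 4362)) (.leaf (nat_lit 97809))) (.leaf (nat_lit 37634))) (.node
    (.node (.leaf (nat_lit 19461)) (.leaf (nat_lit 133388))) (.leaf (nat_lit 59148)))) (.node
    (.node (.node (.leaf (nat_lit 11279)) (.leaf (nat_lit 108562))) (.leaf (nat_lit 47121))) (.node
    (.leaf (nat_lit 28680)) (.leaf (nat_lit 78863))))))) (.node (.node (.node (.node (.node (.node
    (.leaf (nat_lit 780)) (.leaf (nat_lit 89105))) (.leaf (nat_lit 32526))) (.node (.node (.leaf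
    (nat_lit 14339)) (.leaf (nat_lit 113411))) (.leaf (nat_lit 51727)))) (.node (.node (.node
    (.leaf (nat_lit 8203)) (.leaf (nat_lit 102412))) (.leaf (nat_lit 41217))) (.node (.node (.leaf
    (nat_lit 22276)) (.leaf (nat_lit 171024))) (.leaf (nat_lit 64784))))) (.node (.node (.node
    (.node (.leaf (nat_lit 3346)) (.leaf (nat_lit 96527))) (.leaf (nat_lit 36618))) (.node (.node
    (.leaf (nat_lit 18700)) (.leaf (nat_lit 129548))) (.leaf (nat_lit 57359)))) (.node (.node
    (.node (.leaf (nat_lit 10767)) (.leaf (nat_lit 106767))) (.leaf (nat_lit 46097))) (.node (.leaf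
    (nat_lit 26895)) (.leaf (nat_lit 76547)))))) (.node (.node (.node (.node (.node (.leaf (nat_lit
    1801)) (.leaf (nat_lit 92433))) (.leaf (nat_lit 35085))) (.node (.node (.leaf (nat_lit 16655))
    (.leaf (nat_lit 117259))) (.leaf (nat_lit 53519)))) (.node (.node (.node (.leaf (nat_lit 9744))
    (.leaf (nat_lit 105219))) (.leaf (nat_lit 42770))) (.node (.node (.leaf (nat_lit 24591)) (.leaf
    (nat_lit 273421))) (.leaf (nat_lit 67848))))) (.node (.node (.node (.node (.leaf (nat_lit
    5645)) (.leaf (nat_lit 99343))) (.leaf (nat_lit 38920))) (.node (.node (.leaf (nat_lit 20487))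
    (.leaf (nat_lit 148748))) (.leaf (nat_lit 60429)))) (.node (.node (.node (.leaf (nat_lit
    12300)) (.leaf (nat_lit 109329))) (.leaf (nat_lit 48397))) (.node (.leaf (nat_lit 29709))
    (.leaf (nat_lit 82188)))))))) (.node (.node (.node (.node (.node (.node (.node (.leaf (nat_lit
    272)) (.leaf (nat_lit 86799))) (.leaf (nat_lit 32018))) (.node (.node (.leaf (nat_lit 13329))
    (.leaf (nat_lit 111628))) (.leaf (nat_lit 51458)))) (.node (.node (.node (.leaf (nat_lit 7691))
    (.leaf (nat_lit 101642))) (.leaf (nat_lit 40210))) (.node (.node (.leaf (nat_lit 21775)) (.leaf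
    (nat_lit 166668))) (.leaf (nat_lit 64524))))) (.node (.node (.node (.node (.leaf (nat_lit
    3084)) (.leaf (nat_lit 96018))) (.leaf (nat_lit 35857))) (.node (.node (.leaf (nat_lit 18185))
    (.leaf (nat_lit 126993))) (.leaf (nat_lit 56844)))) (.node (.node (.node (.leaf (nat_lit
    10755)) (.leaf (nat_lit 106512))) (.leaf (nat_lit 45578))) (.node (.leaf (nat_lit 26384))
    (.leaf (nat_lit 74758)))))) (.node (.node (.node (.node (.node (.leaf (nat_lit 1793)) (.leaf
    (nat_lit 91655))) (.leaf (nat_lit 33554))) (.node (.node (.leaf (nat_lit 16136)) (.leaf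
    (nat_lit 115727))) (.leaf (nat_lit 53266)))) (.node (.node (.node (.leaf (nat_lit 9226)) (.leaf
    (nat_lit 103954))) (.leaf (nat_lit 42507))) (.node (.node (.leaf (nat_lit 24334)) (.leaf
    (nat_lit 219154))) (.leaf (nat_lit 66831))))) (.node (.node (.node (.node (.leaf (nat_lit
    4868)) (.leaf (nat_lit 98571))) (.leaf (nat_lit 37650))) (.node (.node (.leaf (nat_lit 19726))
    (.leaf (nat_lit 138251))) (.leaf (nat_lit 59915)))) (.node (.node (.node (.leaf (nat_lit
    11536)) (.leaf (nat_lit 108810))) (.leaf (nat_lit 47883))) (.node (.leaf (nat_lit 29447))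
    (.leaf (nat_lit 81167))))))) (.node (.node (.node (.node (.node (.node (.leaf (nat_lit 1042))
    (.leaf (nat_lit 89867))) (.leaf (nat_lit 32784))) (.node (.node (.leaf (nat_lit 14354)) (.leaf
    (nat_lit 114444))) (.leaf (nat_lit 52497)))) (.node (.node (.node (.leaf (nat_lit 8463)) (.leaf
    (nat_lit 102924))) (.leaf (nat_lit 41485))) (.node (.node (.leaf (nat_lit 23047)) (.leaf
    (nat_lit 192530))) (.leaf (nat_lit 65803))))) (.node (.node (.node (.node (.leaf (nat_lit
    3599)) (.leaf (nat_lit 97295))) (.leaf (nat_lit 37130))) (.node (.node (.leaf (nat_lit 18949))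
    (.leaf (nat_lit 131596))) (.leaf (nat_lit 57616)))) (.node (.node (.node (.leaf (nat_lit
    11023)) (.leaf (nat_lit 108301))) (.leaf (nat_lit 46610))) (.node (.leaf (nat_lit 27393))
    (.leaf (nat_lit 76817)))))) (.node (.node (.node (.node (.node (.leaf (nat_lit 1810)) (.leaf
    (nat_lit 95504))) (.leaf (nat_lit 35598))) (.node (.node (.leaf (nat_lit 17170)) (.leaf
    (nat_lit 123911))) (.leaf (nat_lit 55057)))) (.node (.node (.node (.leaf (nat_lit 9998)) (.leaf
    (nat_lit 105995))) (.leaf (nat_lit 44297))) (.node (.node (.leaf (nat_lit 25346)) (.leaf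
    (nat_lit 276240))) (.leaf (nat_lit 68620))))) (.node (.node (.node (.node (.leaf (nat_lit
    5899)) (.leaf (nat_lit 100360))) (.leaf (nat_lit 39179))) (.node (.node (.leaf (nat_lit 21003))
    (.leaf (nat_lit 157443))) (.leaf (nat_lit 60940)))) (.node (.node (.node (.leaf (nat_lit
    12818)) (.leaf (nat_lit 110354))) (.leaf (nat_lit 50693))) (.node (.leaf (nat_lit 29970))
    (.leaf (nat_lit 82706))))))))) (.node (.node (.node (.node (.node (.node (.node (.node (.leaf
    (nat_lit 268)) (.leaf (nat_lit 86285))) (.leaf (nat_lit 32012))) (.node (.node (.leaf (nat_lit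
    13324)) (.leaf (nat_lit 111121))) (.leaf (nat_lit 51208)))) (.node (.node (.node (.leaf
    (nat_lit 6922)) (.leaf (nat_lit 101131))) (.leaf (nat_lit 40194))) (.node (.node (.leaf
    (nat_lit 21517)) (.leaf (nat_lit 165906))) (.leaf (nat_lit 64268))))) (.node (.node (.node
    (.node (.leaf (nat_lit 2823)) (.leaf (nat_lit 96014))) (.leaf (nat_lit 35851))) (.node (.node
    (.leaf (nat_lit 18177)) (.leaf (nat_lit 125713))) (.leaf (nat_lit 56328)))) (.node (.node
    (.node (.leaf (nat_lit 10506)) (.leaf (nat_lit 106500))) (.leaf (nat_lit 45069))) (.node (.node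
    (.leaf (nat_lit 26375)) (.leaf (nat_lit 304644))) (.leaf (nat_lit 74257)))))) (.node (.node
    (.node (.node (.node (.leaf (nat_lit 1551)) (.leaf (nat_lit 91146))) (.leaf (nat_lit 33295)))
    (.node (.node (.leaf (nat_lit 15879)) (.leaf (nat_lit 115471))) (.leaf (nat_lit 53260))))
    (.node (.node (.node (.leaf (nat_lit 9219)) (.leaf (nat_lit 103692))) (.leaf (nat_lit 42252)))
    (.node (.node (.leaf (nat_lit 23824)) (.leaf (nat_lit 209168))) (.leaf (nat_lit 66575)))))
    (.node (.node (.node (.node (.leaf (nat_lit 4626)) (.leaf (nat_lit 98065))) (.leaf (nat_lit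
    37642))) (.node (.node (.leaf (nat_lit 19471)) (.leaf (nat_lit 134668))) (.leaf (nat_lit
    59394)))) (.node (.node (.node (.leaf (nat_lit 11530)) (.leaf (nat_lit 108806))) (.leaf
    (nat_lit 47873))) (.node (.leaf (nat_lit 29186)) (.leaf (nat_lit 80394))))))) (.node (.node
    (.node (.node (.node (.node (.leaf (nat_lit 784)) (.leaf (nat_lit 89359))) (.leaf (nat_lit
    32772))) (.node (.node (.leaf (nat_lit 14346)) (.leaf (nat_lit 113424))) (.leaf (nat_lit
    52239)))) (.node (.node (.node (.leaf (nat_lit 8208)) (.leaf (nat_lit 102418))) (.leaf (nat_lit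
    41479))) (.node (.node (.leaf (nat_lit 22787)) (.leaf (nat_lit 179216))) (.leaf (nat_lit
    65798))))) (.node (.node (.node (.node (.leaf (nat_lit 3588)) (.leaf (nat_lit 96780))) (.leaf
    (nat_lit 36874))) (.node (.node (.leaf (nat_lit 18704)) (.leaf (nat_lit 130306))) (.leaf
    (nat_lit 57609)))) (.node (.node (.node (.leaf (nat_lit 11017)) (.leaf (nat_lit 107015)))
    (.leaf (nat_lit 46352))) (.node (.leaf (nat_lit 27150)) (.leaf (nat_lit 76561)))))) (.node
    (.node (.node (.node (.node (.leaf (nat_lit 1805)) (.leaf (nat_lit 95500))) (.leaf (nat_lit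
    35341))) (.node (.node (.leaf (nat_lit 16911)) (.leaf (nat_lit 123147))) (.leaf (nat_lit
    55052)))) (.node (.node (.node (.leaf (nat_lit 9993)) (.leaf (nat_lit 105475))) (.leaf (nat_lit
    44048))) (.node (.node (.leaf (nat_lit 25100)) (.leaf (nat_lit 275973))) (.leaf (nat_lit
    68359))))) (.node (.node (.node (.node (.leaf (nat_lit 5892)) (.leaf (nat_lit 100107))) (.leaf
    (nat_lit 39169))) (.node (.node (.leaf (nat_lit 20744)) (.leaf (nat_lit 150027))) (.leaf
    (nat_lit 60687)))) (.node (.node (.node (.leaf (nat_lit 12811)) (.leaf (nat_lit 110094)))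
    (.leaf (nat_lit 49421))) (.node (.leaf (nat_lit 29964)) (.leaf (nat_lit 82447)))))))) (.node
    (.node (.node (.node (.node (.node (.node (.leaf (nat_lit 525)) (.leaf (nat_lit 88848))) (.leaf
    (nat_lit 32273))) (.node (.node (.leaf (nat_lit 14090)) (.leaf (nat_lit 112906))) (.leaf
    (nat_lit 51464)))) (.node (.node (.node (.leaf (nat_lit 7951)) (.leaf (nat_lit 101898))) (.leaf
    (nat_lit 40465))) (.node (.node (.leaf (nat_lit 22032)) (.leaf (nat_lit 170243))) (.leaf
    (nat_lit 64528))))) (.node (.node (.node (.node (.leaf (nat_lit 3333)) (.leaf (nat_lit 96269)))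
    (.leaf (nat_lit 36110))) (.node (.node (.leaf (nat_lit 18446)) (.leaf (nat_lit 128527))) (.leaf
    (nat_lit 57101)))) (.node (.node (.node (.leaf (nat_lit 10761)) (.leaf (nat_lit 106757)))
    (.leaf (nat_lit 45832))) (.node (.leaf (nat_lit 26640)) (.leaf (nat_lit 75536)))))) (.node
    (.node (.node (.node (.node (.leaf (nat_lit 1797)) (.leaf (nat_lit 91917))) (.leaf (nat_lit
    34824))) (.node (.node (.leaf (nat_lit 16397)) (.leaf (nat_lit 116492))) (.leaf (nat_lit
    53512)))) (.node (.node (.node (.leaf (nat_lit 9233)) (.leaf (nat_lit 104961))) (.leaf (nat_lit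
    42763))) (.node (.node (.leaf (nat_lit 24338)) (.leaf (nat_lit 272391))) (.leaf (nat_lit
    67588))))) (.node (.node (.node (.node (.leaf (nat_lit 4875)) (.leaf (nat_lit 98826))) (.leaf
    (nat_lit 38666))) (.node (.node (.leaf (nat_lit 19984)) (.leaf (nat_lit 144911))) (.leaf
    (nat_lit 60174)))) (.node (.node (.node (.leaf (nat_lit 12292)) (.leaf (nat_lit 108815)))
    (.leaf (nat_lit 48136))) (.node (.leaf (nat_lit 29457)) (.leaf (nat_lit 81675))))))) (.node
    (.node (.node (.node (.node (.node (.leaf (nat_lit 1298)) (.leaf (nat_lit 90637))) (.leaf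
    (nat_lit 33028))) (.node (.node (.leaf (nat_lit 14603)) (.leaf (nat_lit 114701))) (.leaf
    (nat_lit 53004)))) (.node (.node (.node (.leaf (nat_lit 8717)) (.leaf (nat_lit 103170))) (.leaf
    (nat_lit 41995))) (.node (.node (.leaf (nat_lit 23302)) (.leaf (nat_lit 195588))) (.leaf
    (nat_lit 66066))))) (.node (.node (.node (.node (.leaf (nat_lit 4358)) (.leaf (nat_lit 97550)))
    (.leaf (nat_lit 37389))) (.node (.node (.leaf (nat_lit 18957)) (.leaf (nat_lit 132370))) (.leaf
    (nat_lit 58894)))) (.node (.node (.node (.leaf (nat_lit 11272)) (.leaf (nat_lit 108558)))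
    (.leaf (nat_lit 46865))) (.node (.leaf (nat_lit 28427)) (.leaf (nat_lit 77839)))))) (.node
    (.node (.node (.node (.node (.leaf (nat_lit 2321)) (.leaf (nat_lit 95757))) (.leaf (nat_lit
    35843))) (.node (.node (.leaf (nat_lit 17419)) (.leaf (nat_lit 124427))) (.leaf (nat_lit
    55311)))) (.node (.node (.node (.leaf (nat_lit 10247)) (.leaf (nat_lit 106244))) (.leaf
    (nat_lit 44551))) (.node (.node (.leaf (nat_lit 25862)) (.leaf (nat_lit 278544))) (.leaf
    (nat_lit 70923))))) (.node (.node (.node (.node (.leaf (nat_lit 6664)) (.leaf (nat_lit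
    100623))) (.leaf (nat_lit 39435))) (.node (.node (.leaf (nat_lit 21256)) (.leaf (nat_lit
    159503))) (.leaf (nat_lit 61457)))) (.node (.node (.node (.leaf (nat_lit 13069)) (.leaf
    (nat_lit 110602))) (.leaf (nat_lit 50704))) (.node (.leaf (nat_lit 30465)) (.leaf (nat_lit
    84747))))))))))) (.node (.node (.node (.node (.node (.node (.node (.node (.node (.node (.leaf
    (nat_lit 7)) (.leaf (nat_lit 85009))) (.leaf (nat_lit 31746))) (.node (.node (.leaf (nat_lit
    13072)) (.leaf (nat_lit 110608))) (.leaf (nat_lit 50952)))) (.node (.node (.node (.leaf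
    (nat_lit 6914)) (.leaf (nat_lit 100874))) (.leaf (nat_lit 39691))) (.node (.node (.leaf
    (nat_lit 21263)) (.leaf (nat_lit 165133))) (.leaf (nat_lit 61959))))) (.node (.node (.node
    (.node (.leaf (nat_lit 2567)) (.leaf (nat_lit 95760))) (.leaf (nat_lit 35846))) (.node (.node
    (.leaf (nat_lit 17672)) (.leaf (nat_lit 124944))) (.leaf (nat_lit 55553)))) (.node (.node
    (.node (.leaf (nat_lit 10258)) (.leaf (nat_lit 106255))) (.leaf (nat_lit 44802))) (.node (.node
    (.leaf (nat_lit 25866)) (.leaf (nat_lit 279815))) (.leaf (nat_lit 71432)))))) (.node (.node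
    (.node (.node (.node (.leaf (nat_lit 1541)) (.leaf (nat_lit 90892))) (.leaf (nat_lit 33040)))
    (.node (.node (.leaf (nat_lit 14855)) (.leaf (nat_lit 114705))) (.leaf (nat_lit 53009))))
    (.node (.node (.node (.leaf (nat_lit 8721)) (.leaf (nat_lit 103682))) (.leaf (nat_lit 41998)))
    (.node (.node (.leaf (nat_lit 23306)) (.leaf (nat_lit 196625))) (.leaf (nat_lit 66312)))))
    (.node (.node (.node (.node (.leaf (nat_lit 4361)) (.leaf (nat_lit 97805))) (.leaf (nat_lit
    37633))) (.node (.node (.leaf (nat_lit 19216)) (.leaf (nat_lit 132874))) (.leaf (nat_lit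
    58897)))) (.node (.node (.node (.leaf (nat_lit 11276)) (.leaf (nat_lit 108561))) (.leaf
    (nat_lit 47118))) (.node (.leaf (nat_lit 28679)) (.leaf (nat_lit 78859))))))) (.node (.node
    (.node (.node (.node (.node (.leaf (nat_lit 528)) (.leaf (nat_lit 89100))) (.leaf (nat_lit
    32525))) (.node (.node (.leaf (nat_lit 14097)) (.leaf (nat_lit 113163))) (.leaf (nat_lit
    51722)))) (.node (.node (.node (.leaf (nat_lit 7954)) (.leaf (nat_lit 102155))) (.leaf (nat_lit
    40977))) (.node (.node (.leaf (nat_lit 22274)) (.leaf (nat_lit 170769))) (.leaf (nat_lit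
    64775))))) (.node (.node (.node (.node (.leaf (nat_lit 3344)) (.leaf (nat_lit 96526))) (.leaf
    (nat_lit 36370))) (.node (.node (.leaf (nat_lit 18450)) (.leaf (nat_lit 129546))) (.leaf
    (nat_lit 57356)))) (.node (.node (.node (.leaf (nat_lit 10764)) (.leaf (nat_lit 106765)))
    (.leaf (nat_lit 46093))) (.node (.leaf (nat_lit 26894)) (.leaf (nat_lit 76303)))))) (.node
    (.node (.node (.node (.node (.leaf (nat_lit 1800)) (.leaf (nat_lit 92431))) (.leaf (nat_lit
    35084))) (.node (.node (.leaf (nat_lit 16654)) (.leaf (nat_lit 117000))) (.leaf (nat_lit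
    53515)))) (.node (.node (.node (.leaf (nat_lit 9738)) (.leaf (nat_lit 104964))) (.leaf (nat_lit
    42768))) (.node (.node (.leaf (nat_lit 24590)) (.leaf (nat_lit 272911))) (.leaf (nat_lit
    67847))))) (.node (.node (.node (.node (.leaf (nat_lit 5638)) (.leaf (nat_lit 99088))) (.leaf
    (nat_lit 38919))) (.node (.node (.leaf (nat_lit 20240)) (.leaf (nat_lit 146955))) (.leaf
    (nat_lit 60428)))) (.node (.node (.node (.leaf (nat_lit 12299)) (.leaf (nat_lit 109071)))
    (.leaf (nat_lit 48395))) (.node (.leaf (nat_lit 29708)) (.leaf (nat_lit 82186)))))))) (.node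
    (.node (.node (.node (.node (.node (.node (.leaf (nat_lit 271)) (.leaf (nat_lit 86795))) (.leaf
    (nat_lit 32017))) (.node (.node (.leaf (nat_lit 13328)) (.leaf (nat_lit 111377))) (.leaf
    (nat_lit 51457)))) (.node (.node (.node (.leaf (nat_lit 7687)) (.leaf (nat_lit 101393))) (.leaf
    (nat_lit 40208))) (.node (.node (.leaf (nat_lit 21771)) (.leaf (nat_lit 166410))) (.leaf
    (nat_lit 64274))))) (.node (.node (.node (.node (.leaf (nat_lit 3080)) (.leaf (nat_lit 96017)))
    (.leaf (nat_lit 35856))) (.node (.node (.leaf (nat_lit 18180)) (.leaf (nat_lit 126732))) (.leaf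
    (nat_lit 56591)))) (.node (.node (.node (.leaf (nat_lit 10509)) (.leaf (nat_lit 106509)))
    (.leaf (nat_lit 45329))) (.node (.node (.leaf (nat_lit 26383)) (.leaf (nat_lit 315154))) (.leaf
    (nat_lit 74756)))))) (.node (.node (.node (.node (.node (.leaf (nat_lit 1554)) (.leaf (nat_lit
    91153))) (.leaf (nat_lit 33551))) (.node (.node (.leaf (nat_lit 16135)) (.leaf (nat_lit
    115725))) (.leaf (nat_lit 53265)))) (.node (.node (.node (.leaf (nat_lit 9225)) (.leaf (nat_lit
    103951))) (.leaf (nat_lit 42258))) (.node (.node (.leaf (nat_lit 24333)) (.leaf (nat_lit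
    219151))) (.leaf (nat_lit 66828))))) (.node (.node (.node (.node (.leaf (nat_lit 4867)) (.leaf
    (nat_lit 98570))) (.leaf (nat_lit 37648))) (.node (.node (.leaf (nat_lit 19725)) (.leaf
    (nat_lit 137995))) (.leaf (nat_lit 59914)))) (.node (.node (.node (.leaf (nat_lit 11535))
    (.leaf (nat_lit 108809))) (.leaf (nat_lit 47882))) (.node (.leaf (nat_lit 29443)) (.leaf
    (nat_lit 81165))))))) (.node (.node (.node (.node (.node (.node (.leaf (nat_lit 1041)) (.leaf
    (nat_lit 89866))) (.leaf (nat_lit 32782))) (.node (.node (.leaf (nat_lit 14353)) (.leaf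
    (nat_lit 113933))) (.leaf (nat_lit 52495)))) (.node (.node (.node (.leaf (nat_lit 8460)) (.leaf
    (nat_lit 102670))) (.leaf (nat_lit 41484))) (.node (.node (.leaf (nat_lit 22802)) (.leaf
    (nat_lit 192528))) (.leaf (nat_lit 65802))))) (.node (.node (.node (.node (.leaf (nat_lit
    3595)) (.leaf (nat_lit 97040))) (.leaf (nat_lit 37125))) (.node (.node (.leaf (nat_lit 18948))
    (.leaf (nat_lit 131340))) (.leaf (nat_lit 57615)))) (.node (.node (.node (.leaf (nat_lit
    11020)) (.leaf (nat_lit 108035))) (.leaf (nat_lit 46609))) (.node (.leaf (nat_lit 27154))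
    (.leaf (nat_lit 76816)))))) (.node (.node (.node (.node (.node (.leaf (nat_lit 1809)) (.leaf
    (nat_lit 95503))) (.leaf (nat_lit 35597))) (.node (.node (.leaf (nat_lit 17164)) (.leaf
    (nat_lit 123907))) (.leaf (nat_lit 55056)))) (.node (.node (.node (.leaf (nat_lit 9997)) (.leaf
    (nat_lit 105739))) (.leaf (nat_lit 44296))) (.node (.node (.leaf (nat_lit 25345)) (.leaf
    (nat_lit 275985))) (.leaf (nat_lit 68363))))) (.node (.node (.node (.node (.leaf (nat_lit
    5898)) (.leaf (nat_lit 100359))) (.leaf (nat_lit 39172))) (.node (.node (.leaf (nat_lit 21002))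
    (.leaf (nat_lit 157196))) (.leaf (nat_lit 60939)))) (.node (.node (.node (.leaf (nat_lit
    12817)) (.leaf (nat_lit 110353))) (.leaf (nat_lit 49931))) (.node (.leaf (nat_lit 29967))
    (.leaf (nat_lit 82705))))))))) (.node (.node (.node (.node (.node (.node (.node (.node (.leaf
    (nat_lit 267)) (.leaf (nat_lit 85265))) (.leaf (nat_lit 31755))) (.node (.node (.leaf (nat_lit
    13316)) (.leaf (nat_lit 110866))) (.leaf (nat_lit 51207)))) (.node (.node (.node (.leaf
    (nat_lit 6921)) (.leaf (nat_lit 101130))) (.leaf (nat_lit 40193))) (.node (.node (.leaf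
    (nat_lit 21515)) (.leaf (nat_lit 165901))) (.leaf (nat_lit 62482))))) (.node (.node (.node
    (.node (.leaf (nat_lit 2578)) (.leaf (nat_lit 96013))) (.leaf (nat_lit 35850))) (.node (.node
    (.leaf (nat_lit 17936)) (.leaf (nat_lit 125712))) (.leaf (nat_lit 56081)))) (.node (.node
    (.node (.leaf (nat_lit 10504)) (.leaf (nat_lit 106499))) (.leaf (nat_lit 45066))) (.node (.node
    (.leaf (nat_lit 26372)) (.leaf (nat_lit 295184))) (.leaf (nat_lit 73739)))))) (.node (.node
    (.node (.node (.node (.leaf (nat_lit 1550)) (.leaf (nat_lit 91144))) (.leaf (nat_lit 33294)))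
    (.node (.node (.leaf (nat_lit 15873)) (.leaf (nat_lit 115213))) (.leaf (nat_lit 53256))))
    (.node (.node (.node (.leaf (nat_lit 9218)) (.leaf (nat_lit 103691))) (.leaf (nat_lit 42251)))
    (.node (.node (.leaf (nat_lit 23823)) (.leaf (nat_lit 205068))) (.leaf (nat_lit 66572)))))
    (.node (.node (.node (.node (.leaf (nat_lit 4624)) (.leaf (nat_lit 98062))) (.leaf (nat_lit
    37641))) (.node (.node (.leaf (nat_lit 19470)) (.leaf (nat_lit 134154))) (.leaf (nat_lit
    59153)))) (.node (.node (.node (.leaf (nat_lit 11529)) (.leaf (nat_lit 108805))) (.leaf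
    (nat_lit 47363))) (.node (.leaf (nat_lit 29185)) (.leaf (nat_lit 80386))))))) (.node (.node
    (.node (.node (.node (.node (.leaf (nat_lit 783)) (.leaf (nat_lit 89358))) (.leaf (nat_lit
    32771))) (.node (.node (.leaf (nat_lit 14344)) (.leaf (nat_lit 113423))) (.leaf (nat_lit
    52234)))) (.node (.node (.node (.leaf (nat_lit 8207)) (.leaf (nat_lit 102417))) (.leaf (nat_lit
    41474))) (.node (.node (.leaf (nat_lit 22290)) (.leaf (nat_lit 179215))) (.leaf (nat_lit
    65795))))) (.node (.node (.node (.node (.leaf (nat_lit 3587)) (.leaf (nat_lit 96530))) (.leaf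
    (nat_lit 36872))) (.node (.node (.leaf (nat_lit 18703)) (.leaf (nat_lit 130059))) (.leaf
    (nat_lit 57607)))) (.node (.node (.node (.leaf (nat_lit 11012)) (.leaf (nat_lit 107011)))
    (.leaf (nat_lit 46351))) (.node (.leaf (nat_lit 27149)) (.leaf (nat_lit 76560)))))) (.node
    (.node (.node (.node (.node (.leaf (nat_lit 1804)) (.leaf (nat_lit 94989))) (.leaf (nat_lit
    35088))) (.node (.node (.leaf (nat_lit 16910)) (.leaf (nat_lit 122891))) (.leaf (nat_lit
    54027)))) (.node (.node (.node (.leaf (nat_lit 9990)) (.leaf (nat_lit 105234))) (.leaf (nat_lit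
    44036))) (.node (.node (.leaf (nat_lit 24594)) (.leaf (nat_lit 275722))) (.leaf (nat_lit
    68354))))) (.node (.node (.node (.node (.leaf (nat_lit 5891)) (.leaf (nat_lit 100106))) (.leaf
    (nat_lit 38924))) (.node (.node (.leaf (nat_lit 20743)) (.leaf (nat_lit 149010))) (.leaf
    (nat_lit 60684)))) (.node (.node (.node (.leaf (nat_lit 12305)) (.leaf (nat_lit 110092)))
    (.leaf (nat_lit 49418))) (.node (.leaf (nat_lit 29959)) (.leaf (nat_lit 82444)))))))) (.node
    (.node (.node (.node (.node (.node (.node (.leaf (nat_lit 524)) (.leaf (nat_lit 87820))) (.leaf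
    (nat_lit 32270))) (.node (.node (.leaf (nat_lit 14087)) (.leaf (nat_lit 112143))) (.leaf
    (nat_lit 51463)))) (.node (.node (.node (.leaf (nat_lit 7950)) (.leaf (nat_lit 101896))) (.leaf
    (nat_lit 40464))) (.node (.node (.leaf (nat_lit 22031)) (.leaf (nat_lit 170242))) (.leaf
    (nat_lit 64527))))) (.node (.node (.node (.node (.leaf (nat_lit 3330)) (.leaf (nat_lit 96268)))
    (.leaf (nat_lit 36108))) (.node (.node (.leaf (nat_lit 18445)) (.leaf (nat_lit 128519))) (.leaf
    (nat_lit 56849)))) (.node (.node (.node (.leaf (nat_lit 10760)) (.leaf (nat_lit 106756)))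
    (.leaf (nat_lit 45831))) (.node (.leaf (nat_lit 26639)) (.leaf (nat_lit 75524)))))) (.node
    (.node (.node (.node (.node (.leaf (nat_lit 1796)) (.leaf (nat_lit 91912))) (.leaf (nat_lit
    34823))) (.node (.node (.leaf (nat_lit 16396)) (.leaf (nat_lit 116236))) (.leaf (nat_lit
    53511)))) (.node (.node (.node (.leaf (nat_lit 9232)) (.leaf (nat_lit 104715))) (.leaf (nat_lit
    42514))) (.node (.node (.leaf (nat_lit 24337)) (.leaf (nat_lit 269839))) (.leaf (nat_lit
    67075))))) (.node (.node (.node (.node (.leaf (nat_lit 4874)) (.leaf (nat_lit 98824))) (.leaf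
    (nat_lit 38418))) (.node (.node (.leaf (nat_lit 19983)) (.leaf (nat_lit 143627))) (.leaf
    (nat_lit 60173)))) (.node (.node (.node (.leaf (nat_lit 12291)) (.leaf (nat_lit 108813)))
    (.leaf (nat_lit 48135))) (.node (.leaf (nat_lit 29456)) (.leaf (nat_lit 81674))))))) (.node
    (.node (.node (.node (.node (.node (.leaf (nat_lit 1297)) (.leaf (nat_lit 90121))) (.leaf
    (nat_lit 33027))) (.node (.node (.leaf (nat_lit 14602)) (.leaf (nat_lit 114700))) (.leaf
    (nat_lit 52998)))) (.node (.node (.node (.leaf (nat_lit 8716)) (.leaf (nat_lit 103169))) (.leaf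
    (nat_lit 41739))) (.node (.node (.leaf (nat_lit 23299)) (.leaf (nat_lit 195585))) (.leaf
    (nat_lit 66049))))) (.node (.node (.node (.node (.leaf (nat_lit 4103)) (.leaf (nat_lit 97548)))
    (.leaf (nat_lit 37133))) (.node (.node (.leaf (nat_lit 18955)) (.leaf (nat_lit 132364))) (.leaf
    (nat_lit 58892)))) (.node (.node (.node (.leaf (nat_lit 11271)) (.leaf (nat_lit 108557)))
    (.leaf (nat_lit 46863))) (.node (.leaf (nat_lit 28426)) (.leaf (nat_lit 77835)))))) (.node
    (.node (.node (.node (.node (.leaf (nat_lit 2308)) (.leaf (nat_lit 95756))) (.leaf (nat_lit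
    35842))) (.node (.node (.leaf (nat_lit 17418)) (.leaf (nat_lit 123922))) (.leaf (nat_lit
    55310)))) (.node (.node (.node (.leaf (nat_lit 10241)) (.leaf (nat_lit 106243))) (.leaf
    (nat_lit 44545))) (.node (.node (.leaf (nat_lit 25859)) (.leaf (nat_lit 278027))) (.leaf
    (nat_lit 70667))))) (.node (.node (.node (.node (.leaf (nat_lit 6663)) (.leaf (nat_lit
    100620))) (.leaf (nat_lit 39186))) (.node (.node (.leaf (nat_lit 21255)) (.leaf (nat_lit
    157458))) (.leaf (nat_lit 60946)))) (.node (.node (.node (.leaf (nat_lit 13068)) (.leaf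
    (nat_lit 110601))) (.leaf (nat_lit 50703))) (.node (.leaf (nat_lit 30226)) (.leaf (nat_lit
    84498)))))))))) (.node (.node (.node (.node (.node (.node (.node (.node (.node (.leaf (nat_lit
    11)) (.leaf (nat_lit 85258))) (.leaf (nat_lit 31752))) (.node (.node (.leaf (nat_lit 13074))
    (.leaf (nat_lit 110610))) (.leaf (nat_lit 50959)))) (.node (.node (.node (.leaf (nat_lit 6916))
    (.leaf (nat_lit 101127))) (.leaf (nat_lit 39948))) (.node (.node (.leaf (nat_lit 21507)) (.leaf
    (nat_lit 165645))) (.leaf (nat_lit 61963))))) (.node (.node (.node (.node (.leaf (nat_lit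
    2573)) (.leaf (nat_lit 95762))) (.leaf (nat_lit 35848))) (.node (.node (.leaf (nat_lit 17675))
    (.leaf (nat_lit 125201))) (.leaf (nat_lit 55562)))) (.node (.node (.node (.leaf (nat_lit
    10501)) (.leaf (nat_lit 106497))) (.leaf (nat_lit 44810))) (.node (.node (.leaf (nat_lit
    26122)) (.leaf (nat_lit 281617))) (.leaf (nat_lit 73473)))))) (.node (.node (.node (.node
    (.node (.leaf (nat_lit 1547)) (.leaf (nat_lit 90895))) (.leaf (nat_lit 33292))) (.node (.node
    (.leaf (nat_lit 14859)) (.leaf (nat_lit 114961))) (.leaf (nat_lit 53251)))) (.node (.node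
    (.node (.leaf (nat_lit 8978)) (.leaf (nat_lit 103688))) (.leaf (nat_lit 42000))) (.node (.node
    (.leaf (nat_lit 23821)) (.leaf (nat_lit 196882))) (.leaf (nat_lit 66315))))) (.node (.node
    (.node (.node (.leaf (nat_lit 4365)) (.leaf (nat_lit 98060))) (.leaf (nat_lit 37635))) (.node
    (.node (.leaf (nat_lit 19464)) (.leaf (nat_lit 133905))) (.leaf (nat_lit 59151)))) (.node
    (.node (.node (.leaf (nat_lit 11280)) (.leaf (nat_lit 108801))) (.leaf (nat_lit 47122))) (.node
    (.leaf (nat_lit 28682)) (.leaf (nat_lit 78865))))))) (.node (.node (.node (.node (.node (.node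
    (.leaf (nat_lit 781)) (.leaf (nat_lit 89356))) (.leaf (nat_lit 32527))) (.node (.node (.leaf
    (nat_lit 14342)) (.leaf (nat_lit 113412))) (.leaf (nat_lit 51979)))) (.node (.node (.node
    (.leaf (nat_lit 8205)) (.leaf (nat_lit 102413))) (.leaf (nat_lit 41228))) (.node (.node (.leaf
    (nat_lit 22284)) (.leaf (nat_lit 171025))) (.leaf (nat_lit 64785))))) (.node (.node (.node
    (.node (.leaf (nat_lit 3585)) (.leaf (nat_lit 96528))) (.leaf (nat_lit 36625))) (.node (.node
    (.leaf (nat_lit 18701)) (.leaf (nat_lit 129807))) (.leaf (nat_lit 57362)))) (.node (.node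
    (.node (.leaf (nat_lit 10770)) (.leaf (nat_lit 106768))) (.leaf (nat_lit 46348))) (.node (.leaf
    (nat_lit 26896)) (.leaf (nat_lit 76556)))))) (.node (.node (.node (.node (.node (.leaf (nat_lit
    1802)) (.leaf (nat_lit 94736))) (.leaf (nat_lit 35086))) (.node (.node (.leaf (nat_lit 16656))
    (.leaf (nat_lit 118275))) (.leaf (nat_lit 54023)))) (.node (.node (.node (.leaf (nat_lit 9746))
    (.leaf (nat_lit 105220))) (.leaf (nat_lit 43780))) (.node (.node (.leaf (nat_lit 24592)) (.leaf
    (nat_lit 273423))) (.leaf (nat_lit 67850))))) (.node (.node (.node (.node (.leaf (nat_lit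
    5889)) (.leaf (nat_lit 99345))) (.leaf (nat_lit 38922))) (.node (.node (.leaf (nat_lit 20739))
    (.leaf (nat_lit 149004))) (.leaf (nat_lit 60682)))) (.node (.node (.node (.leaf (nat_lit
    12303)) (.leaf (nat_lit 109586))) (.leaf (nat_lit 49155))) (.node (.leaf (nat_lit 29712))
    (.leaf (nat_lit 82437)))))))) (.node (.node (.node (.node (.node (.node (.node (.leaf (nat_lit
    273)) (.leaf (nat_lit 86801))) (.leaf (nat_lit 32268))) (.node (.node (.leaf (nat_lit 13330))
    (.leaf (nat_lit 111884))) (.leaf (nat_lit 51459)))) (.node (.node (.node (.leaf (nat_lit 7947))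
    (.leaf (nat_lit 101643))) (.leaf (nat_lit 40449))) (.node (.node (.leaf (nat_lit 21776)) (.leaf
    (nat_lit 169740))) (.leaf (nat_lit 64525))))) (.node (.node (.node (.node (.leaf (nat_lit
    3085)) (.leaf (nat_lit 96263))) (.leaf (nat_lit 35858))) (.node (.node (.leaf (nat_lit 18194))
    (.leaf (nat_lit 127248))) (.leaf (nat_lit 56845)))) (.node (.node (.node (.leaf (nat_lit
    10756)) (.leaf (nat_lit 106514))) (.leaf (nat_lit 45826))) (.node (.leaf (nat_lit 26627))
    (.leaf (nat_lit 74761)))))) (.node (.node (.node (.node (.node (.leaf (nat_lit 1794)) (.leaf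
    (nat_lit 91656))) (.leaf (nat_lit 34567))) (.node (.node (.leaf (nat_lit 16138)) (.leaf
    (nat_lit 115984))) (.leaf (nat_lit 53506)))) (.node (.node (.node (.leaf (nat_lit 9227)) (.leaf
    (nat_lit 104204))) (.leaf (nat_lit 42511))) (.node (.node (.leaf (nat_lit 24335)) (.leaf
    (nat_lit 230929))) (.leaf (nat_lit 66832))))) (.node (.node (.node (.node (.leaf (nat_lit
    4871)) (.leaf (nat_lit 98822))) (.leaf (nat_lit 38410))) (.node (.node (.leaf (nat_lit 19727))
    (.leaf (nat_lit 141826))) (.leaf (nat_lit 60170)))) (.node (.node (.node (.leaf (nat_lit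
    12289)) (.leaf (nat_lit 108811))) (.leaf (nat_lit 48130))) (.node (.leaf (nat_lit 29452))
    (.leaf (nat_lit 81169))))))) (.node (.node (.node (.node (.node (.node (.leaf (nat_lit 1293))
    (.leaf (nat_lit 90115))) (.leaf (nat_lit 32785))) (.node (.node (.leaf (nat_lit 14593)) (.leaf
    (nat_lit 114446))) (.leaf (nat_lit 52996)))) (.node (.node (.node (.leaf (nat_lit 8464)) (.leaf
    (nat_lit 102925))) (.leaf (nat_lit 41735))) (.node (.node (.leaf (nat_lit 23050)) (.leaf
    (nat_lit 194319))) (.leaf (nat_lit 65809))))) (.node (.node (.node (.node (.leaf (nat_lit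
    3600)) (.leaf (nat_lit 97296))) (.leaf (nat_lit 37131))) (.node (.node (.leaf (nat_lit 18951))
    (.leaf (nat_lit 131852))) (.leaf (nat_lit 58119)))) (.node (.node (.node (.leaf (nat_lit
    11024)) (.leaf (nat_lit 108549))) (.leaf (nat_lit 46860))) (.node (.leaf (nat_lit 27394))
    (.leaf (nat_lit 77832)))))) (.node (.node (.node (.node (.node (.leaf (nat_lit 2053)) (.leaf
    (nat_lit 95505))) (.leaf (nat_lit 35601))) (.node (.node (.leaf (nat_lit 17415)) (.leaf
    (nat_lit 123916))) (.leaf (nat_lit 55058)))) (.node (.node (.node (.leaf (nat_lit 10001))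
    (.leaf (nat_lit 106241))) (.leaf (nat_lit 44298))) (.node (.node (.leaf (nat_lit 25354)) (.leaf
    (nat_lit 276998))) (.leaf (nat_lit 69643))))) (.node (.node (.node (.node (.leaf (nat_lit
    5904)) (.leaf (nat_lit 100362))) (.leaf (nat_lit 39183))) (.node (.node (.leaf (nat_lit 21251))
    (.leaf (nat_lit 157452))) (.leaf (nat_lit 60941)))) (.node (.node (.node (.leaf (nat_lit
    13059)) (.leaf (nat_lit 110593))) (.leaf (nat_lit 50694))) (.node (.leaf (nat_lit 30220))
    (.leaf (nat_lit 83469))))))))) (.node (.node (.node (.node (.node (.node (.node (.node (.leaf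
    (nat_lit 269)) (.leaf (nat_lit 86543))) (.leaf (nat_lit 32013))) (.node (.node (.leaf (nat_lit
    13326)) (.leaf (nat_lit 111122))) (.leaf (nat_lit 51210)))) (.node (.node (.node (.leaf
    (nat_lit 6928)) (.leaf (nat_lit 101388))) (.leaf (nat_lit 40195))) (.node (.node (.leaf
    (nat_lit 21519)) (.leaf (nat_lit 166407))) (.leaf (nat_lit 64271))))) (.node (.node (.node
    (.node (.leaf (nat_lit 2828)) (.leaf (nat_lit 96015))) (.leaf (nat_lit 35852))) (.node (.node
    (.leaf (nat_lit 18178)) (.leaf (nat_lit 126474))) (.leaf (nat_lit 56588)))) (.node (.node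
    (.node (.leaf (nat_lit 10507)) (.leaf (nat_lit 106507))) (.leaf (nat_lit 45316))) (.node (.node
    (.leaf (nat_lit 26376)) (.leaf (nat_lit 309264))) (.leaf (nat_lit 74500)))))) (.node (.node
    (.node (.node (.node (.leaf (nat_lit 1552)) (.leaf (nat_lit 91147))) (.leaf (nat_lit 33298)))
    (.node (.node (.leaf (nat_lit 15882)) (.leaf (nat_lit 115474))) (.leaf (nat_lit 53263))))
    (.node (.node (.node (.leaf (nat_lit 9220)) (.leaf (nat_lit 103948))) (.leaf (nat_lit 42255)))
    (.node (.node (.leaf (nat_lit 23826)) (.leaf (nat_lit 209170))) (.leaf (nat_lit 66576)))))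
    (.node (.node (.node (.node (.leaf (nat_lit 4865)) (.leaf (nat_lit 98567))) (.leaf (nat_lit
    37643))) (.node (.node (.leaf (nat_lit 19472)) (.leaf (nat_lit 134924))) (.leaf (nat_lit
    59402)))) (.node (.node (.node (.leaf (nat_lit 11531)) (.leaf (nat_lit 108807))) (.leaf
    (nat_lit 47879))) (.node (.leaf (nat_lit 29194)) (.leaf (nat_lit 80652))))))) (.node (.node
    (.node (.node (.node (.node (.leaf (nat_lit 1037)) (.leaf (nat_lit 89360))) (.leaf (nat_lit
    32780))) (.node (.node (.leaf (nat_lit 14347)) (.leaf (nat_lit 113426))) (.leaf (nat_lit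
    52241)))) (.node (.node (.node (.leaf (nat_lit 8209)) (.leaf (nat_lit 102668))) (.leaf (nat_lit
    41480))) (.node (.node (.leaf (nat_lit 22788)) (.leaf (nat_lit 179218))) (.leaf (nat_lit
    65799))))) (.node (.node (.node (.node (.leaf (nat_lit 3591)) (.leaf (nat_lit 96781))) (.leaf
    (nat_lit 36875))) (.node (.node (.leaf (nat_lit 18705)) (.leaf (nat_lit 130314))) (.leaf
    (nat_lit 57610)))) (.node (.node (.node (.leaf (nat_lit 11018)) (.leaf (nat_lit 107016)))
    (.leaf (nat_lit 46604))) (.node (.leaf (nat_lit 27151)) (.leaf (nat_lit 76804)))))) (.node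
    (.node (.node (.node (.node (.leaf (nat_lit 1807)) (.leaf (nat_lit 95501))) (.leaf (nat_lit
    35343))) (.node (.node (.leaf (nat_lit 16912)) (.leaf (nat_lit 123403))) (.leaf (nat_lit
    55053)))) (.node (.node (.node (.leaf (nat_lit 9994)) (.leaf (nat_lit 105476))) (.leaf (nat_lit
    44291))) (.node (.node (.leaf (nat_lit 25101)) (.leaf (nat_lit 275974))) (.leaf (nat_lit
    68360))))) (.node (.node (.node (.node (.leaf (nat_lit 5895)) (.leaf (nat_lit 100355))) (.leaf
    (nat_lit 39170))) (.node (.node (.leaf (nat_lit 20746)) (.leaf (nat_lit 153359))) (.leaf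
    (nat_lit 60690)))) (.node (.node (.node (.leaf (nat_lit 12812)) (.leaf (nat_lit 110351)))
    (.leaf (nat_lit 49675))) (.node (.leaf (nat_lit 29965)) (.leaf (nat_lit 82450)))))))) (.node
    (.node (.node (.node (.node (.node (.node (.leaf (nat_lit 526)) (.leaf (nat_lit 88849))) (.leaf
    (nat_lit 32274))) (.node (.node (.leaf (nat_lit 14091)) (.leaf (nat_lit 112907))) (.leaf
    (nat_lit 51466)))) (.node (.node (.node (.leaf (nat_lit 7952)) (.leaf (nat_lit 101899))) (.leaf
    (nat_lit 40466))) (.node (.node (.leaf (nat_lit 22034)) (.leaf (nat_lit 170250))) (.leaf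
    (nat_lit 64530))))) (.node (.node (.node (.node (.leaf (nat_lit 3335)) (.leaf (nat_lit 96524)))
    (.leaf (nat_lit 36111))) (.node (.node (.leaf (nat_lit 18447)) (.leaf (nat_lit 128530))) (.leaf
    (nat_lit 57103)))) (.node (.node (.node (.leaf (nat_lit 10762)) (.leaf (nat_lit 106758)))
    (.leaf (nat_lit 45834))) (.node (.leaf (nat_lit 26890)) (.leaf (nat_lit 76042)))))) (.node
    (.node (.node (.node (.node (.leaf (nat_lit 1798)) (.leaf (nat_lit 92426))) (.leaf (nat_lit
    34826))) (.node (.node (.leaf (nat_lit 16400)) (.leaf (nat_lit 116496))) (.leaf (nat_lit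
    53513)))) (.node (.node (.node (.leaf (nat_lit 9234)) (.leaf (nat_lit 104962))) (.leaf (nat_lit
    42764))) (.node (.node (.leaf (nat_lit 24588)) (.leaf (nat_lit 272394))) (.leaf (nat_lit
    67594))))) (.node (.node (.node (.node (.leaf (nat_lit 4879)) (.leaf (nat_lit 98827))) (.leaf
    (nat_lit 38667))) (.node (.node (.leaf (nat_lit 20236)) (.leaf (nat_lit 145421))) (.leaf
    (nat_lit 60176)))) (.node (.node (.node (.leaf (nat_lit 12297)) (.leaf (nat_lit 108816)))
    (.leaf (nat_lit 48138))) (.node (.leaf (nat_lit 29458)) (.leaf (nat_lit 81930))))))) (.node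
    (.node (.node (.node (.node (.node (.leaf (nat_lit 1537)) (.leaf (nat_lit 90639))) (.leaf
    (nat_lit 33036))) (.node (.node (.leaf (nat_lit 14604)) (.leaf (nat_lit 114702))) (.leaf
    (nat_lit 53006)))) (.node (.node (.node (.leaf (nat_lit 8718)) (.leaf (nat_lit 103171))) (.leaf
    (nat_lit 41996))) (.node (.node (.leaf (nat_lit 23303)) (.leaf (nat_lit 195594))) (.leaf
    (nat_lit 66306))))) (.node (.node (.node (.node (.leaf (nat_lit 4359)) (.leaf (nat_lit 97554)))
    (.leaf (nat_lit 37390))) (.node (.node (.leaf (nat_lit 18961)) (.leaf (nat_lit 132621))) (.leaf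
    (nat_lit 58895)))) (.node (.node (.node (.leaf (nat_lit 11274)) (.leaf (nat_lit 108559)))
    (.leaf (nat_lit 47116))) (.node (.leaf (nat_lit 28675)) (.leaf (nat_lit 77841)))))) (.node
    (.node (.node (.node (.node (.leaf (nat_lit 2322)) (.leaf (nat_lit 95758))) (.leaf (nat_lit
    35844))) (.node (.node (.leaf (nat_lit 17420)) (.leaf (nat_lit 124940))) (.leaf (nat_lit
    55312)))) (.node (.node (.node (.leaf (nat_lit 10250)) (.leaf (nat_lit 106251))) (.leaf
    (nat_lit 44554))) (.node (.node (.leaf (nat_lit 25863)) (.leaf (nat_lit 278790))) (.leaf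
    (nat_lit 71182))))) (.node (.node (.node (.node (.leaf (nat_lit 6667)) (.leaf (nat_lit
    100871))) (.leaf (nat_lit 39442))) (.node (.node (.leaf (nat_lit 21259)) (.leaf (nat_lit
    162320))) (.leaf (nat_lit 61953)))) (.node (.node (.node (.leaf (nat_lit 13070)) (.leaf
    (nat_lit 110603))) (.leaf (nat_lit 50706))) (.node (.leaf (nat_lit 30480)) (.leaf (nat_lit
    85007))))))))))))

/-- Certificate data. -/
def pt1_fact : Trie :=
    (.node (.node (.node (.node (.node (.node (.node (.node (.node (.node (.node (.node (.node
    (.node (.leaf (nat_lit 1)) (.leaf (nat_lit 400916242))) (.leaf (nat_lit 509796870))) (.node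
    (.leaf (nat_lit 235964689)) (.leaf (nat_lit 196804624)))) (.node (.node (.leaf (nat_lit
    134230799)) (.leaf (nat_lit 584367624))) (.node (.leaf (nat_lit 196249605)) (.leaf (nat_lit
    440014353))))) (.node (.node (.node (.node (.leaf (nat_lit 49315336)) (.leaf (nat_lit
    728085505))) (.leaf (nat_lit 562836753))) (.node (.leaf (nat_lit 284721420)) (.leaf (nat_lit
    561696016)))) (.node (.node (.leaf (nat_lit 191984657)) (.leaf (nat_lit 596245511))) (.node
    (.leaf (nat_lit 420531986)) (.leaf (nat_lit 710537488)))))) (.node (.node (.node (.node (.node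
    (.leaf (nat_lit 37227276)) (.leaf (nat_lit 729118984))) (.leaf (nat_lit 541330703))) (.node
    (.leaf (nat_lit 258601730)) (.leaf (nat_lit 424301317)))) (.node (.node (.leaf (nat_lit
    79251472)) (.leaf (nat_lit 674345489))) (.node (.leaf (nat_lit 98226692)) (.leaf (nat_lit
    340429069))))) (.node (.node (.node (.leaf (nat_lit 92313091)) (.leaf (nat_lit 216823553)))
    (.node (.leaf (nat_lit 73535750)) (.leaf (nat_lit 177921280)))) (.node (.node (.leaf (nat_lit
    124841225)) (.leaf (nat_lit 664509955))) (.node (.leaf (nat_lit 138642183)) (.leaf (nat_lit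
    725753359))))))) (.node (.node (.node (.node (.node (.node (.leaf (nat_lit 15736324)) (.leaf
    (nat_lit 730172422))) (.leaf (nat_lit 387182338))) (.node (.leaf (nat_lit 182049295)) (.leaf
    (nat_lit 131794696)))) (.node (.node (.leaf (nat_lit 98643217)) (.leaf (nat_lit 398776578)))
    (.node (.leaf (nat_lit 356558096)) (.leaf (nat_lit 668222725))))) (.node (.node (.node (.node
    (.leaf (nat_lit 72911631)) (.leaf (nat_lit 666746889))) (.leaf (nat_lit 207378690))) (.node
    (.leaf (nat_lit 295833608)) (.leaf (nat_lit 212460305)))) (.node (.node (.leaf (nat_lit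
    208688656)) (.leaf (nat_lit 62403340))) (.node (.leaf (nat_lit 140729098)) (.leaf (nat_lit
    718557953)))))) (.node (.node (.node (.node (.node (.leaf (nat_lit 49831937)) (.leaf (nat_lit
    579184386))) (.leaf (nat_lit 194781189))) (.node (.leaf (nat_lit 276332050)) (.leaf (nat_lit
    300075781)))) (.node (.node (.leaf (nat_lit 182536203)) (.leaf (nat_lit 577578758))) (.node
    (.leaf (nat_lit 357758729)) (.leaf (nat_lit 642071556))))) (.node (.node (.node (.leaf (nat_lit
    28889602)) (.leaf (nat_lit 618238477))) (.node (.leaf (nat_lit 87192066)) (.leaf (nat_lit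
    556548626)))) (.node (.node (.leaf (nat_lit 176261383)) (.leaf (nat_lit 180582656))) (.node
    (.leaf (nat_lit 491324684)) (.leaf (nat_lit 729117191)))))))) (.node (.node (.node (.node
    (.node (.node (.node (.leaf (nat_lit 6294532)) (.leaf (nat_lit 741179660))) (.leaf (nat_lit
    518598667))) (.node (.leaf (nat_lit 241814802)) (.leaf (nat_lit 115886602)))) (.node (.node
    (.leaf (nat_lit 39393541)) (.leaf (nat_lit 584371467))) (.node (.leaf (nat_lit 341481221))
    (.leaf (nat_lit 226719761))))) (.node (.node (.node (.node (.leaf (nat_lit 70277384)) (.leaf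
    (nat_lit 745388559))) (.leaf (nat_lit 274483977))) (.node (.leaf (nat_lit 55601677)) (.leaf
    (nat_lit 604656395)))) (.node (.node (.leaf (nat_lit 94469642)) (.leaf (nat_lit 9506304)))
    (.node (.leaf (nat_lit 435214351)) (.leaf (nat_lit 714734351)))))) (.node (.node (.node (.node
    (.node (.leaf (nat_lit 41438991)) (.leaf (nat_lit 732186375))) (.leaf (nat_lit 549637386)))
    (.node (.leaf (nat_lit 225574401)) (.leaf (nat_lit 545999371)))) (.node (.node (.leaf (nat_lit
    163665157)) (.leaf (nat_lit 604835331))) (.node (.leaf (nat_lit 388544771)) (.leaf (nat_lit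
    699217415))))) (.node (.node (.node (.leaf (nat_lit 33078284)) (.leaf (nat_lit 609520395)))
    (.node (.leaf (nat_lit 319447554)) (.leaf (nat_lit 123305744)))) (.node (.node (.leaf (nat_lit
    155766034)) (.leaf (nat_lit 225498895))) (.node (.leaf (nat_lit 483459339)) (.leaf (nat_lit
    709192206))))))) (.node (.node (.node (.node (.node (.node (.leaf (nat_lit 5258511)) (.leaf
    (nat_lit 748860423))) (.leaf (nat_lit 394526211))) (.node (.leaf (nat_lit 242345489)) (.leaf
    (nat_lit 94623744)))) (.node (.node (.leaf (nat_lit 155794182)) (.leaf (nat_lit 275572224)))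
    (.node (.leaf (nat_lit 354598162)) (.leaf (nat_lit 577556491))))) (.node (.node (.node (.node
    (.leaf (nat_lit 80225286)) (.leaf (nat_lit 750110466))) (.leaf (nat_lit 591161100))) (.node
    (.leaf (nat_lit 303074311)) (.leaf (nat_lit 210482188)))) (.node (.node (.leaf (nat_lit
    216029707)) (.leaf (nat_lit 75540224))) (.node (.leaf (nat_lit 356216841)) (.leaf (nat_lit
    722247436)))))) (.node (.node (.node (.node (.node (.leaf (nat_lit 15233282)) (.leaf (nat_lit
    762147336))) (.leaf (nat_lit 189016334))) (.node (.leaf (nat_lit 71441154)) (.leaf (nat_lit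
    664422922)))) (.node (.node (.leaf (nat_lit 190336271)) (.leaf (nat_lit 266121984))) (.node
    (.leaf (nat_lit 180553736)) (.leaf (nat_lit 394085125))))) (.node (.node (.node (.leaf (nat_lit
    122694928)) (.leaf (nat_lit 591179267))) (.node (.leaf (nat_lit 102304014)) (.leaf (nat_lit
    235105536)))) (.node (.node (.leaf (nat_lit 205634063)) (.leaf (nat_lit 352493824))) (.node
    (.leaf (nat_lit 501814283)) (.leaf (nat_lit 363165697))))))))) (.node (.node (.node (.node
    (.node (.node (.node (.node (.leaf (nat_lit 1573649)) (.leaf (nat_lit 740131340))) (.leaf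
    (nat_lit 510382600))) (.node (.leaf (nat_lit 237094418)) (.leaf (nat_lit 453191946)))) (.node
    (.node (.leaf (nat_lit 143144721)) (.leaf (nat_lit 638353155))) (.node (.leaf (nat_lit
    343973901)) (.leaf (nat_lit 222957328))))) (.node (.node (.node (.node (.leaf (nat_lit
    68715011)) (.leaf (nat_lit 569227014))) (.leaf (nat_lit 295976970))) (.node (.leaf (nat_lit
    266479113)) (.leaf (nat_lit 376755968)))) (.node (.node (.leaf (nat_lit 196180227)) (.leaf
    (nat_lit 80255488))) (.node (.leaf (nat_lit 425251074)) (.leaf (nat_lit 708136454)))))) (.node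
    (.node (.node (.node (.node (.leaf (nat_lit 40389636)) (.leaf (nat_lit 722836994))) (.leaf
    (nat_lit 546050313))) (.node (.leaf (nat_lit 265419280)) (.leaf (nat_lit 91920394)))) (.node
    (.node (.leaf (nat_lit 175130638)) (.leaf (nat_lit 677106435))) (.node (.leaf (nat_lit
    381849104)) (.leaf (nat_lit 557134607))))) (.node (.node (.node (.leaf (nat_lit 78689295))
    (.leaf (nat_lit 208437256))) (.node (.leaf (nat_lit 314654467)) (.leaf (nat_lit 324736768))))
    (.node (.node (.leaf (nat_lit 100703754)) (.leaf (nat_lit 618838530))) (.node (.leaf (nat_lit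
    478739719)) (.leaf (nat_lit 713386761))))))) (.node (.node (.node (.node (.node (.node (.leaf
    (nat_lit 5252876)) (.leaf (nat_lit 746927633))) (.leaf (nat_lit 532412425))) (.node (.leaf
    (nat_lit 215587601)) (.leaf (nat_lit 134890755)))) (.node (.node (.leaf (nat_lit 53032451))
    (.leaf (nat_lit 572841477))) (.node (.leaf (nat_lit 327856906)) (.leaf (nat_lit 419564547)))))
    (.node (.node (.node (.node (.leaf (nat_lit 78651408)) (.leaf (nat_lit 774132493))) (.leaf
    (nat_lit 383016707))) (.node (.leaf (nat_lit 197790470)) (.leaf (nat_lit 307544331)))) (.node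
    (.node (.leaf (nat_lit 199856655)) (.leaf (nat_lit 238365952))) (.node (.leaf (nat_lit
    444293897)) (.leaf (nat_lit 561864198)))))) (.node (.node (.node (.node (.node (.leaf (nat_lit
    11560204)) (.leaf (nat_lit 760499719))) (.leaf (nat_lit 555331336))) (.node (.leaf (nat_lit
    170530058)) (.leaf (nat_lit 424829452)))) (.node (.node (.leaf (nat_lit 76636680)) (.leaf
    (nat_lit 490548482))) (.node (.leaf (nat_lit 400228619)) (.leaf (nat_lit 647315465))))) (.node
    (.node (.node (.leaf (nat_lit 115919875)) (.leaf (nat_lit 622957834))) (.node (.leaf (nat_lit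
    330961927)) (.leaf (nat_lit 372920846)))) (.node (.node (.leaf (nat_lit 223982081)) (.leaf
    (nat_lit 300132864))) (.node (.leaf (nat_lit 490450959)) (.leaf (nat_lit 724923395))))))))
    (.node (.node (.node (.node (.node (.node (.node (.leaf (nat_lit 11015684)) (.leaf (nat_lit
    742230278))) (.leaf (nat_lit 382986758))) (.node (.leaf (nat_lit 213505025)) (.leaf (nat_lit
    655571212)))) (.node (.node (.leaf (nat_lit 146875654)) (.leaf (nat_lit 270325258))) (.node
    (.leaf (nat_lit 89824770)) (.leaf (nat_lit 273358861))))) (.node (.node (.node (.node (.leaf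
    (nat_lit 14190353)) (.leaf (nat_lit 575520015))) (.leaf (nat_lit 580483344))) (.node (.leaf
    (nat_lit 282733570)) (.leaf (nat_lit 256156672)))) (.node (.node (.leaf (nat_lit 46761217))
    (.leaf (nat_lit 227777792))) (.node (.leaf (nat_lit 443080209)) (.leaf (nat_lit 548754951))))))
    (.node (.node (.node (.node (.node (.leaf (nat_lit 13655046)) (.leaf (nat_lit 736469770)))
    (.leaf (nat_lit 189360640))) (.node (.leaf (nat_lit 218235653)) (.leaf (nat_lit 486731521))))
    (.node (.node (.leaf (nat_lit 171005964)) (.leaf (nat_lit 687456270))) (.node (.leaf (nat_lit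
    393408265)) (.leaf (nat_lit 609460750))))) (.node (.node (.node (.leaf (nat_lit 104343819))
    (.leaf (nat_lit 614043661))) (.node (.leaf (nat_lit 103968259)) (.leaf (nat_lit 588576011))))
    (.node (.node (.leaf (nat_lit 27290381)) (.leaf (nat_lit 73740032))) (.node (.leaf (nat_lit
    487826187)) (.leaf (nat_lit 718106372))))))) (.node (.node (.node (.node (.node (.node (.leaf
    (nat_lit 34619651)) (.leaf (nat_lit 642094854))) (.leaf (nat_lit 539231761))) (.node (.leaf
    (nat_lit 258600207)) (.leaf (nat_lit 171187200)))) (.node (.node (.leaf (nat_lit 156319745))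
    (.leaf (nat_lit 513602831))) (.node (.leaf (nat_lit 214616070)) (.leaf (nat_lit 431089667)))))
    (.node (.node (.node (.leaf (nat_lit 21012745)) (.leaf (nat_lit 537686281))) (.node (.leaf
    (nat_lit 200954374)) (.leaf (nat_lit 394443793)))) (.node (.node (.leaf (nat_lit 82944774))
    (.leaf (nat_lit 276960256))) (.node (.leaf (nat_lit 412842246)) (.leaf (nat_lit 300246282))))))
    (.node (.node (.node (.node (.node (.leaf (nat_lit 12089095)) (.leaf (nat_lit 763730188)))
    (.leaf (nat_lit 194784520))) (.node (.leaf (nat_lit 159461394)) (.leaf (nat_lit 174255631))))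
    (.node (.node (.leaf (nat_lit 192958221)) (.leaf (nat_lit 186747658))) (.node (.leaf (nat_lit
    117118214)) (.leaf (nat_lit 708439562))))) (.node (.node (.node (.leaf (nat_lit 26800134))
    (.leaf (nat_lit 633124355))) (.node (.leaf (nat_lit 139100687)) (.leaf (nat_lit 618998538))))
    (.node (.node (.leaf (nat_lit 53591815)) (.leaf (nat_lit 140066565))) (.node (.leaf (nat_lit
    408142865)) (.leaf (nat_lit 713915142)))))))))) (.node (.node (.node (.node (.node (.node
    (.node (.node (.node (.leaf (nat_lit 1572875)) (.leaf (nat_lit 739411469))) (.leaf (nat_lit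
    172740362))) (.node (.leaf (nat_lit 55690498)) (.leaf (nat_lit 448523520)))) (.node (.node
    (.leaf (nat_lit 139998226)) (.leaf (nat_lit 639737858))) (.node (.leaf (nat_lit 86149897))
    (.leaf (nat_lit 576430608))))) (.node (.node (.node (.node (.leaf (nat_lit 67115777)) (.leaf
    (nat_lit 705017094))) (.leaf (nat_lit 567899409))) (.node (.leaf (nat_lit 286401039)) (.leaf
    (nat_lit 420265216)))) (.node (.node (.leaf (nat_lit 197153035)) (.leaf (nat_lit 236749583)))
    (.node (.leaf (nat_lit 423153679)) (.leaf (nat_lit 587549958)))))) (.node (.node (.node (.node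
    (.node (.leaf (nat_lit 37767426)) (.leaf (nat_lit 656776204))) (.leaf (nat_lit 312217350)))
    (.node (.leaf (nat_lit 68809994)) (.leaf (nat_lit 377666564)))) (.node (.node (.leaf (nat_lit
    84494863)) (.leaf (nat_lit 279250954))) (.node (.leaf (nat_lit 98227461)) (.leaf (nat_lit
    322777607))))) (.node (.node (.node (.leaf (nat_lit 78164483)) (.leaf (nat_lit 231504392)))
    (.node (.leaf (nat_lit 313561098)) (.leaf (nat_lit 107813120)))) (.node (.node (.leaf (nat_lit
    80779528)) (.leaf (nat_lit 25184010))) (.node (.leaf (nat_lit 136022276)) (.leaf (nat_lit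
    600140299))))))) (.node (.node (.node (.node (.node (.node (.leaf (nat_lit 17827337)) (.leaf
    (nat_lit 746232074))) (.leaf (nat_lit 530661894))) (.node (.leaf (nat_lit 81386513)) (.leaf
    (nat_lit 382947333)))) (.node (.node (.leaf (nat_lit 159924494)) (.leaf (nat_lit 226286341)))
    (.node (.leaf (nat_lit 121285639)) (.leaf (nat_lit 578608390))))) (.node (.node (.node (.node
    (.leaf (nat_lit 66097675)) (.leaf (nat_lit 773171973))) (.leaf (nat_lit 585202705))) (.node
    (.leaf (nat_lit 296838401)) (.leaf (nat_lit 254433287)))) (.node (.node (.leaf (nat_lit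
    200380432)) (.leaf (nat_lit 56112143))) (.node (.leaf (nat_lit 319512843)) (.leaf (nat_lit
    624778498)))))) (.node (.node (.node (.node (.node (.leaf (nat_lit 11559434)) (.leaf (nat_lit
    759912463))) (.leaf (nat_lit 554842629))) (.node (.leaf (nat_lit 79303430)) (.leaf (nat_lit
    104478982)))) (.node (.node (.leaf (nat_lit 153182223)) (.leaf (nat_lit 247802626))) (.node
    (.leaf (nat_lit 276494855)) (.leaf (nat_lit 613760526))))) (.node (.node (.node (.leaf (nat_lit
    113257227)) (.leaf (nat_lit 620335875))) (.node (.leaf (nat_lit 326790928)) (.leaf (nat_lit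
    289030912)))) (.node (.node (.leaf (nat_lit 225002762)) (.leaf (nat_lit 95117824))) (.node
    (.leaf (nat_lit 474721289)) (.leaf (nat_lit 683455498)))))))) (.node (.node (.node (.node
    (.node (.node (.node (.leaf (nat_lit 4723208)) (.leaf (nat_lit 742135308))) (.leaf (nat_lit
    161735442))) (.node (.leaf (nat_lit 242843395)) (.leaf (nat_lit 523257098)))) (.node (.node
    (.leaf (nat_lit 91299599)) (.leaf (nat_lit 646553869))) (.node (.leaf (nat_lit 314160649))
    (.leaf (nat_lit 419758086))))) (.node (.node (.node (.node (.leaf (nat_lit 47739401)) (.leaf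
    (nat_lit 769506319))) (.leaf (nat_lit 203705616))) (.node (.leaf (nat_lit 239741189)) (.leaf
    (nat_lit 208815367)))) (.node (.node (.leaf (nat_lit 47809026)) (.leaf (nat_lit 214664192)))
    (.node (.leaf (nat_lit 300106246)) (.leaf (nat_lit 715783179)))))) (.node (.node (.node (.node
    (.node (.leaf (nat_lit 44586257)) (.leaf (nat_lit 719168005))) (.leaf (nat_lit 236723724)))
    (.node (.leaf (nat_lit 211419142)) (.leaf (nat_lit 342578688)))) (.node (.node (.leaf (nat_lit
    163141125)) (.leaf (nat_lit 684309773))) (.node (.leaf (nat_lit 392215557)) (.leaf (nat_lit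
    700572428))))) (.node (.node (.node (.leaf (nat_lit 101722370)) (.leaf (nat_lit 612994827)))
    (.node (.leaf (nat_lit 162687752)) (.leaf (nat_lit 678660613)))) (.node (.node (.leaf (nat_lit
    135373568)) (.leaf (nat_lit 386977541))) (.node (.leaf (nat_lit 366190085)) (.leaf (nat_lit
    712338945))))))) (.node (.node (.node (.node (.node (.node (.leaf (nat_lit 5783554)) (.leaf
    (nat_lit 749553160))) (.leaf (nat_lit 538004743))) (.node (.leaf (nat_lit 256474126)) (.leaf
    (nat_lit 124868618)))) (.node (.node (.leaf (nat_lit 157367812)) (.leaf (nat_lit 615313926)))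
    (.node (.leaf (nat_lit 206226694)) (.leaf (nat_lit 594841104))))) (.node (.node (.node (.node
    (.leaf (nat_lit 29898502)) (.leaf (nat_lit 776301579))) (.leaf (nat_lit 218918402))) (.node
    (.leaf (nat_lit 74600205)) (.leaf (nat_lit 199448336)))) (.node (.node (.leaf (nat_lit
    218651402)) (.leaf (nat_lit 335739648))) (.node (.leaf (nat_lit 412840965)) (.leaf (nat_lit
    613769745)))))) (.node (.node (.node (.node (.node (.leaf (nat_lit 60322818)) (.leaf (nat_lit
    760065794))) (.leaf (nat_lit 559511299))) (.node (.leaf (nat_lit 279584002)) (.leaf (nat_lit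
    624072965)))) (.node (.node (.leaf (nat_lit 42036486)) (.leaf (nat_lit 207365888))) (.node
    (.leaf (nat_lit 117117186)) (.leaf (nat_lit 707008007))))) (.node (.node (.node (.leaf (nat_lit
    107015425)) (.leaf (nat_lit 630823684))) (.node (.leaf (nat_lit 81952527)) (.leaf (nat_lit
    586808584)))) (.node (.node (.leaf (nat_lit 233858310)) (.leaf (nat_lit 75631115))) (.node
    (.leaf (nat_lit 500941064)) (.leaf (nat_lit 735209219))))))))) (.node (.node (.node (.node
    (.node (.node (.node (.node (.leaf (nat_lit 4194574)) (.leaf (nat_lit 571228426))) (.leaf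
    (nat_lit 516500496))) (.node (.leaf (nat_lit 54118673)) (.leaf (nat_lit 458835467)))) (.node
    (.node (.leaf (nat_lit 145766410)) (.leaf (nat_lit 617924106))) (.node (.leaf (nat_lit
    101356553)) (.leaf (nat_lit 420087824))))) (.node (.node (.node (.node (.leaf (nat_lit
    19956736)) (.leaf (nat_lit 709212175))) (.leaf (nat_lit 574715664))) (.node (.leaf (nat_lit
    55077134)) (.leaf (nat_lit 252417803)))) (.node (.node (.leaf (nat_lit 55671818)) (.leaf
    (nat_lit 338961423))) (.node (.leaf (nat_lit 429970186)) (.leaf (nat_lit 619008007)))))) (.node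
    (.node (.node (.node (.node (.leaf (nat_lit 6835975)) (.leaf (nat_lit 754686225))) (.leaf
    (nat_lit 382473731))) (.node (.leaf (nat_lit 236550925)) (.leaf (nat_lit 533356804)))) (.node
    (.node (.leaf (nat_lit 176247055)) (.leaf (nat_lit 232591361))) (.node (.leaf (nat_lit
    385923085)) (.leaf (nat_lit 622146827))))) (.node (.node (.node (.leaf (nat_lit 95954698))
    (.leaf (nat_lit 607226635))) (.node (.leaf (nat_lit 316718083)) (.leaf (nat_lit 213613568))))
    (.node (.node (.leaf (nat_lit 27307014)) (.leaf (nat_lit 311101696))) (.node (.leaf (nat_lit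
    136025103)) (.leaf (nat_lit 728379659))))))) (.node (.node (.node (.node (.node (.node (.leaf
    (nat_lit 27789068)) (.leaf (nat_lit 682463750))) (.leaf (nat_lit 380893697))) (.node (.leaf
    (nat_lit 253259786)) (.leaf (nat_lit 169502720)))) (.node (.node (.leaf (nat_lit 52508675))
    (.leaf (nat_lit 656204802))) (.node (.leaf (nat_lit 342537737)) (.leaf (nat_lit 678759948)))))
    (.node (.node (.node (.node (.leaf (nat_lit 17340686)) (.leaf (nat_lit 654689542))) (.leaf
    (nat_lit 380396296))) (.node (.leaf (nat_lit 298879758)) (.leaf (nat_lit 249703937)))) (.node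
    (.node (.leaf (nat_lit 206149122)) (.leaf (nat_lit 557056260))) (.node (.leaf (nat_lit
    457927179)) (.leaf (nat_lit 704995073)))))) (.node (.node (.node (.node (.node (.leaf (nat_lit
    56124427)) (.leaf (nat_lit 742239237))) (.leaf (nat_lit 350395145))) (.node (.leaf (nat_lit
    280056334)) (.leaf (nat_lit 591687941)))) (.node (.node (.leaf (nat_lit 187714575)) (.leaf
    (nat_lit 696550914))) (.node (.leaf (nat_lit 156435715)) (.leaf (nat_lit 705292304))))) (.node
    (.node (.node (.leaf (nat_lit 115401477)) (.leaf (nat_lit 626103826))) (.node (.leaf (nat_lit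
    332035852)) (.leaf (nat_lit 159468811)))) (.node (.node (.leaf (nat_lit 200389893)) (.leaf
    (nat_lit 276338698))) (.node (.leaf (nat_lit 334214663)) (.leaf (nat_lit 733225996))))))))
    (.node (.node (.node (.node (.node (.node (.node (.leaf (nat_lit 8919558)) (.leaf (nat_lit
    667257615))) (.leaf (nat_lit 514583299))) (.node (.leaf (nat_lit 216651785)) (.leaf (nat_lit
    229314832)))) (.node (.node (.leaf (nat_lit 80816145)) (.leaf (nat_lit 649910034))) (.node
    (.leaf (nat_lit 91923458)) (.leaf (nat_lit 403372290))))) (.node (.node (.node (.node (.leaf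
    (nat_lit 71859970)) (.leaf (nat_lit 768982792))) (.leaf (nat_lit 582244368))) (.node (.leaf
    (nat_lit 255471367)) (.leaf (nat_lit 218225674)))) (.node (.node (.leaf (nat_lit 204048644))
    (.leaf (nat_lit 387128320))) (.node (.leaf (nat_lit 446850054)) (.leaf (nat_lit 322787334))))))
    (.node (.node (.node (.node (.node (.leaf (nat_lit 48782604)) (.leaf (nat_lit 714974472)))
    (.leaf (nat_lit 191110917))) (.node (.leaf (nat_lit 224004357)) (.leaf (nat_lit 117596431))))
    (.node (.node (.leaf (nat_lit 146889226)) (.leaf (nat_lit 689563399))) (.node (.leaf (nat_lit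
    100856850)) (.leaf (nat_lit 702337029))))) (.node (.node (.node (.leaf (nat_lit 105958149))
    (.leaf (nat_lit 311203337))) (.node (.leaf (nat_lit 121778690)) (.leaf (nat_lit 559702034))))
    (.node (.node (.leaf (nat_lit 87605767)) (.leaf (nat_lit 139004172))) (.node (.leaf (nat_lit
    388185093)) (.leaf (nat_lit 483225858))))))) (.node (.node (.node (.node (.node (.node (.leaf
    (nat_lit 5785098)) (.leaf (nat_lit 580229130))) (.leaf (nat_lit 521406978))) (.node (.leaf
    (nat_lit 199356421)) (.leaf (nat_lit 22036495)))) (.node (.node (.leaf (nat_lit 170411536))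
    (.leaf (nat_lit 669102082))) (.node (.leaf (nat_lit 101894927)) (.leaf (nat_lit 270831118)))))
    (.node (.node (.node (.leaf (nat_lit 88613897)) (.leaf (nat_lit 596407044))) (.node (.leaf
    (nat_lit 276976901)) (.leaf (nat_lit 301083905)))) (.node (.node (.leaf (nat_lit 25178121))
    (.leaf (nat_lit 481009408))) (.node (.leaf (nat_lit 201031439)) (.leaf (nat_lit 725225228))))))
    (.node (.node (.node (.node (.node (.leaf (nat_lit 65017618)) (.leaf (nat_lit 764778507)))
    (.leaf (nat_lit 190591246))) (.node (.leaf (nat_lit 37833997)) (.leaf (nat_lit 584249100))))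
    (.node (.node (.leaf (nat_lit 194027020)) (.leaf (nat_lit 606413312))) (.node (.leaf (nat_lit
    416873480)) (.leaf (nat_lit 709140242))))) (.node (.node (.node (.leaf (nat_lit 130036239))
    (.leaf (nat_lit 253362947))) (.node (.leaf (nat_lit 338730242)) (.leaf (nat_lit 607915277))))
    (.node (.node (.leaf (nat_lit 234917386)) (.leaf (nat_lit 228208905))) (.node (.leaf (nat_lit
    507747851)) (.leaf (nat_lit 737308431))))))))))) (.node (.node (.node (.node (.node (.node
    (.node (.node (.node (.node (.leaf (nat_lit 263)) (.leaf (nat_lit 401965068))) (.leaf (nat_lit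
    404999435))) (.node (.leaf (nat_lit 95011841)) (.leaf (nat_lit 607807751)))) (.node (.node
    (.leaf (nat_lit 121177345)) (.leaf (nat_lit 634699527))) (.node (.leaf (nat_lit 339904259))
    (.leaf (nat_lit 607916810))))) (.node (.node (.node (.node (.leaf (nat_lit 40402699)) (.leaf
    (nat_lit 765743115))) (.leaf (nat_lit 334772481))) (.node (.leaf (nat_lit 70918401)) (.leaf
    (nat_lit 301603591)))) (.node (.node (.leaf (nat_lit 190412043)) (.leaf (nat_lit 45841920)))
    (.node (.leaf (nat_lit 121316358)) (.leaf (nat_lit 711281679)))))) (.node (.node (.node (.node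
    (.node (.leaf (nat_lit 33572874)) (.leaf (nat_lit 398301969))) (.leaf (nat_lit 380898820)))
    (.node (.leaf (nat_lit 208270341)) (.leaf (nat_lit 312095250)))) (.node (.node (.leaf (nat_lit
    172574723)) (.leaf (nat_lit 229443343))) (.node (.leaf (nat_lit 379128592)) (.leaf (nat_lit
    697420299))))) (.node (.node (.node (.leaf (nat_lit 46684433)) (.leaf (nat_lit 593262595)))
    (.node (.leaf (nat_lit 77632524)) (.leaf (nat_lit 161639183)))) (.node (.node (.leaf (nat_lit
    220749071)) (.leaf (nat_lit 326806016))) (.node (.leaf (nat_lit 472445970)) (.leaf (nat_lit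
    708667657))))))) (.node (.node (.node (.node (.node (.node (.leaf (nat_lit 3153924)) (.leaf
    (nat_lit 745295620))) (.leaf (nat_lit 513011974))) (.node (.leaf (nat_lit 238672644)) (.leaf
    (nat_lit 586909957)))) (.node (.node (.leaf (nat_lit 35729170)) (.leaf (nat_lit 651273997)))
    (.node (.leaf (nat_lit 355117572)) (.leaf (nat_lit 322045697))))) (.node (.node (.node (.node
    (.leaf (nat_lit 74981136)) (.leaf (nat_lit 772592642))) (.leaf (nat_lit 540826121))) (.node
    (.leaf (nat_lit 79836421)) (.leaf (nat_lit 180478223)))) (.node (.node (.leaf (nat_lit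
    209293073)) (.leaf (nat_lit 481096192))) (.node (.leaf (nat_lit 452680976)) (.leaf (nat_lit
    719077635)))))) (.node (.node (.node (.node (.node (.leaf (nat_lit 11559183)) (.leaf (nat_lit
    731228162))) (.leaf (nat_lit 230315788))) (.node (.leaf (nat_lit 276856588)) (.leaf (nat_lit
    461051396)))) (.node (.node (.leaf (nat_lit 153181713)) (.leaf (nat_lit 693224463))) (.node
    (.leaf (nat_lit 398593797)) (.leaf (nat_lit 256196097))))) (.node (.node (.node (.leaf (nat_lit
    106484997)) (.leaf (nat_lit 325884937))) (.node (.leaf (nat_lit 221410056)) (.leaf (nat_lit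
    679756552)))) (.node (.node (.leaf (nat_lit 221359105)) (.leaf (nat_lit 249612549))) (.node
    (.leaf (nat_lit 492373264)) (.leaf (nat_lit 578040330)))))))) (.node (.node (.node (.node
    (.node (.node (.node (.leaf (nat_lit 8392722)) (.leaf (nat_lit 567641606))) (.leaf (nat_lit
    520696843))) (.node (.leaf (nat_lit 231853577)) (.leaf (nat_lit 415313161)))) (.node (.node
    (.leaf (nat_lit 148912391)) (.leaf (nat_lit 613732104))) (.node (.leaf (nat_lit 328374282))
    (.leaf (nat_lit 226716432))))) (.node (.node (.node (.node (.leaf (nat_lit 14161673)) (.leaf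
    (nat_lit 768970250))) (.leaf (nat_lit 339495937))) (.node (.leaf (nat_lit 248109070)) (.leaf
    (nat_lit 123874316)))) (.node (.node (.leaf (nat_lit 200889864)) (.leaf (nat_lit 260689163)))
    (.node (.leaf (nat_lit 433274889)) (.leaf (nat_lit 578114561)))))) (.node (.node (.node (.node
    (.node (.leaf (nat_lit 42994962)) (.leaf (nat_lit 580231436))) (.leaf (nat_lit 408689423)))
    (.node (.leaf (nat_lit 267941648)) (.leaf (nat_lit 401821445)))) (.node (.node (.leaf (nat_lit
    178800914)) (.leaf (nat_lit 682212111))) (.node (.leaf (nat_lit 390118152)) (.leaf (nat_lit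
    254097157))))) (.node (.node (.node (.leaf (nat_lit 100673547)) (.leaf (nat_lit 600608001)))
    (.node (.leaf (nat_lit 78276622)) (.leaf (nat_lit 253959683)))) (.node (.node (.leaf (nat_lit
    56165903)) (.leaf (nat_lit 224459537))) (.node (.leaf (nat_lit 420715793)) (.leaf (nat_lit
    725366538))))))) (.node (.node (.node (.node (.node (.node (.leaf (nat_lit 33032466)) (.leaf
    (nat_lit 749029634))) (.leaf (nat_lit 176422924))) (.node (.leaf (nat_lit 203024645)) (.leaf
    (nat_lit 106481669)))) (.node (.node (.leaf (nat_lit 156318726)) (.leaf (nat_lit 662284560)))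
    (.node (.leaf (nat_lit 333103632)) (.leaf (nat_lit 646238976))))) (.node (.node (.node (.node
    (.leaf (nat_lit 23079686)) (.leaf (nat_lit 776261137))) (.leaf (nat_lit 267152143))) (.node
    (.leaf (nat_lit 74598414)) (.leaf (nat_lit 609431810)))) (.node (.node (.leaf (nat_lit
    52010502)) (.leaf (nat_lit 326276352))) (.node (.leaf (nat_lit 458978056)) (.leaf (nat_lit
    569655040)))))) (.node (.node (.node (.node (.node (.leaf (nat_lit 59797522)) (.leaf (nat_lit
    762658050))) (.leaf (nat_lit 558986755))) (.node (.leaf (nat_lit 247602182)) (.leaf (nat_lit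
    411714575)))) (.node (.node (.leaf (nat_lit 188312578)) (.leaf (nat_lit 556022784))) (.node
    (.leaf (nat_lit 409520391)) (.leaf (nat_lit 706561039))))) (.node (.node (.node (.leaf (nat_lit
    107539460)) (.leaf (nat_lit 605860097))) (.node (.leaf (nat_lit 89747200)) (.leaf (nat_lit
    123846414)))) (.node (.node (.leaf (nat_lit 163691778)) (.leaf (nat_lit 273191178))) (.node
    (.leaf (nat_lit 502863374)) (.leaf (nat_lit 637878280))))))))) (.node (.node (.node (.node
    (.node (.node (.node (.node (.leaf (nat_lit 1574151)) (.leaf (nat_lit 724849415))) (.leaf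
    (nat_lit 262919695))) (.node (.leaf (nat_lit 233424650)) (.leaf (nat_lit 348398080)))) (.node
    (.node (.leaf (nat_lit 143708933)) (.leaf (nat_lit 610561040))) (.node (.leaf (nat_lit
    273846801)) (.leaf (nat_lit 444730625))))) (.node (.node (.node (.node (.leaf (nat_lit
    57181704)) (.leaf (nat_lit 572897035))) (.leaf (nat_lit 571752969))) (.node (.leaf (nat_lit
    174729217)) (.leaf (nat_lit 253401600)))) (.node (.node (.leaf (nat_lit 198216209)) (.leaf
    (nat_lit 566917634))) (.node (.leaf (nat_lit 401813002)) (.leaf (nat_lit 710758149)))))) (.node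
    (.node (.node (.node (.node (.leaf (nat_lit 2103053)) (.leaf (nat_lit 740652295))) (.leaf
    (nat_lit 546921740))) (.node (.leaf (nat_lit 257553926)) (.leaf (nat_lit 498220808)))) (.node
    (.node (.leaf (nat_lit 170479618)) (.leaf (nat_lit 679065867))) (.node (.leaf (nat_lit
    98753033)) (.leaf (nat_lit 449131526))))) (.node (.node (.node (.leaf (nat_lit 55620871))
    (.leaf (nat_lit 209486599))) (.node (.leaf (nat_lit 296376591)) (.leaf (nat_lit 235018000))))
    (.node (.node (.leaf (nat_lit 100707081)) (.leaf (nat_lit 549100034))) (.node (.leaf (nat_lit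
    473666051)) (.leaf (nat_lit 578120719))))))) (.node (.node (.node (.node (.node (.node (.leaf
    (nat_lit 24119045)) (.leaf (nat_lit 706056461))) (.leaf (nat_lit 392427779))) (.node (.leaf
    (nat_lit 217178121)) (.leaf (nat_lit 294839808)))) (.node (.node (.leaf (nat_lit 34682642))
    (.leaf (nat_lit 224714764))) (.node (.leaf (nat_lit 109229317)) (.leaf (nat_lit 267575296)))))
    (.node (.node (.node (.node (.leaf (nat_lit 76060418)) (.leaf (nat_lit 678282250))) (.leaf
    (nat_lit 588348945))) (.node (.leaf (nat_lit 192034817)) (.leaf (nat_lit 543878417)))) (.node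
    (.node (.leaf (nat_lit 211391241)) (.leaf (nat_lit 239863816))) (.node (.leaf (nat_lit
    321086982)) (.leaf (nat_lit 703946511)))))) (.node (.node (.node (.node (.node (.leaf (nat_lit
    54028290)) (.leaf (nat_lit 573418249))) (.leaf (nat_lit 193633287))) (.node (.leaf (nat_lit
    174200326)) (.leaf (nat_lit 120643341)))) (.node (.node (.leaf (nat_lit 186213121)) (.leaf
    (nat_lit 516763395))) (.node (.leaf (nat_lit 153814019)) (.leaf (nat_lit 704969219))))) (.node
    (.node (.node (.leaf (nat_lit 112779015)) (.leaf (nat_lit 624072969))) (.node (.leaf (nat_lit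
    81426440)) (.leaf (nat_lit 289660160)))) (.node (.node (.leaf (nat_lit 62501891)) (.leaf
    (nat_lit 464252928))) (.node (.leaf (nat_lit 496743435)) (.leaf (nat_lit 638416395))))))))
    (.node (.node (.node (.node (.node (.node (.node (.leaf (nat_lit 8395014)) (.leaf (nat_lit
    565545473))) (.leaf (nat_lit 392947718))) (.node (.leaf (nat_lit 247060241)) (.leaf (nat_lit
    90761216)))) (.node (.node (.leaf (nat_lit 154740747)) (.leaf (nat_lit 602003463))) (.node
    (.leaf (nat_lit 353412111)) (.leaf (nat_lit 642054673))))) (.node (.node (.node (.node (.leaf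
    (nat_lit 16812293)) (.leaf (nat_lit 741719558))) (.leaf (nat_lit 297031441))) (.node (.leaf
    (nat_lit 251800839)) (.leaf (nat_lit 79815180)))) (.node (.node (.leaf (nat_lit 201950978))
    (.leaf (nat_lit 329426176))) (.node (.leaf (nat_lit 445702159)) (.leaf (nat_lit 709187345))))))
    (.node (.node (.node (.node (.node (.leaf (nat_lit 48257806)) (.leaf (nat_lit 724935693)))
    (.leaf (nat_lit 189412867))) (.node (.leaf (nat_lit 270664971)) (.leaf (nat_lit 77153039))))
    (.node (.node (.leaf (nat_lit 167860490)) (.leaf (nat_lit 597500421))) (.node (.leaf (nat_lit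
    395361549)) (.leaf (nat_lit 701778703))))) (.node (.node (.node (.leaf (nat_lit 104875269))
    (.leaf (nat_lit 382506244))) (.node (.leaf (nat_lit 224555017)) (.leaf (nat_lit 665540614))))
    (.node (.node (.leaf (nat_lit 141630464)) (.leaf (nat_lit 453745664))) (.node (.leaf (nat_lit
    257139727)) (.leaf (nat_lit 730084615))))))) (.node (.node (.node (.node (.node (.node (.leaf
    (nat_lit 6309136)) (.leaf (nat_lit 559781903))) (.leaf (nat_lit 541151760))) (.node (.leaf
    (nat_lit 206695941)) (.leaf (nat_lit 237045004)))) (.node (.node (.leaf (nat_lit 168903435))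
    (.leaf (nat_lit 654112772))) (.node (.leaf (nat_lit 372951554)) (.leaf (nat_lit 475329539)))))
    (.node (.node (.node (.leaf (nat_lit 85500684)) (.leaf (nat_lit 553415180))) (.node (.leaf
    (nat_lit 276976646)) (.leaf (nat_lit 208320266)))) (.node (.node (.leaf (nat_lit 25227008))
    (.leaf (nat_lit 402933760))) (.node (.leaf (nat_lit 468774929)) (.leaf (nat_lit 483222787))))))
    (.node (.node (.node (.node (.node (.leaf (nat_lit 63969035)) (.leaf (nat_lit 764685325)))
    (.leaf (nat_lit 558640655))) (.node (.leaf (nat_lit 161559808)) (.leaf (nat_lit 90822408))))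
    (.node (.node (.leaf (nat_lit 193556745)) (.leaf (nat_lit 697050627))) (.node (.leaf (nat_lit
    415812879)) (.leaf (nat_lit 708964106))))) (.node (.node (.node (.leaf (nat_lit 126889996))
    (.leaf (nat_lit 635019009))) (.node (.leaf (nat_lit 334136335)) (.leaf (nat_lit 280266514))))
    (.node (.node (.leaf (nat_lit 234906888)) (.leaf (nat_lit 348308480))) (.node (.leaf (nat_lit
    324257538)) (.leaf (nat_lit 400915457)))))))))) (.node (.node (.node (.node (.node (.node
    (.node (.node (.node (.leaf (nat_lit 2098180)) (.leaf (nat_lit 728597263))) (.leaf (nat_lit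
    512305679))) (.node (.leaf (nat_lit 75089413)) (.leaf (nat_lit 262879759)))) (.node (.node
    (.leaf (nat_lit 142096139)) (.leaf (nat_lit 583320584))) (.node (.leaf (nat_lit 101878795))
    (.leaf (nat_lit 463269888))))) (.node (.node (.node (.node (.leaf (nat_lit 67666191)) (.leaf
    (nat_lit 569226757))) (.leaf (nat_lit 569472525))) (.node (.leaf (nat_lit 177873666)) (.leaf
    (nat_lit 218812416)))) (.node (.node (.leaf (nat_lit 188839945)) (.leaf (nat_lit 241989120)))
    (.node (.leaf (nat_lit 420161801)) (.leaf (nat_lit 587549953)))))) (.node (.node (.node (.node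
    (.node (.leaf (nat_lit 30427919)) (.leaf (nat_lit 745905420))) (.leaf (nat_lit 310644742)))
    (.node (.leaf (nat_lit 264795407)) (.leaf (nat_lit 586813705)))) (.node (.node (.leaf (nat_lit
    174082060)) (.leaf (nat_lit 621611270))) (.node (.leaf (nat_lit 184210950)) (.leaf (nat_lit
    697545742))))) (.node (.node (.node (.leaf (nat_lit 21541647)) (.leaf (nat_lit 602507532)))
    (.node (.leaf (nat_lit 87598595)) (.leaf (nat_lit 287091200)))) (.node (.node (.leaf (nat_lit
    18884615)) (.leaf (nat_lit 172668160))) (.node (.leaf (nat_lit 477166608)) (.leaf (nat_lit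
    726939916))))))) (.node (.node (.node (.node (.node (.node (.leaf (nat_lit 18359043)) (.leaf
    (nat_lit 580751122))) (.leaf (nat_lit 406583055))) (.node (.leaf (nat_lit 215080197)) (.leaf
    (nat_lit 301686793)))) (.node (.node (.leaf (nat_lit 53031681)) (.leaf (nat_lit 350018562)))
    (.node (.leaf (nat_lit 360752911)) (.leaf (nat_lit 262935552))))) (.node (.node (.node (.node
    (.leaf (nat_lit 76583440)) (.leaf (nat_lit 764265222))) (.leaf (nat_lit 274488592))) (.node
    (.leaf (nat_lit 190985990)) (.leaf (nat_lit 217784321)))) (.node (.node (.leaf (nat_lit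
    78221578)) (.leaf (nat_lit 81445376))) (.node (.leaf (nat_lit 448471303)) (.leaf (nat_lit
    568155403)))))) (.node (.node (.node (.node (.node (.leaf (nat_lit 47735567)) (.leaf (nat_lit
    757967114))) (.leaf (nat_lit 555311887))) (.node (.leaf (nat_lit 101848070)) (.leaf (nat_lit
    348282374)))) (.node (.node (.leaf (nat_lit 147939590)) (.leaf (nat_lit 693971983))) (.node
    (.leaf (nat_lit 402179602)) (.leaf (nat_lit 704439306))))) (.node (.node (.node (.leaf (nat_lit
    29416193)) (.leaf (nat_lit 621052682))) (.node (.leaf (nat_lit 279082503)) (.leaf (nat_lit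
    234496268)))) (.node (.node (.leaf (nat_lit 178892299)) (.leaf (nat_lit 238142988))) (.node
    (.leaf (nat_lit 494471178)) (.leaf (nat_lit 713913093)))))))) (.node (.node (.node (.node
    (.node (.node (.node (.leaf (nat_lit 11015426)) (.leaf (nat_lit 660963847))) (.leaf (nat_lit
    523319818))) (.node (.leaf (nat_lit 58315524)) (.leaf (nat_lit 489836805)))) (.node (.node
    (.leaf (nat_lit 144777477)) (.leaf (nat_lit 648667652))) (.node (.leaf (nat_lit 349741831))
    (.leaf (nat_lit 656736256))))) (.node (.node (.node (.node (.leaf (nat_lit 44066827)) (.leaf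
    (nat_lit 770016779))) (.leaf (nat_lit 578038025))) (.node (.leaf (nat_lit 254421509)) (.leaf
    (nat_lit 205669383)))) (.node (.node (.leaf (nat_lit 203445252)) (.leaf (nat_lit 102398976)))
    (.node (.leaf (nat_lit 439409672)) (.leaf (nat_lit 715835916)))))) (.node (.node (.node (.node
    (.node (.leaf (nat_lit 46160139)) (.leaf (nat_lit 756744466))) (.leaf (nat_lit 296838145)))
    (.node (.leaf (nat_lit 269091087)) (.leaf (nat_lit 106579978)))) (.node (.node (.leaf (nat_lit
    176248580)) (.leaf (nat_lit 685358862))) (.node (.leaf (nat_lit 392882177)) (.leaf (nat_lit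
    604846341))))) (.node (.node (.node (.leaf (nat_lit 80790288)) (.leaf (nat_lit 232540424)))
    (.node (.leaf (nat_lit 98200833)) (.leaf (nat_lit 473217033)))) (.node (.node (.leaf (nat_lit
    132710400)) (.leaf (nat_lit 549164293))) (.node (.leaf (nat_lit 486753025)) (.leaf (nat_lit
    729558529))))))) (.node (.node (.node (.node (.node (.node (.leaf (nat_lit 34083330)) (.leaf
    (nat_lit 750057477))) (.leaf (nat_lit 175899662))) (.node (.leaf (nat_lit 257009425)) (.leaf
    (nat_lit 109666048)))) (.node (.node (.leaf (nat_lit 37306128)) (.leaf (nat_lit 650441476)))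
    (.node (.leaf (nat_lit 204130054)) (.leaf (nat_lit 483168777))))) (.node (.node (.node (.node
    (.leaf (nat_lit 20487174)) (.leaf (nat_lit 763218181))) (.leaf (nat_lit 536637449))) (.node
    (.leaf (nat_lit 76173583)) (.leaf (nat_lit 585873679)))) (.node (.node (.leaf (nat_lit
    220308492)) (.leaf (nat_lit 103977984))) (.node (.leaf (nat_lit 415463426)) (.leaf (nat_lit
    336421650)))))) (.node (.node (.node (.node (.node (.leaf (nat_lit 61371664)) (.leaf (nat_lit
    731230214))) (.leaf (nat_lit 194784263))) (.node (.leaf (nat_lit 177811721)) (.leaf (nat_lit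
    381361672)))) (.node (.node (.leaf (nat_lit 82353419)) (.leaf (nat_lit 205123851))) (.node
    (.leaf (nat_lit 137040641)) (.leaf (nat_lit 707609865))))) (.node (.node (.node (.leaf (nat_lit
    115928577)) (.leaf (nat_lit 632075535))) (.node (.leaf (nat_lit 328892424)) (.leaf (nat_lit
    262440714)))) (.node (.node (.leaf (nat_lit 59883020)) (.leaf (nat_lit 275969803))) (.node
    (.leaf (nat_lit 166397700)) (.leaf (nat_lit 735239945))))))))) (.node (.node (.node (.node
    (.node (.node (.node (.node (.leaf (nat_lit 5245450)) (.leaf (nat_lit 740984845))) (.leaf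
    (nat_lit 312203781))) (.node (.leaf (nat_lit 212978442)) (.leaf (nat_lit 109135878)))) (.node
    (.node (.leaf (nat_lit 146816516)) (.leaf (nat_lit 642359309))) (.node (.leaf (nat_lit
    275944722)) (.leaf (nat_lit 222945034))))) (.node (.node (.node (.node (.leaf (nat_lit
    17328913)) (.leaf (nat_lit 732281093))) (.leaf (nat_lit 575764242))) (.node (.leaf (nat_lit
    159470339)) (.leaf (nat_lit 588382978)))) (.node (.node (.leaf (nat_lit 199786000)) (.leaf
    (nat_lit 56126220))) (.node (.leaf (nat_lit 419641602)) (.leaf (nat_lit 594891016)))))) (.node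
    (.node (.node (.node (.node (.leaf (nat_lit 40903432)) (.leaf (nat_lit 718643209))) (.leaf
    (nat_lit 210507537))) (.node (.leaf (nat_lit 205126662)) (.leaf (nat_lit 393430790)))) (.node
    (.node (.leaf (nat_lit 177235715)) (.leaf (nat_lit 254611719))) (.node (.leaf (nat_lit
    172679689)) (.leaf (nat_lit 699523339))))) (.node (.node (.node (.leaf (nat_lit 78684170))
    (.leaf (nat_lit 607915784))) (.node (.leaf (nat_lit 318922767)) (.leaf (nat_lit 200939281))))
    (.node (.node (.leaf (nat_lit 46723852)) (.leaf (nat_lit 483659264))) (.node (.leaf (nat_lit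
    468948498)) (.leaf (nat_lit 314404104))))))) (.node (.node (.node (.node (.node (.node (.leaf
    (nat_lit 30935045)) (.leaf (nat_lit 648385285))) (.leaf (nat_lit 325319697))) (.node (.leaf
    (nat_lit 240248081)) (.leaf (nat_lit 497236234)))) (.node (.node (.leaf (nat_lit 147372300))
    (.leaf (nat_lit 660711692))) (.node (.leaf (nat_lit 135969285)) (.leaf (nat_lit 677122830)))))
    (.node (.node (.node (.node (.leaf (nat_lit 24132352)) (.leaf (nat_lit 746440193))) (.leaf
    (nat_lit 214722050))) (.node (.leaf (nat_lit 299514636)) (.leaf (nat_lit 347914754)))) (.node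
    (.node (.leaf (nat_lit 213932303)) (.leaf (nat_lit 46673932))) (.node (.leaf (nat_lit
    459336460)) (.leaf (nat_lit 340615426)))))) (.node (.node (.node (.node (.node (.leaf (nat_lit
    9989906)) (.leaf (nat_lit 714976514))) (.leaf (nat_lit 556016897))) (.node (.leaf (nat_lit
    282204687)) (.leaf (nat_lit 419663616)))) (.node (.node (.leaf (nat_lit 188763153)) (.leaf
    (nat_lit 613232898))) (.node (.leaf (nat_lit 406374410)) (.leaf (nat_lit 666714625))))) (.node
    (.node (.node (.leaf (nat_lit 108586503)) (.leaf (nat_lit 619490826))) (.node (.leaf (nat_lit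
    268597774)) (.leaf (nat_lit 214740224)))) (.node (.node (.leaf (nat_lit 230799362)) (.leaf
    (nat_lit 366668032))) (.node (.leaf (nat_lit 500239372)) (.leaf (nat_lit 404584204))))))))
    (.node (.node (.node (.node (.node (.node (.node (.leaf (nat_lit 11017477)) (.leaf (nat_lit
    682418183))) (.leaf (nat_lit 389278735))) (.node (.leaf (nat_lit 207214857)) (.leaf (nat_lit
    23086337)))) (.node (.node (.leaf (nat_lit 156778250)) (.leaf (nat_lit 485808141))) (.node
    (.leaf (nat_lit 355114508)) (.leaf (nat_lit 566920722))))) (.node (.node (.node (.node (.leaf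
    (nat_lit 40929795)) (.leaf (nat_lit 655212549))) (.leaf (nat_lit 271197953))) (.node (.leaf
    (nat_lit 295209230)) (.leaf (nat_lit 244502017)))) (.node (.node (.leaf (nat_lit 207640075))
    (.leaf (nat_lit 74695424))) (.node (.leaf (nat_lit 448485387)) (.leaf (nat_lit 714430726))))))
    (.node (.node (.node (.node (.node (.leaf (nat_lit 49302539)) (.leaf (nat_lit 758393095)))
    (.leaf (nat_lit 553220114))) (.node (.leaf (nat_lit 275283470)) (.leaf (nat_lit 477783299))))
    (.node (.node (.leaf (nat_lit 182003713)) (.leaf (nat_lit 583869957))) (.node (.leaf (nat_lit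
    397574661)) (.leaf (nat_lit 218752014))))) (.node (.node (.node (.leaf (nat_lit 26267138))
    (.leaf (nat_lit 616665357))) (.node (.leaf (nat_lit 319346949)) (.leaf (nat_lit 620377607))))
    (.node (.node (.leaf (nat_lit 102344201)) (.leaf (nat_lit 248565775))) (.node (.leaf (nat_lit
    424912396)) (.leaf (nat_lit 731006220))))))) (.node (.node (.node (.node (.node (.node (.leaf
    (nat_lit 2628365)) (.leaf (nat_lit 642095371))) (.leaf (nat_lit 180095758))) (.node (.leaf
    (nat_lit 43615744)) (.leaf (nat_lit 414437632)))) (.node (.node (.leaf (nat_lit 170994948))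
    (.leaf (nat_lit 671723536))) (.node (.leaf (nat_lit 173722887)) (.leaf (nat_lit 579096832)))))
    (.node (.node (.node (.leaf (nat_lit 90711056)) (.leaf (nat_lit 592213250))) (.node (.leaf
    (nat_lit 308949509)) (.leaf (nat_lit 597399568)))) (.node (.node (.leaf (nat_lit 113301257))
    (.leaf (nat_lit 296392457))) (.node (.leaf (nat_lit 468943367)) (.leaf (nat_lit 725752328))))))
    (.node (.node (.node (.node (.node (.leaf (nat_lit 49315079)) (.leaf (nat_lit 739095302)))
    (.leaf (nat_lit 342635276))) (.node (.leaf (nat_lit 280108546)) (.leaf (nat_lit 645057803))))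
    (.node (.node (.leaf (nat_lit 190411537)) (.leaf (nat_lit 235701263))) (.node (.leaf (nat_lit
    358817033)) (.leaf (nat_lit 691882498))))) (.node (.node (.node (.leaf (nat_lit 116969219))
    (.leaf (nat_lit 593804545))) (.node (.leaf (nat_lit 274368257)) (.leaf (nat_lit 383518725))))
    (.node (.node (.leaf (nat_lit 203538701)) (.leaf (nat_lit 327290895))) (.node (.leaf (nat_lit
    509158409)) (.leaf (nat_lit 714360075)))))))))))) (.node (.node (.node (.node (.node (.node
    (.node (.node (.node (.node (.node (.leaf (nat_lit 12)) (.leaf (nat_lit 569737217))) (.leaf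
    (nat_lit 504614146))) (.node (.leaf (nat_lit 203539206)) (.leaf (nat_lit 399179785)))) (.node
    (.node (.leaf (nat_lit 136328195)) (.leaf (nat_lit 616349451))) (.node (.leaf (nat_lit
    192055303)) (.leaf (nat_lit 269260295))))) (.node (.node (.node (.node (.leaf (nat_lit
    66068996)) (.leaf (nat_lit 761115659))) (.leaf (nat_lit 565277964))) (.node (.leaf (nat_lit
    285245710)) (.leaf (nat_lit 393841154)))) (.node (.node (.leaf (nat_lit 195580167)) (.leaf
    (nat_lit 64590603))) (.node (.leaf (nat_lit 421067530)) (.leaf (nat_lit 562907908)))))) (.node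
    (.node (.node (.node (.node (.leaf (nat_lit 34097157)) (.leaf (nat_lit 733846277))) (.leaf
    (nat_lit 540806418))) (.node (.leaf (nat_lit 262173713)) (.leaf (nat_lit 172144399)))) (.node
    (.node (.leaf (nat_lit 172508932)) (.leaf (nat_lit 615319045))) (.node (.leaf (nat_lit
    312136204)) (.leaf (nat_lit 632075529))))) (.node (.node (.node (.leaf (nat_lit 52474119))
    (.leaf (nat_lit 599523337))) (.node (.leaf (nat_lit 294685702)) (.leaf (nat_lit 243000064))))
    (.node (.node (.leaf (nat_lit 116975369)) (.leaf (nat_lit 276460555))) (.node (.leaf (nat_lit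
    141263628)) (.leaf (nat_lit 717056257))))))) (.node (.node (.node (.node (.node (.node (.leaf
    (nat_lit 16254465)) (.leaf (nat_lit 744804874))) (.leaf (nat_lit 346812176))) (.node (.leaf
    (nat_lit 248634114)) (.leaf (nat_lit 465766150)))) (.node (.node (.leaf (nat_lit 143207954))
    (.leaf (nat_lit 224712975))) (.node (.leaf (nat_lit 357606923)) (.leaf (nat_lit 73533193)))))
    (.node (.node (.node (.node (.leaf (nat_lit 73932558)) (.leaf (nat_lit 718127371))) (.leaf
    (nat_lit 293361933))) (.node (.leaf (nat_lit 296257808)) (.leaf (nat_lit 415359760)))) (.node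
    (.node (.leaf (nat_lit 208244242)) (.leaf (nat_lit 136029184))) (.node (.leaf (nat_lit
    432233731)) (.leaf (nat_lit 660953873)))))) (.node (.node (.node (.node (.node (.leaf (nat_lit
    50860297)) (.leaf (nat_lit 759380492))) (.leaf (nat_lit 554263308))) (.node (.leaf (nat_lit
    224530182)) (.leaf (nat_lit 351848707)))) (.node (.node (.leaf (nat_lit 172055817)) (.leaf
    (nat_lit 692175884))) (.node (.leaf (nat_lit 296417289)) (.leaf (nat_lit 683490569))))) (.node
    (.node (.node (.leaf (nat_lit 23122945)) (.leaf (nat_lit 586980367))) (.node (.leaf (nat_lit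
    85094922)) (.leaf (nat_lit 568070402)))) (.node (.node (.leaf (nat_lit 223895311)) (.leaf
    (nat_lit 117605120))) (.node (.leaf (nat_lit 454797825)) (.leaf (nat_lit 682970887))))))))
    (.node (.node (.node (.node (.node (.node (.node (.leaf (nat_lit 7340557)) (.leaf (nat_lit
    741509138))) (.leaf (nat_lit 159637008))) (.node (.leaf (nat_lit 54643985)) (.leaf (nat_lit
    349378576)))) (.node (.node (.leaf (nat_lit 105454092)) (.leaf (nat_lit 232574469))) (.node
    (.leaf (nat_lit 135436035)) (.leaf (nat_lit 96599565))))) (.node (.node (.node (.node (.leaf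
    (nat_lit 56129289)) (.leaf (nat_lit 754301445))) (.leaf (nat_lit 576813064))) (.node (.leaf
    (nat_lit 67770368)) (.leaf (nat_lit 392955648)))) (.node (.node (.leaf (nat_lit 200823563))
    (.leaf (nat_lit 537735424))) (.node (.leaf (nat_lit 139149057)) (.leaf (nat_lit 711283462))))))
    (.node (.node (.node (.node (.node (.leaf (nat_lit 6836241)) (.leaf (nat_lit 719167750)))
    (.leaf (nat_lit 550592267))) (.node (.leaf (nat_lit 67239434)) (.leaf (nat_lit 300044550))))
    (.node (.node (.leaf (nat_lit 161003271)) (.leaf (nat_lit 644682513))) (.node (.leaf (nat_lit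
    101901836)) (.leaf (nat_lit 700047883))))) (.node (.node (.node (.leaf (nat_lit 75545874))
    (.leaf (nat_lit 216828935))) (.node (.leaf (nat_lit 321950474)) (.leaf (nat_lit 284793090))))
    (.node (.node (.leaf (nat_lit 137439232)) (.leaf (nat_lit 431215360))) (.node (.leaf (nat_lit
    484507922)) (.leaf (nat_lit 567031569))))))) (.node (.node (.node (.node (.node (.node (.leaf
    (nat_lit 5783055)) (.leaf (nat_lit 749048841))) (.leaf (nat_lit 242482947))) (.node (.leaf
    (nat_lit 255881739)) (.leaf (nat_lit 300638976)))) (.node (.node (.leaf (nat_lit 165227011))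
    (.leaf (nat_lit 661760271))) (.node (.leaf (nat_lit 170049548)) (.leaf (nat_lit 681868035)))))
    (.node (.node (.node (.node (.leaf (nat_lit 80224526)) (.leaf (nat_lit 654165766))) (.leaf
    (nat_lit 541354503))) (.node (.leaf (nat_lit 305171467)) (.leaf (nat_lit 217822219)))) (.node
    (.node (.leaf (nat_lit 216554243)) (.leaf (nat_lit 91799808))) (.node (.leaf (nat_lit
    461958156)) (.leaf (nat_lit 722093581)))))) (.node (.node (.node (.node (.node (.leaf (nat_lit
    59273484)) (.leaf (nat_lit 752201222))) (.leaf (nat_lit 191113739))) (.node (.leaf (nat_lit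
    282204946)) (.leaf (nat_lit 304303873)))) (.node (.node (.leaf (nat_lit 190336274)) (.leaf
    (nat_lit 575798023))) (.node (.leaf (nat_lit 407947522)) (.leaf (nat_lit 706402823))))) (.node
    (.node (.node (.leaf (nat_lit 123262215)) (.leaf (nat_lit 620528650))) (.node (.leaf (nat_lit
    334535179)) (.leaf (nat_lit 123543040)))) (.node (.node (.leaf (nat_lit 232809227)) (.leaf
    (nat_lit 85115648))) (.node (.leaf (nat_lit 502338827)) (.leaf (nat_lit 318076945)))))))))
    (.node (.node (.node (.node (.node (.node (.node (.node (.leaf (nat_lit 1574149)) (.leaf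
    (nat_lit 739940616))) (.leaf (nat_lit 510907649))) (.node (.leaf (nat_lit 75089670)) (.leaf
    (nat_lit 398087942)))) (.node (.node (.leaf (nat_lit 32575758)) (.leaf (nat_lit 601145603)))
    (.node (.leaf (nat_lit 345022721)) (.leaf (nat_lit 406624512))))) (.node (.node (.node (.node
    (.leaf (nat_lit 14189575)) (.leaf (nat_lit 736474889))) (.leaf (nat_lit 563888386))) (.node
    (.leaf (nat_lit 240264966)) (.leaf (nat_lit 286503171)))) (.node (.node (.leaf (nat_lit
    187791877)) (.leaf (nat_lit 194148879))) (.node (.leaf (nat_lit 300100613)) (.leaf (nat_lit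
    558714625)))))) (.node (.node (.node (.node (.node (.leaf (nat_lit 12586502)) (.leaf (nat_lit
    717594128))) (.leaf (nat_lit 344723986))) (.node (.leaf (nat_lit 265844236)) (.leaf (nat_lit
    449048064)))) (.node (.node (.leaf (nat_lit 163663622)) (.leaf (nat_lit 231017740))) (.node
    (.leaf (nat_lit 173201680)) (.leaf (nat_lit 548746251))))) (.node (.node (.node (.leaf (nat_lit
    68203528)) (.leaf (nat_lit 604799499))) (.node (.leaf (nat_lit 101865733)) (.leaf (nat_lit
    124561664)))) (.node (.node (.leaf (nat_lit 219717895)) (.leaf (nat_lit 276525071))) (.node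
    (.leaf (nat_lit 478742539)) (.leaf (nat_lit 301296391))))))) (.node (.node (.node (.node (.node
    (.node (.leaf (nat_lit 22546178)) (.leaf (nat_lit 699765008))) (.leaf (nat_lit 528742407)))
    (.node (.leaf (nat_lit 251254532)) (.leaf (nat_lit 615662853)))) (.node (.node (.leaf (nat_lit
    53032706)) (.leaf (nat_lit 272740358))) (.node (.leaf (nat_lit 193639436)) (.leaf (nat_lit
    210437902))))) (.node (.node (.node (.node (.leaf (nat_lit 75011596)) (.leaf (nat_lit
    774226434))) (.leaf (nat_lit 385638415))) (.node (.leaf (nat_lit 297306642)) (.leaf (nat_lit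
    177401103)))) (.node (.node (.leaf (nat_lit 210810883)) (.leaf (nat_lit 5781248))) (.node
    (.leaf (nat_lit 444818697)) (.leaf (nat_lit 720723468)))))) (.node (.node (.node (.node (.node
    (.leaf (nat_lit 52979217)) (.leaf (nat_lit 654682895))) (.leaf (nat_lit 226139140))) (.node
    (.leaf (nat_lit 279581964)) (.leaf (nat_lit 118131977)))) (.node (.node (.leaf (nat_lit
    186141704)) (.leaf (nat_lit 695846672))) (.node (.leaf (nat_lit 396559107)) (.leaf (nat_lit
    637877255))))) (.node (.node (.node (.leaf (nat_lit 23649800)) (.leaf (nat_lit 624006412)))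
    (.node (.leaf (nat_lit 276985857)) (.leaf (nat_lit 288510476)))) (.node (.node (.leaf (nat_lit
    223982340)) (.leaf (nat_lit 79347968))) (.node (.leaf (nat_lit 496044296)) (.leaf (nat_lit
    571307281)))))))) (.node (.node (.node (.node (.node (.node (.node (.leaf (nat_lit 12583950))
    (.leaf (nat_lit 736463108))) (.leaf (nat_lit 392423176))) (.node (.leaf (nat_lit 245442828))
    (.leaf (nat_lit 393957128)))) (.node (.node (.leaf (nat_lit 32581127)) (.leaf (nat_lit
    240440835))) (.node (.leaf (nat_lit 351839244)) (.leaf (nat_lit 218252562))))) (.node (.node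
    (.node (.node (.leaf (nat_lit 65046537)) (.leaf (nat_lit 738049538))) (.leaf (nat_lit
    582056460))) (.node (.leaf (nat_lit 291646479)) (.leaf (nat_lit 202526730)))) (.node (.node
    (.leaf (nat_lit 179406088)) (.leaf (nat_lit 104510208))) (.node (.leaf (nat_lit 420171780))
    (.leaf (nat_lit 293951233)))))) (.node (.node (.node (.node (.node (.leaf (nat_lit 48238851))
    (.leaf (nat_lit 676701202))) (.leaf (nat_lit 296839433))) (.node (.leaf (nat_lit 270564362))
    (.leaf (nat_lit 423771650)))) (.node (.node (.leaf (nat_lit 169433350)) (.leaf (nat_lit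
    688504849))) (.node (.leaf (nat_lit 341504267)) (.leaf (nat_lit 268253707))))) (.node (.node
    (.node (.leaf (nat_lit 36227087)) (.leaf (nat_lit 615092241))) (.node (.leaf (nat_lit
    99250181)) (.leaf (nat_lit 394475014)))) (.node (.node (.leaf (nat_lit 62455552)) (.leaf
    (nat_lit 615195141))) (.node (.leaf (nat_lit 300655363)) (.leaf (nat_lit 678260739)))))))
    (.node (.node (.node (.node (.node (.node (.leaf (nat_lit 5784592)) (.leaf (nat_lit
    750620679))) (.leaf (nat_lit 540627471))) (.node (.leaf (nat_lit 259027729)) (.leaf (nat_lit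
    121156876)))) (.node (.node (.leaf (nat_lit 168838410)) (.leaf (nat_lit 654112513))) (.node
    (.leaf (nat_lit 127060229)) (.leaf (nat_lit 676631818))))) (.node (.node (.node (.leaf (nat_lit
    85500687)) (.leaf (nat_lit 584348162))) (.node (.leaf (nat_lit 75649808)) (.leaf (nat_lit
    600089089)))) (.node (.node (.leaf (nat_lit 3671817)) (.leaf (nat_lit 80360450))) (.node (.leaf
    (nat_lit 467201549)) (.leaf (nat_lit 717055238)))))) (.node (.node (.node (.node (.node (.leaf
    (nat_lit 46168327)) (.leaf (nat_lit 580235529))) (.leaf (nat_lit 560213257))) (.node (.leaf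
    (nat_lit 159461388)) (.leaf (nat_lit 537062929)))) (.node (.node (.leaf (nat_lit 193556751))
    (.leaf (nat_lit 207365642))) (.node (.leaf (nat_lit 415288586)) (.leaf (nat_lit 708551174)))))
    (.node (.node (.node (.leaf (nat_lit 27324677)) (.leaf (nat_lit 602192132))) (.node (.leaf
    (nat_lit 336714764)) (.leaf (nat_lit 607911941)))) (.node (.node (.leaf (nat_lit 78233355))
    (.leaf (nat_lit 387644929))) (.node (.leaf (nat_lit 506094354)) (.leaf (nat_lit
    735810826)))))))))) (.node (.node (.node (.node (.node (.node (.node (.node (.node (.leaf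
    (nat_lit 1573635)) (.leaf (nat_lit 739598339))) (.leaf (nat_lit 382455570))) (.node (.leaf
    (nat_lit 237599497)) (.leaf (nat_lit 433296658)))) (.node (.node (.leaf (nat_lit 140569103))
    (.leaf (nat_lit 637322249))) (.node (.leaf (nat_lit 341362179)) (.leaf (nat_lit 199808781)))))
    (.node (.node (.node (.node (.leaf (nat_lit 67640066)) (.leaf (nat_lit 766785029))) (.leaf
    (nat_lit 568605705))) (.node (.leaf (nat_lit 282731021)) (.leaf (nat_lit 232460288)))) (.node
    (.node (.leaf (nat_lit 191461380)) (.leaf (nat_lit 293372690))) (.node (.leaf (nat_lit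
    424202257)) (.leaf (nat_lit 585977097)))))) (.node (.node (.node (.node (.node (.leaf (nat_lit
    38291459)) (.leaf (nat_lit 736468225))) (.leaf (nat_lit 236195855))) (.node (.leaf (nat_lit
    263222540)) (.leaf (nat_lit 91802124)))) (.node (.node (.leaf (nat_lit 100187657)) (.leaf
    (nat_lit 675556368))) (.node (.leaf (nat_lit 181589519)) (.leaf (nat_lit 677196304))))) (.node
    (.node (.node (.leaf (nat_lit 93356295)) (.leaf (nat_lit 601982987))) (.node (.leaf (nat_lit
    312609035)) (.leaf (nat_lit 116579840)))) (.node (.node (.leaf (nat_lit 86557952)) (.leaf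
    (nat_lit 125847305))) (.node (.leaf (nat_lit 475593741)) (.leaf (nat_lit 724396550)))))))
    (.node (.node (.node (.node (.node (.node (.leaf (nat_lit 13115658)) (.leaf (nat_lit
    572875530))) (.leaf (nat_lit 525596161))) (.node (.leaf (nat_lit 216128777)) (.leaf (nat_lit
    393954048)))) (.node (.node (.leaf (nat_lit 160448786)) (.leaf (nat_lit 651845643))) (.node
    (.leaf (nat_lit 273853963)) (.leaf (nat_lit 222931456))))) (.node (.node (.node (.node (.leaf
    (nat_lit 76583433)) (.leaf (nat_lit 773160459))) (.leaf (nat_lit 202136579))) (.node (.leaf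
    (nat_lit 297306639)) (.leaf (nat_lit 218234625)))) (.node (.node (.leaf (nat_lit 210261762))
    (.leaf (nat_lit 137037824))) (.node (.leaf (nat_lit 444742922)) (.leaf (nat_lit 693984518))))))
    (.node (.node (.node (.node (.node (.leaf (nat_lit 51405328)) (.leaf (nat_lit 759539977)))
    (.leaf (nat_lit 230308102))) (.node (.leaf (nat_lit 224445960)) (.leaf (nat_lit 298465545))))
    (.node (.node (.leaf (nat_lit 184626445)) (.leaf (nat_lit 649407250))) (.node (.leaf (nat_lit
    400090642)) (.leaf (nat_lit 701316866))))) (.node (.node (.node (.leaf (nat_lit 113781516))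
    (.leaf (nat_lit 620860164))) (.node (.leaf (nat_lit 94008579)) (.leaf (nat_lit 124397324))))
    (.node (.node (.leaf (nat_lit 221883908)) (.leaf (nat_lit 109173260))) (.node (.leaf (nat_lit
    159100170)) (.leaf (nat_lit 731530764)))))))) (.node (.node (.node (.node (.node (.node (.node
    (.leaf (nat_lit 9966353)) (.leaf (nat_lit 742743041))) (.leaf (nat_lit 521397266))) (.node
    (.leaf (nat_lit 244345103)) (.leaf (nat_lit 482004233)))) (.node (.node (.leaf (nat_lit
    147372556)) (.leaf (nat_lit 648651267))) (.node (.leaf (nat_lit 349217293)) (.leaf (nat_lit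
    615683853))))) (.node (.node (.node (.node (.leaf (nat_lit 60850441)) (.leaf (nat_lit
    571325452))) (.leaf (nat_lit 552881681))) (.node (.leaf (nat_lit 289024516)) (.leaf (nat_lit
    393949196)))) (.node (.node (.leaf (nat_lit 202996748)) (.leaf (nat_lit 276460288))) (.node
    (.leaf (nat_lit 437836042)) (.leaf (nat_lit 537744646)))))) (.node (.node (.node (.node (.node
    (.leaf (nat_lit 7362311)) (.leaf (nat_lit 574464524))) (.leaf (nat_lit 186737920))) (.node
    (.leaf (nat_lit 268991490)) (.leaf (nat_lit 23604239)))) (.node (.node (.leaf (nat_lit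
    179394319)) (.leaf (nat_lit 540350722))) (.node (.leaf (nat_lit 166915087)) (.leaf (nat_lit
    348993541))))) (.node (.node (.node (.leaf (nat_lit 79741457)) (.leaf (nat_lit 271880719)))
    (.node (.leaf (nat_lit 325096973)) (.leaf (nat_lit 645629444)))) (.node (.node (.leaf (nat_lit
    80282121)) (.leaf (nat_lit 452717312))) (.node (.leaf (nat_lit 433823505)) (.leaf (nat_lit
    606432780))))))) (.node (.node (.node (.node (.node (.node (.leaf (nat_lit 5783570)) (.leaf
    (nat_lit 682464770))) (.leaf (nat_lit 520880905))) (.node (.leaf (nat_lit 176286219)) (.leaf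
    (nat_lit 36227585)))) (.node (.node (.leaf (nat_lit 157363463)) (.leaf (nat_lit 664014858)))
    (.node (.leaf (nat_lit 372289549)) (.leaf (nat_lit 497174019))))) (.node (.node (.node (.node
    (.leaf (nat_lit 21010950)) (.leaf (nat_lit 757975297))) (.leaf (nat_lit 595690255))) (.node
    (.leaf (nat_lit 93999106)) (.leaf (nat_lit 543905545)))) (.node (.node (.leaf (nat_lit
    220224782)) (.leaf (nat_lit 586845442))) (.node (.leaf (nat_lit 414414337)) (.leaf (nat_lit
    723127057)))))) (.node (.node (.node (.node (.node (.leaf (nat_lit 45110531)) (.leaf (nat_lit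
    763183366))) (.leaf (nat_lit 336341520))) (.node (.leaf (nat_lit 283766793)) (.leaf (nat_lit
    300603146)))) (.node (.node (.leaf (nat_lit 42036490)) (.leaf (nat_lit 261891083))) (.node
    (.leaf (nat_lit 112922884)) (.leaf (nat_lit 707609871))))) (.node (.node (.node (.leaf (nat_lit
    124792836)) (.leaf (nat_lit 631347984))) (.node (.leaf (nat_lit 335584009)) (.leaf (nat_lit
    259823112)))) (.node (.node (.leaf (nat_lit 175750659)) (.leaf (nat_lit 275825162))) (.node
    (.leaf (nat_lit 181649930)) (.leaf (nat_lit 500005378))))))))) (.node (.node (.node (.node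
    (.node (.node (.node (.node (.leaf (nat_lit 4720906)) (.leaf (nat_lit 723354625))) (.leaf
    (nat_lit 325835014))) (.node (.leaf (nat_lit 231328265)) (.leaf (nat_lit 123815690)))) (.node
    (.node (.leaf (nat_lit 32053265)) (.leaf (nat_lit 635225865))) (.node (.leaf (nat_lit
    273323266)) (.leaf (nat_lit 319948811))))) (.node (.node (.node (.node (.leaf (nat_lit
    12086027)) (.leaf (nat_lit 768357905))) (.leaf (nat_lit 221530123))) (.node (.leaf (nat_lit
    159524866)) (.leaf (nat_lit 689673989)))) (.node (.node (.leaf (nat_lit 44137735)) (.leaf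
    (nat_lit 228823040))) (.node (.leaf (nat_lit 431544077)) (.leaf (nat_lit 713685514)))))) (.node
    (.node (.node (.node (.node (.leaf (nat_lit 6824203)) (.leaf (nat_lit 719167490))) (.leaf
    (nat_lit 390338059))) (.node (.leaf (nat_lit 61371661)) (.leaf (nat_lit 314099468)))) (.node
    (.node (.leaf (nat_lit 163139846)) (.leaf (nat_lit 680114699))) (.node (.leaf (nat_lit
    182641154)) (.leaf (nat_lit 575485188))))) (.node (.node (.node (.leaf (nat_lit 96501008))
    (.leaf (nat_lit 248284680))) (.node (.leaf (nat_lit 317755917)) (.leaf (nat_lit 201027328))))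
    (.node (.node (.leaf (nat_lit 127477248)) (.leaf (nat_lit 212402438))) (.node (.leaf (nat_lit
    473666832)) (.leaf (nat_lit 570780933))))))) (.node (.node (.node (.node (.node (.node (.leaf
    (nat_lit 29361936)) (.leaf (nat_lit 703435535))) (.leaf (nat_lit 395574031))) (.node (.leaf
    (nat_lit 232383497)) (.leaf (nat_lit 325805568)))) (.node (.node (.leaf (nat_lit 90781969))
    (.leaf (nat_lit 658614536))) (.node (.leaf (nat_lit 364034055)) (.leaf (nat_lit 394562060)))))
    (.node (.node (.node (.node (.leaf (nat_lit 30942476)) (.leaf (nat_lit 775202308))) (.leaf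
    (nat_lit 524051204))) (.node (.leaf (nat_lit 299514628)) (.leaf (nat_lit 307375618)))) (.node
    (.node (.leaf (nat_lit 207722241)) (.leaf (nat_lit 271331086))) (.node (.leaf (nat_lit
    353594121)) (.leaf (nat_lit 580214789)))))) (.node (.node (.node (.node (.node (.leaf (nat_lit
    58200847)) (.leaf (nat_lit 761626375))) (.leaf (nat_lit 189539335))) (.node (.leaf (nat_lit
    280631055)) (.leaf (nat_lit 533354509)))) (.node (.node (.leaf (nat_lit 42559234)) (.leaf
    (nat_lit 696562186))) (.node (.leaf (nat_lit 405850120)) (.leaf (nat_lit 704987404))))) (.node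
    (.node (.node (.leaf (nat_lit 108061958)) (.leaf (nat_lit 626782211))) (.node (.leaf (nat_lit
    100825607)) (.leaf (nat_lit 286872330)))) (.node (.node (.leaf (nat_lit 229663244)) (.leaf
    (nat_lit 364564992))) (.node (.leaf (nat_lit 499190538)) (.leaf (nat_lit 733632271))))))))
    (.node (.node (.node (.node (.node (.node (.node (.leaf (nat_lit 14681358)) (.leaf (nat_lit
    744240395))) (.leaf (nat_lit 526053128))) (.node (.leaf (nat_lit 247060752)) (.leaf (nat_lit
    665531919)))) (.node (.node (.leaf (nat_lit 155729671)) (.leaf (nat_lit 650224914))) (.node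
    (.leaf (nat_lit 351446274)) (.leaf (nat_lit 403460624))))) (.node (.node (.node (.node (.leaf
    (nat_lit 40929793)) (.leaf (nat_lit 768982796))) (.leaf (nat_lit 293203460))) (.node (.leaf
    (nat_lit 270675977)) (.leaf (nat_lit 693792008)))) (.node (.node (.leaf (nat_lit 47287044))
    (.leaf (nat_lit 84072448))) (.node (.leaf (nat_lit 447275271)) (.leaf (nat_lit 717881612))))))
    (.node (.node (.node (.node (.node (.leaf (nat_lit 13131266)) (.leaf (nat_lit 758329616)))
    (.leaf (nat_lit 196353803))) (.node (.leaf (nat_lit 228198918)) (.leaf (nat_lit 248669200))))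
    (.node (.node (.leaf (nat_lit 172055301)) (.leaf (nat_lit 294987025))) (.node (.leaf (nat_lit
    397459725)) (.leaf (nat_lit 702360331))))) (.node (.node (.node (.leaf (nat_lit 22596615))
    (.leaf (nat_lit 274503439))) (.node (.leaf (nat_lit 118112005)) (.leaf (nat_lit 620535812))))
    (.node (.node (.leaf (nat_lit 100707077)) (.leaf (nat_lit 117521920))) (.node (.leaf (nat_lit
    489367314)) (.leaf (nat_lit 339570959))))))) (.node (.node (.node (.node (.node (.node (.leaf
    (nat_lit 9968646)) (.leaf (nat_lit 654678277))) (.leaf (nat_lit 179046926))) (.node (.leaf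
    (nat_lit 95023114)) (.leaf (nat_lit 106644736)))) (.node (.node (.leaf (nat_lit 53560585))
    (.leaf (nat_lit 670674955))) (.node (.leaf (nat_lit 249744399)) (.leaf (nat_lit 573356049)))))
    (.node (.node (.node (.leaf (nat_lit 90186767)) (.leaf (nat_lit 597787916))) (.node (.leaf
    (nat_lit 313041924)) (.leaf (nat_lit 208377857)))) (.node (.node (.leaf (nat_lit 30423561))
    (.leaf (nat_lit 420201984))) (.node (.leaf (nat_lit 127107335)) (.leaf (nat_lit 400833796))))))
    (.node (.node (.node (.node (.node (.leaf (nat_lit 13663245)) (.leaf (nat_lit 765209615)))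
    (.leaf (nat_lit 191115790))) (.node (.leaf (nat_lit 38359821)) (.leaf (nat_lit 93954560))))
    (.node (.node (.leaf (nat_lit 194531587)) (.leaf (nat_lit 211419136))) (.node (.leaf (nat_lit
    116595723)) (.leaf (nat_lit 707610898))))) (.node (.node (.node (.leaf (nat_lit 131084818))
    (.leaf (nat_lit 635211011))) (.node (.leaf (nat_lit 271746564)) (.leaf (nat_lit 283855377))))
    (.node (.node (.leaf (nat_lit 225034503)) (.leaf (nat_lit 76156933))) (.node (.leaf (nat_lit
    409192719)) (.leaf (nat_lit 734363140))))))))))) (.node (.node (.node (.node (.node (.node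
    (.node (.node (.node (.node (.leaf (nat_lit 1048586)) (.leaf (nat_lit 738888193))) (.leaf
    (nat_lit 268160524))) (.node (.leaf (nat_lit 56214531)) (.leaf (nat_lit 204191500)))) (.node
    (.node (.leaf (nat_lit 137901070)) (.leaf (nat_lit 637640460))) (.node (.leaf (nat_lit
    340953609)) (.leaf (nat_lit 547129864))))) (.node (.node (.node (.node (.leaf (nat_lit
    49839881)) (.leaf (nat_lit 579187969))) (.leaf (nat_lit 566950147))) (.node (.leaf (nat_lit
    283255053)) (.leaf (nat_lit 217790720)))) (.node (.node (.leaf (nat_lit 194082306)) (.leaf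
    (nat_lit 56166400))) (.node (.leaf (nat_lit 422105096)) (.leaf (nat_lit 632114177)))))) (.node
    (.node (.node (.node (.node (.leaf (nat_lit 38276104)) (.leaf (nat_lit 653106191))) (.leaf
    (nat_lit 544824081))) (.node (.leaf (nat_lit 200406278)) (.leaf (nat_lit 365647104)))) (.node
    (.node (.leaf (nat_lit 173033225)) (.leaf (nat_lit 675015944))) (.node (.leaf (nat_lit
    379631877)) (.leaf (nat_lit 611660293))))) (.node (.node (.node (.leaf (nat_lit 20492815))
    (.leaf (nat_lit 599915022))) (.node (.leaf (nat_lit 77107980)) (.leaf (nat_lit 206310144))))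
    (.node (.node (.leaf (nat_lit 220833036)) (.leaf (nat_lit 351442950))) (.node (.leaf (nat_lit
    474020624)) (.leaf (nat_lit 576022801))))))) (.node (.node (.node (.node (.node (.node (.leaf
    (nat_lit 17303045)) (.leaf (nat_lit 578653698))) (.leaf (nat_lit 529613068))) (.node (.leaf
    (nat_lit 157408015)) (.leaf (nat_lit 301623553)))) (.node (.node (.leaf (nat_lit 36253445))
    (.leaf (nat_lit 651798533))) (.node (.leaf (nat_lit 90352644)) (.leaf (nat_lit 411865856)))))
    (.node (.node (.node (.node (.leaf (nat_lit 21008387)) (.leaf (nat_lit 773082125))) (.leaf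
    (nat_lit 577526529))) (.node (.leaf (nat_lit 235550220)) (.leaf (nat_lit 247615751)))) (.node
    (.node (.leaf (nat_lit 199856131)) (.leaf (nat_lit 139119616))) (.node (.leaf (nat_lit
    453568017)) (.leaf (nat_lit 719645699)))))) (.node (.node (.node (.node (.node (.leaf (nat_lit
    16802056)) (.leaf (nat_lit 714975242))) (.leaf (nat_lit 318355206))) (.node (.leaf (nat_lit
    157422354)) (.leaf (nat_lit 411260931)))) (.node (.node (.leaf (nat_lit 167337746)) (.leaf
    (nat_lit 314911238))) (.node (.leaf (nat_lit 351467783)) (.leaf (nat_lit 601701897))))) (.node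
    (.node (.node (.leaf (nat_lit 26269185)) (.leaf (nat_lit 619811586))) (.node (.leaf (nat_lit
    328889355)) (.leaf (nat_lit 254951942)))) (.node (.node (.leaf (nat_lit 168930576)) (.leaf
    (nat_lit 237218575))) (.node (.leaf (nat_lit 492505605)) (.leaf (nat_lit 582756618))))))))
    (.node (.node (.node (.node (.node (.node (.node (.leaf (nat_lit 8917266)) (.leaf (nat_lit
    738559751))) (.leaf (nat_lit 162783758))) (.node (.leaf (nat_lit 206163713)) (.leaf (nat_lit
    549679887)))) (.node (.node (.leaf (nat_lit 149436682)) (.leaf (nat_lit 218741521))) (.node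
    (.leaf (nat_lit 348171011)) (.leaf (nat_lit 366279680))))) (.node (.node (.node (.node (.leaf
    (nat_lit 17848079)) (.leaf (nat_lit 717077264))) (.leaf (nat_lit 576849412))) (.node (.leaf
    (nat_lit 240242190)) (.leaf (nat_lit 637854208)))) (.node (.node (.leaf (nat_lit 47284482))
    (.leaf (nat_lit 25228032))) (.node (.leaf (nat_lit 118178051)) (.leaf (nat_lit 712856585))))))
    (.node (.node (.node (.node (.node (.leaf (nat_lit 44043778)) (.leaf (nat_lit 755851787)))
    (.leaf (nat_lit 509353231))) (.node (.leaf (nat_lit 268466954)) (.leaf (nat_lit 319339525))))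
    (.node (.node (.leaf (nat_lit 179325200)) (.leaf (nat_lit 683260690))) (.node (.leaf (nat_lit
    377678340)) (.leaf (nat_lit 699741967))))) (.node (.node (.node (.leaf (nat_lit 76071169))
    (.leaf (nat_lit 611618571))) (.node (.leaf (nat_lit 324572682)) (.leaf (nat_lit 475291402))))
    (.node (.node (.leaf (nat_lit 157353474)) (.leaf (nat_lit 256967439))) (.node (.leaf (nat_lit
    420716033)) (.leaf (nat_lit 722810891))))))) (.node (.node (.node (.node (.node (.node (.leaf
    (nat_lit 30424845)) (.leaf (nat_lit 749573388))) (.leaf (nat_lit 537133327))) (.node (.leaf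
    (nat_lit 81914122)) (.leaf (nat_lit 124344586)))) (.node (.node (.leaf (nat_lit 166216714))
    (.leaf (nat_lit 663333391))) (.node (.leaf (nat_lit 371765258)) (.leaf (nat_lit 681907727)))))
    (.node (.node (.node (.node (.leaf (nat_lit 26227205)) (.leaf (nat_lit 682477573))) (.leaf
    (nat_lit 232025095))) (.node (.leaf (nat_lit 308317445)) (.leaf (nat_lit 582138626)))) (.node
    (.node (.leaf (nat_lit 217602823)) (.leaf (nat_lit 101864704))) (.node (.leaf (nat_lit
    326333200)) (.leaf (nat_lit 569654793)))))) (.node (.node (.node (.node (.node (.leaf (nat_lit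
    44593925)) (.leaf (nat_lit 762626316))) (.leaf (nat_lit 189016843))) (.node (.leaf (nat_lit
    283672835)) (.leaf (nat_lit 545949958)))) (.node (.node (.leaf (nat_lit 188836867)) (.leaf
    (nat_lit 186942720))) (.node (.leaf (nat_lit 410568970)) (.leaf (nat_lit 607994889))))) (.node
    (.node (.node (.leaf (nat_lit 123788804)) (.leaf (nat_lit 629960968))) (.node (.leaf (nat_lit
    334598926)) (.leaf (nat_lit 254947848)))) (.node (.node (.leaf (nat_lit 233394437)) (.leaf
    (nat_lit 275934738))) (.node (.leaf (nat_lit 503536132)) (.leaf (nat_lit 654670097)))))))))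
    (.node (.node (.node (.node (.node (.node (.node (.node (.leaf (nat_lit 2622736)) (.leaf
    (nat_lit 574454791))) (.leaf (nat_lit 510383883))) (.node (.leaf (nat_lit 239101709)) (.leaf
    (nat_lit 86066703)))) (.node (.node (.leaf (nat_lit 144717831)) (.leaf (nat_lit 603768321)))
    (.node (.leaf (nat_lit 346071314)) (.leaf (nat_lit 419564803))))) (.node (.node (.node (.node
    (.leaf (nat_lit 70272529)) (.leaf (nat_lit 742242305))) (.leaf (nat_lit 572618508))) (.node
    (.leaf (nat_lit 280634118)) (.leaf (nat_lit 409278464)))) (.node (.node (.leaf (nat_lit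
    44585740)) (.leaf (nat_lit 19996416))) (.node (.leaf (nat_lit 428028171)) (.leaf (nat_lit
    577589253)))))) (.node (.node (.node (.node (.node (.leaf (nat_lit 7343872)) (.leaf (nat_lit
    660971266))) (.leaf (nat_lit 548494607))) (.node (.leaf (nat_lit 260698377)) (.leaf (nat_lit
    77138692)))) (.node (.node (.leaf (nat_lit 163663881)) (.leaf (nat_lit 247795463))) (.node
    (.leaf (nat_lit 384349967)) (.leaf (nat_lit 698482188))))) (.node (.node (.node (.leaf (nat_lit
    83932687)) (.leaf (nat_lit 209486856))) (.node (.leaf (nat_lit 316707084)) (.leaf (nat_lit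
    207833344)))) (.node (.node (.leaf (nat_lit 90239232)) (.leaf (nat_lit 5301248))) (.node (.leaf
    (nat_lit 135500559)) (.leaf (nat_lit 561343493))))))) (.node (.node (.node (.node (.node (.node
    (.leaf (nat_lit 26216201)) (.leaf (nat_lit 667259393))) (.leaf (nat_lit 375641355))) (.node
    (.leaf (nat_lit 252211207)) (.leaf (nat_lit 480929296)))) (.node (.node (.leaf (nat_lit
    162609168)) (.leaf (nat_lit 513597968))) (.node (.leaf (nat_lit 90879503)) (.leaf (nat_lit
    226603264))))) (.node (.node (.node (.node (.leaf (nat_lit 21010433)) (.leaf (nat_lit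
    751682818))) (.leaf (nat_lit 312238601))) (.node (.leaf (nat_lit 194656265)) (.leaf (nat_lit
    376570379)))) (.node (.node (.leaf (nat_lit 212358930)) (.leaf (nat_lit 557058049))) (.node
    (.leaf (nat_lit 428566531)) (.leaf (nat_lit 721178629)))))) (.node (.node (.node (.node (.node
    (.leaf (nat_lit 55579396)) (.leaf (nat_lit 581807119))) (.leaf (nat_lit 193556747))) (.node
    (.leaf (nat_lit 179967498)) (.leaf (nat_lit 477776393)))) (.node (.node (.leaf (nat_lit
    186142468)) (.leaf (nat_lit 676146954))) (.node (.leaf (nat_lit 405325831)) (.leaf (nat_lit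
    350043406))))) (.node (.node (.node (.leaf (nat_lit 117976076)) (.leaf (nat_lit 624693255)))
    (.node (.leaf (nat_lit 294287618)) (.leaf (nat_lit 518137867)))) (.node (.node (.leaf (nat_lit
    225031425)) (.leaf (nat_lit 123792399))) (.node (.leaf (nat_lit 497789452)) (.leaf (nat_lit
    568161798)))))))) (.node (.node (.node (.node (.node (.node (.node (.leaf (nat_lit 13638159))
    (.leaf (nat_lit 719161863))) (.leaf (nat_lit 524479496))) (.node (.leaf (nat_lit 247491088))
    (.leaf (nat_lit 182509317)))) (.node (.node (.leaf (nat_lit 37299723)) (.leaf (nat_lit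
    645715723))) (.node (.leaf (nat_lit 353430283)) (.leaf (nat_lit 247791360))))) (.node (.node
    (.node (.node (.leaf (nat_lit 66619651)) (.leaf (nat_lit 737001222))) (.leaf (nat_lit
    582758921))) (.node (.leaf (nat_lit 252325382)) (.leaf (nat_lit 205703946)))) (.node (.node
    (.leaf (nat_lit 202475522)) (.leaf (nat_lit 37268480))) (.node (.leaf (nat_lit 446313736))
    (.leaf (nat_lit 708663298)))))) (.node (.node (.node (.node (.node (.leaf (nat_lit 8412423))
    (.leaf (nat_lit 757801228))) (.leaf (nat_lit 553214479))) (.node (.leaf (nat_lit 273186065))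
    (.leaf (nat_lit 118164482)))) (.node (.node (.leaf (nat_lit 181422597)) (.leaf (nat_lit
    596976389))) (.node (.leaf (nat_lit 351466246)) (.leaf (nat_lit 702145548))))) (.node (.node
    (.node (.leaf (nat_lit 90229010)) (.leaf (nat_lit 273978895))) (.node (.leaf (nat_lit
    86667523)) (.leaf (nat_lit 385589761)))) (.node (.node (.leaf (nat_lit 29899018)) (.leaf
    (nat_lit 650798609))) (.node (.leaf (nat_lit 489227276)) (.leaf (nat_lit 709692680)))))))
    (.node (.node (.node (.node (.node (.node (.leaf (nat_lit 9455109)) (.leaf (nat_lit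
    580229122))) (.leaf (nat_lit 541151761))) (.node (.leaf (nat_lit 217181954)) (.leaf (nat_lit
    121257231)))) (.node (.node (.leaf (nat_lit 147932177)) (.leaf (nat_lit 668053266))) (.node
    (.leaf (nat_lit 374460166)) (.leaf (nat_lit 594739470))))) (.node (.node (.node (.leaf (nat_lit
    87041027)) (.leaf (nat_lit 597263377))) (.node (.leaf (nat_lit 74060038)) (.leaf (nat_lit
    139078914)))) (.node (.node (.leaf (nat_lit 30472704)) (.leaf (nat_lit 498361088))) (.node
    (.leaf (nat_lit 132873733)) (.leaf (nat_lit 497378833)))))) (.node (.node (.node (.node (.node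
    (.leaf (nat_lit 47217413)) (.leaf (nat_lit 764695042))) (.leaf (nat_lit 561604874))) (.node
    (.leaf (nat_lit 174666758)) (.leaf (nat_lit 393336578)))) (.node (.node (.leaf (nat_lit
    42037767)) (.leaf (nat_lit 265072640))) (.node (.leaf (nat_lit 120789761)) (.leaf (nat_lit
    611665928))))) (.node (.node (.node (.leaf (nat_lit 127464710)) (.leaf (nat_lit 635055370)))
    (.node (.leaf (nat_lit 338205953)) (.leaf (nat_lit 602539265)))) (.node (.node (.leaf (nat_lit
    234471425)) (.leaf (nat_lit 76165382))) (.node (.leaf (nat_lit 319539204)) (.leaf (nat_lit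
    567115024)))))))))) (.node (.node (.node (.node (.node (.node (.node (.node (.node (.leaf
    (nat_lit 2098192)) (.leaf (nat_lit 740130564))) (.leaf (nat_lit 229364240))) (.node (.leaf
    (nat_lit 236045826)) (.leaf (nat_lit 140141312)))) (.node (.node (.leaf (nat_lit 35196945))
    (.leaf (nat_lit 639942913))) (.node (.leaf (nat_lit 84577805)) (.leaf (nat_lit 475326976)))))
    (.node (.node (.node (.node (.leaf (nat_lit 54559237)) (.leaf (nat_lit 765310476))) (.leaf
    (nat_lit 567033857))) (.node (.leaf (nat_lit 287867406)) (.leaf (nat_lit 375159808)))) (.node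
    (.node (.leaf (nat_lit 196701192)) (.leaf (nat_lit 215587590))) (.node (.leaf (nat_lit
    360917510)) (.leaf (nat_lit 712111631)))))) (.node (.node (.node (.node (.node (.leaf (nat_lit
    39865602)) (.leaf (nat_lit 732791819))) (.leaf (nat_lit 348918032))) (.node (.leaf (nat_lit
    64616708)) (.leaf (nat_lit 432754691)))) (.node (.node (.leaf (nat_lit 174085642)) (.leaf
    (nat_lit 667748879))) (.node (.leaf (nat_lit 348837650)) (.leaf (nat_lit 251474689))))) (.node
    (.node (.node (.leaf (nat_lit 94381827)) (.leaf (nat_lit 208436999))) (.node (.leaf (nat_lit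
    314609676)) (.leaf (nat_lit 540313600)))) (.node (.node (.leaf (nat_lit 101229832)) (.leaf
    (nat_lit 465826048))) (.node (.leaf (nat_lit 477773322)) (.leaf (nat_lit 727329282)))))))
    (.node (.node (.node (.node (.node (.node (.leaf (nat_lit 19400206)) (.leaf (nat_lit
    705007621))) (.leaf (nat_lit 392427521))) (.node (.leaf (nat_lit 215604742)) (.leaf (nat_lit
    487284743)))) (.node (.node (.leaf (nat_lit 162021902)) (.leaf (nat_lit 652324618))) (.node
    (.leaf (nat_lit 91927043)) (.leaf (nat_lit 77204489))))) (.node (.node (.node (.node (.leaf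
    (nat_lit 74487042)) (.leaf (nat_lit 746439436))) (.leaf (nat_lit 586775826))) (.node (.leaf
    (nat_lit 190461706)) (.leaf (nat_lit 224706834)))) (.node (.node (.leaf (nat_lit 210336519))
    (.leaf (nat_lit 181588736))) (.node (.leaf (nat_lit 448477704)) (.leaf (nat_lit 720504082))))))
    (.node (.node (.node (.node (.node (.leaf (nat_lit 52433423)) (.leaf (nat_lit 682994177)))
    (.leaf (nat_lit 319038214))) (.node (.leaf (nat_lit 237638918)) (.leaf (nat_lit 317873673))))
    (.node (.node (.leaf (nat_lit 72442371)) (.leaf (nat_lit 271395854))) (.node (.leaf (nat_lit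
    331546634)) (.leaf (nat_lit 704768015))))) (.node (.node (.node (.leaf (nat_lit 107011333))
    (.leaf (nat_lit 375169289))) (.node (.leaf (nat_lit 87193350)) (.leaf (nat_lit 123345932))))
    (.node (.node (.leaf (nat_lit 226517005)) (.leaf (nat_lit 314747648))) (.node (.leaf (nat_lit
    141799183)) (.leaf (nat_lit 731587082)))))))) (.node (.node (.node (.node (.node (.node (.node
    (.leaf (nat_lit 11535120)) (.leaf (nat_lit 725453058))) (.leaf (nat_lit 484698385))) (.node
    (.leaf (nat_lit 55169810)) (.leaf (nat_lit 387660038)))) (.node (.node (.leaf (nat_lit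
    105456656)) (.leaf (nat_lit 634705414))) (.node (.leaf (nat_lit 350395659)) (.leaf (nat_lit
    409265161))))) (.node (.node (.node (.node (.leaf (nat_lit 58230533)) (.leaf (nat_lit
    742243586))) (.leaf (nat_lit 578910477))) (.node (.leaf (nat_lit 211430155)) (.leaf (nat_lit
    394377987)))) (.node (.node (.leaf (nat_lit 185697292)) (.leaf (nat_lit 327317760))) (.node
    (.leaf (nat_lit 440982799)) (.leaf (nat_lit 366827014)))))) (.node (.node (.node (.node (.node
    (.leaf (nat_lit 7363090)) (.leaf (nat_lit 751149830))) (.leaf (nat_lit 189937161))) (.node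
    (.leaf (nat_lit 218235398)) (.leaf (nat_lit 411715593)))) (.node (.node (.leaf (nat_lit
    161044233)) (.leaf (nat_lit 626334726))) (.node (.leaf (nat_lit 389737985)) (.leaf (nat_lit
    701140234))))) (.node (.node (.node (.leaf (nat_lit 103295240)) (.leaf (nat_lit 197788689)))
    (.node (.leaf (nat_lit 315780610)) (.leaf (nat_lit 665500677)))) (.node (.node (.leaf (nat_lit
    138485509)) (.leaf (nat_lit 621513990))) (.node (.leaf (nat_lit 428056833)) (.leaf (nat_lit
    729481991))))))) (.node (.node (.node (.node (.node (.node (.leaf (nat_lit 33571339)) (.leaf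
    (nat_lit 579180303))) (.leaf (nat_lit 176424206))) (.node (.leaf (nat_lit 257454860)) (.leaf
    (nat_lit 428612096)))) (.node (.node (.leaf (nat_lit 168314120)) (.leaf (nat_lit 655160335)))
    (.node (.leaf (nat_lit 200460042)) (.leaf (nat_lit 240920081))))) (.node (.node (.node (.node
    (.leaf (nat_lit 82846221)) (.leaf (nat_lit 729139466))) (.leaf (nat_lit 583823618))) (.node
    (.leaf (nat_lit 307908877)) (.leaf (nat_lit 581654535)))) (.node (.node (.leaf (nat_lit
    219784192)) (.leaf (nat_lit 401853184))) (.node (.leaf (nat_lit 465771270)) (.leaf (nat_lit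
    336421905)))))) (.node (.node (.node (.node (.node (.leaf (nat_lit 61895939)) (.leaf (nat_lit
    757444617))) (.leaf (nat_lit 560212482))) (.node (.leaf (nat_lit 177812741)) (.leaf (nat_lit
    418574342)))) (.node (.node (.leaf (nat_lit 42561030)) (.leaf (nat_lit 209465098))) (.node
    (.leaf (nat_lit 360387586)) (.leaf (nat_lit 558712323))))) (.node (.node (.node (.leaf (nat_lit
    125317129)) (.leaf (nat_lit 583841290))) (.node (.leaf (nat_lit 335653636)) (.leaf (nat_lit
    549219079)))) (.node (.node (.leaf (nat_lit 212975112)) (.leaf (nat_lit 444817152))) (.node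
    (.leaf (nat_lit 504473356)) (.leaf (nat_lit 621116175))))))))) (.node (.node (.node (.node
    (.node (.node (.node (.node (.leaf (nat_lit 4721413)) (.leaf (nat_lit 741096965))) (.leaf
    (nat_lit 488888842))) (.node (.leaf (nat_lit 240763911)) (.leaf (nat_lit 172693514)))) (.node
    (.node (.leaf (nat_lit 29431821)) (.leaf (nat_lit 633654273))) (.node (.leaf (nat_lit
    332043785)) (.leaf (nat_lit 275449615))))) (.node (.node (.node (.node (.leaf (nat_lit
    12084234)) (.leaf (nat_lit 768434183))) (.leaf (nat_lit 559696646))) (.node (.leaf (nat_lit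
    286926861)) (.leaf (nat_lit 419740672)))) (.node (.node (.leaf (nat_lit 68718344)) (.leaf
    (nat_lit 248719104))) (.node (.leaf (nat_lit 433641234)) (.leaf (nat_lit 714209804)))))) (.node
    (.node (.node (.node (.node (.leaf (nat_lit 41438993)) (.leaf (nat_lit 719167499))) (.leaf
    (nat_lit 549543186))) (.node (.leaf (nat_lit 265420036)) (.leaf (nat_lit 498288387)))) (.node
    (.node (.leaf (nat_lit 178800911)) (.leaf (nat_lit 248287495))) (.node (.leaf (nat_lit
    387495954)) (.leaf (nat_lit 256194053))))) (.node (.node (.node (.leaf (nat_lit 21019408))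
    (.leaf (nat_lit 590645507))) (.node (.leaf (nat_lit 85614593)) (.leaf (nat_lit 124962578))))
    (.node (.node (.leaf (nat_lit 126982144)) (.leaf (nat_lit 23607296))) (.node (.leaf (nat_lit
    482410760)) (.leaf (nat_lit 713827342))))))) (.node (.node (.node (.node (.node (.node (.leaf
    (nat_lit 6307078)) (.leaf (nat_lit 748336138))) (.leaf (nat_lit 346291471))) (.node (.leaf
    (nat_lit 254404098)) (.leaf (nat_lit 157868038)))) (.node (.node (.leaf (nat_lit 158415376))
    (.leaf (nat_lit 222955526))) (.node (.leaf (nat_lit 366521610)) (.leaf (nat_lit 611635201)))))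
    (.node (.node (.node (.node (.leaf (nat_lit 3670286)) (.leaf (nat_lit 737003020))) (.leaf
    (nat_lit 205285384))) (.node (.leaf (nat_lit 300977155)) (.leaf (nat_lit 277135881)))) (.node
    (.node (.leaf (nat_lit 214981127)) (.leaf (nat_lit 123930112))) (.node (.leaf (nat_lit
    461433866)) (.leaf (nat_lit 722109712)))))) (.node (.node (.node (.node (.node (.leaf (nat_lit
    50884622)) (.leaf (nat_lit 558214409))) (.leaf (nat_lit 557933583))) (.node (.leaf (nat_lit
    258611721)) (.leaf (nat_lit 321593348)))) (.node (.node (.leaf (nat_lit 42035203)) (.leaf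
    (nat_lit 631026179))) (.node (.leaf (nat_lit 181602305)) (.leaf (nat_lit 706008074))))) (.node
    (.node (.node (.leaf (nat_lit 109111043)) (.leaf (nat_lit 591703812))) (.node (.leaf (nat_lit
    333486352)) (.leaf (nat_lit 372910348)))) (.node (.node (.leaf (nat_lit 231309842)) (.leaf
    (nat_lit 327197702))) (.node (.leaf (nat_lit 450048779)) (.leaf (nat_lit 733827591))))))))
    (.node (.node (.node (.node (.node (.node (.node (.leaf (nat_lit 15729938)) (.leaf (nat_lit
    744658959))) (.leaf (nat_lit 515108103))) (.node (.leaf (nat_lit 95017476)) (.leaf (nat_lit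
    169427724)))) (.node (.node (.leaf (nat_lit 155266049)) (.leaf (nat_lit 650749443))) (.node
    (.leaf (nat_lit 90351361)) (.leaf (nat_lit 274528782))))) (.node (.node (.node (.node (.leaf
    (nat_lit 51415813)) (.leaf (nat_lit 666746890))) (.leaf (nat_lit 291634443))) (.node (.leaf
    (nat_lit 79311877)) (.leaf (nat_lit 376098316)))) (.node (.node (.leaf (nat_lit 179932167))
    (.leaf (nat_lit 338437391))) (.node (.leaf (nat_lit 449896720)) (.leaf (nat_lit 399333903))))))
    (.node (.node (.node (.node (.node (.leaf (nat_lit 49831170)) (.leaf (nat_lit 573417231)))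
    (.leaf (nat_lit 192159748))) (.node (.leaf (nat_lit 84545027)) (.leaf (nat_lit 306272262))))
    (.node (.node (.leaf (nat_lit 166288390)) (.leaf (nat_lit 691651346))) (.node (.leaf (nat_lit
    104527617)) (.leaf (nat_lit 655178754))))) (.node (.node (.node (.leaf (nat_lit 108580875))
    (.leaf (nat_lit 617714188))) (.node (.leaf (nat_lit 312635652)) (.leaf (nat_lit 620506129))))
    (.node (.node (.leaf (nat_lit 95528709)) (.leaf (nat_lit 433305600))) (.node (.leaf (nat_lit
    490800146)) (.leaf (nat_lit 418738706))))))) (.node (.node (.node (.node (.node (.node (.leaf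
    (nat_lit 1577741)) (.leaf (nat_lit 719690254))) (.leaf (nat_lit 543427602))) (.node (.leaf
    (nat_lit 257552642)) (.leaf (nat_lit 245419276)))) (.node (.node (.leaf (nat_lit 38881028))
    (.leaf (nat_lit 672772114))) (.node (.leaf (nat_lit 378057741)) (.leaf (nat_lit 338847504)))))
    (.node (.node (.node (.leaf (nat_lit 91759634)) (.leaf (nat_lit 598837003))) (.node (.leaf
    (nat_lit 306335488)) (.leaf (nat_lit 240259336)))) (.node (.node (.leaf (nat_lit 139526665))
    (.leaf (nat_lit 399152906))) (.node (.leaf (nat_lit 343064320)) (.leaf (nat_lit 290285569))))))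
    (.node (.node (.node (.node (.node (.leaf (nat_lit 65544707)) (.leaf (nat_lit 764261130)))
    (.leaf (nat_lit 381432837))) (.node (.leaf (nat_lit 284302860)) (.leaf (nat_lit 237686031))))
    (.node (.node (.leaf (nat_lit 195055878)) (.leaf (nat_lit 591526914))) (.node (.leaf (nat_lit
    419483408)) (.leaf (nat_lit 593316353))))) (.node (.node (.node (.leaf (nat_lit 106494987))
    (.leaf (nat_lit 385662218))) (.node (.leaf (nat_lit 339309576)) (.leaf (nat_lit 383540490))))
    (.node (.node (.leaf (nat_lit 78234117)) (.leaf (nat_lit 424389378))) (.node (.leaf (nat_lit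
    154913794)) (.leaf (nat_lit 736984834))))))))))))) (.node (.node (.node (.node (.node (.node
    (.node (.node (.node (.node (.node (.node (.leaf (nat_lit 5)) (.leaf (nat_lit 564494351)))
    (.leaf (nat_lit 509806339))) (.node (.leaf (nat_lit 61981442)) (.leaf (nat_lit 296419338))))
    (.node (.node (.leaf (nat_lit 135279377)) (.leaf (nat_lit 636776456))) (.node (.leaf (nat_lit
    271747082)) (.leaf (nat_lit 259165447))))) (.node (.node (.node (.node (.leaf (nat_lit
    65568258)) (.leaf (nat_lit 718124038))) (.leaf (nat_lit 194786573))) (.node (.leaf (nat_lit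
    280633090)) (.leaf (nat_lit 453279488)))) (.node (.node (.leaf (nat_lit 51999756)) (.leaf
    (nat_lit 215604736))) (.node (.leaf (nat_lit 136520450)) (.leaf (nat_lit 707611394)))))) (.node
    (.node (.node (.node (.node (.leaf (nat_lit 19941137)) (.leaf (nat_lit 733846274))) (.leaf
    (nat_lit 540806417))) (.node (.leaf (nat_lit 209318661)) (.leaf (nat_lit 109737218)))) (.node
    (.node (.leaf (nat_lit 156321802)) (.leaf (nat_lit 531957252))) (.node (.leaf (nat_lit
    323670541)) (.leaf (nat_lit 381432593))))) (.node (.node (.node (.leaf (nat_lit 45658378))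
    (.leaf (nat_lit 596408079))) (.node (.leaf (nat_lit 73549568)) (.leaf (nat_lit 371973632))))
    (.node (.node (.leaf (nat_lit 136379401)) (.leaf (nat_lit 314224128))) (.node (.leaf (nat_lit
    470932751)) (.leaf (nat_lit 726276875))))))) (.node (.node (.node (.node (.node (.node (.leaf
    (nat_lit 13639177)) (.leaf (nat_lit 737512460))) (.leaf (nat_lit 406580998))) (.node (.leaf
    (nat_lit 236050962)) (.leaf (nat_lit 322111250)))) (.node (.node (.leaf (nat_lit 157860112))
    (.leaf (nat_lit 531945745))) (.node (.leaf (nat_lit 357082386)) (.leaf (nat_lit 226625285)))))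
    (.node (.node (.node (.node (.leaf (nat_lit 72911628)) (.leaf (nat_lit 667795717))) (.leaf
    (nat_lit 198990098))) (.node (.leaf (nat_lit 295748355)) (.leaf (nat_lit 615637761)))) (.node
    (.node (.leaf (nat_lit 205622796)) (.leaf (nat_lit 112798464))) (.node (.leaf (nat_lit
    449534993)) (.leaf (nat_lit 718930700)))))) (.node (.node (.node (.node (.node (.leaf (nat_lit
    50355460)) (.leaf (nat_lit 759009288))) (.leaf (nat_lit 194781194))) (.node (.leaf (nat_lit
    273813252)) (.leaf (nat_lit 545992968)))) (.node (.node (.leaf (nat_lit 165240075)) (.leaf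
    (nat_lit 582297349))) (.node (.leaf (nat_lit 398508810)) (.leaf (nat_lit 645217552))))) (.node
    (.node (.node (.leaf (nat_lit 111160067)) (.leaf (nat_lit 274994192))) (.node (.leaf (nat_lit
    328246275)) (.leaf (nat_lit 572269841)))) (.node (.node (.leaf (nat_lit 222846733)) (.leaf
    (nat_lit 105983744))) (.node (.leaf (nat_lit 491443202)) (.leaf (nat_lit 715462151))))))))
    (.node (.node (.node (.node (.node (.node (.node (.leaf (nat_lit 6294537)) (.leaf (nat_lit
    719160586))) (.leaf (nat_lit 519122959))) (.node (.leaf (nat_lit 58313985)) (.leaf (nat_lit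
    200505362)))) (.node (.node (.leaf (nat_lit 147863570)) (.leaf (nat_lit 616353288))) (.node
    (.leaf (nat_lit 331519753)) (.leaf (nat_lit 585833998))))) (.node (.node (.node (.node (.leaf
    (nat_lit 62424586)) (.leaf (nat_lit 624278017))) (.leaf (nat_lit 576325122))) (.node (.leaf
    (nat_lit 68297984)) (.leaf (nat_lit 294959360)))) (.node (.node (.leaf (nat_lit 200318979))
    (.leaf (nat_lit 201967882))) (.node (.leaf (nat_lit 435738640)) (.leaf (nat_lit 631591683))))))
    (.node (.node (.node (.node (.node (.leaf (nat_lit 41946383)) (.leaf (nat_lit 578658575)))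
    (.leaf (nat_lit 526129415))) (.node (.leaf (nat_lit 210894342)) (.leaf (nat_lit 90921216))))
    (.node (.node (.leaf (nat_lit 160519433)) (.leaf (nat_lit 681163524))) (.node (.leaf (nat_lit
    181069329)) (.leaf (nat_lit 699741708))))) (.node (.node (.node (.leaf (nat_lit 79740161))
    (.leaf (nat_lit 595364611))) (.node (.leaf (nat_lit 320901892)) (.leaf (nat_lit 214664448))))
    (.node (.node (.leaf (nat_lit 116472848)) (.leaf (nat_lit 120832512))) (.node (.leaf (nat_lit
    483983633)) (.leaf (nat_lit 566507793))))))) (.node (.node (.node (.node (.node (.node (.leaf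
    (nat_lit 31984137)) (.leaf (nat_lit 706057227))) (.leaf (nat_lit 536431631))) (.node (.leaf
    (nat_lit 255357450)) (.leaf (nat_lit 38856454)))) (.node (.node (.leaf (nat_lit 156318473))
    (.leaf (nat_lit 226626822))) (.node (.leaf (nat_lit 368619018)) (.leaf (nat_lit 633672706)))))
    (.node (.node (.node (.node (.leaf (nat_lit 18876172)) (.leaf (nat_lit 666748677))) (.leaf
    (nat_lit 592210443))) (.node (.leaf (nat_lit 304122889)) (.leaf (nat_lit 270775302)))) (.node
    (.node (.leaf (nat_lit 58301447)) (.leaf (nat_lit 90749696))) (.node (.leaf (nat_lit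
    328953871)) (.leaf (nat_lit 556548877)))))) (.node (.node (.node (.node (.node (.leaf (nat_lit
    50360586)) (.leaf (nat_lit 762587143))) (.leaf (nat_lit 558982663))) (.node (.leaf (nat_lit
    244456197)) (.leaf (nat_lit 304292112)))) (.node (.node (.leaf (nat_lit 42035969)) (.leaf
    (nat_lit 189566976))) (.node (.leaf (nat_lit 407423233)) (.leaf (nat_lit 591217426))))) (.node
    (.node (.node (.leaf (nat_lit 123219969)) (.leaf (nat_lit 628388615))) (.node (.leaf (nat_lit
    140147985)) (.leaf (nat_lit 234941197)))) (.node (.node (.leaf (nat_lit 231837452)) (.leaf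
    (nat_lit 102280966))) (.node (.leaf (nat_lit 501464327)) (.leaf (nat_lit 730167308)))))))))
    (.node (.node (.node (.node (.node (.node (.node (.node (.leaf (nat_lit 2098443)) (.leaf
    (nat_lit 718635786))) (.leaf (nat_lit 513878797))) (.node (.leaf (nat_lit 238577416)) (.leaf
    (nat_lit 273831691)))) (.node (.node (.leaf (nat_lit 35197200)) (.leaf (nat_lit 604292368)))
    (.node (.leaf (nat_lit 84578576)) (.leaf (nat_lit 222989570))))) (.node (.node (.node (.node
    (.leaf (nat_lit 56132613)) (.leaf (nat_lit 732804866))) (.leaf (nat_lit 570537480))) (.node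
    (.leaf (nat_lit 288915986)) (.leaf (nat_lit 217297162)))) (.node (.node (.leaf (nat_lit
    197753355)) (.leaf (nat_lit 332560902))) (.node (.leaf (nat_lit 425775363)) (.leaf (nat_lit
    631590404)))))) (.node (.node (.node (.node (.node (.leaf (nat_lit 6835717)) (.leaf (nat_lit
    740138514))) (.leaf (nat_lit 511447567))) (.node (.leaf (nat_lit 202504710)) (.leaf (nat_lit
    364538118)))) (.node (.node (.leaf (nat_lit 70340354)) (.leaf (nat_lit 674040847))) (.node
    (.leaf (nat_lit 382252561)) (.leaf (nat_lit 698101516))))) (.node (.node (.node (.leaf (nat_lit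
    94416908)) (.leaf (nat_lit 604604938))) (.node (.leaf (nat_lit 314657538)) (.leaf (nat_lit
    116686336)))) (.node (.node (.leaf (nat_lit 220765703)) (.leaf (nat_lit 158016512))) (.node
    (.leaf (nat_lit 471044358)) (.leaf (nat_lit 713386762))))))) (.node (.node (.node (.node (.node
    (.node (.leaf (nat_lit 21497362)) (.leaf (nat_lit 747281169))) (.leaf (nat_lit 516683793)))
    (.node (.leaf (nat_lit 251162627)) (.leaf (nat_lit 228738320)))) (.node (.node (.leaf (nat_lit
    162558731)) (.leaf (nat_lit 653545225))) (.node (.leaf (nat_lit 362851088)) (.leaf (nat_lit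
    231345159))))) (.node (.node (.node (.node (.leaf (nat_lit 20485633)) (.leaf (nat_lit
    752206860))) (.leaf (nat_lit 316956425))) (.node (.leaf (nat_lit 274347784)) (.leaf (nat_lit
    633483787)))) (.node (.node (.leaf (nat_lit 93426186)) (.leaf (nat_lit 495194112))) (.node
    (.leaf (nat_lit 455665425)) (.leaf (nat_lit 288710146)))))) (.node (.node (.node (.node (.node
    (.leaf (nat_lit 53482002)) (.leaf (nat_lit 760561931))) (.leaf (nat_lit 350334722))) (.node
    (.leaf (nat_lit 279560969)) (.leaf (nat_lit 304767497)))) (.node (.node (.leaf (nat_lit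
    39936521)) (.leaf (nat_lit 695322380))) (.node (.leaf (nat_lit 403752716)) (.leaf (nat_lit
    682442762))))) (.node (.node (.node (.leaf (nat_lit 107535877)) (.leaf (nat_lit 623482123)))
    (.node (.leaf (nat_lit 86145030)) (.leaf (nat_lit 289589007)))) (.node (.node (.leaf (nat_lit
    221360898)) (.leaf (nat_lit 33608192))) (.node (.leaf (nat_lit 410235141)) (.leaf (nat_lit
    560296972)))))))) (.node (.node (.node (.node (.node (.node (.node (.leaf (nat_lit 12059661))
    (.leaf (nat_lit 743275025))) (.leaf (nat_lit 525528074))) (.node (.leaf (nat_lit 206165001))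
    (.leaf (nat_lit 444328448)))) (.node (.node (.leaf (nat_lit 154156551)) (.leaf (nat_lit
    649330434))) (.node (.leaf (nat_lit 229809667)) (.leaf (nat_lit 218404110))))) (.node (.node
    (.node (.node (.leaf (nat_lit 71337999)) (.leaf (nat_lit 770981904))) (.leaf (nat_lit
    581531922))) (.node (.leaf (nat_lit 251276294)) (.leaf (nat_lit 293380864)))) (.node (.node
    (.leaf (nat_lit 204047625)) (.leaf (nat_lit 347797504))) (.node (.leaf (nat_lit 444129039))
    (.leaf (nat_lit 716832010)))))) (.node (.node (.node (.node (.node (.leaf (nat_lit 8412176))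
    (.leaf (nat_lit 757276176))) (.leaf (nat_lit 189360402))) (.node (.leaf (nat_lit 217187080))
    (.leaf (nat_lit 248694272)))) (.node (.node (.leaf (nat_lit 180437766)) (.leaf (nat_lit
    373628930))) (.node (.leaf (nat_lit 393932811)) (.leaf (nat_lit 293943813))))) (.node (.node
    (.node (.leaf (nat_lit 100714243)) (.leaf (nat_lit 614567950))) (.node (.leaf (nat_lit
    326266635)) (.leaf (nat_lit 604713231)))) (.node (.node (.leaf (nat_lit 26769166)) (.leaf
    (nat_lit 322144000))) (.node (.leaf (nat_lit 436970245)) (.leaf (nat_lit 730165263)))))))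
    (.node (.node (.node (.node (.node (.node (.leaf (nat_lit 35129869)) (.leaf (nat_lit
    746952450))) (.leaf (nat_lit 540280080))) (.node (.leaf (nat_lit 207219973)) (.leaf (nat_lit
    394465283)))) (.node (.node (.leaf (nat_lit 165756930)) (.leaf (nat_lit 663549458))) (.node
    (.leaf (nat_lit 373999887)) (.leaf (nat_lit 676456449))))) (.node (.node (.node (.leaf (nat_lit
    21537289)) (.leaf (nat_lit 596739087))) (.node (.leaf (nat_lit 311987985)) (.leaf (nat_lit
    235708945)))) (.node (.node (.leaf (nat_lit 18937600)) (.leaf (nat_lit 81482496))) (.node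
    (.leaf (nat_lit 137066759)) (.leaf (nat_lit 381510913)))))) (.node (.node (.node (.node (.node
    (.leaf (nat_lit 63444746)) (.leaf (nat_lit 574468353))) (.leaf (nat_lit 197930241))) (.node
    (.leaf (nat_lit 177811465)) (.leaf (nat_lit 242413059)))) (.node (.node (.leaf (nat_lit
    193032210)) (.leaf (nat_lit 215608066))) (.node (.leaf (nat_lit 414239759)) (.leaf (nat_lit
    270878466))))) (.node (.node (.node (.leaf (nat_lit 126365707)) (.leaf (nat_lit 633969931)))
    (.node (.leaf (nat_lit 336644357)) (.leaf (nat_lit 691837959)))) (.node (.node (.leaf (nat_lit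
    234402050)) (.leaf (nat_lit 401871360))) (.node (.leaf (nat_lit 152814849)) (.leaf (nat_lit
    565541650)))))))))) (.node (.node (.node (.node (.node (.node (.node (.node (.node (.leaf
    (nat_lit 1573633)) (.leaf (nat_lit 339051025))) (.leaf (nat_lit 504614662))) (.node (.leaf
    (nat_lit 203539723)) (.leaf (nat_lit 136025345)))) (.node (.node (.leaf (nat_lit 115411974))
    (.leaf (nat_lit 255640581))) (.node (.leaf (nat_lit 221416199)) (.leaf (nat_lit 113008128)))))
    (.node (.node (.node (.node (.leaf (nat_lit 55607302)) (.leaf (nat_lit 766327814))) (.leaf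
    (nat_lit 568423698))) (.node (.leaf (nat_lit 244457990)) (.leaf (nat_lit 322210816)))) (.node
    (.node (.leaf (nat_lit 190412805)) (.leaf (nat_lit 583828229))) (.node (.leaf (nat_lit
    423677968)) (.leaf (nat_lit 621104386)))))) (.node (.node (.node (.node (.node (.leaf (nat_lit
    34097419)) (.leaf (nat_lit 400923658))) (.leaf (nat_lit 295964434))) (.node (.leaf (nat_lit
    262778385)) (.leaf (nat_lit 534421519)))) (.node (.node (.leaf (nat_lit 173099528)) (.leaf
    (nat_lit 336398337))) (.node (.leaf (nat_lit 181589264)) (.leaf (nat_lit 697504012))))) (.node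
    (.node (.node (.leaf (nat_lit 83931657)) (.leaf (nat_lit 594836226))) (.node (.leaf (nat_lit
    224024072)) (.leaf (nat_lit 107209728)))) (.node (.node (.leaf (nat_lit 21014528)) (.leaf
    (nat_lit 27281157))) (.node (.leaf (nat_lit 474627082)) (.leaf (nat_lit 699230722))))))) (.node
    (.node (.node (.node (.node (.node (.leaf (nat_lit 13115911)) (.leaf (nat_lit 724930313)))
    (.leaf (nat_lit 531186188))) (.node (.leaf (nat_lit 173661190)) (.leaf (nat_lit 319513856))))
    (.node (.node (.leaf (nat_lit 52507137)) (.leaf (nat_lit 222616331))) (.node (.leaf (nat_lit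
    91925764)) (.leaf (nat_lit 226811148))))) (.node (.node (.node (.node (.leaf (nat_lit
    72913410)) (.leaf (nat_lit 773177868))) (.leaf (nat_lit 209476610))) (.node (.leaf (nat_lit
    263283970)) (.leaf (nat_lit 217645314)))) (.node (.node (.leaf (nat_lit 209761795)) (.leaf
    (nat_lit 109140736))) (.node (.leaf (nat_lit 453718024)) (.leaf (nat_lit 698178821)))))) (.node
    (.node (.node (.node (.node (.leaf (nat_lit 39870984)) (.leaf (nat_lit 757967109))) (.leaf
    (nat_lit 298465792))) (.node (.leaf (nat_lit 224006922)) (.leaf (nat_lit 341457163)))) (.node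
    (.node (.leaf (nat_lit 184594192)) (.leaf (nat_lit 254618371))) (.node (.leaf (nat_lit
    347798273)) (.leaf (nat_lit 704243724))))) (.node (.node (.node (.leaf (nat_lit 27318273))
    (.leaf (nat_lit 585932545))) (.node (.leaf (nat_lit 181040399)) (.leaf (nat_lit 77211400))))
    (.node (.node (.leaf (nat_lit 156872207)) (.leaf (nat_lit 140207104))) (.node (.leaf (nat_lit
    166964482)) (.leaf (nat_lit 631586056)))))))) (.node (.node (.node (.node (.node (.node (.node
    (.leaf (nat_lit 9440010)) (.leaf (nat_lit 738560008))) (.leaf (nat_lit 521921551))) (.node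
    (.leaf (nat_lit 243296525)) (.leaf (nat_lit 495635973)))) (.node (.node (.leaf (nat_lit
    150488846)) (.leaf (nat_lit 647602448))) (.node (.leaf (nat_lit 229797638)) (.leaf (nat_lit
    226636297))))) (.node (.node (.node (.node (.leaf (nat_lit 68711689)) (.leaf (nat_lit
    660978689))) (.leaf (nat_lit 232017155))) (.node (.leaf (nat_lit 264907017)) (.leaf (nat_lit
    596848641)))) (.node (.node (.leaf (nat_lit 44663553)) (.leaf (nat_lit 273308160))) (.node
    (.leaf (nat_lit 360399361)) (.leaf (nat_lit 290280706)))))) (.node (.node (.node (.node (.node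
    (.leaf (nat_lit 45110801)) (.leaf (nat_lit 576561682))) (.leaf (nat_lit 552690950))) (.node
    (.leaf (nat_lit 268530193)) (.leaf (nat_lit 294694145)))) (.node (.node (.leaf (nat_lit
    179339786)) (.leaf (nat_lit 519379217))) (.node (.leaf (nat_lit 181595153)) (.leaf (nat_lit
    348993553))))) (.node (.node (.node (.leaf (nat_lit 99140099)) (.leaf (nat_lit 592744707)))
    (.node (.leaf (nat_lit 324634886)) (.leaf (nat_lit 473201414)))) (.node (.node (.leaf (nat_lit
    48824845)) (.leaf (nat_lit 412866304))) (.node (.leaf (nat_lit 420192002)) (.leaf (nat_lit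
    558722566))))))) (.node (.node (.node (.node (.node (.node (.leaf (nat_lit 33570825)) (.leaf
    (nat_lit 749911056))) (.leaf (nat_lit 538529034))) (.node (.leaf (nat_lit 84011525)) (.leaf
    (nat_lit 180693248)))) (.node (.node (.leaf (nat_lit 166763282)) (.leaf (nat_lit 488960513)))
    (.node (.leaf (nat_lit 371767043)) (.leaf (nat_lit 487830531))))) (.node (.node (.node (.node
    (.leaf (nat_lit 80748815)) (.leaf (nat_lit 776785682))) (.leaf (nat_lit 594833163))) (.node
    (.leaf (nat_lit 75649039)) (.leaf (nat_lit 577459969)))) (.node (.node (.leaf (nat_lit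
    218735115)) (.leaf (nat_lit 509350400))) (.node (.leaf (nat_lit 464055564)) (.leaf (nat_lit
    653091346)))))) (.node (.node (.node (.node (.node (.leaf (nat_lit 44594182)) (.leaf (nat_lit
    705539849))) (.leaf (nat_lit 313797388))) (.node (.leaf (nat_lit 176299274)) (.leaf (nat_lit
    340479754)))) (.node (.node (.leaf (nat_lit 47279372)) (.leaf (nat_lit 268706817))) (.node
    (.leaf (nat_lit 132321544)) (.leaf (nat_lit 581780490))))) (.node (.node (.node (.leaf (nat_lit
    124310535)) (.leaf (nat_lit 585413387))) (.node (.leaf (nat_lit 167411461)) (.leaf (nat_lit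
    283261959)))) (.node (.node (.leaf (nat_lit 176799233)) (.leaf (nat_lit 559548940))) (.node
    (.leaf (nat_lit 425443599)) (.leaf (nat_lit 708672005))))))))) (.node (.node (.node (.node
    (.node (.node (.node (.node (.leaf (nat_lit 4720898)) (.leaf (nat_lit 740460306))) (.leaf
    (nat_lit 375642369))) (.node (.leaf (nat_lit 240150288)) (.leaf (nat_lit 136922885)))) (.node
    (.node (.leaf (nat_lit 146814989)) (.leaf (nat_lit 613730059))) (.node (.leaf (nat_lit
    221418501)) (.leaf (nat_lit 444205058))))) (.node (.node (.node (.node (.leaf (nat_lit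
    56129792)) (.leaf (nat_lit 569751564))) (.leaf (nat_lit 567035908))) (.node (.leaf (nat_lit
    284827401)) (.leaf (nat_lit 135052032)))) (.node (.node (.leaf (nat_lit 199326467)) (.leaf
    (nat_lit 225654784))) (.node (.leaf (nat_lit 430126347)) (.leaf (nat_lit 713316108)))))) (.node
    (.node (.node (.node (.node (.leaf (nat_lit 41438977)) (.leaf (nat_lit 754813200))) (.leaf
    (nat_lit 378803721))) (.node (.leaf (nat_lit 61470464)) (.leaf (nat_lit 486691594)))) (.node
    (.node (.leaf (nat_lit 175722769)) (.leaf (nat_lit 679775747))) (.node (.leaf (nat_lit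
    386971665)) (.leaf (nat_lit 483210502))))) (.node (.node (.node (.leaf (nat_lit 95991819))
    (.leaf (nat_lit 599033348))) (.node (.leaf (nat_lit 306339090)) (.leaf (nat_lit 107073295))))
    (.node (.node (.leaf (nat_lit 27307016)) (.leaf (nat_lit 267976975))) (.node (.leaf (nat_lit
    257135629)) (.leaf (nat_lit 403533057))))))) (.node (.node (.node (.node (.node (.node (.leaf
    (nat_lit 28837647)) (.leaf (nat_lit 747990795))) (.leaf (nat_lit 533985035))) (.node (.leaf
    (nat_lit 253784075)) (.leaf (nat_lit 303820800)))) (.node (.node (.leaf (nat_lit 164119308))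
    (.leaf (nat_lit 657565958))) (.node (.leaf (nat_lit 358790927)) (.leaf (nat_lit 604713228)))))
    (.node (.node (.node (.node (.leaf (nat_lit 18886156)) (.leaf (nat_lit 774731787))) (.leaf
    (nat_lit 588965894))) (.node (.leaf (nat_lit 299514639)) (.leaf (nat_lit 301084175)))) (.node
    (.node (.leaf (nat_lit 212944135)) (.leaf (nat_lit 649342736))) (.node (.leaf (nat_lit
    353594122)) (.leaf (nat_lit 721552913)))))) (.node (.node (.node (.node (.node (.leaf (nat_lit
    57152266)) (.leaf (nat_lit 743812097))) (.leaf (nat_lit 350332932))) (.node (.leaf (nat_lit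
    174665989)) (.leaf (nat_lit 591682566)))) (.node (.node (.leaf (nat_lit 42558979)) (.leaf
    (nat_lit 696543747))) (.node (.leaf (nat_lit 405358090)) (.leaf (nat_lit 702365969))))) (.node
    (.node (.node (.leaf (nat_lit 29942788)) (.leaf (nat_lit 524069633))) (.node (.leaf (nat_lit
    135428619)) (.leaf (nat_lit 284941056)))) (.node (.node (.leaf (nat_lit 229147147)) (.leaf
    (nat_lit 325756928))) (.node (.leaf (nat_lit 365147909)) (.leaf (nat_lit 675640845))))))))
    (.node (.node (.node (.node (.node (.node (.node (.leaf (nat_lit 14157069)) (.leaf (nat_lit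
    677219090))) (.leaf (nat_lit 392424201))) (.node (.leaf (nat_lit 248015378)) (.leaf (nat_lit
    654521874)))) (.node (.node (.leaf (nat_lit 154695439)) (.leaf (nat_lit 649385740))) (.node
    (.leaf (nat_lit 276473099)) (.leaf (nat_lit 570622211))))) (.node (.node (.node (.node (.leaf
    (nat_lit 72359435)) (.leaf (nat_lit 745914122))) (.leaf (nat_lit 232907012))) (.node (.leaf
    (nat_lit 293636107)) (.leaf (nat_lit 271178759)))) (.node (.node (.leaf (nat_lit 201951756))
    (.leaf (nat_lit 459011072))) (.node (.leaf (nat_lit 301088516)) (.leaf (nat_lit 717499666))))))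
    (.node (.node (.node (.node (.node (.leaf (nat_lit 48258566)) (.leaf (nat_lit 757961993)))
    (.leaf (nat_lit 187965193))) (.node (.leaf (nat_lit 273710354)) (.leaf (nat_lit 477783049))))
    (.node (.node (.leaf (nat_lit 181487880)) (.leaf (nat_lit 690078220))) (.node (.leaf (nat_lit
    326300930)) (.leaf (nat_lit 702354441))))) (.node (.node (.node (.leaf (nat_lit 106482179))
    (.leaf (nat_lit 531928581))) (.node (.leaf (nat_lit 320399366)) (.leaf (nat_lit 575949840))))
    (.node (.node (.leaf (nat_lit 100712465)) (.leaf (nat_lit 432780032))) (.node (.leaf (nat_lit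
    379790852)) (.leaf (nat_lit 571830534))))))) (.node (.node (.node (.node (.node (.node (.leaf
    (nat_lit 36705036)) (.leaf (nat_lit 750098705))) (.leaf (nat_lit 519834117))) (.node (.leaf
    (nat_lit 61992961)) (.leaf (nat_lit 91789057)))) (.node (.node (.leaf (nat_lit 58803468))
    (.leaf (nat_lit 669626377))) (.node (.leaf (nat_lit 173722629)) (.leaf (nat_lit 679801865)))))
    (.node (.node (.node (.leaf (nat_lit 89662475)) (.leaf (nat_lit 209482497))) (.node (.leaf
    (nat_lit 79320328)) (.leaf (nat_lit 307375375)))) (.node (.node (.leaf (nat_lit 28849929))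
    (.leaf (nat_lit 135377410))) (.node (.leaf (nat_lit 204177423)) (.leaf (nat_lit 660956944))))))
    (.node (.node (.node (.node (.node (.leaf (nat_lit 47741958)) (.leaf (nat_lit 764694279)))
    (.leaf (nat_lit 563177745))) (.node (.leaf (nat_lit 67141901)) (.leaf (nat_lit 444384512))))
    (.node (.node (.leaf (nat_lit 18914825)) (.leaf (nat_lit 266645760))) (.node (.leaf (nat_lit
    126032900)) (.leaf (nat_lit 709488396))))) (.node (.node (.node (.leaf (nat_lit 130560529))
    (.leaf (nat_lit 635223042))) (.node (.leaf (nat_lit 338855433)) (.leaf (nat_lit 537165069))))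
    (.node (.node (.leaf (nat_lit 235431178)) (.leaf (nat_lit 327299329))) (.node (.leaf (nat_lit
    334218763)) (.leaf (nat_lit 678264322))))))))))) (.node (.node (.node (.node (.node (.node
    (.node (.node (.node (.node (.leaf (nat_lit 524545)) (.leaf (nat_lit 572358927))) (.leaf
    (nat_lit 268160527))) (.node (.leaf (nat_lit 78234630)) (.leaf (nat_lit 201045516)))) (.node
    (.node (.leaf (nat_lit 136905731)) (.leaf (nat_lit 286571011))) (.node (.leaf (nat_lit
    84052236)) (.leaf (nat_lit 547070469))))) (.node (.node (.node (.node (.leaf (nat_lit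
    16285445)) (.leaf (nat_lit 744338698))) (.leaf (nat_lit 224147723))) (.node (.leaf (nat_lit
    244982022)) (.leaf (nat_lit 204087820)))) (.node (.node (.leaf (nat_lit 43087368)) (.leaf
    (nat_lit 211322635))) (.node (.leaf (nat_lit 415441929)) (.leaf (nat_lit 563432452)))))) (.node
    (.node (.node (.node (.node (.leaf (nat_lit 37766657)) (.leaf (nat_lit 721263370))) (.leaf
    (nat_lit 544462609))) (.node (.leaf (nat_lit 262698247)) (.leaf (nat_lit 393394178)))) (.node
    (.node (.leaf (nat_lit 155797770)) (.leaf (nat_lit 588580613))) (.node (.leaf (nat_lit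
    138597394)) (.leaf (nat_lit 665137665))))) (.node (.node (.node (.leaf (nat_lit 92844300))
    (.leaf (nat_lit 265582609))) (.node (.leaf (nat_lit 294687493)) (.leaf (nat_lit 374604800))))
    (.node (.node (.leaf (nat_lit 84518150)) (.leaf (nat_lit 329424385))) (.node (.leaf (nat_lit
    472972044)) (.leaf (nat_lit 367356168))))))) (.node (.node (.node (.node (.node (.node (.leaf
    (nat_lit 16254468)) (.leaf (nat_lit 732794374))) (.leaf (nat_lit 529195791))) (.node (.leaf
    (nat_lit 60939019)) (.leaf (nat_lit 135948554)))) (.node (.node (.leaf (nat_lit 36253441))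
    (.leaf (nat_lit 480041490))) (.node (.leaf (nat_lit 358131215)) (.leaf (nat_lit 668075788)))))
    (.node (.node (.node (.node (.leaf (nat_lit 75505425)) (.leaf (nat_lit 654164233))) (.leaf
    (nat_lit 584678416))) (.node (.leaf (nat_lit 296330763)) (.leaf (nat_lit 678580491)))) (.node
    (.node (.leaf (nat_lit 47288067)) (.leaf (nat_lit 477431296))) (.node (.leaf (nat_lit
    451633167)) (.leaf (nat_lit 580213777)))))) (.node (.node (.node (.node (.node (.leaf (nat_lit
    50861316)) (.leaf (nat_lit 473278482))) (.leaf (nat_lit 554325259))) (.node (.leaf (nat_lit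
    277905166)) (.leaf (nat_lit 118143240)))) (.node (.node (.leaf (nat_lit 157900559)) (.leaf
    (nat_lit 249899523))) (.node (.leaf (nat_lit 399033099)) (.leaf (nat_lit 633683461))))) (.node
    (.node (.node (.leaf (nat_lit 23647489)) (.leaf (nat_lit 338468111))) (.node (.leaf (nat_lit
    328881667)) (.leaf (nat_lit 624551173)))) (.node (.node (.leaf (nat_lit 224477713)) (.leaf
    (nat_lit 409201664))) (.node (.leaf (nat_lit 336833283)) (.leaf (nat_lit 632075530))))))))
    (.node (.node (.node (.node (.node (.node (.node (.leaf (nat_lit 8913424)) (.leaf (nat_lit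
    567641612))) (.leaf (nat_lit 518775043))) (.node (.leaf (nat_lit 203017994)) (.leaf (nat_lit
    387150594)))) (.node (.node (.leaf (nat_lit 141106182)) (.leaf (nat_lit 645530122))) (.node
    (.leaf (nat_lit 348297233)) (.leaf (nat_lit 588579584))))) (.node (.node (.node (.node (.leaf
    (nat_lit 9965065)) (.leaf (nat_lit 723892993))) (.leaf (nat_lit 271862793))) (.node (.leaf
    (nat_lit 54119424)) (.leaf (nat_lit 292813056)))) (.node (.node (.leaf (nat_lit 201347854))
    (.leaf (nat_lit 556913410))) (.node (.leaf (nat_lit 436787457)) (.leaf (nat_lit 632116227))))))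
    (.node (.node (.node (.node (.node (.leaf (nat_lit 42488337)) (.leaf (nat_lit 746430727)))
    (.leaf (nat_lit 409213968))) (.node (.leaf (nat_lit 166330130)) (.leaf (nat_lit 322129666))))
    (.node (.node (.leaf (nat_lit 68768011)) (.leaf (nat_lit 682736400))) (.node (.leaf (nat_lit
    390642442)) (.leaf (nat_lit 645740297))))) (.node (.node (.node (.leaf (nat_lit 101197842))
    (.leaf (nat_lit 611421706))) (.node (.leaf (nat_lit 323643660)) (.leaf (nat_lit 431279874))))
    (.node (.node (.leaf (nat_lit 37291525)) (.leaf (nat_lit 473167104))) (.node (.leaf (nat_lit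
    485556754)) (.leaf (nat_lit 700725000))))))) (.node (.node (.node (.node (.node (.node (.leaf
    (nat_lit 32521985)) (.leaf (nat_lit 609588497))) (.leaf (nat_lit 537132817))) (.node (.leaf
    (nat_lit 61466882)) (.leaf (nat_lit 23644161)))) (.node (.node (.leaf (nat_lit 156318722))
    (.leaf (nat_lit 617410566))) (.node (.leaf (nat_lit 370716426)) (.leaf (nat_lit 682938385)))))
    (.node (.node (.node (.node (.leaf (nat_lit 25178368)) (.leaf (nat_lit 761120770))) (.leaf
    (nat_lit 267152145))) (.node (.leaf (nat_lit 307268625)) (.leaf (nat_lit 205699844)))) (.node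
    (.node (.leaf (nat_lit 65117713)) (.leaf (nat_lit 273831424))) (.node (.leaf (nat_lit
    463170307)) (.leaf (nat_lit 571751951)))))) (.node (.node (.node (.node (.node (.leaf (nat_lit
    59774478)) (.leaf (nat_lit 762639632))) (.leaf (nat_lit 559506952))) (.node (.leaf (nat_lit
    251796482)) (.leaf (nat_lit 320041224)))) (.node (.node (.leaf (nat_lit 42036228)) (.leaf
    (nat_lit 561811712))) (.node (.leaf (nat_lit 410044680)) (.leaf (nat_lit 622150657))))) (.node
    (.node (.node (.leaf (nat_lit 123783687)) (.leaf (nat_lit 587510026))) (.node (.leaf (nat_lit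
    194149903)) (.leaf (nat_lit 303280385)))) (.node (.node (.leaf (nat_lit 160546065)) (.leaf
    (nat_lit 273313282))) (.node (.leaf (nat_lit 152813573)) (.leaf (nat_lit 734684684)))))))))
    (.node (.node (.node (.node (.node (.node (.node (.node (.leaf (nat_lit 2622732)) (.leaf
    (nat_lit 725441287))) (.leaf (nat_lit 515451908))) (.node (.leaf (nat_lit 238590979)) (.leaf
    (nat_lit 398094089)))) (.node (.node (.leaf (nat_lit 142676742)) (.leaf (nat_lit 595903752)))
    (.node (.leaf (nat_lit 345547020)) (.leaf (nat_lit 300027147))))) (.node (.node (.node (.node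
    (.leaf (nat_lit 70280198)) (.leaf (nat_lit 767397138))) (.leaf (nat_lit 568083201))) (.node
    (.leaf (nat_lit 284828421)) (.leaf (nat_lit 311234304)))) (.node (.node (.leaf (nat_lit
    44661506)) (.leaf (nat_lit 17993216))) (.node (.leaf (nat_lit 427872522)) (.leaf (nat_lit
    713161218)))))) (.node (.node (.node (.node (.node (.leaf (nat_lit 7345926)) (.leaf (nat_lit
    754646026))) (.leaf (nat_lit 547970318))) (.node (.leaf (nat_lit 60943360)) (.leaf (nat_lit
    81936143)))) (.node (.node (.leaf (nat_lit 160518149)) (.leaf (nat_lit 233115394))) (.node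
    (.leaf (nat_lit 383301388)) (.leaf (nat_lit 385692679))))) (.node (.node (.node (.leaf (nat_lit
    56145170)) (.leaf (nat_lit 591168260))) (.node (.leaf (nat_lit 316182795)) (.leaf (nat_lit
    280782336)))) (.node (.node (.leaf (nat_lit 45674510)) (.leaf (nat_lit 95461389))) (.node
    (.leaf (nat_lit 139170313)) (.leaf (nat_lit 565013505))))))) (.node (.node (.node (.node (.node
    (.node (.leaf (nat_lit 25167623)) (.leaf (nat_lit 747805712))) (.leaf (nat_lit 249821441)))
    (.node (.leaf (nat_lit 71426065)) (.leaf (nat_lit 303266304)))) (.node (.node (.leaf (nat_lit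
    163594769)) (.leaf (nat_lit 654944273))) (.node (.leaf (nat_lit 363507983)) (.leaf (nat_lit
    387255296))))) (.node (.node (.node (.node (.leaf (nat_lit 75536131)) (.leaf (nat_lit
    774668560))) (.leaf (nat_lit 383017474))) (.node (.leaf (nat_lit 195180547)) (.leaf (nat_lit
    96600594)))) (.node (.node (.leaf (nat_lit 82940943)) (.leaf (nat_lit 596379658))) (.node
    (.leaf (nat_lit 420177671)) (.leaf (nat_lit 721221889)))))) (.node (.node (.node (.node (.node
    (.leaf (nat_lit 55055107)) (.leaf (nat_lit 761024522))) (.leaf (nat_lit 350395142))) (.node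
    (.leaf (nat_lit 68818434)) (.leaf (nat_lit 325732869)))) (.node (.node (.leaf (nat_lit
    50946826)) (.leaf (nat_lit 695988231))) (.node (.leaf (nat_lit 404827910)) (.leaf (nat_lit
    647142162))))) (.node (.node (.node (.leaf (nat_lit 116973579)) (.leaf (nat_lit 524592898)))
    (.node (.leaf (nat_lit 86669574)) (.leaf (nat_lit 161745152)))) (.node (.node (.leaf (nat_lit
    209826821)) (.leaf (nat_lit 466874880))) (.node (.leaf (nat_lit 424391938)) (.leaf (nat_lit
    613774850)))))))) (.node (.node (.node (.node (.node (.node (.node (.leaf (nat_lit 13113612))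
    (.leaf (nat_lit 718637576))) (.leaf (nat_lit 393472005))) (.node (.leaf (nat_lit 206690057))
    (.leaf (nat_lit 120657408)))) (.node (.node (.leaf (nat_lit 37300231)) (.leaf (nat_lit
    649699848))) (.node (.leaf (nat_lit 136487429)) (.leaf (nat_lit 473234944))))) (.node (.node
    (.node (.node (.leaf (nat_lit 59279623)) (.leaf (nat_lit 771079690))) (.leaf (nat_lit
    582756357))) (.node (.leaf (nat_lit 292587528)) (.leaf (nat_lit 292235264)))) (.node (.node
    (.leaf (nat_lit 44140305)) (.leaf (nat_lit 348320512))) (.node (.leaf (nat_lit 331043588))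
    (.leaf (nat_lit 717357322)))))) (.node (.node (.node (.node (.node (.leaf (nat_lit 17849605))
    (.leaf (nat_lit 558212103))) (.leaf (nat_lit 189397762))) (.node (.leaf (nat_lit 272137485))
    (.leaf (nat_lit 301100293)))) (.node (.node (.leaf (nat_lit 180963075)) (.leaf (nat_lit
    689553681))) (.node (.leaf (nat_lit 395361550)) (.leaf (nat_lit 701776914))))) (.node (.node
    (.node (.leaf (nat_lit 105392397)) (.leaf (nat_lit 530879762))) (.node (.leaf (nat_lit
    278556688)) (.leaf (nat_lit 385676552)))) (.node (.node (.leaf (nat_lit 141102601)) (.leaf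
    (nat_lit 615671302))) (.node (.leaf (nat_lit 488823045)) (.leaf (nat_lit 668273930)))))))
    (.node (.node (.node (.node (.node (.node (.leaf (nat_lit 33047812)) (.leaf (nat_lit
    743806993))) (.leaf (nat_lit 179570700))) (.node (.leaf (nat_lit 259649295)) (.leaf (nat_lit
    424824837)))) (.node (.node (.leaf (nat_lit 169886989)) (.leaf (nat_lit 667528977))) (.node
    (.leaf (nat_lit 324717065)) (.leaf (nat_lit 549254155))))) (.node (.node (.node (.leaf (nat_lit
    86516738)) (.leaf (nat_lit 252998155))) (.node (.leaf (nat_lit 312611084)) (.leaf (nat_lit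
    252884738)))) (.node (.node (.leaf (nat_lit 28899328)) (.leaf (nat_lit 436460032))) (.node
    (.leaf (nat_lit 344161808)) (.leaf (nat_lit 724700684)))))) (.node (.node (.node (.node (.node
    (.leaf (nat_lit 64493328)) (.leaf (nat_lit 764767504))) (.leaf (nat_lit 561262096))) (.node
    (.leaf (nat_lit 177812485)) (.leaf (nat_lit 282834432)))) (.node (.node (.leaf (nat_lit
    82407941)) (.leaf (nat_lit 575956746))) (.node (.leaf (nat_lit 416861956)) (.leaf (nat_lit
    575490050))))) (.node (.node (.node (.leaf (nat_lit 127938576)) (.leaf (nat_lit 635036422)))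
    (.node (.leaf (nat_lit 166888460)) (.leaf (nat_lit 591584009)))) (.node (.node (.leaf (nat_lit
    213499910)) (.leaf (nat_lit 153288201))) (.node (.leaf (nat_lit 507585297)) (.leaf (nat_lit
    736782098)))))))))) (.node (.node (.node (.node (.node (.node (.node (.node (.node (.leaf
    (nat_lit 1049605)) (.leaf (nat_lit 740044048))) (.leaf (nat_lit 512830211))) (.node (.leaf
    (nat_lit 54642183)) (.leaf (nat_lit 548616709)))) (.node (.node (.leaf (nat_lit 29429775))
    (.leaf (nat_lit 638370560))) (.node (.leaf (nat_lit 135957766)) (.leaf (nat_lit 275408128)))))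
    (.node (.node (.node (.node (.leaf (nat_lit 68164355)) (.leaf (nat_lit 732280335))) (.leaf
    (nat_lit 570521103))) (.node (.leaf (nat_lit 286925585)) (.leaf (nat_lit 310669056)))) (.node
    (.node (.leaf (nat_lit 188839688)) (.leaf (nat_lit 248297216))) (.node (.leaf (nat_lit
    424726546)) (.leaf (nat_lit 270880018)))))) (.node (.node (.node (.node (.node (.leaf (nat_lit
    39849217)) (.leaf (nat_lit 572890372))) (.leaf (nat_lit 545872908))) (.node (.leaf (nat_lit
    205125893)) (.leaf (nat_lit 103849490)))) (.node (.node (.leaf (nat_lit 174090754)) (.leaf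
    (nat_lit 532482305))) (.node (.leaf (nat_lit 340449039)) (.leaf (nat_lit 431251469))))) (.node
    (.node (.node (.leaf (nat_lit 91796237)) (.leaf (nat_lit 603031823))) (.node (.leaf (nat_lit
    314085387)) (.leaf (nat_lit 174770703)))) (.node (.node (.leaf (nat_lit 101229575)) (.leaf
    (nat_lit 115948288))) (.node (.leaf (nat_lit 474713860)) (.leaf (nat_lit 717580817)))))))
    (.node (.node (.node (.node (.node (.node (.leaf (nat_lit 18359056)) (.leaf (nat_lit
    746756880))) (.leaf (nat_lit 532759311))) (.node (.leaf (nat_lit 250207755)) (.leaf (nat_lit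
    366174213)))) (.node (.node (.leaf (nat_lit 160973073)) (.leaf (nat_lit 226286601))) (.node
    (.leaf (nat_lit 361277200)) (.leaf (nat_lit 222956549))))) (.node (.node (.node (.node (.leaf
    (nat_lit 77602830)) (.leaf (nat_lit 721797897))) (.leaf (nat_lit 585910790))) (.node (.leaf
    (nat_lit 198326032)) (.leaf (nat_lit 218308623)))) (.node (.node (.leaf (nat_lit 200380676))
    (.leaf (nat_lit 249682956))) (.node (.leaf (nat_lit 322116370)) (.leaf (nat_lit 719985667))))))
    (.node (.node (.node (.node (.node (.leaf (nat_lit 51927826)) (.leaf (nat_lit 633711119)))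
    (.leaf (nat_lit 193733379))) (.node (.leaf (nat_lit 279032587)) (.leaf (nat_lit 89808385))))
    (.node (.node (.leaf (nat_lit 40460805)) (.leaf (nat_lit 248327170))) (.node (.leaf (nat_lit
    399179781)) (.leaf (nat_lit 697646852))))) (.node (.node (.node (.leaf (nat_lit 29940737))
    (.leaf (nat_lit 615293186))) (.node (.leaf (nat_lit 330436612)) (.leaf (nat_lit 235018764))))
    (.node (.node (.leaf (nat_lit 222408449)) (.leaf (nat_lit 236136975))) (.node (.leaf (nat_lit
    374058760)) (.leaf (nat_lit 731547907)))))))) (.node (.node (.node (.node (.node (.node (.node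
    (.leaf (nat_lit 8393994)) (.leaf (nat_lit 743082506))) (.leaf (nat_lit 524368908))) (.node
    (.leaf (nat_lit 244347395)) (.leaf (nat_lit 105535489)))) (.node (.node (.leaf (nat_lit
    152582667)) (.leaf (nat_lit 649175559))) (.node (.leaf (nat_lit 350266122)) (.leaf (nat_lit
    341632016))))) (.node (.node (.node (.node (.leaf (nat_lit 70785808)) (.leaf (nat_lit
    743816459))) (.leaf (nat_lit 578035218))) (.node (.leaf (nat_lit 216148741)) (.leaf (nat_lit
    499948032)))) (.node (.node (.leaf (nat_lit 45188097)) (.leaf (nat_lit 295859712))) (.node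
    (.leaf (nat_lit 439934220)) (.leaf (nat_lit 293426690)))))) (.node (.node (.node (.node (.node
    (.leaf (nat_lit 47208977)) (.leaf (nat_lit 576561937))) (.leaf (nat_lit 186737676))) (.node
    (.leaf (nat_lit 269515783)) (.leaf (nat_lit 136988673)))) (.node (.node (.leaf (nat_lit
    160519942)) (.leaf (nat_lit 373627905))) (.node (.leaf (nat_lit 393264136)) (.leaf (nat_lit
    431307025))))) (.node (.node (.node (.leaf (nat_lit 101237767)) (.leaf (nat_lit 218908935)))
    (.node (.leaf (nat_lit 311061772)) (.leaf (nat_lit 677034506)))) (.node (.node (.leaf (nat_lit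
    138476809)) (.leaf (nat_lit 424908043))) (.node (.leaf (nat_lit 487129864)) (.leaf (nat_lit
    729558533))))))) (.node (.node (.node (.node (.node (.node (.leaf (nat_lit 34605576)) (.leaf
    (nat_lit 750057738))) (.leaf (nat_lit 539577617))) (.node (.leaf (nat_lit 256982288)) (.leaf
    (nat_lit 375073792)))) (.node (.node (.leaf (nat_lit 167292173)) (.leaf (nat_lit 618984197)))
    (.node (.leaf (nat_lit 371902210)) (.leaf (nat_lit 552720651))))) (.node (.node (.node (.node
    (.leaf (nat_lit 81815816)) (.leaf (nat_lit 776815879))) (.leaf (nat_lit 595704323))) (.node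
    (.leaf (nat_lit 98717955)) (.leaf (nat_lit 232478723)))) (.node (.node (.leaf (nat_lit
    17866253)) (.leaf (nat_lit 275826178))) (.node (.leaf (nat_lit 463697929)) (.leaf (nat_lit
    723651346)))))) (.node (.node (.node (.node (.node (.leaf (nat_lit 44070406)) (.leaf (nat_lit
    758493185))) (.leaf (nat_lit 196881410))) (.node (.leaf (nat_lit 177820432)) (.leaf (nat_lit
    418568714)))) (.node (.node (.leaf (nat_lit 43085317)) (.leaf (nat_lit 215609601))) (.node
    (.leaf (nat_lit 411767561)) (.leaf (nat_lit 708134415))))) (.node (.node (.node (.leaf (nat_lit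
    124834824)) (.leaf (nat_lit 632396803))) (.node (.leaf (nat_lit 335708172)) (.leaf (nat_lit
    593274634)))) (.node (.node (.leaf (nat_lit 213489161)) (.leaf (nat_lit 103917062))) (.node
    (.leaf (nat_lit 182698502)) (.leaf (nat_lit 735272970))))))))) (.node (.node (.node (.node
    (.node (.node (.node (.node (.leaf (nat_lit 5769988)) (.leaf (nat_lit 730694929))) (.leaf
    (nat_lit 335272449))) (.node (.leaf (nat_lit 240747529)) (.leaf (nat_lit 113330438)))) (.node
    (.node (.leaf (nat_lit 146818057)) (.leaf (nat_lit 643407890))) (.node (.leaf (nat_lit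
    347120135)) (.leaf (nat_lit 222952712))))) (.node (.node (.node (.node (.leaf (nat_lit
    7368192)) (.leaf (nat_lit 719698177))) (.leaf (nat_lit 576288775))) (.node (.leaf (nat_lit
    159468801)) (.leaf (nat_lit 463078159)))) (.node (.node (.leaf (nat_lit 199790347)) (.leaf
    (nat_lit 249725440))) (.node (.leaf (nat_lit 433116945)) (.leaf (nat_lit 713833234)))))) (.node
    (.node (.node (.node (.node (.leaf (nat_lit 18370309)) (.leaf (nat_lit 567648260))) (.leaf
    (nat_lit 344725251))) (.node (.leaf (nat_lit 266467587)) (.leaf (nat_lit 300631815)))) (.node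
    (.node (.leaf (nat_lit 177752333)) (.leaf (nat_lit 240422664))) (.node (.leaf (nat_lit
    387013639)) (.leaf (nat_lit 394606081))))) (.node (.node (.node (.leaf (nat_lit 97527566))
    (.leaf (nat_lit 608275471))) (.node (.leaf (nat_lit 230842374)) (.leaf (nat_lit 115969039))))
    (.node (.node (.leaf (nat_lit 25228049)) (.leaf (nat_lit 23086080))) (.node (.leaf (nat_lit
    479434503)) (.leaf (nat_lit 340094225))))))) (.node (.node (.node (.node (.node (.node (.leaf
    (nat_lit 4733965)) (.leaf (nat_lit 642093825))) (.leaf (nat_lit 516160518))) (.node (.leaf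
    (nat_lit 251258124)) (.leaf (nat_lit 483076107)))) (.node (.node (.leaf (nat_lit 93403405))
    (.leaf (nat_lit 226813446))) (.node (.leaf (nat_lit 126007824)) (.leaf (nat_lit 585833997)))))
    (.node (.node (.node (.node (.leaf (nat_lit 538112)) (.leaf (nat_lit 745391627))) (.leaf
    (nat_lit 205285127))) (.node (.leaf (nat_lit 300452866)) (.leaf (nat_lit 326418949)))) (.node
    (.node (.leaf (nat_lit 214456594)) (.leaf (nat_lit 124862720))) (.node (.leaf (nat_lit
    460385038)) (.leaf (nat_lit 305488137)))))) (.node (.node (.node (.node (.node (.leaf (nat_lit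
    58748945)) (.leaf (nat_lit 558738693))) (.leaf (nat_lit 556885002))) (.node (.leaf (nat_lit
    244980229)) (.leaf (nat_lit 135995395)))) (.node (.node (.leaf (nat_lit 187787280)) (.leaf
    (nat_lit 697086730))) (.node (.leaf (nat_lit 169543433)) (.leaf (nat_lit 654131714))))) (.node
    (.node (.node (.leaf (nat_lit 121122059)) (.leaf (nat_lit 628726274))) (.node (.leaf (nat_lit
    138574609)) (.leaf (nat_lit 214538507)))) (.node (.node (.leaf (nat_lit 202488079)) (.leaf
    (nat_lit 79733761))) (.node (.leaf (nat_lit 500380934)) (.leaf (nat_lit 733809923))))))))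
    (.node (.node (.node (.node (.node (.node (.node (.leaf (nat_lit 15211788)) (.leaf (nat_lit
    654137611))) (.leaf (nat_lit 375122956))) (.node (.leaf (nat_lit 78764549)) (.leaf (nat_lit
    136397570)))) (.node (.node (.leaf (nat_lit 157302539)) (.leaf (nat_lit 545029384))) (.node
    (.leaf (nat_lit 109749762)) (.leaf (nat_lit 570755078))))) (.node (.node (.node (.node (.leaf
    (nat_lit 65571595)) (.leaf (nat_lit 652591119))) (.leaf (nat_lit 289014027))) (.node (.leaf
    (nat_lit 80884738)) (.leaf (nat_lit 537054723)))) (.node (.node (.leaf (nat_lit 200903683))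
    (.leaf (nat_lit 134991360))) (.node (.leaf (nat_lit 449372431)) (.leaf (nat_lit 718025987))))))
    (.node (.node (.node (.node (.node (.leaf (nat_lit 48258823)) (.leaf (nat_lit 710780427)))
    (.leaf (nat_lit 197402639))) (.node (.leaf (nat_lit 273812994)) (.leaf (nat_lit 586835205))))
    (.node (.node (.leaf (nat_lit 182016515)) (.leaf (nat_lit 236791312))) (.node (.leaf (nat_lit
    397984267)) (.leaf (nat_lit 699715342))))) (.node (.node (.node (.leaf (nat_lit 26791682))
    (.leaf (nat_lit 617189646))) (.node (.leaf (nat_lit 109722886)) (.leaf (nat_lit 297031946))))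
    (.node (.node (.leaf (nat_lit 83994374)) (.leaf (nat_lit 94964495))) (.node (.leaf (nat_lit
    138651396)) (.leaf (nat_lit 676688400))))))) (.node (.node (.node (.node (.node (.node (.leaf
    (nat_lit 9966592)) (.leaf (nat_lit 611686927))) (.leaf (nat_lit 542903311))) (.node (.leaf
    (nat_lit 260600844)) (.leaf (nat_lit 626672387)))) (.node (.node (.leaf (nat_lit 171001602))
    (.leaf (nat_lit 617415173))) (.node (.leaf (nat_lit 377008906)) (.leaf (nat_lit 667126289)))))
    (.node (.node (.node (.leaf (nat_lit 91235345)) (.leaf (nat_lit 598504719))) (.node (.leaf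
    (nat_lit 73436416)) (.leaf (nat_lit 208802058)))) (.node (.node (.leaf (nat_lit 126414857))
    (.leaf (nat_lit 227710736))) (.node (.leaf (nat_lit 471039495)) (.leaf (nat_lit 557148166))))))
    (.node (.node (.node (.node (.node (.leaf (nat_lit 65544705)) (.leaf (nat_lit 764785417)))
    (.leaf (nat_lit 340538374))) (.node (.leaf (nat_lit 228728331)) (.leaf (nat_lit 270276608))))
    (.node (.node (.leaf (nat_lit 190935823)) (.leaf (nat_lit 597459973))) (.node (.leaf (nat_lit
    418434828)) (.leaf (nat_lit 428165637))))) (.node (.node (.node (.leaf (nat_lit 132133636))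
    (.leaf (nat_lit 636253959))) (.node (.leaf (nat_lit 274368266)) (.leaf (nat_lit 290118408))))
    (.node (.node (.leaf (nat_lit 235520523)) (.leaf (nat_lit 675418123))) (.node (.leaf (nat_lit
    343657232)) (.leaf (nat_lit 563969807)))))))))))) (.node (.node (.node (.node (.node (.node
    (.node (.node (.node (.node (.node (.leaf (nat_lit 524295)) (.leaf (nat_lit 738557961))) (.leaf
    (nat_lit 398707985))) (.node (.leaf (nat_lit 237004299)) (.leaf (nat_lit 323698688)))) (.node
    (.node (.leaf (nat_lit 105972746)) (.leaf (nat_lit 233094917))) (.node (.leaf (nat_lit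
    339904012)) (.leaf (nat_lit 547111683))))) (.node (.node (.node (.node (.leaf (nat_lit
    66068489)) (.leaf (nat_lit 733852680))) (.leaf (nat_lit 566326542))) (.node (.leaf (nat_lit
    285876495)) (.leaf (nat_lit 244496640)))) (.node (.node (.leaf (nat_lit 195654921)) (.leaf
    (nat_lit 194155264))) (.node (.leaf (nat_lit 169550604)) (.leaf (nat_lit 710757129)))))) (.node
    (.node (.node (.node (.node (.leaf (nat_lit 33572871)) (.leaf (nat_lit 737516297))) (.leaf
    (nat_lit 544299792))) (.node (.leaf (nat_lit 259650562)) (.leaf (nat_lit 312129292)))) (.node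
    (.node (.leaf (nat_lit 38881538)) (.leaf (nat_lit 667747852))) (.node (.leaf (nat_lit
    184734469)) (.leaf (nat_lit 632075269))))) (.node (.node (.node (.leaf (nat_lit 46706950))
    (.leaf (nat_lit 599885830))) (.node (.leaf (nat_lit 294687749)) (.leaf (nat_lit 96031503))))
    (.node (.node (.leaf (nat_lit 116444425)) (.leaf (nat_lit 104494085))) (.node (.leaf (nat_lit
    471921170)) (.leaf (nat_lit 385706245))))))) (.node (.node (.node (.node (.node (.node (.leaf
    (nat_lit 16778754)) (.leaf (nat_lit 732269826))) (.leaf (nat_lit 529088778))) (.node (.leaf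
    (nat_lit 78764806)) (.leaf (nat_lit 677086722)))) (.node (.node (.leaf (nat_lit 158875664))
    (.leaf (nat_lit 650777609))) (.node (.leaf (nat_lit 348301825)) (.leaf (nat_lit 347735826)))))
    (.node (.node (.node (.node (.leaf (nat_lit 19959298)) (.leaf (nat_lit 759021836))) (.leaf
    (nat_lit 208427522))) (.node (.leaf (nat_lit 279065857)) (.leaf (nat_lit 312074498)))) (.node
    (.node (.leaf (nat_lit 208768783)) (.leaf (nat_lit 132369664))) (.node (.leaf (nat_lit
    452519439)) (.leaf (nat_lit 580737546)))))) (.node (.node (.node (.node (.node (.leaf (nat_lit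
    15753478)) (.leaf (nat_lit 665692177))) (.leaf (nat_lit 326902022))) (.node (.leaf (nat_lit
    87689739)) (.leaf (nat_lit 409028112)))) (.node (.node (.leaf (nat_lit 182541575)) (.leaf
    (nat_lit 277686545))) (.node (.leaf (nat_lit 228259855)) (.leaf (nat_lit 703718923))))) (.node
    (.node (.node (.leaf (nat_lit 111684356)) (.leaf (nat_lit 382508033))) (.node (.leaf (nat_lit
    328767498)) (.leaf (nat_lit 572288520)))) (.node (.node (.leaf (nat_lit 223947538)) (.leaf
    (nat_lit 102275852))) (.node (.leaf (nat_lit 407611909)) (.leaf (nat_lit 715403787))))))))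
    (.node (.node (.node (.node (.node (.node (.node (.leaf (nat_lit 7864846)) (.leaf (nat_lit
    740656644))) (.leaf (nat_lit 161210126))) (.node (.leaf (nat_lit 240242178)) (.leaf (nat_lit
    386981386)))) (.node (.node (.leaf (nat_lit 119085829)) (.leaf (nat_lit 645505286))) (.node
    (.leaf (nat_lit 131660804)) (.leaf (nat_lit 402785292))))) (.node (.node (.node (.node (.leaf
    (nat_lit 14186496)) (.leaf (nat_lit 745388553))) (.leaf (nat_lit 559172614))) (.node (.leaf
    (nat_lit 67665933)) (.leaf (nat_lit 60073216)))) (.node (.node (.leaf (nat_lit 46759682))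
    (.leaf (nat_lit 257542411))) (.node (.leaf (nat_lit 424886274)) (.leaf (nat_lit 266687244))))))
    (.node (.node (.node (.node (.node (.leaf (nat_lit 8933644)) (.leaf (nat_lit 753246473)))
    (.leaf (nat_lit 546052616))) (.node (.leaf (nat_lit 229244433)) (.leaf (nat_lit 277500164))))
    (.node (.node (.leaf (nat_lit 81867531)) (.leaf (nat_lit 681334024))) (.node (.leaf (nat_lit
    167438087)) (.leaf (nat_lit 609564417))))) (.node (.node (.node (.leaf (nat_lit 21020167))
    (.leaf (nat_lit 610897416))) (.node (.leaf (nat_lit 322070283)) (.leaf (nat_lit 214538508))))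
    (.node (.node (.leaf (nat_lit 154732043)) (.leaf (nat_lit 36230144))) (.node (.leaf (nat_lit
    136027148)) (.leaf (nat_lit 341063425))))))) (.node (.node (.node (.node (.node (.node (.leaf
    (nat_lit 32521737)) (.leaf (nat_lit 632132620))) (.leaf (nat_lit 536955920))) (.node (.leaf
    (nat_lit 256406275)) (.leaf (nat_lit 321103872)))) (.node (.node (.leaf (nat_lit 165692424))
    (.leaf (nat_lit 223073298))) (.node (.leaf (nat_lit 357220625)) (.leaf (nat_lit 681733387)))))
    (.node (.node (.node (.node (.leaf (nat_lit 22031366)) (.leaf (nat_lit 775773962))) (.leaf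
    (nat_lit 232024838))) (.node (.leaf (nat_lit 305695756)) (.leaf (nat_lit 645641224)))) (.node
    (.node (.leaf (nat_lit 216632580)) (.leaf (nat_lit 76174336))) (.node (.leaf (nat_lit
    463006986)) (.leaf (nat_lit 571752207)))))) (.node (.node (.node (.node (.node (.leaf (nat_lit
    58749455)) (.leaf (nat_lit 757444098))) (.leaf (nat_lit 192162314))) (.node (.leaf (nat_lit
    283253775)) (.leaf (nat_lit 304244226)))) (.node (.node (.leaf (nat_lit 189884946)) (.leaf
    (nat_lit 263500288))) (.node (.leaf (nat_lit 359336720)) (.leaf (nat_lit 440222475))))) (.node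
    (.node (.node (.leaf (nat_lit 123744258)) (.leaf (nat_lit 629774852))) (.node (.leaf (nat_lit
    332561926)) (.leaf (nat_lit 124066560)))) (.node (.node (.leaf (nat_lit 179420421)) (.leaf
    (nat_lit 277502976))) (.node (.leaf (nat_lit 500940294)) (.leaf (nat_lit 734277127)))))))))
    (.node (.node (.node (.node (.node (.node (.node (.node (.leaf (nat_lit 2098441)) (.leaf
    (nat_lit 400917256))) (.leaf (nat_lit 514524945))) (.node (.leaf (nat_lit 95012610)) (.leaf
    (nat_lit 348286721)))) (.node (.node (.leaf (nat_lit 143669251)) (.leaf (nat_lit 636254736)))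
    (.node (.leaf (nat_lit 99258889)) (.leaf (nat_lit 222957833))))) (.node (.node (.node (.node
    (.leaf (nat_lit 56657157)) (.leaf (nat_lit 736474893))) (.leaf (nat_lit 571569681))) (.node
    (.leaf (nat_lit 254945029)) (.leaf (nat_lit 689680649)))) (.node (.node (.leaf (nat_lit
    190937609)) (.leaf (nat_lit 211450381))) (.node (.leaf (nat_lit 426823944)) (.leaf (nat_lit
    707612422)))))) (.node (.node (.node (.node (.node (.leaf (nat_lit 12588812)) (.leaf (nat_lit
    754283787))) (.leaf (nat_lit 387715585))) (.node (.leaf (nat_lit 260699653)) (.leaf (nat_lit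
    319438604)))) (.node (.node (.leaf (nat_lit 67194635)) (.leaf (nat_lit 678541578))) (.node
    (.leaf (nat_lit 182639119)) (.leaf (nat_lit 645739522))))) (.node (.node (.node (.leaf (nat_lit
    93369606)) (.leaf (nat_lit 537166343))) (.node (.leaf (nat_lit 102390018)) (.leaf (nat_lit
    116479502)))) (.node (.node (.leaf (nat_lit 89697039)) (.leaf (nat_lit 615738129))) (.node
    (.leaf (nat_lit 479264016)) (.leaf (nat_lit 727337479))))))) (.node (.node (.node (.node (.node
    (.node (.leaf (nat_lit 23070467)) (.leaf (nat_lit 706056454))) (.leaf (nat_lit 516684047)))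
    (.node (.leaf (nat_lit 251686918)) (.leaf (nat_lit 296372992)))) (.node (.node (.leaf (nat_lit
    161036044)) (.leaf (nat_lit 224190220))) (.node (.leaf (nat_lit 363375620)) (.leaf (nat_lit
    200482560))))) (.node (.node (.node (.node (.leaf (nat_lit 67643143)) (.leaf (nat_lit
    774168326))) (.leaf (nat_lit 587824653))) (.node (.leaf (nat_lit 198326287)) (.leaf (nat_lit
    178969600)))) (.node (.node (.leaf (nat_lit 211310348)) (.leaf (nat_lit 16432384))) (.node
    (.leaf (nat_lit 294872578)) (.leaf (nat_lit 620584459)))))) (.node (.node (.node (.node (.node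
    (.leaf (nat_lit 54006529)) (.leaf (nat_lit 744336130))) (.leaf (nat_lit 222569224))) (.node
    (.leaf (nat_lit 279561486)) (.leaf (nat_lit 307389440)))) (.node (.node (.leaf (nat_lit
    76636934)) (.leaf (nat_lit 296562450))) (.node (.leaf (nat_lit 404801538)) (.leaf (nat_lit
    704956424))))) (.node (.node (.node (.leaf (nat_lit 116927498)) (.leaf (nat_lit 341091856)))
    (.node (.leaf (nat_lit 331399944)) (.leaf (nat_lit 161620746)))) (.node (.node (.leaf (nat_lit
    221885442)) (.leaf (nat_lit 104940544))) (.node (.leaf (nat_lit 496568586)) (.leaf (nat_lit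
    700806402)))))))) (.node (.node (.node (.node (.node (.node (.node (.leaf (nat_lit 13113615))
    (.leaf (nat_lit 743607052))) (.leaf (nat_lit 523955462))) (.node (.leaf (nat_lit 246442510))
    (.leaf (nat_lit 98621696)))) (.node (.node (.leaf (nat_lit 154680842)) (.leaf (nat_lit
    544003588))) (.node (.leaf (nat_lit 352363533)) (.leaf (nat_lit 218234384))))) (.node (.node
    (.node (.node (.leaf (nat_lit 15763469)) (.leaf (nat_lit 769506821))) (.leaf (nat_lit
    582058499))) (.node (.leaf (nat_lit 252325125)) (.leaf (nat_lit 364677888)))) (.node (.node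
    (.leaf (nat_lit 205018127)) (.leaf (nat_lit 89697033))) (.node (.leaf (nat_lit 399724562))
    (.leaf (nat_lit 716980236)))))) (.node (.node (.node (.node (.node (.leaf (nat_lit 48240137))
    (.leaf (nat_lit 752198661))) (.leaf (nat_lit 189360396))) (.node (.leaf (nat_lit 232391687))
    (.leaf (nat_lit 124404492)))) (.node (.node (.leaf (nat_lit 172054785)) (.leaf (nat_lit
    689029391))) (.node (.leaf (nat_lit 100856066)) (.leaf (nat_lit 292895242))))) (.node (.node
    (.node (.leaf (nat_lit 32032786)) (.leaf (nat_lit 588551440))) (.node (.leaf (nat_lit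
    102395905)) (.leaf (nat_lit 428553733)))) (.node (.node (.leaf (nat_lit 154729742)) (.leaf
    (nat_lit 492511755))) (.node (.leaf (nat_lit 488350476)) (.leaf (nat_lit 730165257)))))))
    (.node (.node (.node (.node (.node (.node (.leaf (nat_lit 33047557)) (.leaf (nat_lit
    748001034))) (.leaf (nat_lit 179046156))) (.node (.leaf (nat_lit 65138178)) (.leaf (nat_lit
    492374786)))) (.node (.node (.leaf (nat_lit 168896259)) (.leaf (nat_lit 667004688))) (.node
    (.leaf (nat_lit 374387210)) (.leaf (nat_lit 594872841))))) (.node (.node (.node (.leaf (nat_lit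
    85500689)) (.leaf (nat_lit 205812227))) (.node (.leaf (nat_lit 312512519)) (.leaf (nat_lit
    495755785)))) (.node (.node (.leaf (nat_lit 22599168)) (.leaf (nat_lit 424414976))) (.node
    (.leaf (nat_lit 415988738)) (.leaf (nat_lit 724313104)))))) (.node (.node (.node (.node (.node
    (.leaf (nat_lit 19953926)) (.leaf (nat_lit 574468362))) (.leaf (nat_lit 560737283))) (.node
    (.leaf (nat_lit 177346062)) (.leaf (nat_lit 394031104)))) (.node (.node (.leaf (nat_lit
    85553413)) (.leaf (nat_lit 632563201))) (.node (.leaf (nat_lit 415293190)) (.leaf (nat_lit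
    701318925))))) (.node (.node (.node (.leaf (nat_lit 27324679)) (.leaf (nat_lit 634494475)))
    (.node (.leaf (nat_lit 184713990)) (.leaf (nat_lit 495748865)))) (.node (.node (.leaf (nat_lit
    234471183)) (.leaf (nat_lit 548601346))) (.node (.leaf (nat_lit 506536465)) (.leaf (nat_lit
    736257809)))))))))) (.node (.node (.node (.node (.node (.node (.node (.node (.node (.leaf
    (nat_lit 2098178)) (.leaf (nat_lit 739606530))) (.leaf (nat_lit 511781137))) (.node (.leaf
    (nat_lit 237588995)) (.leaf (nat_lit 120842496)))) (.node (.node (.leaf (nat_lit 28904711))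
    (.leaf (nat_lit 596952071))) (.node (.leaf (nat_lit 313691138)) (.leaf (nat_lit 618982912)))))
    (.node (.node (.node (.node (.leaf (nat_lit 55607557)) (.leaf (nat_lit 624276994))) (.leaf
    (nat_lit 568455946))) (.node (.leaf (nat_lit 251798017)) (.leaf (nat_lit 604696577)))) (.node
    (.node (.leaf (nat_lit 197222929)) (.leaf (nat_lit 11189760))) (.node (.leaf (nat_lit
    361441542)) (.leaf (nat_lit 711696911)))))) (.node (.node (.node (.node (.node (.leaf (nat_lit
    38800396)) (.leaf (nat_lit 741711115))) (.leaf (nat_lit 517214209))) (.node (.leaf (nat_lit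
    263746829)) (.leaf (nat_lit 76157196)))) (.node (.node (.leaf (nat_lit 173557522)) (.leaf
    (nat_lit 510462223))) (.node (.leaf (nat_lit 98752005)) (.leaf (nat_lit 403467790))))) (.node
    (.node (.node (.leaf (nat_lit 45129736)) (.leaf (nat_lit 219446273))) (.node (.leaf (nat_lit
    312518146)) (.leaf (nat_lit 179522304)))) (.node (.node (.leaf (nat_lit 82886400)) (.leaf
    (nat_lit 171616000))) (.node (.leaf (nat_lit 476642319)) (.leaf (nat_lit 546138627)))))))
    (.node (.node (.node (.node (.node (.node (.leaf (nat_lit 17834763)) (.leaf (nat_lit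
    746415878))) (.leaf (nat_lit 531826450))) (.node (.leaf (nat_lit 64521994)) (.leaf (nat_lit
    420700161)))) (.node (.node (.leaf (nat_lit 159985938)) (.leaf (nat_lit 226286598))) (.node
    (.leaf (nat_lit 229813764)) (.leaf (nat_lit 211088896))))) (.node (.node (.node (.node (.leaf
    (nat_lit 76583436)) (.leaf (nat_lit 754828047))) (.leaf (nat_lit 199515154))) (.node (.leaf
    (nat_lit 192034563)) (.leaf (nat_lit 427920641)))) (.node (.node (.leaf (nat_lit 83988739))
    (.leaf (nat_lit 80224527))) (.node (.leaf (nat_lit 437997575)) (.leaf (nat_lit 720144132))))))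
    (.node (.node (.node (.node (.node (.leaf (nat_lit 51405330)) (.leaf (nat_lit 633710866)))
    (.leaf (nat_lit 230317573))) (.node (.leaf (nat_lit 81400833)) (.leaf (nat_lit 79846922))))
    (.node (.node (.leaf (nat_lit 164716805)) (.leaf (nat_lit 693949704))) (.node (.leaf (nat_lit
    401131023)) (.leaf (nat_lit 646266629))))) (.node (.node (.node (.leaf (nat_lit 28891649))
    (.leaf (nat_lit 587505666))) (.node (.leaf (nat_lit 330340609)) (.leaf (nat_lit 289187599))))
    (.node (.node (.leaf (nat_lit 210873861)) (.leaf (nat_lit 137177088))) (.node (.leaf (nat_lit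
    493946884)) (.leaf (nat_lit 500003585)))))))) (.node (.node (.node (.node (.node (.node (.node
    (.leaf (nat_lit 11010831)) (.leaf (nat_lit 385714193))) (.leaf (nat_lit 522795522))) (.node
    (.leaf (nat_lit 239718924)) (.leaf (nat_lit 496160005)))) (.node (.node (.leaf (nat_lit
    143728646)) (.leaf (nat_lit 252499217))) (.node (.leaf (nat_lit 349241605)) (.leaf (nat_lit
    132344590))))) (.node (.node (.node (.node (.leaf (nat_lit 55596297)) (.leaf (nat_lit
    754301961))) (.leaf (nat_lit 578040069))) (.node (.leaf (nat_lit 242362886)) (.leaf (nat_lit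
    448551680)))) (.node (.node (.leaf (nat_lit 202926347)) (.leaf (nat_lit 341479936))) (.node
    (.leaf (nat_lit 438885137)) (.leaf (nat_lit 290280711)))))) (.node (.node (.node (.node (.node
    (.leaf (nat_lit 46140938)) (.leaf (nat_lit 624271883))) (.leaf (nat_lit 296838149))) (.node
    (.leaf (nat_lit 208797957)) (.leaf (nat_lit 401813248)))) (.node (.node (.leaf (nat_lit
    179394322)) (.leaf (nat_lit 684449548))) (.node (.leaf (nat_lit 392739847)) (.leaf (nat_lit
    701096963))))) (.node (.node (.node (.leaf (nat_lit 101237509)) (.leaf (nat_lit 613697797)))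
    (.node (.leaf (nat_lit 316828943)) (.leaf (nat_lit 247694858)))) (.node (.node (.leaf (nat_lit
    135332364)) (.leaf (nat_lit 225154319))) (.node (.leaf (nat_lit 485728263)) (.leaf (nat_lit
    582840079))))))) (.node (.node (.node (.node (.node (.node (.leaf (nat_lit 31998215)) (.leaf
    (nat_lit 668309001))) (.leaf (nat_lit 521929733))) (.node (.leaf (nat_lit 95021577)) (.leaf
    (nat_lit 82006272)))) (.node (.node (.leaf (nat_lit 167265292)) (.leaf (nat_lit 532476689)))
    (.node (.leaf (nat_lit 372394512)) (.leaf (nat_lit 293837062))))) (.node (.node (.node (.node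
    (.leaf (nat_lit 21535493)) (.leaf (nat_lit 683002121))) (.leaf (nat_lit 206860289))) (.node
    (.leaf (nat_lit 79319052)) (.leaf (nat_lit 596334348)))) (.node (.node (.leaf (nat_lit
    220240137)) (.leaf (nat_lit 273845009))) (.node (.leaf (nat_lit 414938881)) (.leaf (nat_lit
    580215558)))))) (.node (.node (.node (.node (.node (.leaf (nat_lit 43545862)) (.leaf (nat_lit
    763635976))) (.leaf (nat_lit 338963461))) (.node (.leaf (nat_lit 283724814)) (.leaf (nat_lit
    381306370)))) (.node (.node (.leaf (nat_lit 82406664)) (.leaf (nat_lit 620504070))) (.node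
    (.leaf (nat_lit 412666635)) (.leaf (nat_lit 258819340))))) (.node (.node (.node (.leaf (nat_lit
    123268613)) (.leaf (nat_lit 631550988))) (.node (.leaf (nat_lit 327319563)) (.leaf (nat_lit
    255107339)))) (.node (.node (.leaf (nat_lit 213499399)) (.leaf (nat_lit 326156809))) (.node
    (.leaf (nat_lit 157008392)) (.leaf (nat_lit 576027151))))))))) (.node (.node (.node (.node
    (.node (.node (.node (.node (.leaf (nat_lit 5245442)) (.leaf (nat_lit 736986117))) (.leaf
    (nat_lit 238279183))) (.node (.leaf (nat_lit 55167745)) (.leaf (nat_lit 461457161)))) (.node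
    (.node (.leaf (nat_lit 146851841)) (.leaf (nat_lit 641515279))) (.node (.leaf (nat_lit
    101881097)) (.leaf (nat_lit 205654023))))) (.node (.node (.node (.node (.leaf (nat_lit
    19950341)) (.leaf (nat_lit 742766850))) (.leaf (nat_lit 575239953))) (.node (.leaf (nat_lit
    280631049)) (.leaf (nat_lit 382862081)))) (.node (.node (.leaf (nat_lit 94469385)) (.leaf
    (nat_lit 48993024))) (.node (.leaf (nat_lit 132855809)) (.leaf (nat_lit 571822338)))))) (.node
    (.node (.node (.node (.node (.leaf (nat_lit 15224330)) (.leaf (nat_lit 753246213))) (.leaf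
    (nat_lit 549018896))) (.node (.leaf (nat_lit 266368527)) (.leaf (nat_lit 317879296)))) (.node
    (.node (.leaf (nat_lit 177228044)) (.leaf (nat_lit 233115905))) (.node (.leaf (nat_lit
    183165443)) (.leaf (nat_lit 459093260))))) (.node (.node (.node (.leaf (nat_lit 92321801))
    (.leaf (nat_lit 529827586))) (.node (.leaf (nat_lit 318280206)) (.leaf (nat_lit 123543808))))
    (.node (.node (.leaf (nat_lit 32568071)) (.leaf (nat_lit 432788736))) (.node (.leaf (nat_lit
    481362182)) (.leaf (nat_lit 675638537))))))) (.node (.node (.node (.node (.node (.node (.leaf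
    (nat_lit 5781774)) (.leaf (nat_lit 655201027))) (.leaf (nat_lit 534857741))) (.node (.leaf
    (nat_lit 202499337)) (.leaf (nat_lit 533347855)))) (.node (.node (.leaf (nat_lit 97040896))
    (.leaf (nat_lit 659663114))) (.node (.leaf (nat_lit 364034312)) (.leaf (nat_lit 646141953)))))
    (.node (.node (.node (.node (.leaf (nat_lit 3154957)) (.leaf (nat_lit 753780229))) (.leaf
    (nat_lit 589922062))) (.node (.leaf (nat_lit 299514633)) (.leaf (nat_lit 335856129)))) (.node
    (.node (.leaf (nat_lit 213489155)) (.leaf (nat_lit 537669377))) (.node (.leaf (nat_lit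
    341535503)) (.leaf (nat_lit 722077450)))))) (.node (.node (.node (.node (.node (.leaf (nat_lit
    11038478)) (.leaf (nat_lit 742239242))) (.leaf (nat_lit 556360712))) (.node (.leaf (nat_lit
    281575438)) (.leaf (nat_lit 533350913)))) (.node (.node (.leaf (nat_lit 188311057)) (.leaf
    (nat_lit 696895752))) (.node (.leaf (nat_lit 405472770)) (.leaf (nat_lit 350568975))))) (.node
    (.node (.node (.leaf (nat_lit 120597770)) (.leaf (nat_lit 627677451))) (.node (.leaf (nat_lit
    332483084)) (.leaf (nat_lit 284827402)))) (.node (.node (.leaf (nat_lit 230187533)) (.leaf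
    (nat_lit 365094656))) (.node (.leaf (nat_lit 499366155)) (.leaf (nat_lit 678262533))))))))
    (.node (.node (.node (.node (.node (.node (.node (.leaf (nat_lit 15211791)) (.leaf (nat_lit
    654585355))) (.leaf (nat_lit 516680710))) (.node (.leaf (nat_lit 244963588)) (.leaf (nat_lit
    223033106)))) (.node (.node (.leaf (nat_lit 156253960)) (.leaf (nat_lit 488953873))) (.node
    (.leaf (nat_lit 329426185)) (.leaf (nat_lit 271776018))))) (.node (.node (.node (.node (.leaf
    (nat_lit 40405510)) (.leaf (nat_lit 772031748))) (.leaf (nat_lit 267005698))) (.node (.leaf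
    (nat_lit 278540552)) (.leaf (nat_lit 645582347)))) (.node (.node (.leaf (nat_lit 206594819))
    (.leaf (nat_lit 4733184))) (.node (.leaf (nat_lit 448323850)) (.leaf (nat_lit 710760721))))))
    (.node (.node (.node (.node (.node (.leaf (nat_lit 49307151)) (.leaf (nat_lit 731227653)))
    (.leaf (nat_lit 553257736))) (.node (.leaf (nat_lit 274234892)) (.leaf (nat_lit 304768258))))
    (.node (.node (.leaf (nat_lit 169433859)) (.leaf (nat_lit 691127055))) (.node (.leaf (nat_lit
    150664722)) (.leaf (nat_lit 645217042))))) (.node (.node (.node (.leaf (nat_lit 22596872))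
    (.leaf (nat_lit 575444741))) (.node (.leaf (nat_lit 113905924)) (.leaf (nat_lit 621028614))))
    (.node (.node (.leaf (nat_lit 85042693)) (.leaf (nat_lit 434886656))) (.node (.leaf (nat_lit
    407610886)) (.leaf (nat_lit 728592654))))))) (.node (.node (.node (.node (.node (.node (.leaf
    (nat_lit 10492678)) (.leaf (nat_lit 642095369))) (.leaf (nat_lit 542724881))) (.node (.leaf
    (nat_lit 203026446)) (.leaf (nat_lit 182504458)))) (.node (.node (.leaf (nat_lit 170936065))
    (.leaf (nat_lit 671199247))) (.node (.leaf (nat_lit 139119628)) (.leaf (nat_lit 575877390)))))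
    (.node (.node (.node (.leaf (nat_lit 19966989)) (.leaf (nat_lit 597851911))) (.node (.leaf
    (nat_lit 313143820)) (.leaf (nat_lit 553359372)))) (.node (.node (.leaf (nat_lit 148966665))
    (.leaf (nat_lit 102405899))) (.node (.leaf (nat_lit 141263119)) (.leaf (nat_lit 719677193))))))
    (.node (.node (.node (.node (.node (.leaf (nat_lit 49839365)) (.leaf (nat_lit 764261121)))
    (.leaf (nat_lit 563704336))) (.node (.leaf (nat_lit 240786950)) (.leaf (nat_lit 495761920))))
    (.node (.node (.leaf (nat_lit 188838658)) (.leaf (nat_lit 12292352))) (.node (.leaf (nat_lit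
    415440129)) (.leaf (nat_lit 709708041))))) (.node (.node (.node (.leaf (nat_lit 131609347))
    (.leaf (nat_lit 635731972))) (.node (.leaf (nat_lit 196249350)) (.leaf (nat_lit 383548689))))
    (.node (.node (.leaf (nat_lit 235435011)) (.leaf (nat_lit 228200458))) (.node (.leaf (nat_lit
    379308561)) (.leaf (nat_lit 737468683))))))))))) (.node (.node (.node (.node (.node (.node
    (.node (.node (.node (.node (.leaf (nat_lit 1049096)) (.leaf (nat_lit 738998018))) (.leaf
    (nat_lit 249810441))) (.node (.leaf (nat_lit 237010705)) (.leaf (nat_lit 548610310)))) (.node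
    (.node (.leaf (nat_lit 138949648)) (.leaf (nat_lit 638689042))) (.node (.leaf (nat_lit
    328895233)) (.leaf (nat_lit 581702409))))) (.node (.node (.node (.node (.leaf (nat_lit
    15761159)) (.leaf (nat_lit 759018759))) (.leaf (nat_lit 567375120))) (.node (.leaf (nat_lit
    285864715)) (.leaf (nat_lit 304909568)))) (.node (.node (.leaf (nat_lit 196175370)) (.leaf
    (nat_lit 619310346))) (.node (.leaf (nat_lit 116073738)) (.leaf (nat_lit 711587335)))))) (.node
    (.node (.node (.node (.node (.leaf (nat_lit 34097414)) (.leaf (nat_lit 580754437))) (.leaf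
    (nat_lit 515641104))) (.node (.leaf (nat_lit 228717826)) (.leaf (nat_lit 548583690)))) (.node
    (.node (.leaf (nat_lit 154749446)) (.leaf (nat_lit 335349515))) (.node (.leaf (nat_lit
    335205649)) (.leaf (nat_lit 678769161))))) (.node (.node (.node (.leaf (nat_lit 75018756))
    (.leaf (nat_lit 231504135))) (.node (.leaf (nat_lit 66720013)) (.leaf (nat_lit 684377361))))
    (.node (.node (.leaf (nat_lit 220764682)) (.leaf (nat_lit 362984457))) (.node (.leaf (nat_lit
    474544914)) (.leaf (nat_lit 726358030))))))) (.node (.node (.node (.node (.node (.node (.leaf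
    (nat_lit 15212807)) (.leaf (nat_lit 740658703))) (.leaf (nat_lit 173273857))) (.node (.leaf
    (nat_lit 238148369)) (.leaf (nat_lit 306385664)))) (.node (.node (.leaf (nat_lit 158931470))
    (.leaf (nat_lit 299686664))) (.node (.leaf (nat_lit 358665227)) (.leaf (nat_lit 653057536)))))
    (.node (.node (.node (.node (.leaf (nat_lit 21532931)) (.leaf (nat_lit 773116418))) (.leaf
    (nat_lit 543972105))) (.node (.leaf (nat_lit 296838405)) (.leaf (nat_lit 231888906)))) (.node
    (.node (.leaf (nat_lit 74551306)) (.leaf (nat_lit 135290127))) (.node (.leaf (nat_lit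
    401826053)) (.leaf (nat_lit 271408399)))))) (.node (.node (.node (.node (.node (.leaf (nat_lit
    16277767)) (.leaf (nat_lit 759517960))) (.leaf (nat_lit 326902284))) (.node (.leaf (nat_lit
    81400579)) (.leaf (nat_lit 86128906)))) (.node (.node (.leaf (nat_lit 153706252)) (.leaf
    (nat_lit 693413639))) (.node (.leaf (nat_lit 399558149)) (.leaf (nat_lit 322780680))))) (.node
    (.node (.node (.leaf (nat_lit 108582658)) (.leaf (nat_lit 338992655))) (.node (.leaf (nat_lit
    326792195)) (.leaf (nat_lit 213527052)))) (.node (.node (.leaf (nat_lit 209825030)) (.leaf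
    (nat_lit 624667400))) (.node (.leaf (nat_lit 490974212)) (.leaf (nat_lit 711281674))))))))
    (.node (.node (.node (.node (.node (.node (.node (.leaf (nat_lit 8392964)) (.leaf (nat_lit
    547194639))) (.leaf (nat_lit 521745425))) (.node (.leaf (nat_lit 207736585)) (.leaf (nat_lit
    20667392)))) (.node (.node (.leaf (nat_lit 149960971)) (.leaf (nat_lit 645713420))) (.node
    (.leaf (nat_lit 229771530)) (.leaf (nat_lit 618986240))))) (.node (.node (.node (.node (.leaf
    (nat_lit 43542281)) (.leaf (nat_lit 675658514))) (.leaf (nat_lit 576882179))) (.node (.leaf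
    (nat_lit 289964815)) (.leaf (nat_lit 205677832)))) (.node (.node (.leaf (nat_lit 201872146))
    (.leaf (nat_lit 201031424))) (.node (.leaf (nat_lit 436907779)) (.leaf (nat_lit 707613701))))))
    (.node (.node (.node (.node (.node (.leaf (nat_lit 44061714)) (.leaf (nat_lit 572891663)))
    (.leaf (nat_lit 349445392))) (.node (.leaf (nat_lit 215613448)) (.leaf (nat_lit 394478592))))
    (.node (.node (.leaf (nat_lit 170481153)) (.leaf (nat_lit 683785220))) (.node (.leaf (nat_lit
    173730564)) (.leaf (nat_lit 700266252))))) (.node (.node (.node (.leaf (nat_lit 79216898))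
    (.leaf (nat_lit 568627208))) (.node (.leaf (nat_lit 311585538)) (.leaf (nat_lit 475127563))))
    (.node (.node (.leaf (nat_lit 80284160)) (.leaf (nat_lit 420284160))) (.node (.leaf (nat_lit
    334208521)) (.leaf (nat_lit 728905231))))))) (.node (.node (.node (.node (.node (.node (.leaf
    (nat_lit 31997958)) (.leaf (nat_lit 579179794))) (.leaf (nat_lit 248250625))) (.node (.leaf
    (nat_lit 256492292)) (.leaf (nat_lit 181216512)))) (.node (.node (.leaf (nat_lit 166741003))
    (.leaf (nat_lit 663857937))) (.node (.leaf (nat_lit 96126217)) (.leaf (nat_lit 449084176)))))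
    (.node (.node (.node (.node (.leaf (nat_lit 28850438)) (.leaf (nat_lit 744343553))) (.leaf
    (nat_lit 232025352))) (.node (.leaf (nat_lit 309366030)) (.leaf (nat_lit 537049865)))) (.node
    (.node (.leaf (nat_lit 218127112)) (.leaf (nat_lit 82972417))) (.node (.leaf (nat_lit
    463531275)) (.leaf (nat_lit 722602252)))))) (.node (.node (.node (.node (.node (.leaf (nat_lit
    60322575)) (.leaf (nat_lit 763111434))) (.leaf (nat_lit 196881161))) (.node (.leaf (nat_lit
    174202117)) (.leaf (nat_lit 564343047)))) (.node (.node (.leaf (nat_lit 191385103)) (.leaf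
    (nat_lit 696382986))) (.node (.leaf (nat_lit 411617802)) (.leaf (nat_lit 366822405))))) (.node
    (.node (.node (.leaf (nat_lit 123268358)) (.leaf (nat_lit 606908929))) (.node (.leaf (nat_lit
    100757516)) (.leaf (nat_lit 303180303)))) (.node (.node (.leaf (nat_lit 233388044)) (.leaf
    (nat_lit 650800646))) (.node (.leaf (nat_lit 503912200)) (.leaf (nat_lit 734870787)))))))))
    (.node (.node (.node (.node (.node (.node (.node (.node (.leaf (nat_lit 3145996)) (.leaf
    (nat_lit 736984330))) (.leaf (nat_lit 277600274))) (.node (.leaf (nat_lit 58312962)) (.leaf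
    (nat_lit 136922630)))) (.node (.node (.leaf (nat_lit 145242120)) (.leaf (nat_lit 640992515)))
    (.node (.leaf (nat_lit 273847297)) (.leaf (nat_lit 231345415))))) (.node (.node (.node (.node
    (.leaf (nat_lit 70283020)) (.leaf (nat_lit 732280838))) (.leaf (nat_lit 573667086))) (.node
    (.leaf (nat_lit 55169280)) (.leaf (nat_lit 206804738)))) (.node (.node (.leaf (nat_lit
    199250692)) (.leaf (nat_lit 211559425))) (.node (.leaf (nat_lit 429445895)) (.leaf (nat_lit
    269307908)))))) (.node (.node (.node (.node (.node (.leaf (nat_lit 40897801)) (.leaf (nat_lit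
    725458694))) (.leaf (nat_lit 387716610))) (.node (.leaf (nat_lit 257551113)) (.leaf (nat_lit
    440033543)))) (.node (.node (.leaf (nat_lit 176246546)) (.leaf (nat_lit 679590410))) (.node
    (.leaf (nat_lit 385398796)) (.leaf (nat_lit 581614606))))) (.node (.node (.node (.leaf (nat_lit
    45135367)) (.leaf (nat_lit 606702346))) (.node (.leaf (nat_lit 167402497)) (.leaf (nat_lit
    372997376)))) (.node (.node (.leaf (nat_lit 125873163)) (.leaf (nat_lit 376638720))) (.node
    (.leaf (nat_lit 220959502)) (.leaf (nat_lit 727985667))))))) (.node (.node (.node (.node (.node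
    (.node (.leaf (nat_lit 27264779)) (.leaf (nat_lit 647336453))) (.leaf (nat_lit 533807890)))
    (.node (.leaf (nat_lit 252735496)) (.leaf (nat_lit 134958866)))) (.node (.node (.leaf (nat_lit
    53557250)) (.leaf (nat_lit 655993089))) (.node (.leaf (nat_lit 140162565)) (.leaf (nat_lit
    132344589))))) (.node (.node (.node (.node (.leaf (nat_lit 76060675)) (.leaf (nat_lit
    744342789))) (.leaf (nat_lit 588441354))) (.node (.leaf (nat_lit 298355469)) (.leaf (nat_lit
    401736194)))) (.node (.node (.leaf (nat_lit 93951241)) (.leaf (nat_lit 585367818))) (.node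
    (.leaf (nat_lit 430139655)) (.leaf (nat_lit 667770631)))))) (.node (.node (.node (.node (.node
    (.leaf (nat_lit 56103687)) (.leaf (nat_lit 565554178))) (.leaf (nat_lit 85629706))) (.node
    (.leaf (nat_lit 280106243)) (.leaf (nat_lit 86139405)))) (.node (.node (.leaf (nat_lit
    186665997)) (.leaf (nat_lit 242036743))) (.node (.leaf (nat_lit 159057159)) (.leaf (nat_lit
    704840458))))) (.node (.node (.node (.leaf (nat_lit 119024656)) (.leaf (nat_lit 625579535)))
    (.node (.leaf (nat_lit 102398216)) (.leaf (nat_lit 289669632)))) (.node (.node (.leaf (nat_lit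
    221885699)) (.leaf (nat_lit 86159872))) (.node (.leaf (nat_lit 365671941)) (.leaf (nat_lit
    340620803)))))))) (.node (.node (.node (.node (.node (.node (.node (.leaf (nat_lit 13113857))
    (.leaf (nat_lit 721702667))) (.leaf (nat_lit 222030608))) (.node (.leaf (nat_lit 242341900))
    (.leaf (nat_lit 182511110)))) (.node (.node (.leaf (nat_lit 155207430)) (.leaf (nat_lit
    649712130))) (.node (.leaf (nat_lit 90874626)) (.leaf (nat_lit 270812176))))) (.node (.node
    (.node (.node (.leaf (nat_lit 49318154)) (.leaf (nat_lit 721796866))) (.leaf (nat_lit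
    206854146))) (.node (.leaf (nat_lit 293111818)) (.leaf (nat_lit 251316999)))) (.node (.node
    (.leaf (nat_lit 206066955)) (.leaf (nat_lit 332460044))) (.node (.leaf (nat_lit 446750977))
    (.leaf (nat_lit 717051913)))))) (.node (.node (.node (.node (.node (.leaf (nat_lit 17325321))
    (.leaf (nat_lit 698721553))) (.leaf (nat_lit 297541377))) (.node (.leaf (nat_lit 84543748))
    (.leaf (nat_lit 321063941)))) (.node (.node (.leaf (nat_lit 169433604)) (.leaf (nat_lit
    600122113))) (.node (.leaf (nat_lit 363000838)) (.leaf (nat_lit 473250562))))) (.node (.node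
    (.node (.leaf (nat_lit 23120386)) (.leaf (nat_lit 549230081))) (.node (.leaf (nat_lit
    327832833)) (.leaf (nat_lit 587483657)))) (.node (.node (.leaf (nat_lit 105449733)) (.leaf
    (nat_lit 267979017))) (.node (.leaf (nat_lit 337880322)) (.leaf (nat_lit 419787019)))))))
    (.node (.node (.node (.node (.node (.node (.leaf (nat_lit 5785095)) (.leaf (nat_lit
    751056391))) (.leaf (nat_lit 520882434))) (.node (.leaf (nat_lit 260076548)) (.leaf (nat_lit
    444218633)))) (.node (.node (.leaf (nat_lit 169949701)) (.leaf (nat_lit 655686148))) (.node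
    (.leaf (nat_lit 310561538)) (.leaf (nat_lit 611602705))))) (.node (.node (.node (.leaf (nat_lit
    88089607)) (.leaf (nat_lit 596931344))) (.node (.leaf (nat_lit 312619278)) (.leaf (nat_lit
    483011851)))) (.node (.node (.leaf (nat_lit 22555401)) (.leaf (nat_lit 506791680))) (.node
    (.leaf (nat_lit 268664332)) (.leaf (nat_lit 719676934)))))) (.node (.node (.node (.node (.node
    (.leaf (nat_lit 47217414)) (.leaf (nat_lit 764772869))) (.leaf (nat_lit 557592580))) (.node
    (.leaf (nat_lit 174202126)) (.leaf (nat_lit 203091727)))) (.node (.node (.leaf (nat_lit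
    194081289)) (.leaf (nat_lit 591001857))) (.node (.leaf (nat_lit 111876875)) (.leaf (nat_lit
    709103875))))) (.node (.node (.node (.leaf (nat_lit 26801673)) (.leaf (nat_lit 269608707)))
    (.node (.leaf (nat_lit 338330890)) (.leaf (nat_lit 602622482)))) (.node (.node (.leaf (nat_lit
    234995721)) (.leaf (nat_lit 278540547))) (.node (.leaf (nat_lit 425445381)) (.leaf (nat_lit
    574455043)))))))))) (.node (.node (.node (.node (.node (.node (.node (.node (.node (.leaf
    (nat_lit 1049106)) (.leaf (nat_lit 740048390))) (.leaf (nat_lit 493605386))) (.node (.leaf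
    (nat_lit 238066690)) (.leaf (nat_lit 312164608)))) (.node (.node (.leaf (nat_lit 39338758))
    (.leaf (nat_lit 255451921))) (.node (.leaf (nat_lit 343449106)) (.leaf (nat_lit 600107008)))))
    (.node (.node (.node (.node (.leaf (nat_lit 54559494)) (.leaf (nat_lit 766861323))) (.leaf
    (nat_lit 570703881))) (.node (.leaf (nat_lit 241837573)) (.leaf (nat_lit 249874176)))) (.node
    (.node (.leaf (nat_lit 190937352)) (.leaf (nat_lit 46723584))) (.node (.leaf (nat_lit
    334178818)) (.leaf (nat_lit 558190081)))))) (.node (.node (.node (.node (.node (.leaf (nat_lit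
    6835460)) (.leaf (nat_lit 754121732))) (.leaf (nat_lit 394531080))) (.node (.leaf (nat_lit
    263321105)) (.leaf (nat_lit 109767943)))) (.node (.node (.leaf (nat_lit 54028556)) (.leaf
    (nat_lit 676967692))) (.node (.leaf (nat_lit 381728269)) (.leaf (nat_lit 376779536))))) (.node
    (.node (.node (.leaf (nat_lit 92320770)) (.leaf (nat_lit 601128708))) (.node (.leaf (nat_lit
    78272529)) (.leaf (nat_lit 371923456)))) (.node (.node (.leaf (nat_lit 89694474)) (.leaf
    (nat_lit 548583940))) (.node (.leaf (nat_lit 476811280)) (.leaf (nat_lit 693988101)))))))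
    (.node (.node (.node (.node (.node (.node (.leaf (nat_lit 4728332)) (.leaf (nat_lit
    746929157))) (.leaf (nat_lit 389281797))) (.node (.leaf (nat_lit 211410439)) (.leaf (nat_lit
    221995023)))) (.node (.node (.leaf (nat_lit 52508162)) (.leaf (nat_lit 652847117))) (.node
    (.leaf (nat_lit 359838465)) (.leaf (nat_lit 304745474))))) (.node (.node (.node (.node (.leaf
    (nat_lit 75011331)) (.leaf (nat_lit 653116171))) (.leaf (nat_lit 528244497))) (.node (.leaf
    (nat_lit 271677189)) (.leaf (nat_lit 618971397)))) (.node (.node (.leaf (nat_lit 200380930))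
    (.leaf (nat_lit 237218048))) (.node (.leaf (nat_lit 454616847)) (.leaf (nat_lit 383606273))))))
    (.node (.node (.node (.node (.node (.leaf (nat_lit 9462801)) (.leaf (nat_lit 749578754)))
    (.leaf (nat_lit 555492106))) (.node (.leaf (nat_lit 68293890)) (.leaf (nat_lit 105958159))))
    (.node (.node (.leaf (nat_lit 40985090)) (.leaf (nat_lit 537734145))) (.node (.leaf (nat_lit
    336265477)) (.leaf (nat_lit 667762689))))) (.node (.node (.node (.leaf (nat_lit 23649543))
    (.leaf (nat_lit 621909255))) (.node (.leaf (nat_lit 294287108)) (.leaf (nat_lit 125085696))))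
    (.node (.node (.leaf (nat_lit 227565583)) (.leaf (nat_lit 626731528))) (.node (.leaf (nat_lit
    368155661)) (.leaf (nat_lit 572355600)))))))) (.node (.node (.node (.node (.node (.node (.node
    (.leaf (nat_lit 11539986)) (.leaf (nat_lit 563972360))) (.leaf (nat_lit 525417743))) (.node
    (.leaf (nat_lit 199349258)) (.leaf (nat_lit 533412105)))) (.node (.node (.leaf (nat_lit
    33105153)) (.leaf (nat_lit 645191179))) (.node (.leaf (nat_lit 351314955)) (.leaf (nat_lit
    638379013))))) (.node (.node (.node (.node (.leaf (nat_lit 58230534)) (.leaf (nat_lit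
    724942086))) (.leaf (nat_lit 579959055))) (.node (.leaf (nat_lit 291121932)) (.leaf (nat_lit
    93870859)))) (.node (.node (.leaf (nat_lit 203969547)) (.leaf (nat_lit 224082688))) (.node
    (.leaf (nat_lit 442031629)) (.leaf (nat_lit 282940939)))))) (.node (.node (.node (.node (.node
    (.leaf (nat_lit 47733521)) (.leaf (nat_lit 754819852))) (.leaf (nat_lit 296839686))) (.node
    (.leaf (nat_lit 252838409)) (.leaf (nat_lit 140131596)))) (.node (.node (.leaf (nat_lit
    172578818)) (.leaf (nat_lit 685055233))) (.node (.leaf (nat_lit 382922250)) (.leaf (nat_lit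
    701211143))))) (.node (.node (.node (.leaf (nat_lit 99665153)) (.leaf (nat_lit 293874193)))
    (.node (.leaf (nat_lit 313159177)) (.leaf (nat_lit 418706690)))) (.node (.node (.leaf (nat_lit
    137431054)) (.leaf (nat_lit 304844032))) (.node (.leaf (nat_lit 487654154)) (.leaf (nat_lit
    404581383))))))) (.node (.node (.node (.node (.node (.node (.leaf (nat_lit 9454082)) (.leaf
    (nat_lit 573413121))) (.leaf (nat_lit 540102925))) (.node (.leaf (nat_lit 257979150)) (.leaf
    (nat_lit 551198479)))) (.node (.node (.leaf (nat_lit 155795714)) (.leaf (nat_lit 654111761)))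
    (.node (.leaf (nat_lit 373338384)) (.leaf (nat_lit 557132556))))) (.node (.node (.node (.leaf
    (nat_lit 83894800)) (.leaf (nat_lit 205287684))) (.node (.leaf (nat_lit 199905802)) (.leaf
    (nat_lit 218807300)))) (.node (.node (.leaf (nat_lit 82944773)) (.leaf (nat_lit 80352001)))
    (.node (.leaf (nat_lit 466152971)) (.leaf (nat_lit 619013132)))))) (.node (.node (.node (.node
    (.node (.leaf (nat_lit 45643525)) (.leaf (nat_lit 763696643))) (.leaf (nat_lit 338439429)))
    (.node (.leaf (nat_lit 162090249)) (.leaf (nat_lit 418547976)))) (.node (.node (.leaf (nat_lit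
    40988178)) (.leaf (nat_lit 248262407))) (.node (.leaf (nat_lit 351998979)) (.leaf (nat_lit
    257771026))))) (.node (.node (.node (.leaf (nat_lit 125841418)) (.leaf (nat_lit 613201665)))
    (.node (.leaf (nat_lit 224559371)) (.leaf (nat_lit 265557767)))) (.node (.node (.leaf (nat_lit
    213499653)) (.leaf (nat_lit 347766785))) (.node (.leaf (nat_lit 407618322)) (.leaf (nat_lit
    487947009))))))))) (.node (.node (.node (.node (.node (.node (.node (.node (.leaf (nat_lit
    6291730)) (.leaf (nat_lit 741180169))) (.leaf (nat_lit 161733384))) (.node (.leaf (nat_lit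
    241199118)) (.leaf (nat_lit 183033098)))) (.node (.node (.leaf (nat_lit 35199247)) (.leaf
    (nat_lit 644456708))) (.node (.leaf (nat_lit 135435780)) (.leaf (nat_lit 209916173))))) (.node
    (.node (.node (.node (.leaf (nat_lit 9984267)) (.leaf (nat_lit 739096842))) (.leaf (nat_lit
    340019970))) (.node (.leaf (nat_lit 55694592)) (.leaf (nat_lit 638382848)))) (.node (.node
    (.leaf (nat_lit 44137992)) (.leaf (nat_lit 236168960))) (.node (.leaf (nat_lit 434165772))
    (.leaf (nat_lit 561336833)))))) (.node (.node (.node (.node (.node (.leaf (nat_lit 40376842))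
    (.leaf (nat_lit 745290248))) (.leaf (nat_lit 382998529))) (.node (.leaf (nat_lit 231341317))
    (.leaf (nat_lit 393431557)))) (.node (.node (.leaf (nat_lit 70341889)) (.leaf (nat_lit
    644157969))) (.node (.leaf (nat_lit 212525828)) (.leaf (nat_lit 645215753))))) (.node (.node
    (.node (.leaf (nat_lit 38845455)) (.leaf (nat_lit 601655811))) (.node (.leaf (nat_lit
    319329025)) (.leaf (nat_lit 124408338)))) (.node (.node (.leaf (nat_lit 126939657)) (.leaf
    (nat_lit 116997376))) (.node (.leaf (nat_lit 482544905)) (.leaf (nat_lit 724199182)))))))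
    (.node (.node (.node (.node (.node (.node (.leaf (nat_lit 31997195)) (.leaf (nat_lit
    747475722))) (.leaf (nat_lit 212598033))) (.node (.leaf (nat_lit 242345487)) (.leaf (nat_lit
    319508992)))) (.node (.node (.leaf (nat_lit 165168135)) (.leaf (nat_lit 578612229))) (.node
    (.leaf (nat_lit 366656523)) (.leaf (nat_lit 678744067))))) (.node (.node (.node (.node (.leaf
    (nat_lit 18887936)) (.leaf (nat_lit 775731216))) (.leaf (nat_lit 215771394))) (.node (.leaf
    (nat_lit 302025733)) (.leaf (nat_lit 668254211)))) (.node (.node (.leaf (nat_lit 215061259))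
    (.leaf (nat_lit 204047631))) (.node (.leaf (nat_lit 458977282)) (.leaf (nat_lit 722294534))))))
    (.node (.node (.node (.node (.node (.leaf (nat_lit 50884870)) (.leaf (nat_lit 705539339)))
    (.leaf (nat_lit 558114828))) (.node (.leaf (nat_lit 282624017)) (.leaf (nat_lit 307439631))))
    (.node (.node (.leaf (nat_lit 189287693)) (.leaf (nat_lit 263473671))) (.node (.leaf (nat_lit
    137562115)) (.leaf (nat_lit 265634562))))) (.node (.node (.node (.leaf (nat_lit 122170639))
    (.leaf (nat_lit 591179777))) (.node (.leaf (nat_lit 91913221)) (.leaf (nat_lit 201090048))))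
    (.node (.node (.leaf (nat_lit 231760642)) (.leaf (nat_lit 351988480))) (.node (.leaf (nat_lit
    501289739)) (.leaf (nat_lit 734361615)))))))) (.node (.node (.node (.node (.node (.node (.node
    (.leaf (nat_lit 15736336)) (.leaf (nat_lit 678267905))) (.leaf (nat_lit 527166987))) (.node
    (.leaf (nat_lit 162650634)) (.leaf (nat_lit 132318978)))) (.node (.node (.leaf (nat_lit
    38874119)) (.leaf (nat_lit 346872069))) (.node (.leaf (nat_lit 136488710)) (.leaf (nat_lit
    579140101))))) (.node (.node (.node (.node (.leaf (nat_lit 72911619)) (.leaf (nat_lit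
    772034576))) (.leaf (nat_lit 583629584))) (.node (.leaf (nat_lit 227685385)) (.leaf (nat_lit
    125952786)))) (.node (.node (.leaf (nat_lit 47811843)) (.leaf (nat_lit 258745611))) (.node
    (.leaf (nat_lit 450421511)) (.leaf (nat_lit 653089297)))))) (.node (.node (.node (.node (.node
    (.leaf (nat_lit 50336008)) (.leaf (nat_lit 637904646))) (.leaf (nat_lit 188489737))) (.node
    (.leaf (nat_lit 227675653)) (.leaf (nat_lit 109653263)))) (.node (.node (.leaf (nat_lit
    83975186)) (.leaf (nat_lit 293414672))) (.node (.leaf (nat_lit 359855877)) (.leaf (nat_lit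
    647314446))))) (.node (.node (.node (.leaf (nat_lit 109586956)) (.leaf (nat_lit 616339984)))
    (.node (.leaf (nat_lit 99250696)) (.leaf (nat_lit 560766993)))) (.node (.node (.leaf (nat_lit
    179939083)) (.leaf (nat_lit 104912128))) (.node (.leaf (nat_lit 477865993)) (.leaf (nat_lit
    731132171))))))) (.node (.node (.node (.node (.node (.node (.leaf (nat_lit 9455118)) (.leaf
    (nat_lit 582851080))) (.leaf (nat_lit 543249934))) (.node (.leaf (nat_lit 261649424)) (.leaf
    (nat_lit 607797761)))) (.node (.node (.leaf (nat_lit 157370373)) (.leaf (nat_lit 510460941)))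
    (.node (.leaf (nat_lit 378582033)) (.leaf (nat_lit 400860677))))) (.node (.node (.node (.leaf
    (nat_lit 74493968)) (.leaf (nat_lit 216299009))) (.node (.leaf (nat_lit 294799110)) (.leaf
    (nat_lit 96209408)))) (.node (.node (.leaf (nat_lit 123792393)) (.leaf (nat_lit 433313280)))
    (.node (.leaf (nat_lit 471396875)) (.leaf (nat_lit 606431241)))))) (.node (.node (.node (.node
    (.node (.leaf (nat_lit 50363909)) (.leaf (nat_lit 572896008))) (.leaf (nat_lit 564753165)))
    (.node (.leaf (nat_lit 235544073)) (.leaf (nat_lit 543870212)))) (.node (.node (.leaf (nat_lit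
    191984655)) (.leaf (nat_lit 585235464))) (.node (.leaf (nat_lit 420007697)) (.leaf (nat_lit
    710101514))))) (.node (.node (.node (.leaf (nat_lit 133182221)) (.leaf (nat_lit 600620546)))
    (.node (.leaf (nat_lit 339778820)) (.leaf (nat_lit 591538442)))) (.node (.node (.leaf (nat_lit
    228704777)) (.leaf (nat_lit 238758159))) (.node (.leaf (nat_lit 504613896)) (.leaf (nat_lit
    341147398)))))))))))))) (.node (.node (.node (.node (.node (.node (.node (.node (.node (.node
    (.node (.node (.node (.leaf (nat_lit 3)) (.leaf (nat_lit 738359826))) (.leaf (nat_lit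
    509697285))) (.node (.leaf (nat_lit 236480010)) (.leaf (nat_lit 336265218)))) (.node (.node
    (.leaf (nat_lit 134755088)) (.leaf (nat_lit 636796163))) (.node (.leaf (nat_lit 271747074))
    (.leaf (nat_lit 543853835))))) (.node (.node (.node (.node (.leaf (nat_lit 17858049)) (.leaf
    (nat_lit 709735429))) (.leaf (nat_lit 564933136))) (.node (.leaf (nat_lit 284827407)) (.leaf
    (nat_lit 136085504)))) (.node (.node (.leaf (nat_lit 191460370)) (.leaf (nat_lit 58301440)))
    (.node (.leaf (nat_lit 421056515)) (.leaf (nat_lit 710757135)))))) (.node (.node (.node (.node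
    (.node (.leaf (nat_lit 20989711)) (.leaf (nat_lit 752547599))) (.leaf (nat_lit 540806416)))
    (.node (.leaf (nat_lit 64615169)) (.leaf (nat_lit 91792387)))) (.node (.node (.leaf (nat_lit
    78727185)) (.leaf (nat_lit 228918799))) (.node (.leaf (nat_lit 310563331)) (.leaf (nat_lit
    381343502))))) (.node (.node (.node (.leaf (nat_lit 92808714)) (.leaf (nat_lit 582252290)))
    (.node (.leaf (nat_lit 294797568)) (.leaf (nat_lit 324788736)))) (.node (.node (.leaf (nat_lit
    106482185)) (.leaf (nat_lit 420808192))) (.node (.leaf (nat_lit 216236815)) (.leaf (nat_lit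
    725968908))))))) (.node (.node (.node (.node (.node (.node (.leaf (nat_lit 11542022)) (.leaf
    (nat_lit 404589577))) (.leaf (nat_lit 182710017))) (.node (.leaf (nat_lit 238672401)) (.leaf
    (nat_lit 137037578)))) (.node (.node (.leaf (nat_lit 98118930)) (.leaf (nat_lit 224188688)))
    (.node (.leaf (nat_lit 90875905)) (.leaf (nat_lit 272238592))))) (.node (.node (.node (.node
    (.leaf (nat_lit 72911632)) (.leaf (nat_lit 772556039))) (.leaf (nat_lit 298080524))) (.node
    (.leaf (nat_lit 276960008)) (.leaf (nat_lit 549053186)))) (.node (.node (.leaf (nat_lit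
    206671364)) (.leaf (nat_lit 62403343))) (.node (.leaf (nat_lit 450946060)) (.leaf (nat_lit
    718554883)))))) (.node (.node (.node (.node (.node (.leaf (nat_lit 48783362)) (.leaf (nat_lit
    642098949))) (.leaf (nat_lit 553813256))) (.node (.leaf (nat_lit 84545281)) (.leaf (nat_lit
    109768200)))) (.node (.node (.leaf (nat_lit 182995467)) (.leaf (nat_lit 593307394))) (.node
    (.leaf (nat_lit 326825732)) (.leaf (nat_lit 703194130))))) (.node (.node (.node (.leaf (nat_lit
    110635538)) (.leaf (nat_lit 547658513))) (.node (.leaf (nat_lit 328357124)) (.leaf (nat_lit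
    461516812)))) (.node (.node (.leaf (nat_lit 222322444)) (.leaf (nat_lit 296289297))) (.node
    (.leaf (nat_lit 388737286)) (.leaf (nat_lit 705512712)))))))) (.node (.node (.node (.node
    (.node (.node (.node (.leaf (nat_lit 5245958)) (.leaf (nat_lit 400917767))) (.leaf (nat_lit
    518249739))) (.node (.leaf (nat_lit 239717634)) (.leaf (nat_lit 183203841)))) (.node (.node
    (.leaf (nat_lit 32053518)) (.leaf (nat_lit 644980997))) (.node (.leaf (nat_lit 328898310))
    (.leaf (nat_lit 228816910))))) (.node (.node (.node (.node (.leaf (nat_lit 46684425)) (.leaf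
    (nat_lit 766884354))) (.leaf (nat_lit 340019978))) (.node (.leaf (nat_lit 68297728)) (.leaf
    (nat_lit 537023239)))) (.node (.node (.leaf (nat_lit 200314633)) (.leaf (nat_lit 3190272)))
    (.node (.leaf (nat_lit 138624513)) (.leaf (nat_lit 562909954)))))) (.node (.node (.node (.node
    (.node (.leaf (nat_lit 18359057)) (.leaf (nat_lit 755695633))) (.leaf (nat_lit 550067978)))
    (.node (.leaf (nat_lit 96599557)) (.leaf (nat_lit 624642561)))) (.node (.node (.leaf (nat_lit
    161043718)) (.leaf (nat_lit 680816650))) (.node (.leaf (nat_lit 389069569)) (.leaf (nat_lit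
    293942792))))) (.node (.node (.node (.leaf (nat_lit 99100673)) (.leaf (nat_lit 253004546)))
    (.node (.leaf (nat_lit 320377603)) (.leaf (nat_lit 234941201)))) (.node (.node (.leaf (nat_lit
    168358660)) (.leaf (nat_lit 386979590))) (.node (.leaf (nat_lit 483105291)) (.leaf (nat_lit
    567032590))))))) (.node (.node (.node (.node (.node (.node (.leaf (nat_lit 31984131)) (.leaf
    (nat_lit 749048837))) (.leaf (nat_lit 527695364))) (.node (.leaf (nat_lit 254925068)) (.leaf
    (nat_lit 238287872)))) (.node (.node (.leaf (nat_lit 146881287)) (.leaf (nat_lit 222956805)))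
    (.node (.leaf (nat_lit 368094727)) (.leaf (nat_lit 611610124))))) (.node (.node (.node (.node
    (.leaf (nat_lit 3682048)) (.leaf (nat_lit 682477313))) (.leaf (nat_lit 592544011))) (.node
    (.leaf (nat_lit 303598600)) (.leaf (nat_lit 274445327)))) (.node (.node (.leaf (nat_lit
    215587851)) (.leaf (nat_lit 79734016))) (.node (.leaf (nat_lit 131821574)) (.leaf (nat_lit
    556548878)))))) (.node (.node (.node (.node (.node (.leaf (nat_lit 49312009)) (.leaf (nat_lit
    734899464))) (.leaf (nat_lit 186919186))) (.node (.leaf (nat_lit 247077638)) (.leaf (nat_lit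
    419578897)))) (.node (.node (.leaf (nat_lit 187788034)) (.leaf (nat_lit 215612163))) (.node
    (.leaf (nat_lit 407007249)) (.leaf (nat_lit 440222473))))) (.node (.node (.node (.leaf (nat_lit
    110684677)) (.leaf (nat_lit 628917252))) (.node (.leaf (nat_lit 334010642)) (.leaf (nat_lit
    123543296)))) (.node (.node (.leaf (nat_lit 205634065)) (.leaf (nat_lit 81309445))) (.node
    (.leaf (nat_lit 146521350)) (.leaf (nat_lit 404584453))))))))) (.node (.node (.node (.node
    (.node (.node (.node (.node (.leaf (nat_lit 2621707)) (.leaf (nat_lit 580748043))) (.leaf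
    (nat_lit 513354508))) (.node (.leaf (nat_lit 169461264)) (.leaf (nat_lit 424356108)))) (.node
    (.node (.leaf (nat_lit 29954319)) (.leaf (nat_lit 640262147))) (.node (.leaf (nat_lit
    344498193)) (.leaf (nat_lit 223124495))))) (.node (.node (.node (.node (.leaf (nat_lit
    69212935)) (.leaf (nat_lit 700823297))) (.leaf (nat_lit 570695943))) (.node (.leaf (nat_lit
    68298257)) (.leaf (nat_lit 376046854)))) (.node (.node (.leaf (nat_lit 198201867)) (.leaf
    (nat_lit 135374080))) (.node (.leaf (nat_lit 121842436)) (.leaf (nat_lit 265113100)))))) (.node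
    (.node (.node (.node (.node (.leaf (nat_lit 40897797)) (.leaf (nat_lit 572890625))) (.leaf
    (nat_lit 546397201))) (.node (.leaf (nat_lit 65141252)) (.leaf (nat_lit 424831234)))) (.node
    (.node (.leaf (nat_lit 175654927)) (.leaf (nat_lit 677491982))) (.node (.leaf (nat_lit
    95606797)) (.leaf (nat_lit 698109193))))) (.node (.node (.node (.leaf (nat_lit 94408196))
    (.leaf (nat_lit 593788930))) (.node (.leaf (nat_lit 314725124)) (.leaf (nat_lit 242947584))))
    (.node (.node (.leaf (nat_lit 220765704)) (.leaf (nat_lit 116472832))) (.node (.leaf (nat_lit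
    471044357)) (.leaf (nat_lit 571829003))))))) (.node (.node (.node (.node (.node (.node (.leaf
    (nat_lit 20973073)) (.leaf (nat_lit 561352715))) (.leaf (nat_lit 532875282))) (.node (.leaf
    (nat_lit 215587599)) (.leaf (nat_lit 489833737)))) (.node (.node (.leaf (nat_lit 160511500))
    (.leaf (nat_lit 653545221))) (.node (.leaf (nat_lit 359838476)) (.leaf (nat_lit 205655048)))))
    (.node (.node (.node (.node (.leaf (nat_lit 75011586)) (.leaf (nat_lit 594920463))) (.leaf
    (nat_lit 532438790))) (.node (.leaf (nat_lit 196741893)) (.leaf (nat_lit 216674826)))) (.node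
    (.node (.leaf (nat_lit 183079441)) (.leaf (nat_lit 238890496))) (.node (.leaf (nat_lit
    455141136)) (.leaf (nat_lit 605904393)))))) (.node (.node (.node (.node (.node (.leaf (nat_lit
    52454674)) (.leaf (nat_lit 760502024))) (.leaf (nat_lit 226114314))) (.node (.leaf (nat_lit
    279555338)) (.leaf (nat_lit 311058950)))) (.node (.node (.leaf (nat_lit 59335178)) (.leaf
    (nat_lit 694888195))) (.node (.leaf (nat_lit 332071178)) (.leaf (nat_lit 704462864))))) (.node
    (.node (.node (.leaf (nat_lit 116403208)) (.leaf (nat_lit 377791497))) (.node (.leaf (nat_lit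
    331389187)) (.leaf (nat_lit 311567119)))) (.node (.node (.leaf (nat_lit 228089872)) (.leaf
    (nat_lit 3672847))) (.node (.leaf (nat_lit 495520007)) (.leaf (nat_lit 571307026)))))))) (.node
    (.node (.node (.node (.node (.node (.node (.leaf (nat_lit 11538699)) (.leaf (nat_lit
    726501647))) (.leaf (nat_lit 380889609))) (.node (.leaf (nat_lit 178902024)) (.leaf (nat_lit
    444293376)))) (.node (.node (.leaf (nat_lit 33629455)) (.leaf (nat_lit 649189121))) (.node
    (.leaf (nat_lit 104504838)) (.leaf (nat_lit 615303424))))) (.node (.node (.node (.node (.leaf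
    (nat_lit 71310098)) (.leaf (nat_lit 770462476))) (.leaf (nat_lit 581007633))) (.node (.leaf
    (nat_lit 247606277)) (.leaf (nat_lit 367315968)))) (.node (.node (.leaf (nat_lit 200901890))
    (.leaf (nat_lit 335780608))) (.node (.leaf (nat_lit 443604749)) (.leaf (nat_lit 710235660))))))
    (.node (.node (.node (.node (.node (.leaf (nat_lit 48258050)) (.leaf (nat_lit 660972299)))
    (.leaf (nat_lit 40462605))) (.node (.leaf (nat_lit 217711366)) (.leaf (nat_lit 392900617))))
    (.node (.node (.leaf (nat_lit 157898756)) (.leaf (nat_lit 687980560))) (.node (.leaf (nat_lit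
    394312715)) (.leaf (nat_lit 701621255))))) (.node (.node (.node (.leaf (nat_lit 103859979))
    (.leaf (nat_lit 272405263))) (.node (.leaf (nat_lit 326670091)) (.leaf (nat_lit 392902154))))
    (.node (.node (.leaf (nat_lit 62455296)) (.leaf (nat_lit 228794895))) (.node (.leaf (nat_lit
    301703937)) (.leaf (nat_lit 729954576))))))) (.node (.node (.node (.node (.node (.node (.leaf
    (nat_lit 34619660)) (.leaf (nat_lit 744331017))) (.leaf (nat_lit 539231762))) (.node (.leaf
    (nat_lit 64613634)) (.leaf (nat_lit 375065612)))) (.node (.node (.leaf (nat_lit 167854345))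
    (.leaf (nat_lit 665955854))) (.node (.leaf (nat_lit 373862673)) (.leaf (nat_lit 256183043)))))
    (.node (.node (.node (.leaf (nat_lit 84943378)) (.leaf (nat_lit 596214545))) (.node (.leaf
    (nat_lit 311526662)) (.leaf (nat_lit 212479751)))) (.node (.node (.leaf (nat_lit 219783948))
    (.leaf (nat_lit 327291660))) (.node (.leaf (nat_lit 463173897)) (.leaf (nat_lit 305489154))))))
    (.node (.node (.node (.node (.node (.leaf (nat_lit 62920457)) (.leaf (nat_lit 764160527)))
    (.leaf (nat_lit 194784523))) (.node (.leaf (nat_lit 174665733)) (.leaf (nat_lit 247117824))))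
    (.node (.node (.leaf (nat_lit 193032207)) (.leaf (nat_lit 201976587))) (.node (.leaf (nat_lit
    413722118)) (.leaf (nat_lit 602752778))))) (.node (.node (.node (.leaf (nat_lit 26800133))
    (.leaf (nat_lit 633445642))) (.node (.leaf (nat_lit 336660496)) (.leaf (nat_lit 537049611))))
    (.node (.node (.leaf (nat_lit 234471177)) (.leaf (nat_lit 342441737))) (.node (.leaf (nat_lit
    506011659)) (.leaf (nat_lit 572357381)))))))))) (.node (.node (.node (.node (.node (.node
    (.node (.node (.node (.leaf (nat_lit 1049355)) (.leaf (nat_lit 713916943))) (.leaf (nat_lit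
    183226114))) (.node (.leaf (nat_lit 174179585)) (.leaf (nat_lit 366700288)))) (.node (.node
    (.leaf (nat_lit 140523268)) (.leaf (nat_lit 639419394))) (.node (.leaf (nat_lit 99257099))
    (.leaf (nat_lit 199964416))))) (.node (.node (.node (.node (.leaf (nat_lit 55083013)) (.leaf
    (nat_lit 746960143))) (.leaf (nat_lit 568081161))) (.node (.leaf (nat_lit 283255298)) (.leaf
    (nat_lit 304380416)))) (.node (.node (.leaf (nat_lit 196704267)) (.leaf (nat_lit 266633986)))
    (.node (.leaf (nat_lit 138618626)) (.leaf (nat_lit 591744267)))))) (.node (.node (.node (.node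
    (.node (.leaf (nat_lit 38289673)) (.leaf (nat_lit 753228807))) (.leaf (nat_lit 378801925)))
    (.node (.leaf (nat_lit 262776578)) (.leaf (nat_lit 367224832)))) (.node (.node (.leaf (nat_lit
    45697553)) (.leaf (nat_lit 574949378))) (.node (.leaf (nat_lit 167433478)) (.leaf (nat_lit
    305476104))))) (.node (.node (.node (.leaf (nat_lit 81834502)) (.leaf (nat_lit 601458698)))
    (.node (.leaf (nat_lit 103962114)) (.leaf (nat_lit 522309391)))) (.node (.node (.leaf (nat_lit
    18923008)) (.leaf (nat_lit 125847307))) (.node (.leaf (nat_lit 474629377)) (.leaf (nat_lit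
    581790209))))))) (.node (.node (.node (.node (.node (.node (.leaf (nat_lit 13115912)) (.leaf
    (nat_lit 723881738))) (.leaf (nat_lit 173274114))) (.node (.leaf (nat_lit 93969413)) (.leaf
    (nat_lit 444308480)))) (.node (.node (.leaf (nat_lit 160448783)) (.leaf (nat_lit 222616329)))
    (.node (.leaf (nat_lit 359179794)) (.leaf (nat_lit 578608393))))) (.node (.node (.node (.node
    (.leaf (nat_lit 18387457)) (.leaf (nat_lit 773152521))) (.leaf (nat_lit 584866831))) (.node
    (.leaf (nat_lit 296874243)) (.leaf (nat_lit 577440778)))) (.node (.node (.leaf (nat_lit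
    198807559)) (.leaf (nat_lit 113323008))) (.node (.leaf (nat_lit 453666305)) (.leaf (nat_lit
    301292808)))))) (.node (.node (.node (.node (.node (.leaf (nat_lit 51405314)) (.leaf (nat_lit
    752199938))) (.leaf (nat_lit 318388492))) (.node (.leaf (nat_lit 224006921)) (.leaf (nat_lit
    229783811)))) (.node (.node (.leaf (nat_lit 90791954)) (.leaf (nat_lit 537209601))) (.node
    (.leaf (nat_lit 400082438)) (.leaf (nat_lit 402984974))))) (.node (.node (.node (.leaf (nat_lit
    112777227)) (.leaf (nat_lit 568631045))) (.node (.leaf (nat_lit 329816076)) (.leaf (nat_lit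
    440019457)))) (.node (.node (.leaf (nat_lit 225468178)) (.leaf (nat_lit 157900800))) (.node
    (.leaf (nat_lit 493422083)) (.leaf (nat_lit 683490571)))))))) (.node (.node (.node (.node
    (.node (.node (.node (.leaf (nat_lit 9439496)) (.leaf (nat_lit 742558216))) (.leaf (nat_lit
    522270477))) (.node (.leaf (nat_lit 242821644)) (.leaf (nat_lit 482528777)))) (.node (.node
    (.leaf (nat_lit 90251025)) (.leaf (nat_lit 647078159))) (.node (.leaf (nat_lit 229791493))
    (.leaf (nat_lit 294976768))))) (.node (.node (.node (.node (.leaf (nat_lit 51933193)) (.leaf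
    (nat_lit 754826242))) (.leaf (nat_lit 208948481))) (.node (.leaf (nat_lit 241838342)) (.leaf
    (nat_lit 199438351)))) (.node (.node (.leaf (nat_lit 202920963)) (.leaf (nat_lit 18884608)))
    (.node (.leaf (nat_lit 320029189)) (.leaf (nat_lit 587552011)))))) (.node (.node (.node (.node
    (.node (.leaf (nat_lit 45092356)) (.leaf (nat_lit 723886601))) (.leaf (nat_lit 552729345)))
    (.node (.leaf (nat_lit 268538630)) (.leaf (nat_lit 23637260)))) (.node (.node (.leaf (nat_lit
    179393809)) (.leaf (nat_lit 519903503))) (.node (.leaf (nat_lit 184216581)) (.leaf (nat_lit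
    400898063))))) (.node (.node (.node (.leaf (nat_lit 75547138)) (.leaf (nat_lit 612667659)))
    (.node (.leaf (nat_lit 207776518)) (.leaf (nat_lit 601590278)))) (.node (.node (.leaf (nat_lit
    48824846)) (.leaf (nat_lit 183029510))) (.node (.leaf (nat_lit 486081282)) (.leaf (nat_lit
    563441157))))))) (.node (.node (.node (.node (.node (.node (.leaf (nat_lit 33570819)) (.leaf
    (nat_lit 711300360))) (.leaf (nat_lit 517734918))) (.node (.leaf (nat_lit 256930567)) (.leaf
    (nat_lit 465655819)))) (.node (.node (.leaf (nat_lit 166763536)) (.leaf (nat_lit 549253637)))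
    (.node (.leaf (nat_lit 371821574)) (.leaf (nat_lit 573365008))))) (.node (.node (.node (.node
    (.leaf (nat_lit 23604227)) (.leaf (nat_lit 776316682))) (.leaf (nat_lit 595165707))) (.node
    (.leaf (nat_lit 310414865)) (.leaf (nat_lit 208885506)))) (.node (.node (.leaf (nat_lit
    219175691)) (.leaf (nat_lit 167425536))) (.node (.leaf (nat_lit 137065480)) (.leaf (nat_lit
    572875266)))))) (.node (.node (.node (.node (.node (.leaf (nat_lit 45118469)) (.leaf (nat_lit
    752201473))) (.leaf (nat_lit 559510788))) (.node (.leaf (nat_lit 283778320)) (.leaf (nat_lit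
    564400401)))) (.node (.node (.leaf (nat_lit 42036489)) (.leaf (nat_lit 195830802))) (.node
    (.leaf (nat_lit 131797249)) (.leaf (nat_lit 286606347))))) (.node (.node (.node (.leaf (nat_lit
    116452610)) (.leaf (nat_lit 612676354))) (.node (.leaf (nat_lit 98205446)) (.leaf (nat_lit
    319953927)))) (.node (.node (.leaf (nat_lit 53591558)) (.leaf (nat_lit 103942658))) (.node
    (.leaf (nat_lit 504086540)) (.leaf (nat_lit 547191302))))))))) (.node (.node (.node (.node
    (.node (.node (.node (.node (.leaf (nat_lit 4718863)) (.leaf (nat_lit 567556618))) (.leaf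
    (nat_lit 327407890))) (.node (.leaf (nat_lit 239626002)) (.leaf (nat_lit 458835465)))) (.node
    (.node (.leaf (nat_lit 146290699)) (.leaf (nat_lit 641310731))) (.node (.leaf (nat_lit
    275944450)) (.leaf (nat_lit 347736082))))) (.node (.node (.node (.node (.leaf (nat_lit
    14165512)) (.leaf (nat_lit 565557259))) (.leaf (nat_lit 336349186))) (.node (.leaf (nat_lit
    289547021)) (.leaf (nat_lit 293312262)))) (.node (.node (.leaf (nat_lit 199315977)) (.leaf
    (nat_lit 26814208))) (.node (.leaf (nat_lit 430494475)) (.leaf (nat_lit 606425105)))))) (.node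
    (.node (.node (.node (.node (.leaf (nat_lit 41438985)) (.leaf (nat_lit 754732818))) (.leaf
    (nat_lit 515118598))) (.node (.leaf (nat_lit 263322372)) (.leaf (nat_lit 351949569)))) (.node
    (.node (.leaf (nat_lit 175722768)) (.leaf (nat_lit 679770898))) (.node (.leaf (nat_lit
    386447374)) (.leaf (nat_lit 581776642))))) (.node (.node (.node (.leaf (nat_lit 96478987))
    (.leaf (nat_lit 606897675))) (.node (.leaf (nat_lit 317231373)) (.leaf (nat_lit 311654144))))
    (.node (.node (.leaf (nat_lit 27307015)) (.leaf (nat_lit 314771968))) (.node (.leaf (nat_lit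
    257135630)) (.leaf (nat_lit 638938379))))))) (.node (.node (.node (.node (.node (.node (.leaf
    (nat_lit 28313357)) (.leaf (nat_lit 645763601))) (.leaf (nat_lit 531888649))) (.node (.leaf
    (nat_lit 232907529)) (.leaf (nat_lit 301193472)))) (.node (.node (.leaf (nat_lit 162084112))
    (.leaf (nat_lit 657041669))) (.node (.leaf (nat_lit 364424451)) (.leaf (nat_lit 449009676)))))
    (.node (.node (.node (.node (.leaf (nat_lit 27826437)) (.leaf (nat_lit 637912329))) (.leaf
    (nat_lit 588965637))) (.node (.leaf (nat_lit 299404049)) (.leaf (nat_lit 268054026)))) (.node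
    (.node (.leaf (nat_lit 198809098)) (.leaf (nat_lit 693907215))) (.node (.leaf (nat_lit
    458812170)) (.leaf (nat_lit 721239043)))))) (.node (.node (.node (.node (.node (.leaf (nat_lit
    56627977)) (.leaf (nat_lit 742239241))) (.leaf (nat_lit 350395404))) (.node (.leaf (nat_lit
    280055052)) (.leaf (nat_lit 590997775)))) (.node (.node (.leaf (nat_lit 42034690)) (.leaf
    (nat_lit 696553732))) (.node (.leaf (nat_lit 405334799)) (.leaf (nat_lit 704463119))))) (.node
    (.node (.node (.leaf (nat_lit 119548945)) (.leaf (nat_lit 626628364))) (.node (.leaf (nat_lit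
    332437771)) (.leaf (nat_lit 289492234)))) (.node (.node (.leaf (nat_lit 229143816)) (.leaf
    (nat_lit 329950720))) (.node (.leaf (nat_lit 498666248)) (.leaf (nat_lit 733257744))))))))
    (.node (.node (.node (.node (.node (.node (.node (.leaf (nat_lit 13638156)) (.leaf (nat_lit
    731220753))) (.leaf (nat_lit 382987013))) (.node (.leaf (nat_lit 247060498)) (.leaf (nat_lit
    228266258)))) (.node (.node (.leaf (nat_lit 62465804)) (.leaf (nat_lit 537188099))) (.node
    (.leaf (nat_lit 354985227)) (.leaf (nat_lit 403341571))))) (.node (.node (.node (.node (.leaf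
    (nat_lit 71835907)) (.leaf (nat_lit 769507081))) (.leaf (nat_lit 252467211))) (.node (.leaf
    (nat_lit 271200009)) (.leaf (nat_lit 613538827)))) (.node (.node (.leaf (nat_lit 206591247))
    (.leaf (nat_lit 461632256))) (.node (.leaf (nat_lit 446840325)) (.leaf (nat_lit 717374982))))))
    (.node (.node (.node (.node (.node (.leaf (nat_lit 49287430)) (.leaf (nat_lit 757961990)))
    (.leaf (nat_lit 189013766))) (.node (.leaf (nat_lit 75630857)) (.leaf (nat_lit 323601935))))
    (.node (.node (.leaf (nat_lit 181484809)) (.leaf (nat_lit 283408395))) (.node (.leaf (nat_lit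
    396935434)) (.leaf (nat_lit 702362627))))) (.node (.node (.node (.leaf (nat_lit 23644930))
    (.leaf (nat_lit 535598594))) (.node (.leaf (nat_lit 301524997)) (.leaf (nat_lit 260857864))))
    (.node (.node (.leaf (nat_lit 100707078)) (.leaf (nat_lit 435935488))) (.node (.leaf (nat_lit
    422765573)) (.leaf (nat_lit 568160517))))))) (.node (.node (.node (.node (.node (.node (.leaf
    (nat_lit 36704778)) (.leaf (nat_lit 751497232))) (.leaf (nat_lit 519309827))) (.node (.leaf
    (nat_lit 236580866)) (.leaf (nat_lit 22547471)))) (.node (.node (.leaf (nat_lit 53560581))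
    (.leaf (nat_lit 668793858))) (.node (.leaf (nat_lit 375436037)) (.leaf (nat_lit 665128966)))))
    (.node (.node (.node (.leaf (nat_lit 89138186)) (.leaf (nat_lit 205288195))) (.node (.leaf
    (nat_lit 294278406)) (.leaf (nat_lit 307375372)))) (.node (.node (.leaf (nat_lit 26752009))
    (.leaf (nat_lit 341421062))) (.node (.leaf (nat_lit 469824002)) (.leaf (nat_lit 293955343))))))
    (.node (.node (.node (.node (.node (.leaf (nat_lit 65043471)) (.leaf (nat_lit 572895751)))
    (.leaf (nat_lit 562835724))) (.node (.leaf (nat_lit 67770624)) (.leaf (nat_lit 444907008))))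
    (.node (.node (.leaf (nat_lit 82880768)) (.leaf (nat_lit 585234695))) (.node (.leaf (nat_lit
    417386245)) (.leaf (nat_lit 709116428))))) (.node (.node (.node (.leaf (nat_lit 28899337))
    (.leaf (nat_lit 635543298))) (.node (.leaf (nat_lit 338331138)) (.leaf (nat_lit 541280014))))
    (.node (.node (.leaf (nat_lit 234995727)) (.leaf (nat_lit 296366351))) (.node (.leaf (nat_lit
    507758604)) (.leaf (nat_lit 737508880))))))))))) (.node (.node (.node (.node (.node (.node
    (.node (.node (.node (.node (.leaf (nat_lit 524553)) (.leaf (nat_lit 738886925))) (.leaf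
    (nat_lit 510732048))) (.node (.leaf (nat_lit 74564613)) (.leaf (nat_lit 602564872)))) (.node
    (.node (.leaf (nat_lit 111740170)) (.leaf (nat_lit 271367944))) (.node (.leaf (nat_lit
    340303120)) (.leaf (nat_lit 546960394))))) (.node (.node (.node (.node (.leaf (nat_lit
    17334017)) (.leaf (nat_lit 766260490))) (.leaf (nat_lit 567032073))) (.node (.leaf (nat_lit
    248127749)) (.leaf (nat_lit 291729664)))) (.node (.node (.leaf (nat_lit 196104456)) (.leaf
    (nat_lit 556047872))) (.node (.leaf (nat_lit 417539083)) (.leaf (nat_lit 708135938)))))) (.node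
    (.node (.node (.node (.node (.leaf (nat_lit 37765642)) (.leaf (nat_lit 752713219))) (.leaf
    (nat_lit 330042886))) (.node (.leaf (nat_lit 217183233)) (.leaf (nat_lit 101855756)))) (.node
    (.node (.leaf (nat_lit 172574732)) (.leaf (nat_lit 548734726))) (.node (.leaf (nat_lit
    379630861)) (.leaf (nat_lit 615854603))))) (.node (.node (.node (.leaf (nat_lit 92821766))
    (.leaf (nat_lit 265582607))) (.node (.leaf (nat_lit 77108224)) (.leaf (nat_lit 522349329))))
    (.node (.node (.leaf (nat_lit 154772753)) (.leaf (nat_lit 341483019))) (.node (.leaf (nat_lit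
    214664460)) (.leaf (nat_lit 713910532))))))) (.node (.node (.node (.node (.node (.node (.leaf
    (nat_lit 16261132)) (.leaf (nat_lit 745707779))) (.leaf (nat_lit 529104402))) (.node (.leaf
    (nat_lit 225565449)) (.leaf (nat_lit 323724032)))) (.node (.node (.leaf (nat_lit 35729154))
    (.leaf (nat_lit 485808655))) (.node (.leaf (nat_lit 348301836)) (.leaf (nat_lit 319948555)))))
    (.node (.node (.node (.node (.leaf (nat_lit 20483842)) (.leaf (nat_lit 772646418))) (.leaf
    (nat_lit 584340995))) (.node (.leaf (nat_lit 99235078)) (.leaf (nat_lit 231362826)))) (.node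
    (.node (.leaf (nat_lit 207195908)) (.leaf (nat_lit 476907776))) (.node (.leaf (nat_lit
    453043728)) (.leaf (nat_lit 719455247)))))) (.node (.node (.node (.node (.node (.leaf (nat_lit
    11034896)) (.leaf (nat_lit 749578246))) (.leaf (nat_lit 362553601))) (.node (.leaf (nat_lit
    277380877)) (.leaf (nat_lit 468392449)))) (.node (.node (.leaf (nat_lit 184044049)) (.leaf
    (nat_lit 278735377))) (.node (.leaf (nat_lit 398568451)) (.leaf (nat_lit 676675074))))) (.node
    (.node (.node (.leaf (nat_lit 106484994)) (.leaf (nat_lit 619287297))) (.node (.leaf (nat_lit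
    86668041)) (.leaf (nat_lit 572287754)))) (.node (.node (.leaf (nat_lit 220834820)) (.leaf
    (nat_lit 391842560))) (.node (.leaf (nat_lit 455322369)) (.leaf (nat_lit 582831883))))))))
    (.node (.node (.node (.node (.node (.node (.node (.leaf (nat_lit 8392706)) (.leaf (nat_lit
    740656649))) (.leaf (nat_lit 520347915))) (.node (.leaf (nat_lit 242772234)) (.leaf (nat_lit
    116469002)))) (.node (.node (.leaf (nat_lit 141106181)) (.leaf (nat_lit 616353543))) (.node
    (.leaf (nat_lit 104503305)) (.leaf (nat_lit 341639184))))) (.node (.node (.node (.node (.leaf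
    (nat_lit 7367680)) (.leaf (nat_lit 769407494))) (.leaf (nat_lit 274484226))) (.node (.leaf
    (nat_lit 54642688)) (.leaf (nat_lit 269673216)))) (.node (.node (.leaf (nat_lit 200888583))
    (.leaf (nat_lit 583652106))) (.node (.leaf (nat_lit 334184449)) (.leaf (nat_lit 712856580))))))
    (.node (.node (.node (.node (.node (.leaf (nat_lit 42488335)) (.leaf (nat_lit 755867399)))
    (.leaf (nat_lit 551641092))) (.node (.leaf (nat_lit 221380369)) (.leaf (nat_lit 319508235))))
    (.node (.node (.leaf (nat_lit 176772356)) (.leaf (nat_lit 647304465))) (.node (.leaf (nat_lit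
    167438344)) (.leaf (nat_lit 256194310))))) (.node (.node (.node (.leaf (nat_lit 100188171))
    (.leaf (nat_lit 611085315))) (.node (.leaf (nat_lit 323523344)) (.leaf (nat_lit 322736643))))
    (.node (.node (.leaf (nat_lit 37291526)) (.leaf (nat_lit 406526720))) (.node (.leaf (nat_lit
    420191506)) (.leaf (nat_lit 566011400))))))) (.node (.node (.node (.node (.node (.node (.leaf
    (nat_lit 6307599)) (.leaf (nat_lit 749386767))) (.leaf (nat_lit 255066115))) (.node (.leaf
    (nat_lit 235530497)) (.leaf (nat_lit 106481666)))) (.node (.node (.leaf (nat_lit 146881544))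
    (.leaf (nat_lit 662808849))) (.node (.leaf (nat_lit 102416908)) (.leaf (nat_lit 218943504)))))
    (.node (.node (.node (.node (.leaf (nat_lit 25178117)) (.leaf (nat_lit 748013583))) (.leaf
    (nat_lit 267152144))) (.node (.leaf (nat_lit 306744336)) (.leaf (nat_lit 448999697)))) (.node
    (.node (.leaf (nat_lit 217161231)) (.leaf (nat_lit 85128448))) (.node (.leaf (nat_lit
    417035014)) (.leaf (nat_lit 196361741)))))) (.node (.node (.node (.node (.node (.leaf (nat_lit
    58225168)) (.leaf (nat_lit 762661643))) (.leaf (nat_lit 558987524))) (.node (.leaf (nat_lit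
    259660809)) (.leaf (nat_lit 304413196)))) (.node (.node (.leaf (nat_lit 42560513)) (.leaf
    (nat_lit 260863232))) (.node (.leaf (nat_lit 397610247)) (.leaf (nat_lit 707085328))))) (.node
    (.node (.node (.leaf (nat_lit 111733767)) (.leaf (nat_lit 585412872))) (.node (.leaf (nat_lit
    41462540)) (.leaf (nat_lit 240271877)))) (.node (.node (.leaf (nat_lit 160546064)) (.leaf
    (nat_lit 76133898))) (.node (.leaf (nat_lit 503387911)) (.leaf (nat_lit 702859271)))))))))
    (.node (.node (.node (.node (.node (.node (.node (.node (.leaf (nat_lit 1574152)) (.leaf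
    (nat_lit 723868680))) (.leaf (nat_lit 406574608))) (.node (.leaf (nat_lit 238666754)) (.leaf
    (nat_lit 398094085)))) (.node (.node (.leaf (nat_lit 144193542)) (.leaf (nat_lit 640453633)))
    (.node (.leaf (nat_lit 273322514)) (.leaf (nat_lit 304745730))))) (.node (.node (.node (.node
    (.leaf (nat_lit 57181703)) (.leaf (nat_lit 723367690))) (.leaf (nat_lit 572093970))) (.node
    (.leaf (nat_lit 280635397)) (.leaf (nat_lit 252354304)))) (.node (.node (.leaf (nat_lit
    198726403)) (.leaf (nat_lit 570587649))) (.node (.leaf (nat_lit 427348233)) (.leaf (nat_lit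
    600133388)))))) (.node (.node (.node (.node (.node (.leaf (nat_lit 7345925)) (.leaf (nat_lit
    745816328))) (.leaf (nat_lit 547446029))) (.node (.leaf (nat_lit 60420608)) (.leaf (nat_lit
    498745095)))) (.node (.node (.leaf (nat_lit 70340612)) (.leaf (nat_lit 678760203))) (.node
    (.leaf (nat_lit 340974092)) (.leaf (nat_lit 609563657))))) (.node (.node (.node (.leaf (nat_lit
    81835281)) (.leaf (nat_lit 605841410))) (.node (.leaf (nat_lit 315658506)) (.leaf (nat_lit
    373430018)))) (.node (.node (.leaf (nat_lit 125932544)) (.leaf (nat_lit 615684609))) (.node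
    (.leaf (nat_lit 349409798)) (.leaf (nat_lit 578120720))))))) (.node (.node (.node (.node (.node
    (.node (.leaf (nat_lit 24643334)) (.leaf (nat_lit 747475212))) (.leaf (nat_lit 514586889)))
    (.node (.leaf (nat_lit 251781135)) (.leaf (nat_lit 303789312)))) (.node (.node (.leaf (nat_lit
    163132945)) (.leaf (nat_lit 513597458))) (.node (.leaf (nat_lit 360887568)) (.leaf (nat_lit
    96599566))))) (.node (.node (.node (.node (.leaf (nat_lit 21010180)) (.leaf (nat_lit
    668320779))) (.leaf (nat_lit 387211791))) (.node (.leaf (nat_lit 188364805)) (.leaf (nat_lit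
    212365834)))) (.node (.node (.leaf (nat_lit 211834637)) (.leaf (nat_lit 241960967))) (.node
    (.leaf (nat_lit 456714250)) (.leaf (nat_lit 275078924)))))) (.node (.node (.node (.node (.node
    (.leaf (nat_lit 54552594)) (.leaf (nat_lit 638954252))) (.leaf (nat_lit 350395141))) (.node
    (.leaf (nat_lit 177346053)) (.leaf (nat_lit 77220355)))) (.node (.node (.leaf (nat_lit
    51471113)) (.leaf (nat_lit 389361414))) (.node (.leaf (nat_lit 159056900)) (.leaf (nat_lit
    350568466))))) (.node (.node (.node (.leaf (nat_lit 117451787)) (.leaf (nat_lit 624530956)))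
    (.node (.leaf (nat_lit 331913476)) (.leaf (nat_lit 289669888)))) (.node (.node (.leaf (nat_lit
    210351110)) (.leaf (nat_lit 107555072))) (.node (.leaf (nat_lit 497617666)) (.leaf (nat_lit
    701855233)))))))) (.node (.node (.node (.node (.node (.node (.node (.leaf (nat_lit 8395013))
    (.leaf (nat_lit 742754834))) (.leaf (nat_lit 392879116))) (.node (.leaf (nat_lit 58840835))
    (.leaf (nat_lit 23128320)))) (.node (.node (.leaf (nat_lit 154740745)) (.leaf (nat_lit
    537168648))) (.node (.leaf (nat_lit 90350082)) (.leaf (nat_lit 637847553))))) (.node (.node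
    (.node (.node (.leaf (nat_lit 16288006)) (.leaf (nat_lit 571325961))) (.leaf (nat_lit
    582756609))) (.node (.leaf (nat_lit 218246409)) (.leaf (nat_lit 181002767)))) (.node (.node
    (.leaf (nat_lit 47286017)) (.leaf (nat_lit 351465728))) (.node (.leaf (nat_lit 446226450))
    (.leaf (nat_lit 716975122)))))) (.node (.node (.node (.node (.node (.leaf (nat_lit 48762887))
    (.leaf (nat_lit 757346567))) (.leaf (nat_lit 189537793))) (.node (.leaf (nat_lit 271613196))
    (.leaf (nat_lit 294808834)))) (.node (.node (.leaf (nat_lit 76110096)) (.leaf (nat_lit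
    583868934))) (.node (.leaf (nat_lit 317387281)) (.leaf (nat_lit 701796866))))) (.node (.node
    (.node (.leaf (nat_lit 104875273)) (.leaf (nat_lit 310678793))) (.node (.leaf (nat_lit
    279080975)) (.leaf (nat_lit 645199105)))) (.node (.node (.leaf (nat_lit 29957376)) (.leaf
    (nat_lit 77330432))) (.node (.leaf (nat_lit 154903570)) (.leaf (nat_lit 730122251))))))) (.node
    (.node (.node (.node (.node (.node (.leaf (nat_lit 35669249)) (.leaf (nat_lit 399349776)))
    (.leaf (nat_lit 245106690))) (.node (.leaf (nat_lit 259552018)) (.leaf (nat_lit 235996172))))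
    (.node (.node (.leaf (nat_lit 166806273)) (.leaf (nat_lit 228390924))) (.node (.leaf (nat_lit
    371902977)) (.leaf (nat_lit 242545674))))) (.node (.node (.node (.leaf (nat_lit 85992449))
    (.leaf (nat_lit 577532433))) (.node (.leaf (nat_lit 79320071)) (.leaf (nat_lit 609400587))))
    (.node (.node (.leaf (nat_lit 27325952)) (.leaf (nat_lit 403337227))) (.node (.leaf (nat_lit
    343113231)) (.leaf (nat_lit 724344844)))))) (.node (.node (.node (.node (.node (.leaf (nat_lit
    63470091)) (.leaf (nat_lit 560837135))) (.leaf (nat_lit 558116370))) (.node (.leaf (nat_lit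
    161559568)) (.leaf (nat_lit 206807040)))) (.node (.node (.leaf (nat_lit 194007047)) (.leaf
    (nat_lit 575954177))) (.node (.leaf (nat_lit 416337169)) (.leaf (nat_lit 303384586))))) (.node
    (.node (.node (.leaf (nat_lit 127414287)) (.leaf (nat_lit 583318279))) (.node (.leaf (nat_lit
    333087762)) (.leaf (nat_lit 440174351)))) (.node (.node (.leaf (nat_lit 212975621)) (.leaf
    (nat_lit 103979535))) (.node (.leaf (nat_lit 507142417)) (.leaf (nat_lit 560823308))))))))))
    (.node (.node (.node (.node (.node (.node (.node (.node (.node (.leaf (nat_lit 1049606)) (.leaf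
    (nat_lit 733315857))) (.leaf (nat_lit 461099268))) (.node (.leaf (nat_lit 94488070)) (.leaf
    (nat_lit 406534672)))) (.node (.node (.leaf (nat_lit 142620432)) (.leaf (nat_lit 635225103)))
    (.node (.leaf (nat_lit 342400528)) (.leaf (nat_lit 277670144))))) (.node (.node (.node (.node
    (.leaf (nat_lit 55601411)) (.leaf (nat_lit 578663947))) (.leaf (nat_lit 569996814))) (.node
    (.leaf (nat_lit 284775172)) (.leaf (nat_lit 212461312)))) (.node (.node (.leaf (nat_lit
    195127307)) (.leaf (nat_lit 245151232))) (.node (.leaf (nat_lit 330508562)) (.leaf (nat_lit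
    394611982)))))) (.node (.node (.node (.node (.node (.leaf (nat_lit 28855058)) (.leaf (nat_lit
    753754386))) (.leaf (nat_lit 314839045))) (.node (.leaf (nat_lit 264894736)) (.leaf (nat_lit
    76165390)))) (.node (.node (.leaf (nat_lit 54610947)) (.leaf (nat_lit 615844101))) (.node
    (.leaf (nat_lit 381203980)) (.leaf (nat_lit 385676558))))) (.node (.node (.node (.leaf (nat_lit
    38843152)) (.leaf (nat_lit 528776449))) (.node (.leaf (nat_lit 87081480)) (.leaf (nat_lit
    280829952)))) (.node (.node (.leaf (nat_lit 21537800)) (.leaf (nat_lit 415485696))) (.node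
    (.leaf (nat_lit 477690898)) (.leaf (nat_lit 565537295))))))) (.node (.node (.node (.node (.node
    (.node (.leaf (nat_lit 18359055)) (.leaf (nat_lit 653095946))) (.leaf (nat_lit 262928144)))
    (.node (.leaf (nat_lit 250638091)) (.leaf (nat_lit 433283074)))) (.node (.node (.leaf (nat_lit
    52507396)) (.leaf (nat_lit 652008451))) (.node (.leaf (nat_lit 90877955)) (.leaf (nat_lit
    274861312))))) (.node (.node (.node (.node (.leaf (nat_lit 77078541)) (.leaf (nat_lit
    751158021))) (.leaf (nat_lit 547118353))) (.node (.leaf (nat_lit 190461705)) (.leaf (nat_lit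
    582164488)))) (.node (.node (.leaf (nat_lit 66162959)) (.leaf (nat_lit 105466624))) (.node
    (.leaf (nat_lit 322118148)) (.leaf (nat_lit 691887370)))))) (.node (.node (.node (.node (.node
    (.leaf (nat_lit 51929873)) (.leaf (nat_lit 760436754))) (.leaf (nat_lit 555492098))) (.node
    (.leaf (nat_lit 76064519)) (.leaf (nat_lit 276454923)))) (.node (.node (.leaf (nat_lit
    185617413)) (.leaf (nat_lit 649407504))) (.node (.leaf (nat_lit 402704135)) (.leaf (nat_lit
    704459531))))) (.node (.node (.node (.leaf (nat_lit 115354386)) (.leaf (nat_lit 621384962)))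
    (.node (.leaf (nat_lit 330455303)) (.leaf (nat_lit 282402048)))) (.node (.node (.leaf (nat_lit
    225992716)) (.leaf (nat_lit 238667532))) (.node (.leaf (nat_lit 478916362)) (.leaf (nat_lit
    572355334)))))))) (.node (.node (.node (.node (.node (.node (.node (.leaf (nat_lit 8393993))
    (.leaf (nat_lit 739522059))) (.leaf (nat_lit 523844364))) (.node (.leaf (nat_lit 240243468))
    (.leaf (nat_lit 311116288)))) (.node (.node (.leaf (nat_lit 152058378)) (.leaf (nat_lit
    634159634))) (.node (.leaf (nat_lit 85629703)) (.leaf (nat_lit 226812943))))) (.node (.node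
    (.node (.node (.leaf (nat_lit 43542283)) (.leaf (nat_lit 770457099))) (.leaf (nat_lit
    578040322))) (.node (.leaf (nat_lit 291014407)) (.leaf (nat_lit 216688135)))) (.node (.node
    (.leaf (nat_lit 199328770)) (.leaf (nat_lit 278558464))) (.node (.leaf (nat_lit 119227915))
    (.leaf (nat_lit 716307714)))))) (.node (.node (.node (.node (.node (.leaf (nat_lit 47189519))
    (.leaf (nat_lit 746431247))) (.leaf (nat_lit 263283714))) (.node (.leaf (nat_lit 261751057))
    (.leaf (nat_lit 132270091)))) (.node (.node (.leaf (nat_lit 70342403)) (.leaf (nat_lit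
    685883152))) (.node (.leaf (nat_lit 392875522)) (.leaf (nat_lit 475347202))))) (.node (.node
    (.node (.leaf (nat_lit 102770951)) (.leaf (nat_lit 575249930))) (.node (.leaf (nat_lit
    94006532)) (.leaf (nat_lit 367332105)))) (.node (.node (.leaf (nat_lit 26803471)) (.leaf
    (nat_lit 655070476))) (.node (.leaf (nat_lit 436969483)) (.leaf (nat_lit 729633282)))))))
    (.node (.node (.node (.node (.node (.node (.leaf (nat_lit 9453828)) (.leaf (nat_lit
    733845002))) (.leaf (nat_lit 521405449))) (.node (.leaf (nat_lit 256931602)) (.leaf (nat_lit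
    158020096)))) (.node (.node (.leaf (nat_lit 93404945)) (.leaf (nat_lit 516748041))) (.node
    (.leaf (nat_lit 200984325)) (.leaf (nat_lit 256088328))))) (.node (.node (.node (.node (.leaf
    (nat_lit 81816071)) (.leaf (nat_lit 702925068))) (.leaf (nat_lit 584347660))) (.node (.leaf
    (nat_lit 171069713)) (.leaf (nat_lit 581679366)))) (.node (.node (.leaf (nat_lit 82878208))
    (.leaf (nat_lit 91910656))) (.node (.leaf (nat_lit 418084865)) (.leaf (nat_lit 549282572))))))
    (.node (.node (.node (.node (.node (.leaf (nat_lit 61871876)) (.leaf (nat_lit 707637259)))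
    (.leaf (nat_lit 188492811))) (.node (.leaf (nat_lit 177820434)) (.leaf (nat_lit 393420298))))
    (.node (.node (.leaf (nat_lit 191909392)) (.leaf (nat_lit 257714432))) (.node (.leaf (nat_lit
    121312002)) (.leaf (nat_lit 707914513))))) (.node (.node (.node (.leaf (nat_lit 106491400))
    (.leaf (nat_lit 632075537))) (.node (.leaf (nat_lit 220889104)) (.leaf (nat_lit 615631370))))
    (.node (.node (.leaf (nat_lit 53067273)) (.leaf (nat_lit 570619655))) (.node (.leaf (nat_lit
    157008387)) (.leaf (nat_lit 735399180))))))))) (.node (.node (.node (.node (.node (.node (.node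
    (.node (.leaf (nat_lit 5767441)) (.leaf (nat_lit 675644687))) (.leaf (nat_lit 515103241)))
    (.node (.leaf (nat_lit 240745226)) (.leaf (nat_lit 351996672)))) (.node (.node (.leaf (nat_lit
    146816773)) (.leaf (nat_lit 642883600))) (.node (.leaf (nat_lit 276469009)) (.leaf (nat_lit
    223115271))))) (.node (.node (.node (.node (.leaf (nat_lit 52460032)) (.leaf (nat_lit
    569227529))) (.leaf (nat_lit 568609284))) (.node (.leaf (nat_lit 161565956)) (.leaf (nat_lit
    618791697)))) (.node (.node (.leaf (nat_lit 95517955)) (.leaf (nat_lit 17464064))) (.node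
    (.leaf (nat_lit 134953217)) (.leaf (nat_lit 713904393)))))) (.node (.node (.node (.node (.node
    (.leaf (nat_lit 18359052)) (.leaf (nat_lit 719691788))) (.leaf (nat_lit 535566081))) (.node
    (.leaf (nat_lit 61996049)) (.leaf (nat_lit 392906501)))) (.node (.node (.leaf (nat_lit
    177231114)) (.leaf (nat_lit 680119815))) (.node (.leaf (nat_lit 387005450)) (.leaf (nat_lit
    482162187))))) (.node (.node (.node (.leaf (nat_lit 97003277)) (.leaf (nat_lit 532935175)))
    (.node (.leaf (nat_lit 299524098)) (.leaf (nat_lit 214616064)))) (.node (.node (.leaf (nat_lit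
    167834371)) (.leaf (nat_lit 22560512))) (.node (.leaf (nat_lit 481886471)) (.leaf (nat_lit
    728584460))))))) (.node (.node (.node (.node (.node (.node (.leaf (nat_lit 31459343)) (.leaf
    (nat_lit 747475721))) (.leaf (nat_lit 534931472))) (.node (.leaf (nat_lit 254396946)) (.leaf
    (nat_lit 134948874)))) (.node (.node (.leaf (nat_lit 164149519)) (.leaf (nat_lit 572845062)))
    (.node (.leaf (nat_lit 342538767)) (.leaf (nat_lit 609460749))))) (.node (.node (.node (.node
    (.leaf (nat_lit 3672064)) (.leaf (nat_lit 741721615))) (.leaf (nat_lit 590971143))) (.node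
    (.leaf (nat_lit 299928577)) (.leaf (nat_lit 322224657)))) (.node (.node (.leaf (nat_lit
    214013961)) (.leaf (nat_lit 124338176))) (.node (.leaf (nat_lit 459860749)) (.leaf (nat_lit
    322789633)))))) (.node (.node (.node (.node (.node (.leaf (nat_lit 58725136)) (.leaf (nat_lit
    562932993))) (.leaf (nat_lit 556541193))) (.node (.leaf (nat_lit 70916610)) (.leaf (nat_lit
    132325394)))) (.node (.node (.leaf (nat_lit 188311567)) (.leaf (nat_lit 697075203))) (.node
    (.leaf (nat_lit 169019144)) (.leaf (nat_lit 648364553))))) (.node (.node (.node (.leaf (nat_lit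
    112780803)) (.leaf (nat_lit 628392707))) (.node (.leaf (nat_lit 332962063)) (.leaf (nat_lit
    214739968)))) (.node (.node (.leaf (nat_lit 231236353)) (.leaf (nat_lit 367192576))) (.node
    (.leaf (nat_lit 458471944)) (.leaf (nat_lit 314406673)))))))) (.node (.node (.node (.node
    (.node (.node (.node (.leaf (nat_lit 13114633)) (.leaf (nat_lit 667174154))) (.leaf (nat_lit
    171174928))) (.node (.leaf (nat_lit 248539905)) (.leaf (nat_lit 131851776)))) (.node (.node
    (.leaf (nat_lit 154741505)) (.leaf (nat_lit 650383114))) (.node (.leaf (nat_lit 355509516))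
    (.leaf (nat_lit 675559686))))) (.node (.node (.node (.node (.leaf (nat_lit 72883979)) (.leaf
    (nat_lit 648396802))) (.leaf (nat_lit 271194883))) (.node (.leaf (nat_lit 295733519)) (.leaf
    (nat_lit 240832015)))) (.node (.node (.leaf (nat_lit 174165003)) (.leaf (nat_lit 78365696)))
    (.node (.leaf (nat_lit 438523908)) (.leaf (nat_lit 718100745)))))) (.node (.node (.node (.node
    (.node (.leaf (nat_lit 49811719)) (.leaf (nat_lit 563455495))) (.leaf (nat_lit 553738770)))
    (.node (.leaf (nat_lit 275807761)) (.leaf (nat_lit 262825232)))) (.node (.node (.leaf (nat_lit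
    182004738)) (.leaf (nat_lit 597501446))) (.node (.leaf (nat_lit 397478150)) (.leaf (nat_lit
    645216013))))) (.node (.node (.node (.leaf (nat_lit 108538378)) (.leaf (nat_lit 275027983)))
    (.node (.leaf (nat_lit 109732101)) (.leaf (nat_lit 556572422)))) (.node (.node (.leaf (nat_lit
    221797650)) (.leaf (nat_lit 423890432))) (.node (.leaf (nat_lit 490275856)) (.leaf (nat_lit
    475361807))))))) (.node (.node (.node (.node (.node (.node (.leaf (nat_lit 9968389)) (.leaf
    (nat_lit 752021522))) (.leaf (nat_lit 543249933))) (.node (.leaf (nat_lit 44061454)) (.leaf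
    (nat_lit 602555138)))) (.node (.node (.leaf (nat_lit 171460354)) (.leaf (nat_lit 672247825)))
    (.node (.leaf (nat_lit 376484616)) (.leaf (nat_lit 611602449))))) (.node (.node (.node (.leaf
    (nat_lit 29404428)) (.leaf (nat_lit 215774465))) (.node (.leaf (nat_lit 16403968)) (.leaf
    (nat_lit 428054530)))) (.node (.node (.leaf (nat_lit 109104905)) (.leaf (nat_lit 228235023)))
    (.node (.leaf (nat_lit 468896010)) (.leaf (nat_lit 561866757)))))) (.node (.node (.node (.node
    (.node (.leaf (nat_lit 16284937)) (.leaf (nat_lit 560837390))) (.leaf (nat_lit 564228626)))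
    (.node (.leaf (nat_lit 68820481)) (.leaf (nat_lit 482105344)))) (.node (.node (.leaf (nat_lit
    190935826)) (.leaf (nat_lit 265061377))) (.node (.leaf (nat_lit 417914122)) (.leaf (nat_lit
    394086918))))) (.node (.node (.node (.leaf (nat_lit 131650570)) (.leaf (nat_lit 604290306)))
    (.node (.leaf (nat_lit 274367747)) (.leaf (nat_lit 383516934)))) (.node (.node (.leaf (nat_lit
    235955467)) (.leaf (nat_lit 650776585))) (.node (.leaf (nat_lit 342608658)) (.leaf (nat_lit
    737835536)))))))))))) (.node (.node (.node (.node (.node (.node (.node (.node (.node (.node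
    (.node (.leaf (nat_lit 15)) (.leaf (nat_lit 738033670))) (.leaf (nat_lit 406572289))) (.node
    (.leaf (nat_lit 236550918)) (.leaf (nat_lit 675479553)))) (.node (.node (.leaf (nat_lit
    117507074)) (.leaf (nat_lit 292339457))) (.node (.leaf (nat_lit 339380233)) (.leaf (nat_lit
    691813131))))) (.node (.node (.node (.node (.leaf (nat_lit 66092291)) (.leaf (nat_lit
    715502607))) (.leaf (nat_lit 565802253))) (.node (.leaf (nat_lit 285770000)) (.leaf (nat_lit
    140122888)))) (.node (.node (.leaf (nat_lit 43087111)) (.leaf (nat_lit 211391237))) (.node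
    (.leaf (nat_lit 421175815)) (.leaf (nat_lit 261966604)))))) (.node (.node (.node (.node (.node
    (.leaf (nat_lit 34621446)) (.leaf (nat_lit 737516294))) (.leaf (nat_lit 543803907))) (.node
    (.leaf (nat_lit 262272015)) (.leaf (nat_lit 310556419)))) (.node (.node (.leaf (nat_lit
    157370630)) (.leaf (nat_lit 545588745))) (.node (.leaf (nat_lit 379106572)) (.leaf (nat_lit
    631550985))))) (.node (.node (.node (.leaf (nat_lit 92844297)) (.leaf (nat_lit 599546892)))
    (.node (.leaf (nat_lit 306333708)) (.leaf (nat_lit 385092608)))) (.node (.node (.leaf (nat_lit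
    136903433)) (.leaf (nat_lit 89814017))) (.node (.leaf (nat_lit 471402503)) (.leaf (nat_lit
    293955842))))))) (.node (.node (.node (.node (.node (.node (.leaf (nat_lit 11542279)) (.leaf
    (nat_lit 745183490))) (.leaf (nat_lit 528564236))) (.node (.leaf (nat_lit 92396293)) (.leaf
    (nat_lit 665028112)))) (.node (.node (.leaf (nat_lit 158406918)) (.leaf (nat_lit 650752516)))
    (.node (.leaf (nat_lit 346728971)) (.leaf (nat_lit 420087568))))) (.node (.node (.node (.node
    (.leaf (nat_lit 74456847)) (.leaf (nat_lit 772129026))) (.leaf (nat_lit 584154127))) (.node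
    (.leaf (nat_lit 81409282)) (.leaf (nat_lit 86106380)))) (.node (.node (.leaf (nat_lit
    209212946)) (.leaf (nat_lit 108776448))) (.node (.leaf (nat_lit 451995150)) (.leaf (nat_lit
    719082249)))))) (.node (.node (.node (.node (.node (.leaf (nat_lit 50880770)) (.leaf (nat_lit
    701343759))) (.leaf (nat_lit 359932162))) (.node (.leaf (nat_lit 79826697)) (.leaf (nat_lit
    409088527)))) (.node (.node (.leaf (nat_lit 173104387)) (.leaf (nat_lit 692700173))) (.node
    (.leaf (nat_lit 220919811)) (.leaf (nat_lit 683490565))))) (.node (.node (.node (.leaf (nat_lit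
    105960450)) (.leaf (nat_lit 549755921))) (.node (.leaf (nat_lit 328254985)) (.leaf (nat_lit
    572303115)))) (.node (.node (.leaf (nat_lit 220834561)) (.leaf (nat_lit 249248768))) (.node
    (.leaf (nat_lit 139176451)) (.leaf (nat_lit 682979851)))))))) (.node (.node (.node (.node
    (.node (.node (.node (.leaf (nat_lit 7343633)) (.leaf (nat_lit 565544464))) (.leaf (nat_lit
    519647249))) (.node (.leaf (nat_lit 242247696)) (.leaf (nat_lit 564336652)))) (.node (.node
    (.leaf (nat_lit 148388097)) (.leaf (nat_lit 270323211))) (.node (.leaf (nat_lit 347772419))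
    (.leaf (nat_lit 341460237))))) (.node (.node (.node (.node (.leaf (nat_lit 45622793)) (.leaf
    (nat_lit 745912838))) (.leaf (nat_lit 559696901))) (.node (.leaf (nat_lit 67248128)) (.leaf
    (nat_lit 548524554)))) (.node (.node (.leaf (nat_lit 54099723)) (.leaf (nat_lit 561851392)))
    (.node (.leaf (nat_lit 436262929)) (.leaf (nat_lit 712332041)))))) (.node (.node (.node (.node
    (.node (.leaf (nat_lit 42470672)) (.leaf (nat_lit 718643461))) (.leaf (nat_lit 391387652)))
    (.node (.leaf (nat_lit 175767051)) (.leaf (nat_lit 320054784)))) (.node (.node (.leaf (nat_lit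
    96024583)) (.leaf (nat_lit 584913675))) (.node (.leaf (nat_lit 389593863)) (.leaf (nat_lit
    482686731))))) (.node (.node (.node (.leaf (nat_lit 99624967)) (.leaf (nat_lit 610564609)))
    (.node (.leaf (nat_lit 322474763)) (.leaf (nat_lit 280598785)))) (.node (.node (.leaf (nat_lit
    32572938)) (.leaf (nat_lit 431739904))) (.node (.leaf (nat_lit 136027152)) (.leaf (nat_lit
    565982985))))))) (.node (.node (.node (.node (.node (.node (.leaf (nat_lit 32521734)) (.leaf
    (nat_lit 648385546))) (.leaf (nat_lit 175898380))) (.node (.leaf (nat_lit 218753033)) (.leaf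
    (nat_lit 499857930)))) (.node (.node (.leaf (nat_lit 165169674)) (.leaf (nat_lit 224194062)))
    (.node (.leaf (nat_lit 369667842)) (.leaf (nat_lit 681858570))))) (.node (.node (.node (.node
    (.leaf (nat_lit 22555910)) (.leaf (nat_lit 655214345))) (.leaf (nat_lit 593068550))) (.node
    (.leaf (nat_lit 304760331)) (.leaf (nat_lit 499889168)))) (.node (.node (.leaf (nat_lit
    207199503)) (.leaf (nat_lit 82846730))) (.node (.leaf (nat_lit 462482445)) (.leaf (nat_lit
    722093582)))))) (.node (.node (.node (.node (.node (.leaf (nat_lit 59774477)) (.leaf (nat_lit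
    758492683))) (.leaf (nat_lit 197929481))) (.node (.leaf (nat_lit 283148306)) (.leaf (nat_lit
    304373509)))) (.node (.node (.leaf (nat_lit 43084548)) (.leaf (nat_lit 696908554))) (.node
    (.leaf (nat_lit 408471811)) (.leaf (nat_lit 706412040))))) (.node (.node (.node (.leaf (nat_lit
    107014915)) (.leaf (nat_lit 629431304))) (.node (.leaf (nat_lit 220888587)) (.leaf (nat_lit
    234941198)))) (.node (.node (.leaf (nat_lit 233334019)) (.leaf (nat_lit 75534600))) (.node
    (.leaf (nat_lit 146521605)) (.leaf (nat_lit 565016583))))))))) (.node (.node (.node (.node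
    (.node (.node (.node (.node (.leaf (nat_lit 1574150)) (.leaf (nat_lit 700726791))) (.leaf
    (nat_lit 387699974))) (.node (.leaf (nat_lit 61982475)) (.leaf (nat_lit 104445696)))) (.node
    (.node (.leaf (nat_lit 91296012)) (.leaf (nat_lit 639929348))) (.node (.leaf (nat_lit
    276468225)) (.leaf (nat_lit 411866112))))) (.node (.node (.node (.node (.leaf (nat_lit
    69737225)) (.leaf (nat_lit 764786444))) (.leaf (nat_lit 567558401))) (.node (.leaf (nat_lit
    267003657)) (.leaf (nat_lit 284406033)))) (.node (.node (.leaf (nat_lit 190413318)) (.leaf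
    (nat_lit 211450382))) (.node (.leaf (nat_lit 426299655)) (.leaf (nat_lit 632114948)))))) (.node
    (.node (.node (.node (.node (.leaf (nat_lit 12586501)) (.leaf (nat_lit 745381388))) (.leaf
    (nat_lit 184291849))) (.node (.leaf (nat_lit 257555205)) (.leaf (nat_lit 420133639)))) (.node
    (.node (.leaf (nat_lit 162615049)) (.leaf (nat_lit 229969169))) (.node (.leaf (nat_lit
    382776850)) (.leaf (nat_lit 431305729))))) (.node (.node (.node (.leaf (nat_lit 94906118))
    (.leaf (nat_lit 252477953))) (.node (.leaf (nat_lit 278550787)) (.leaf (nat_lit 96161024))))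
    (.node (.node (.leaf (nat_lit 80323339)) (.leaf (nat_lit 615213842))) (.node (.leaf (nat_lit
    478779921)) (.leaf (nat_lit 495807244))))))) (.node (.node (.node (.node (.node (.node (.leaf
    (nat_lit 22031106)) (.leaf (nat_lit 682463506))) (.leaf (nat_lit 533283601))) (.node (.leaf
    (nat_lit 251235849)) (.leaf (nat_lit 238700800)))) (.node (.node (.leaf (nat_lit 161036033))
    (.leaf (nat_lit 653895695))) (.node (.leaf (nat_lit 89830418)) (.leaf (nat_lit 274925327)))))
    (.node (.node (.node (.node (.leaf (nat_lit 20480007)) (.leaf (nat_lit 774174469))) (.leaf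
    (nat_lit 575954950))) (.node (.leaf (nat_lit 297830928)) (.leaf (nat_lit 244509954)))) (.node
    (.node (.leaf (nat_lit 210802185)) (.leaf (nat_lit 16951552))) (.node (.leaf (nat_lit
    456189954)) (.leaf (nat_lit 720667659)))))) (.node (.node (.node (.node (.node (.leaf (nat_lit
    50882060)) (.leaf (nat_lit 665692946))) (.leaf (nat_lit 222469122))) (.node (.leaf (nat_lit
    237638926)) (.leaf (nat_lit 109772297)))) (.node (.node (.leaf (nat_lit 72966917)) (.leaf
    (nat_lit 515714831))) (.node (.leaf (nat_lit 404277010)) (.leaf (nat_lit 668262664))))) (.node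
    (.node (.node (.leaf (nat_lit 107011586)) (.leaf (nat_lit 348956175))) (.node (.leaf (nat_lit
    136476689)) (.leaf (nat_lit 287039744)))) (.node (.node (.leaf (nat_lit 228614161)) (.leaf
    (nat_lit 76194816))) (.node (.leaf (nat_lit 410235398)) (.leaf (nat_lit 660960515))))))))
    (.node (.node (.node (.node (.node (.node (.node (.leaf (nat_lit 13108241)) (.leaf (nat_lit
    660962314))) (.leaf (nat_lit 523955717))) (.node (.leaf (nat_lit 245918221)) (.leaf (nat_lit
    329984006)))) (.node (.node (.leaf (nat_lit 154215945)) (.leaf (nat_lit 595185160))) (.node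
    (.leaf (nat_lit 113942273)) (.leaf (nat_lit 267700736))))) (.node (.node (.node (.node (.leaf
    (nat_lit 59803653)) (.leaf (nat_lit 737000961))) (.leaf (nat_lit 216815106))) (.node (.leaf
    (nat_lit 292063239)) (.leaf (nat_lit 594694155)))) (.node (.node (.leaf (nat_lit 204493837))
    (.leaf (nat_lit 82881291))) (.node (.leaf (nat_lit 401821702)) (.leaf (nat_lit 601708296))))))
    (.node (.node (.node (.node (.node (.leaf (nat_lit 48255500)) (.leaf (nat_lit 703439874)))
    (.leaf (nat_lit 296839430))) (.node (.leaf (nat_lit 218760200)) (.leaf (nat_lit 139083265))))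
    (.node (.node (.leaf (nat_lit 157899010)) (.leaf (nat_lit 625811717))) (.node (.leaf (nat_lit
    329445633)) (.leaf (nat_lit 497367561))))) (.node (.node (.node (.leaf (nat_lit 33081347))
    (.leaf (nat_lit 273454351))) (.node (.leaf (nat_lit 80900099)) (.leaf (nat_lit 401815051))))
    (.node (.node (.leaf (nat_lit 26769165)) (.leaf (nat_lit 667623948))) (.node (.leaf (nat_lit
    487736836)) (.leaf (nat_lit 404582406))))))) (.node (.node (.node (.node (.node (.node (.leaf
    (nat_lit 32523268)) (.leaf (nat_lit 729650955))) (.leaf (nat_lit 244582146))) (.node (.leaf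
    (nat_lit 259124751)) (.leaf (nat_lit 180624128)))) (.node (.node (.leaf (nat_lit 166281729))
    (.leaf (nat_lit 227866380))) (.node (.leaf (nat_lit 373999881)) (.leaf (nat_lit 254609930)))))
    (.node (.node (.node (.leaf (nat_lit 85500688)) (.leaf (nat_lit 208433665))) (.node (.leaf
    (nat_lit 98718466)) (.leaf (nat_lit 251961867)))) (.node (.node (.leaf (nat_lit 22072832))
    (.leaf (nat_lit 296367116))) (.node (.leaf (nat_lit 467725839)) (.leaf (nat_lit 322790671))))))
    (.node (.node (.node (.node (.node (.leaf (nat_lit 63448582)) (.leaf (nat_lit 621654284)))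
    (.leaf (nat_lit 553921802))) (.node (.leaf (nat_lit 174667014)) (.leaf (nat_lit 537587216))))
    (.node (.node (.leaf (nat_lit 193556738)) (.leaf (nat_lit 245114375))) (.node (.leaf (nat_lit
    120788998)) (.leaf (nat_lit 387270412))))) (.node (.node (.node (.leaf (nat_lit 27324678))
    (.leaf (nat_lit 240433415))) (.node (.leaf (nat_lit 337157132)) (.leaf (nat_lit 283412227))))
    (.node (.node (.leaf (nat_lit 96059139)) (.leaf (nat_lit 392900096))) (.node (.leaf (nat_lit
    324257028)) (.leaf (nat_lit 735783435)))))))))) (.node (.node (.node (.node (.node (.node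
    (.node (.node (.node (.leaf (nat_lit 2097418)) (.leaf (nat_lit 739607049))) (.leaf (nat_lit
    511367697))) (.node (.leaf (nat_lit 237617671)) (.leaf (nat_lit 301628672)))) (.node (.node
    (.leaf (nat_lit 141047559)) (.leaf (nat_lit 594330628))) (.node (.leaf (nat_lit 341876228))
    (.leaf (nat_lit 276623104))))) (.node (.node (.node (.node (.leaf (nat_lit 67141890)) (.leaf
    (nat_lit 746436100))) (.leaf (nat_lit 568467723))) (.node (.leaf (nat_lit 262283785)) (.leaf
    (nat_lit 644018193)))) (.node (.node (.leaf (nat_lit 197222928)) (.leaf (nat_lit 47214346)))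
    (.node (.leaf (nat_lit 140192002)) (.leaf (nat_lit 290278666)))))) (.node (.node (.node (.node
    (.node (.leaf (nat_lit 38290948)) (.leaf (nat_lit 732798217))) (.leaf (nat_lit 295964689)))
    (.node (.leaf (nat_lit 263321104)) (.leaf (nat_lit 91791883)))) (.node (.node (.leaf (nat_lit
    173033227)) (.leaf (nat_lit 675918609))) (.node (.leaf (nat_lit 166909457)) (.leaf (nat_lit
    666710546))))) (.node (.node (.node (.leaf (nat_lit 93356040)) (.leaf (nat_lit 601652235)))
    (.node (.leaf (nat_lit 86660100)) (.leaf (nat_lit 116657152)))) (.node (.node (.leaf (nat_lit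
    84453888)) (.leaf (nat_lit 171090432))) (.node (.leaf (nat_lit 476118030)) (.leaf (nat_lit
    709192201))))))) (.node (.node (.node (.node (.node (.node (.leaf (nat_lit 18351627)) (.leaf
    (nat_lit 746380546))) (.leaf (nat_lit 268170756))) (.node (.leaf (nat_lit 64609543)) (.leaf
    (nat_lit 428087552)))) (.node (.node (.leaf (nat_lit 160458243)) (.leaf (nat_lit 652322822)))
    (.node (.leaf (nat_lit 351448579)) (.leaf (nat_lit 618983680))))) (.node (.node (.node (.node
    (.leaf (nat_lit 72389128)) (.leaf (nat_lit 773606417))) (.leaf (nat_lit 541350921))) (.node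
    (.leaf (nat_lit 191510273)) (.leaf (nat_lit 253361926)))) (.node (.node (.leaf (nat_lit
    209817858)) (.leaf (nat_lit 136555776))) (.node (.leaf (nat_lit 304828417)) (.leaf (nat_lit
    693984526)))))) (.node (.node (.node (.node (.node (.leaf (nat_lit 51405329)) (.leaf (nat_lit
    760064268))) (.leaf (nat_lit 317873920))) (.node (.leaf (nat_lit 278953744)) (.leaf (nat_lit
    348272901)))) (.node (.node (.leaf (nat_lit 185092880)) (.leaf (nat_lit 693949969))) (.node
    (.leaf (nat_lit 400606732)) (.leaf (nat_lit 681918214))))) (.node (.node (.node (.leaf (nat_lit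
    114305807)) (.leaf (nat_lit 568631302))) (.node (.leaf (nat_lit 92435730)) (.leaf (nat_lit
    593274633)))) (.node (.node (.leaf (nat_lit 96579078)) (.leaf (nat_lit 490854928))) (.node
    (.leaf (nat_lit 493553668)) (.leaf (nat_lit 620589839)))))))) (.node (.node (.node (.node
    (.node (.node (.node (.leaf (nat_lit 10486542)) (.leaf (nat_lit 742737679))) (.leaf (nat_lit
    522445580))) (.node (.leaf (nat_lit 208261641)) (.leaf (nat_lit 495635718)))) (.node (.node
    (.leaf (nat_lit 151009794)) (.leaf (nat_lit 634180866))) (.node (.leaf (nat_lit 125999634))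
    (.leaf (nat_lit 458984192))))) (.node (.node (.node (.node (.leaf (nat_lit 60325897)) (.leaf
    (nat_lit 753777670))) (.leaf (nat_lit 578038019))) (.node (.leaf (nat_lit 71444995)) (.leaf
    (nat_lit 366769920)))) (.node (.node (.leaf (nat_lit 202984457)) (.leaf (nat_lit 342528256)))
    (.node (.leaf (nat_lit 438360331)) (.leaf (nat_lit 591222025)))))) (.node (.node (.node (.node
    (.node (.leaf (nat_lit 45622795)) (.leaf (nat_lit 756387591))) (.leaf (nat_lit 186737680)))
    (.node (.leaf (nat_lit 259129602)) (.leaf (nat_lit 502851086)))) (.node (.node (.leaf (nat_lit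
    178870032)) (.leaf (nat_lit 540350725))) (.node (.leaf (nat_lit 334162956)) (.leaf (nat_lit
    400898057))))) (.node (.node (.node (.leaf (nat_lit 102246661)) (.leaf (nat_lit 613700614)))
    (.node (.leaf (nat_lit 325621266)) (.leaf (nat_lit 604834566)))) (.node (.node (.leaf (nat_lit
    82903558)) (.leaf (nat_lit 453221888))) (.node (.leaf (nat_lit 486605575)) (.leaf (nat_lit
    729430029))))))) (.node (.node (.node (.node (.node (.node (.leaf (nat_lit 34081287)) (.leaf
    (nat_lit 750097932))) (.leaf (nat_lit 539053327))) (.node (.leaf (nat_lit 225044994)) (.leaf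
    (nat_lit 36227589)))) (.node (.node (.leaf (nat_lit 157891595)) (.leaf (nat_lit 664382482)))
    (.node (.leaf (nat_lit 306890257)) (.leaf (nat_lit 483111937))))) (.node (.node (.node (.node
    (.leaf (nat_lit 81273104)) (.leaf (nat_lit 683002118))) (.leaf (nat_lit 583299074))) (.node
    (.leaf (nat_lit 171069458)) (.leaf (nat_lit 585324303)))) (.node (.node (.leaf (nat_lit
    82945029)) (.leaf (nat_lit 276466433))) (.node (.leaf (nat_lit 465104146)) (.leaf (nat_lit
    547185424)))))) (.node (.node (.node (.node (.node (.leaf (nat_lit 61347587)) (.leaf (nat_lit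
    763154956))) (.leaf (nat_lit 560031495))) (.node (.leaf (nat_lit 283678216)) (.leaf (nat_lit
    381374474)))) (.node (.node (.leaf (nat_lit 191405320)) (.leaf (nat_lit 575939587))) (.node
    (.leaf (nat_lit 412142095)) (.leaf (nat_lit 631588098))))) (.node (.node (.node (.leaf (nat_lit
    123792902)) (.leaf (nat_lit 631550991))) (.node (.leaf (nat_lit 85098502)) (.leaf (nat_lit
    593270023)))) (.node (.node (.leaf (nat_lit 179420676)) (.leaf (nat_lit 294822656))) (.node
    (.leaf (nat_lit 406569474)) (.leaf (nat_lit 424507914))))))))) (.node (.node (.node (.node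
    (.node (.node (.node (.node (.leaf (nat_lit 5243152)) (.leaf (nat_lit 571311110))) (.leaf
    (nat_lit 517024785))) (.node (.leaf (nat_lit 240674819)) (.leaf (nat_lit 461457163)))) (.node
    (.node (.leaf (nat_lit 146816528)) (.leaf (nat_lit 271369991))) (.node (.leaf (nat_lit
    228234501)) (.leaf (nat_lit 668076044))))) (.node (.node (.node (.node (.leaf (nat_lit
    9984000)) (.leaf (nat_lit 717601039))) (.leaf (nat_lit 399263753))) (.node (.leaf (nat_lit
    286864386)) (.leaf (nat_lit 393975553)))) (.node (.node (.leaf (nat_lit 96566530)) (.leaf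
    (nat_lit 268145152))) (.node (.leaf (nat_lit 432068367)) (.leaf (nat_lit 290803978)))))) (.node
    (.node (.node (.node (.node (.leaf (nat_lit 13110539)) (.leaf (nat_lit 741187585))) (.leaf
    (nat_lit 548663058))) (.node (.leaf (nat_lit 264894734)) (.leaf (nat_lit 298491392)))) (.node
    (.node (.leaf (nat_lit 163139849)) (.leaf (nat_lit 679809291))) (.node (.leaf (nat_lit
    173203972)) (.leaf (nat_lit 699149073))))) (.node (.node (.node (.leaf (nat_lit 83933186))
    (.leaf (nat_lit 607751180))) (.node (.leaf (nat_lit 317873679)) (.leaf (nat_lit 116492559))))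
    (.node (.node (.leaf (nat_lit 127464704)) (.leaf (nat_lit 249626889))) (.node (.leaf (nat_lit
    474191119)) (.leaf (nat_lit 567110918))))))) (.node (.node (.node (.node (.node (.node (.leaf
    (nat_lit 29886225)) (.leaf (nat_lit 637899522))) (.leaf (nat_lit 308017937))) (.node (.leaf
    (nat_lit 254308865)) (.leaf (nat_lit 409162752)))) (.node (.node (.leaf (nat_lit 164147725))
    (.leaf (nat_lit 659138825))) (.node (.leaf (nat_lit 365473032)) (.leaf (nat_lit 609415183)))))
    (.node (.node (.node (.node (.leaf (nat_lit 18883840)) (.leaf (nat_lit 745391622))) (.leaf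
    (nat_lit 589397773))) (.node (.leaf (nat_lit 230832901)) (.leaf (nat_lit 273990150)))) (.node
    (.node (.leaf (nat_lit 203527946)) (.leaf (nat_lit 583806729))) (.node (.leaf (nat_lit
    132344582)) (.leaf (nat_lit 615342092)))))) (.node (.node (.node (.node (.node (.leaf (nat_lit
    58224401)) (.leaf (nat_lit 738569227))) (.leaf (nat_lit 556016649))) (.node (.leaf (nat_lit
    281051149)) (.leaf (nat_lit 301201676)))) (.node (.node (.leaf (nat_lit 43083523)) (.leaf
    (nat_lit 592707847))) (.node (.leaf (nat_lit 127600129)) (.leaf (nat_lit 705816594))))) (.node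
    (.node (.node (.leaf (nat_lit 120074755)) (.leaf (nat_lit 627153162))) (.node (.leaf (nat_lit
    100825608)) (.leaf (nat_lit 161619720)))) (.node (.node (.leaf (nat_lit 229750288)) (.leaf
    (nat_lit 354084352))) (.node (.leaf (nat_lit 499714827)) (.leaf (nat_lit 404584194))))))))
    (.node (.node (.node (.node (.node (.node (.node (.leaf (nat_lit 15205649)) (.leaf (nat_lit
    744284163))) (.leaf (nat_lit 526466817))) (.node (.leaf (nat_lit 248109329)) (.leaf (nat_lit
    677066243)))) (.node (.node (.leaf (nat_lit 153692423)) (.leaf (nat_lit 222091279))) (.node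
    (.leaf (nat_lit 104506629)) (.leaf (nat_lit 403460879))))) (.node (.node (.node (.node (.leaf
    (nat_lit 39881221)) (.leaf (nat_lit 768982795))) (.leaf (nat_lit 293192465))) (.node (.leaf
    (nat_lit 294160652)) (.leaf (nat_lit 271240710)))) (.node (.node (.leaf (nat_lit 202476300))
    (.leaf (nat_lit 222091776))) (.node (.leaf (nat_lit 447799561)) (.leaf (nat_lit 718100751))))))
    (.node (.node (.node (.node (.node (.leaf (nat_lit 49307139)) (.leaf (nat_lit 683517441)))
    (.leaf (nat_lit 187965194))) (.node (.leaf (nat_lit 76155401)) (.leaf (nat_lit 444753153))))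
    (.node (.node (.leaf (nat_lit 172579590)) (.leaf (nat_lit 690636806))) (.node (.leaf (nat_lit
    105575953)) (.leaf (nat_lit 702145552))))) (.node (.node (.node (.leaf (nat_lit 107489800))
    (.leaf (nat_lit 270833414))) (.node (.leaf (nat_lit 277405954)) (.leaf (nat_lit 552902664))))
    (.node (.node (.leaf (nat_lit 221273360)) (.leaf (nat_lit 249092111))) (.node (.leaf (nat_lit
    489751567)) (.leaf (nat_lit 730604812))))))) (.node (.node (.node (.node (.node (.node (.leaf
    (nat_lit 14162956)) (.leaf (nat_lit 744331526))) (.leaf (nat_lit 179046925))) (.node (.leaf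
    (nat_lit 260173836)) (.leaf (nat_lit 172018699)))) (.node (.node (.leaf (nat_lit 36783378))
    (.leaf (nat_lit 670367499))) (.node (.leaf (nat_lit 137546768)) (.leaf (nat_lit 604783890)))))
    (.node (.node (.node (.leaf (nat_lit 19966990)) (.leaf (nat_lit 389837829))) (.node (.leaf
    (nat_lit 313134603)) (.leaf (nat_lit 293312517)))) (.node (.node (.leaf (nat_lit 152642057))
    (.leaf (nat_lit 504621312))) (.node (.leaf (nat_lit 470351115)) (.leaf (nat_lit 500000530))))))
    (.node (.node (.node (.node (.node (.leaf (nat_lit 65542663)) (.leaf (nat_lit 574468866)))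
    (.leaf (nat_lit 191115789))) (.node (.leaf (nat_lit 284197124)) (.leaf (nat_lit 271299072))))
    (.node (.node (.leaf (nat_lit 43086593)) (.leaf (nat_lit 70920960))) (.node (.leaf (nat_lit
    417910534)) (.leaf (nat_lit 709635588))))) (.node (.node (.node (.leaf (nat_lit 30472713))
    (.leaf (nat_lit 582269960))) (.node (.leaf (nat_lit 339254531)) (.leaf (nat_lit 383393039))))
    (.node (.node (.leaf (nat_lit 198820102)) (.leaf (nat_lit 101847046))) (.node (.leaf (nat_lit
    508634118)) (.leaf (nat_lit 326991377))))))))))) (.node (.node (.node (.node (.node (.node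
    (.node (.node (.node (.node (.leaf (nat_lit 1049090)) (.leaf (nat_lit 739082505))) (.leaf
    (nat_lit 212585990))) (.node (.leaf (nat_lit 236045316)) (.leaf (nat_lit 229318927)))) (.node
    (.node (.leaf (nat_lit 138425359)) (.leaf (nat_lit 638164751))) (.node (.leaf (nat_lit
    341351937)) (.leaf (nat_lit 677093896))))) (.node (.node (.node (.node (.leaf (nat_lit
    17334019)) (.leaf (nat_lit 750630152))) (.leaf (nat_lit 566867463))) (.node (.leaf (nat_lit
    285770002)) (.leaf (nat_lit 321681664)))) (.node (.node (.leaf (nat_lit 196179465)) (.leaf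
    (nat_lit 52670208))) (.node (.leaf (nat_lit 418063627)) (.leaf (nat_lit 262491148)))))) (.node
    (.node (.node (.node (.node (.leaf (nat_lit 34621701)) (.leaf (nat_lit 566074371))) (.leaf
    (nat_lit 238817039))) (.node (.leaf (nat_lit 176813323)) (.leaf (nat_lit 392870145)))) (.node
    (.node (.leaf (nat_lit 154749445)) (.leaf (nat_lit 674949383))) (.node (.leaf (nat_lit
    380155151)) (.leaf (nat_lit 633680390))))) (.node (.node (.node (.leaf (nat_lit 92320257))
    (.leaf (nat_lit 600410119))) (.node (.leaf (nat_lit 277484032)) (.leaf (nat_lit 159565071))))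
    (.node (.node (.leaf (nat_lit 220774152)) (.leaf (nat_lit 362984454))) (.node (.leaf (nat_lit
    132876292)) (.leaf (nat_lit 575498514))))))) (.node (.node (.node (.node (.node (.node (.leaf
    (nat_lit 15212808)) (.leaf (nat_lit 730697234))) (.leaf (nat_lit 530137605))) (.node (.leaf
    (nat_lit 66706194)) (.leaf (nat_lit 312109317)))) (.node (.node (.leaf (nat_lit 101265164))
    (.leaf (nat_lit 350018305))) (.node (.leaf (nat_lit 113421317)) (.leaf (nat_lit 272306447)))))
    (.node (.node (.node (.node (.leaf (nat_lit 76029714)) (.leaf (nat_lit 601735695))) (.leaf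
    (nat_lit 231496451))) (.node (.leaf (nat_lit 296875522)) (.leaf (nat_lit 251285768)))) (.node
    (.node (.leaf (nat_lit 74551305)) (.leaf (nat_lit 481951496))) (.node (.leaf (nat_lit
    433283331)) (.leaf (nat_lit 719979788)))))) (.node (.node (.node (.node (.node (.leaf (nat_lit
    11542536)) (.leaf (nat_lit 759534858))) (.leaf (nat_lit 554787597))) (.node (.leaf (nat_lit
    80876289)) (.leaf (nat_lit 117161728)))) (.node (.node (.leaf (nat_lit 153181965)) (.leaf
    (nat_lit 674572810))) (.node (.leaf (nat_lit 355137800)) (.leaf (nat_lit 305479175))))) (.node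
    (.node (.node (.leaf (nat_lit 112732938)) (.leaf (nat_lit 619486722))) (.node (.leaf (nat_lit
    100824065)) (.leaf (nat_lit 290761472)))) (.node (.node (.leaf (nat_lit 62500100)) (.leaf
    (nat_lit 310618885))) (.node (.leaf (nat_lit 492897554)) (.leaf (nat_lit 708134411))))))))
    (.node (.node (.node (.node (.node (.node (.node (.leaf (nat_lit 8917250)) (.leaf (nat_lit
    742227979))) (.leaf (nat_lit 521396748))) (.node (.leaf (nat_lit 175755016)) (.leaf (nat_lit
    586904337)))) (.node (.node (.leaf (nat_lit 141630727)) (.leaf (nat_lit 253880337))) (.node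
    (.leaf (nat_lit 229808129)) (.leaf (nat_lit 226671105))))) (.node (.node (.node (.node (.leaf
    (nat_lit 44066825)) (.leaf (nat_lit 740670225))) (.leaf (nat_lit 576474124))) (.node (.leaf
    (nat_lit 254928141)) (.leaf (nat_lit 497325824)))) (.node (.node (.leaf (nat_lit 43614481))
    (.leaf (nat_lit 46684431))) (.node (.leaf (nat_lit 425410828)) (.leaf (nat_lit 563434498))))))
    (.node (.node (.node (.node (.node (.leaf (nat_lit 43537410)) (.leaf (nat_lit 756220177)))
    (.leaf (nat_lit 366222610))) (.node (.leaf (nat_lit 70909962)) (.leaf (nat_lit 351845378))))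
    (.node (.node (.leaf (nat_lit 176248322)) (.leaf (nat_lit 648353553))) (.node (.leaf (nat_lit
    391691266)) (.leaf (nat_lit 700257810))))) (.node (.node (.node (.leaf (nat_lit 99139844))
    (.leaf (nat_lit 612470538))) (.node (.leaf (nat_lit 84044554)) (.leaf (nat_lit 611551753))))
    (.node (.node (.leaf (nat_lit 181995009)) (.leaf (nat_lit 436445952))) (.node (.leaf (nat_lit
    342597126)) (.leaf (nat_lit 724199181))))))) (.node (.node (.node (.node (.node (.node (.leaf
    (nat_lit 33556998)) (.leaf (nat_lit 678794512))) (.leaf (nat_lit 536609040))) (.node (.leaf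
    (nat_lit 256455434)) (.leaf (nat_lit 463034635)))) (.node (.node (.leaf (nat_lit 156843271))
    (.leaf (nat_lit 224194829))) (.node (.leaf (nat_lit 95601930)) (.leaf (nat_lit 682431504)))))
    (.node (.node (.node (.node (.leaf (nat_lit 26751752)) (.leaf (nat_lit 746965001))) (.leaf
    (nat_lit 594117128))) (.node (.leaf (nat_lit 308841740)) (.leaf (nat_lit 596294415)))) (.node
    (.node (.leaf (nat_lit 52010759)) (.leaf (nat_lit 398205184))) (.node (.leaf (nat_lit
    463110412)) (.leaf (nat_lit 338443794)))))) (.node (.node (.node (.node (.node (.leaf (nat_lit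
    45118214)) (.leaf (nat_lit 654159378))) (.leaf (nat_lit 197929730))) (.node (.leaf (nat_lit
    177347846)) (.leaf (nat_lit 381423878)))) (.node (.node (.leaf (nat_lit 190860561)) (.leaf
    (nat_lit 596243979))) (.node (.leaf (nat_lit 411093259)) (.leaf (nat_lit 600130562))))) (.node
    (.node (.node (.leaf (nat_lit 124268547)) (.leaf (nat_lit 630299395))) (.node (.leaf (nat_lit
    334557196)) (.leaf (nat_lit 303331337)))) (.node (.node (.leaf (nat_lit 233395721)) (.leaf
    (nat_lit 621440527))) (.node (.leaf (nat_lit 436977679)) (.leaf (nat_lit 701331730)))))))))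
    (.node (.node (.node (.node (.node (.node (.node (.node (.leaf (nat_lit 2098188)) (.leaf
    (nat_lit 736383495))) (.leaf (nat_lit 515976206))) (.node (.leaf (nat_lit 239625999)) (.leaf
    (nat_lit 136398341)))) (.node (.node (.leaf (nat_lit 142676999)) (.leaf (nat_lit 584893960)))
    (.node (.leaf (nat_lit 85103633)) (.leaf (nat_lit 205655304))))) (.node (.node (.node (.node
    (.leaf (nat_lit 70272527)) (.leaf (nat_lit 736475141))) (.leaf (nat_lit 573142797))) (.node
    (.leaf (nat_lit 68715278)) (.leaf (nat_lit 198940431)))) (.node (.node (.leaf (nat_lit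
    44062220)) (.leaf (nat_lit 212571648))) (.node (.leaf (nat_lit 428921103)) (.leaf (nat_lit
    582307846)))))) (.node (.node (.node (.node (.node (.leaf (nat_lit 1052173)) (.leaf (nat_lit
    722837257))) (.leaf (nat_lit 200021521))) (.node (.leaf (nat_lit 265942537)) (.leaf (nat_lit
    433130250)))) (.node (.node (.leaf (nat_lit 176179217)) (.leaf (nat_lit 679075591))) (.node
    (.leaf (nat_lit 384874257)) (.leaf (nat_lit 698664976))))) (.node (.node (.node (.leaf (nat_lit
    44611080)) (.leaf (nat_lit 591168514))) (.node (.leaf (nat_lit 180509713)) (.leaf (nat_lit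
    176900096)))) (.node (.node (.leaf (nat_lit 25209866)) (.leaf (nat_lit 36256256))) (.node
    (.leaf (nat_lit 343118597)) (.leaf (nat_lit 565013510))))))) (.node (.node (.node (.node (.node
    (.node (.leaf (nat_lit 26740490)) (.leaf (nat_lit 666735108))) (.leaf (nat_lit 514510599)))
    (.node (.leaf (nat_lit 59891975)) (.leaf (nat_lit 300049929)))) (.node (.node (.leaf (nat_lit
    162609170)) (.leaf (nat_lit 514646540))) (.node (.leaf (nat_lit 153269778)) (.leaf (nat_lit
    458984448))))) (.node (.node (.node (.node (.leaf (nat_lit 21534724)) (.leaf (nat_lit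
    747488513))) (.leaf (nat_lit 549741057))) (.node (.leaf (nat_lit 297887499)) (.leaf (nat_lit
    548536833)))) (.node (.node (.leaf (nat_lit 85038351)) (.leaf (nat_lit 241959176))) (.node
    (.leaf (nat_lit 457763338)) (.leaf (nat_lit 721175814)))))) (.node (.node (.node (.node (.node
    (.leaf (nat_lit 55601681)) (.leaf (nat_lit 580234258))) (.leaf (nat_lit 349871360))) (.node
    (.leaf (nat_lit 280094985)) (.leaf (nat_lit 423774732)))) (.node (.node (.leaf (nat_lit
    186213137)) (.leaf (nat_lit 696371463))) (.node (.leaf (nat_lit 167970053)) (.leaf (nat_lit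
    648190732))))) (.node (.node (.node (.leaf (nat_lit 118500367)) (.leaf (nat_lit 625055246)))
    (.node (.leaf (nat_lit 137001233)) (.leaf (nat_lit 174840832)))) (.node (.node (.leaf (nat_lit
    225555716)) (.leaf (nat_lit 312127744))) (.node (.leaf (nat_lit 498141959)) (.leaf (nat_lit
    730691081)))))))) (.node (.node (.node (.node (.node (.node (.node (.leaf (nat_lit 13638160))
    (.leaf (nat_lit 743722755))) (.leaf (nat_lit 525942033))) (.node (.leaf (nat_lit 244439044))
    (.leaf (nat_lit 256958220)))) (.node (.node (.leaf (nat_lit 155207429)) (.leaf (nat_lit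
    596956937))) (.node (.leaf (nat_lit 353936400)) (.leaf (nat_lit 226613258))))) (.node (.node
    (.node (.node (.leaf (nat_lit 50366729)) (.leaf (nat_lit 756399873))) (.leaf (nat_lit
    583105295))) (.node (.leaf (nat_lit 217722377)) (.leaf (nat_lit 601541387)))) (.node (.node
    (.leaf (nat_lit 47810561)) (.leaf (nat_lit 183180544))) (.node (.leaf (nat_lit 277041922))
    (.leaf (nat_lit 270882817)))))) (.node (.node (.node (.node (.node (.leaf (nat_lit 15228171))
    (.leaf (nat_lit 677225743))) (.leaf (nat_lit 191635202))) (.node (.leaf (nat_lit 85068034))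
    (.leaf (nat_lit 277548033)))) (.node (.node (.leaf (nat_lit 157899269)) (.leaf (nat_lit
    634725129))) (.node (.leaf (nat_lit 396410896)) (.leaf (nat_lit 677198593))))) (.node (.node
    (.node (.leaf (nat_lit 105916931)) (.leaf (nat_lit 530880017))) (.node (.leaf (nat_lit
    327722754)) (.leaf (nat_lit 581575179)))) (.node (.node (.leaf (nat_lit 115399691)) (.leaf
    (nat_lit 93915398))) (.node (.leaf (nat_lit 424912143)) (.leaf (nat_lit 730480139))))))) (.node
    (.node (.node (.node (.node (.node (.leaf (nat_lit 9455110)) (.leaf (nat_lit 615880716)))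
    (.leaf (nat_lit 541676299))) (.node (.leaf (nat_lit 216657669)) (.leaf (nat_lit 423771395))))
    (.node (.node (.leaf (nat_lit 147407890)) (.leaf (nat_lit 655161857))) (.node (.leaf (nat_lit
    374911746)) (.leaf (nat_lit 270831117))))) (.node (.node (.node (.leaf (nat_lit 87565316))
    (.leaf (nat_lit 577532687))) (.node (.leaf (nat_lit 295324934)) (.leaf (nat_lit 134884618))))
    (.node (.node (.leaf (nat_lit 22030857)) (.leaf (nat_lit 498889728))) (.node (.leaf (nat_lit
    150699529)) (.leaf (nat_lit 578643457)))))) (.node (.node (.node (.node (.node (.leaf (nat_lit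
    64518924)) (.leaf (nat_lit 764772614))) (.leaf (nat_lit 562129163))) (.node (.leaf (nat_lit
    161559564)) (.leaf (nat_lit 588371722)))) (.node (.node (.leaf (nat_lit 42037771)) (.leaf
    (nat_lit 64592384))) (.node (.leaf (nat_lit 131799816)) (.leaf (nat_lit 305481734))))) (.node
    (.node (.node (.leaf (nat_lit 128987659)) (.leaf (nat_lit 255638278))) (.node (.leaf (nat_lit
    338330889)) (.leaf (nat_lit 312216839)))) (.node (.node (.leaf (nat_lit 92913666)) (.leaf
    (nat_lit 101855493))) (.node (.leaf (nat_lit 436979718)) (.leaf (nat_lit 718634244))))))))))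
    (.node (.node (.node (.node (.node (.node (.node (.node (.node (.leaf (nat_lit 1049105)) (.leaf
    (nat_lit 740046597))) (.leaf (nat_lit 228315666))) (.node (.leaf (nat_lit 163169802)) (.leaf
    (nat_lit 319482880)))) (.node (.node (.leaf (nat_lit 35721229)) (.leaf (nat_lit 218414095)))
    (.node (.leaf (nat_lit 91393545)) (.leaf (nat_lit 251456256))))) (.node (.node (.node (.node
    (.leaf (nat_lit 68688644)) (.leaf (nat_lit 766866441))) (.leaf (nat_lit 336347139))) (.node
    (.leaf (nat_lit 288391695)) (.leaf (nat_lit 139247360)))) (.node (.node (.leaf (nat_lit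
    197677578)) (.leaf (nat_lit 215587593))) (.node (.leaf (nat_lit 420686345)) (.leaf (nat_lit
    712330768)))))) (.node (.node (.node (.node (.node (.leaf (nat_lit 39865612)) (.leaf (nat_lit
    736988680))) (.leaf (nat_lit 211554578))) (.node (.leaf (nat_lit 264795409)) (.leaf (nat_lit
    453201932)))) (.node (.node (.leaf (nat_lit 55601164)) (.leaf (nat_lit 666700305))) (.node
    (.leaf (nat_lit 381323529)) (.leaf (nat_lit 544027394))))) (.node (.node (.node (.leaf (nat_lit
    93369345)) (.leaf (nat_lit 603745538))) (.node (.leaf (nat_lit 79321103)) (.leaf (nat_lit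
    116131328)))) (.node (.node (.leaf (nat_lit 18915595)) (.leaf (nat_lit 415505664))) (.node
    (.leaf (nat_lit 478215428)) (.leaf (nat_lit 440232706))))))) (.node (.node (.node (.node (.node
    (.node (.leaf (nat_lit 19924495)) (.leaf (nat_lit 746868740))) (.leaf (nat_lit 380368899)))
    (.node (.leaf (nat_lit 215604745)) (.leaf (nat_lit 664494083)))) (.node (.node (.leaf (nat_lit
    162546191)) (.leaf (nat_lit 652496908))) (.node (.leaf (nat_lit 362326788)) (.leaf (nat_lit
    444730369))))) (.node (.node (.node (.node (.leaf (nat_lit 19961089)) (.leaf (nat_lit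
    773699079))) (.leaf (nat_lit 276586256))) (.node (.leaf (nat_lit 297403912)) (.leaf (nat_lit
    268222721)))) (.node (.node (.leaf (nat_lit 210786052)) (.leaf (nat_lit 248718848))) (.node
    (.leaf (nat_lit 454092556)) (.leaf (nat_lit 279797263)))))) (.node (.node (.node (.node (.node
    (.leaf (nat_lit 11035660)) (.leaf (nat_lit 734898697))) (.leaf (nat_lit 230957833))) (.node
    (.leaf (nat_lit 240784645)) (.leaf (nat_lit 118009103)))) (.node (.node (.leaf (nat_lit
    72442369)) (.leaf (nat_lit 583871497))) (.node (.leaf (nat_lit 403228424)) (.leaf (nat_lit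
    702890001))))) (.node (.node (.node (.leaf (nat_lit 107535622)) (.leaf (nat_lit 346857743)))
    (.node (.leaf (nat_lit 113407762)) (.leaf (nat_lit 213089024)))) (.node (.node (.leaf (nat_lit
    227041294)) (.leaf (nat_lit 624634375))) (.node (.leaf (nat_lit 494583308)) (.leaf (nat_lit
    732055057)))))))) (.node (.node (.node (.node (.node (.node (.node (.leaf (nat_lit 11539985))
    (.leaf (nat_lit 569215233))) (.leaf (nat_lit 525048594))) (.node (.leaf (nat_lit 245393930))
    (.leaf (nat_lit 406534417)))) (.node (.node (.leaf (nat_lit 153632257)) (.leaf (nat_lit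
    233100807))) (.node (.leaf (nat_lit 350395657)) (.leaf (nat_lit 269804561))))) (.node (.node
    (.node (.node (.leaf (nat_lit 70813452)) (.leaf (nat_lit 722844933))) (.leaf (nat_lit
    579434766))) (.node (.leaf (nat_lit 215100169)) (.leaf (nat_lit 449123072)))) (.node (.node
    (.leaf (nat_lit 203522819)) (.leaf (nat_lit 334135040))) (.node (.leaf (nat_lit 441507340))
    (.leaf (nat_lit 602756617)))))) (.node (.node (.node (.node (.node (.leaf (nat_lit 47713808))
    (.leaf (nat_lit 723362569))) (.leaf (nat_lit 552690697))) (.node (.leaf (nat_lit 217186823))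
    (.leaf (nat_lit 98712837)))) (.node (.node (.leaf (nat_lit 180374018)) (.leaf (nat_lit
    686407692))) (.node (.leaf (nat_lit 376106498)) (.leaf (nat_lit 701192201))))) (.node (.node
    (.node (.leaf (nat_lit 101238024)) (.leaf (nat_lit 613549062))) (.node (.leaf (nat_lit
    227700232)) (.leaf (nat_lit 665616649)))) (.node (.node (.leaf (nat_lit 138439436)) (.leaf
    (nat_lit 615746821))) (.node (.leaf (nat_lit 487271178)) (.leaf (nat_lit 729560329)))))))
    (.node (.node (.node (.node (.node (.node (.leaf (nat_lit 34095617)) (.leaf (nat_lit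
    652580624))) (.leaf (nat_lit 519832833))) (.node (.leaf (nat_lit 257551119)) (.leaf (nat_lit
    105583616)))) (.node (.node (.leaf (nat_lit 165232897)) (.leaf (nat_lit 531428368))) (.node
    (.leaf (nat_lit 372920841)) (.leaf (nat_lit 240920080))))) (.node (.node (.node (.leaf (nat_lit
    83370510)) (.leaf (nat_lit 207384833))) (.node (.leaf (nat_lit 311463690)) (.leaf (nat_lit
    212461579)))) (.node (.node (.leaf (nat_lit 48866061)) (.leaf (nat_lit 392415744))) (.node
    (.leaf (nat_lit 465762572)) (.leaf (nat_lit 580740102)))))) (.node (.node (.node (.node (.node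
    (.leaf (nat_lit 62396167)) (.leaf (nat_lit 757444618))) (.leaf (nat_lit 560555784))) (.node
    (.leaf (nat_lit 159985676)) (.leaf (nat_lit 418574345)))) (.node (.node (.leaf (nat_lit
    43085321)) (.leaf (nat_lit 592719619))) (.node (.leaf (nat_lit 118140676)) (.leaf (nat_lit
    708134409))))) (.node (.node (.node (.leaf (nat_lit 26275592)) (.leaf (nat_lit 632921092)))
    (.node (.leaf (nat_lit 336108299)) (.leaf (nat_lit 549047818)))) (.node (.node (.leaf (nat_lit
    234382599)) (.leaf (nat_lit 103972869))) (.node (.leaf (nat_lit 504962817)) (.leaf (nat_lit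
    340097808))))))))) (.node (.node (.node (.node (.node (.node (.node (.node (.leaf (nat_lit
    5769993)) (.leaf (nat_lit 741095174))) (.leaf (nat_lit 517550088))) (.node (.leaf (nat_lit
    237619980)) (.leaf (nat_lit 183179266)))) (.node (.node (.leaf (nat_lit 147339281)) (.leaf
    (nat_lit 633630211))) (.node (.leaf (nat_lit 347142929)) (.leaf (nat_lit 465895936))))) (.node
    (.node (.node (.node (.leaf (nat_lit 9965066)) (.leaf (nat_lit 569227531))) (.leaf (nat_lit
    271862539))) (.node (.leaf (nat_lit 244437517)) (.leaf (nat_lit 420769024)))) (.node (.node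
    (.leaf (nat_lit 200299272)) (.leaf (nat_lit 249249280))) (.node (.leaf (nat_lit 135478017))
    (.leaf (nat_lit 712856079)))))) (.node (.node (.node (.node (.node (.leaf (nat_lit 41438994))
    (.leaf (nat_lit 741187594))) (.leaf (nat_lit 528226319))) (.node (.leaf (nat_lit 205651206))
    (.leaf (nat_lit 392907270)))) (.node (.node (.leaf (nat_lit 175723778)) (.leaf (nat_lit
    680639235))) (.node (.leaf (nat_lit 273867536)) (.leaf (nat_lit 254096902))))) (.node (.node
    (.node (.leaf (nat_lit 98576146)) (.leaf (nat_lit 609324298))) (.node (.leaf (nat_lit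
    318922764)) (.leaf (nat_lit 124884751)))) (.node (.node (.leaf (nat_lit 46723599)) (.leaf
    (nat_lit 22095104))) (.node (.leaf (nat_lit 479434760)) (.leaf (nat_lit 565984015))))))) (.node
    (.node (.node (.node (.node (.node (.leaf (nat_lit 31997186)) (.leaf (nat_lit 748524296)))
    (.leaf (nat_lit 511442192))) (.node (.leaf (nat_lit 205645321)) (.leaf (nat_lit 169402370))))
    (.node (.node (.leaf (nat_lit 104937998)) (.leaf (nat_lit 226813703))) (.node (.leaf (nat_lit
    367045899)) (.leaf (nat_lit 604819460))))) (.node (.node (.node (.node (.leaf (nat_lit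
    4732685)) (.leaf (nat_lit 775261705))) (.leaf (nat_lit 592019722))) (.node (.leaf (nat_lit
    301501444)) (.leaf (nat_lit 222609426)))) (.node (.node (.leaf (nat_lit 47290887)) (.leaf
    (nat_lit 200900367))) (.node (.leaf (nat_lit 356216842)) (.leaf (nat_lit 722188548)))))) (.node
    (.node (.node (.node (.node (.leaf (nat_lit 59250182)) (.leaf (nat_lit 605924620))) (.leaf
    (nat_lit 558114832))) (.node (.leaf (nat_lit 282193163)) (.leaf (nat_lit 307437577)))) (.node
    (.node (.leaf (nat_lit 187262224)) (.leaf (nat_lit 575809035))) (.node (.leaf (nat_lit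
    169019401)) (.leaf (nat_lit 706341137))))) (.node (.node (.node (.leaf (nat_lit 121646348))
    (.leaf (nat_lit 629250563))) (.node (.leaf (nat_lit 139099153)) (.leaf (nat_lit 201090304))))
    (.node (.node (.leaf (nat_lit 216643852)) (.leaf (nat_lit 341353482))) (.node (.leaf (nat_lit
    500764683)) (.leaf (nat_lit 734158352)))))))) (.node (.node (.node (.node (.node (.node (.node
    (.leaf (nat_lit 15736335)) (.leaf (nat_lit 737512450))) (.leaf (nat_lit 527515403))) (.node
    (.leaf (nat_lit 238148099)) (.leaf (nat_lit 108726019)))) (.node (.node (.leaf (nat_lit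
    156838921)) (.leaf (nat_lit 273996038))) (.node (.leaf (nat_lit 137012997)) (.leaf (nat_lit
    573897222))))) (.node (.node (.node (.node (.leaf (nat_lit 72911625)) (.leaf (nat_lit
    750632972))) (.leaf (nat_lit 290585099))) (.node (.leaf (nat_lit 75641862)) (.leaf (nat_lit
    105407243)))) (.node (.node (.leaf (nat_lit 208164367)) (.leaf (nat_lit 585901315))) (.node
    (.leaf (nat_lit 119233036)) (.leaf (nat_lit 559766032)))))) (.node (.node (.node (.node (.node
    (.leaf (nat_lit 48783108)) (.leaf (nat_lit 750626564))) (.leaf (nat_lit 188489734))) (.node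
    (.leaf (nat_lit 224005638)) (.leaf (nat_lit 117480460)))) (.node (.node (.leaf (nat_lit
    156326923)) (.leaf (nat_lit 293414671))) (.node (.leaf (nat_lit 314242818)) (.leaf (nat_lit
    668285953))))) (.node (.node (.node (.leaf (nat_lit 27316226)) (.leaf (nat_lit 585931279)))
    (.node (.leaf (nat_lit 328243208)) (.leaf (nat_lit 675448593)))) (.node (.node (.leaf (nat_lit
    221803272)) (.leaf (nat_lit 77310976))) (.node (.leaf (nat_lit 422815760)) (.leaf (nat_lit
    731200772))))))) (.node (.node (.node (.node (.node (.node (.leaf (nat_lit 14160645)) (.leaf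
    (nat_lit 752184842))) (.leaf (nat_lit 522456066))) (.node (.leaf (nat_lit 261125133)) (.leaf
    (nat_lit 416534528)))) (.node (.node (.leaf (nat_lit 171984643)) (.leaf (nat_lit 673296656)))
    (.node (.leaf (nat_lit 323670289)) (.leaf (nat_lit 624098321))))) (.node (.node (.node (.leaf
    (nat_lit 92284420)) (.leaf (nat_lit 598504971))) (.node (.leaf (nat_lit 277495808)) (.leaf
    (nat_lit 254939399)))) (.node (.node (.leaf (nat_lit 140051209)) (.leaf (nat_lit 650811137)))
    (.node (.leaf (nat_lit 91393547)) (.leaf (nat_lit 716007426)))))) (.node (.node (.node (.node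
    (.node (.leaf (nat_lit 66066952)) (.leaf (nat_lit 765218568))) (.leaf (nat_lit 552350732)))
    (.node (.leaf (nat_lit 284281614)) (.leaf (nat_lit 240307459)))) (.node (.node (.leaf (nat_lit
    43086854)) (.leaf (nat_lit 605890048))) (.node (.leaf (nat_lit 134946818)) (.leaf (nat_lit
    710152459))))) (.node (.node (.node (.leaf (nat_lit 132657932)) (.leaf (nat_lit 636591876)))
    (.node (.leaf (nat_lit 339379468)) (.leaf (nat_lit 288646923)))) (.node (.node (.leaf (nat_lit
    74564102)) (.leaf (nat_lit 300133132))) (.node (.leaf (nat_lit 157010945)) (.leaf (nat_lit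
    366313228))))))))))))) (.node (.node (.node (.node (.node (.node (.node (.node (.node (.node
    (.node (.node (.leaf (nat_lit 9)) (.leaf (nat_lit 400916496))) (.leaf (nat_lit 510207748)))
    (.node (.leaf (nat_lit 60408579)) (.leaf (nat_lit 221446155)))) (.node (.node (.leaf (nat_lit
    135803666)) (.leaf (nat_lit 637116171))) (.node (.leaf (nat_lit 339833863)) (.leaf (nat_lit
    602533387))))) (.node (.node (.node (.node (.leaf (nat_lit 16809483)) (.leaf (nat_lit
    714454025))) (.leaf (nat_lit 564933132))) (.node (.leaf (nat_lit 174724868)) (.leaf (nat_lit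
    312246784)))) (.node (.node (.leaf (nat_lit 42562569)) (.leaf (nat_lit 7569920))) (.node (.leaf
    (nat_lit 111354634)) (.leaf (nat_lit 631589633)))))) (.node (.node (.node (.node (.node (.leaf
    (nat_lit 37751815)) (.leaf (nat_lit 404593409))) (.leaf (nat_lit 251399426))) (.node (.leaf
    (nat_lit 207221510)) (.leaf (nat_lit 90860801)))) (.node (.node (.leaf (nat_lit 172047879))
    (.leaf (nat_lit 549258758))) (.node (.leaf (nat_lit 184209921)) (.leaf (nat_lit 556407307)))))
    (.node (.node (.node (.leaf (nat_lit 52474120)) (.leaf (nat_lit 599552516))) (.node (.leaf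
    (nat_lit 73436172)) (.leaf (nat_lit 245620480)))) (.node (.node (.leaf (nat_lit 120643593))
    (.leaf (nat_lit 314245632))) (.node (.leaf (nat_lit 216236300)) (.leaf (nat_lit
    716531979))))))) (.node (.node (.node (.node (.node (.node (.leaf (nat_lit 15736332)) (.leaf
    (nat_lit 702909450))) (.leaf (nat_lit 528208390))) (.node (.leaf (nat_lit 249064194)) (.leaf
    (nat_lit 463144709)))) (.node (.node (.leaf (nat_lit 158351373)) (.leaf (nat_lit 514644242)))
    (.node (.leaf (nat_lit 91400449)) (.leaf (nat_lit 222955270))))) (.node (.node (.node (.node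
    (.leaf (nat_lit 73408269)) (.leaf (nat_lit 655212806))) (.leaf (nat_lit 583629585))) (.node
    (.leaf (nat_lit 295842055)) (.leaf (nat_lit 103932687)))) (.node (.node (.leaf (nat_lit
    52006403)) (.leaf (nat_lit 131678720))) (.node (.leaf (nat_lit 451470860)) (.leaf (nat_lit
    336419599)))))) (.node (.node (.node (.node (.node (.leaf (nat_lit 50355971)) (.leaf (nat_lit
    728082187))) (.leaf (nat_lit 553813511))) (.node (.leaf (nat_lit 85069571)) (.leaf (nat_lit
    106481932)))) (.node (.node (.leaf (nat_lit 156851462)) (.leaf (nat_lit 578103052))) (.node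
    (.leaf (nat_lit 104003592)) (.leaf (nat_lit 683490566))))) (.node (.node (.node (.leaf (nat_lit
    105960454)) (.leaf (nat_lit 618762770))) (.node (.leaf (nat_lit 328256012)) (.leaf (nat_lit
    546063106)))) (.node (.node (.leaf (nat_lit 223371022)) (.leaf (nat_lit 334011407))) (.node
    (.leaf (nat_lit 491848975)) (.leaf (nat_lit 710754568)))))))) (.node (.node (.node (.node
    (.node (.node (.node (.leaf (nat_lit 6816268)) (.leaf (nat_lit 740989191))) (.leaf (nat_lit
    160685582))) (.node (.leaf (nat_lit 205114633)) (.leaf (nat_lit 387676175)))) (.node (.node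
    (.leaf (nat_lit 30480912)) (.leaf (nat_lit 613731847))) (.node (.leaf (nat_lit 347667473))
    (.leaf (nat_lit 267575552))))) (.node (.node (.node (.node (.leaf (nat_lit 14186250)) (.leaf
    (nat_lit 653113860))) (.leaf (nat_lit 274483972))) (.node (.leaf (nat_lit 68190733)) (.leaf
    (nat_lit 90821127)))) (.node (.node (.leaf (nat_lit 96566799)) (.leaf (nat_lit 541405184)))
    (.node (.leaf (nat_lit 423837442)) (.leaf (nat_lit 708137733)))))) (.node (.node (.node (.node
    (.node (.leaf (nat_lit 8409100)) (.leaf (nat_lit 723362050))) (.leaf (nat_lit 392960265)))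
    (.node (.leaf (nat_lit 248643081)) (.leaf (nat_lit 106631680)))) (.node (.node (.leaf (nat_lit
    67720459)) (.leaf (nat_lit 611652354))) (.node (.leaf (nat_lit 312141330)) (.leaf (nat_lit
    699733010))))) (.node (.node (.node (.leaf (nat_lit 76070161)) (.leaf (nat_lit 610373127)))
    (.node (.leaf (nat_lit 321426185)) (.leaf (nat_lit 214538502)))) (.node (.node (.leaf (nat_lit
    156290064)) (.leaf (nat_lit 411816448))) (.node (.leaf (nat_lit 135502608)) (.leaf (nat_lit
    565983232))))))) (.node (.node (.node (.node (.node (.node (.leaf (nat_lit 32508177)) (.leaf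
    (nat_lit 718115842))) (.leaf (nat_lit 247201537))) (.node (.leaf (nat_lit 219277065)) (.leaf
    (nat_lit 157869829)))) (.node (.node (.leaf (nat_lit 165226754)) (.leaf (nat_lit 661235981)))
    (.node (.leaf (nat_lit 369143314)) (.leaf (nat_lit 681753602))))) (.node (.node (.node (.node
    (.leaf (nat_lit 3671813)) (.leaf (nat_lit 760596236))) (.leaf (nat_lit 216295938))) (.node
    (.leaf (nat_lit 304647178)) (.leaf (nat_lit 575386629)))) (.node (.node (.leaf (nat_lit
    216035079)) (.leaf (nat_lit 86031616))) (.node (.leaf (nat_lit 461437958)) (.leaf (nat_lit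
    570704397)))))) (.node (.node (.node (.node (.node (.leaf (nat_lit 59273487)) (.leaf (nat_lit
    760589829))) (.leaf (nat_lit 190589447))) (.node (.leaf (nat_lit 259136265)) (.leaf (nat_lit
    304256786)))) (.node (.node (.leaf (nat_lit 187788044)) (.leaf (nat_lit 585235211))) (.node
    (.leaf (nat_lit 353569041)) (.leaf (nat_lit 706491403))))) (.node (.node (.node (.leaf (nat_lit
    105966343)) (.leaf (nat_lit 606384130))) (.node (.leaf (nat_lit 90864902)) (.leaf (nat_lit
    235105792)))) (.node (.node (.leaf (nat_lit 232284938)) (.leaf (nat_lit 105996544))) (.node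
    (.leaf (nat_lit 152812808)) (.leaf (nat_lit 734361609))))))))) (.node (.node (.node (.node
    (.node (.node (.node (.node (.leaf (nat_lit 2622721)) (.leaf (nat_lit 738033419))) (.leaf
    (nat_lit 514403088))) (.node (.leaf (nat_lit 94488325)) (.leaf (nat_lit 229791492)))) (.node
    (.node (.leaf (nat_lit 143200518)) (.leaf (nat_lit 601146625))) (.node (.leaf (nat_lit
    167416073)) (.leaf (nat_lit 656575745))))) (.node (.node (.node (.node (.leaf (nat_lit
    56132614)) (.leaf (nat_lit 713930512))) (.leaf (nat_lit 571045392))) (.node (.leaf (nat_lit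
    71444228)) (.leaf (nat_lit 575385867)))) (.node (.node (.leaf (nat_lit 195131905)) (.leaf
    (nat_lit 89702400))) (.node (.leaf (nat_lit 320023558)) (.leaf (nat_lit 712635922)))))) (.node
    (.node (.node (.node (.node (.leaf (nat_lit 7360012)) (.leaf (nat_lit 740662795))) (.leaf
    (nat_lit 346296848))) (.node (.leaf (nat_lit 231864837)) (.leaf (nat_lit 433219849)))) (.node
    (.node (.leaf (nat_lit 161042181)) (.leaf (nat_lit 678016527))) (.node (.leaf (nat_lit
    344643855)) (.leaf (nat_lit 698470923))))) (.node (.node (.node (.leaf (nat_lit 94405384))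
    (.leaf (nat_lit 605129227))) (.node (.leaf (nat_lit 315134213)) (.leaf (nat_lit 206261248))))
    (.node (.node (.leaf (nat_lit 80255496)) (.leaf (nat_lit 463204096))) (.node (.leaf (nat_lit
    132878599)) (.leaf (nat_lit 495807247))))))) (.node (.node (.node (.node (.node (.node (.leaf
    (nat_lit 22021889)) (.leaf (nat_lit 683512079))) (.leaf (nat_lit 532936203))) (.node (.leaf
    (nat_lit 244965135)) (.leaf (nat_lit 621430022)))) (.node (.node (.leaf (nat_lit 163070480))
    (.leaf (nat_lit 226811404))) (.node (.leaf (nat_lit 362984463)) (.leaf (nat_lit 406624256)))))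
    (.node (.node (.node (.node (.leaf (nat_lit 19961348)) (.leaf (nat_lit 774164993))) (.leaf
    (nat_lit 587300364))) (.node (.leaf (nat_lit 196703491)) (.leaf (nat_lit 240267783)))) (.node
    (.node (.leaf (nat_lit 210342416)) (.leaf (nat_lit 492042752))) (.node (.leaf (nat_lit
    424371459)) (.leaf (nat_lit 557145605)))))) (.node (.node (.node (.node (.node (.leaf (nat_lit
    52979215)) (.leaf (nat_lit 760972817))) (.leaf (nat_lit 318875659))) (.node (.leaf (nat_lit
    279481863)) (.leaf (nat_lit 448983043)))) (.node (.node (.leaf (nat_lit 185622538)) (.leaf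
    (nat_lit 435498499))) (.node (.leaf (nat_lit 404277007)) (.leaf (nat_lit 702861835))))) (.node
    (.node (.node (.leaf (nat_lit 107011590)) (.leaf (nat_lit 390374659))) (.node (.leaf (nat_lit
    86669317)) (.leaf (nat_lit 372920845)))) (.node (.node (.leaf (nat_lit 224506625)) (.leaf
    (nat_lit 6347264))) (.node (.leaf (nat_lit 409710854)) (.leaf (nat_lit 732579346)))))))) (.node
    (.node (.node (.node (.node (.node (.node (.leaf (nat_lit 12064527)) (.leaf (nat_lit
    743278598))) (.leaf (nat_lit 393996808))) (.node (.leaf (nat_lit 96064518)) (.leaf (nat_lit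
    382947078)))) (.node (.node (.leaf (nat_lit 154215941)) (.leaf (nat_lit 649184527))) (.node
    (.leaf (nat_lit 336240135)) (.leaf (nat_lit 304925440))))) (.node (.node (.node (.node (.leaf
    (nat_lit 58755078)) (.leaf (nat_lit 571325967))) (.leaf (nat_lit 385635590))) (.node (.leaf
    (nat_lit 269102089)) (.leaf (nat_lit 622142208)))) (.node (.node (.leaf (nat_lit 204034312))
    (.leaf (nat_lit 485808128))) (.node (.leaf (nat_lit 444653329)) (.leaf (nat_lit 291854090))))))
    (.node (.node (.node (.node (.node (.leaf (nat_lit 8936463)) (.leaf (nat_lit 642098191)))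
    (.leaf (nat_lit 552691973))) (.node (.leaf (nat_lit 270131465)) (.leaf (nat_lit 136575744))))
    (.node (.node (.leaf (nat_lit 180898308)) (.leaf (nat_lit 686104577))) (.node (.leaf (nat_lit
    394837259)) (.leaf (nat_lit 699218438))))) (.node (.node (.node (.leaf (nat_lit 104868108))
    (.leaf (nat_lit 272929807))) (.node (.leaf (nat_lit 327194629)) (.leaf (nat_lit 431173897))))
    (.node (.node (.leaf (nat_lit 154729741)) (.leaf (nat_lit 549134854))) (.node (.leaf (nat_lit
    425435910)) (.leaf (nat_lit 363163650))))))) (.node (.node (.node (.node (.node (.node (.leaf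
    (nat_lit 35654161)) (.leaf (nat_lit 637900549))) (.leaf (nat_lit 522454533))) (.node (.leaf
    (nat_lit 209317126)) (.leaf (nat_lit 527634436)))) (.node (.node (.leaf (nat_lit 167847427))
    (.leaf (nat_lit 666480399))) (.node (.leaf (nat_lit 127060230)) (.leaf (nat_lit 676562435)))))
    (.node (.node (.node (.leaf (nat_lit 85467922)) (.leaf (nat_lit 596931090))) (.node (.leaf
    (nat_lit 172643087)) (.leaf (nat_lit 482648581)))) (.node (.node (.leaf (nat_lit 3682816))
    (.leaf (nat_lit 492549376))) (.node (.leaf (nat_lit 466677260)) (.leaf (nat_lit 322790665))))))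
    (.node (.node (.node (.node (.node (.leaf (nat_lit 46168328)) (.leaf (nat_lit 756920582)))
    (.leaf (nat_lit 559688962))) (.node (.leaf (nat_lit 177811462)) (.leaf (nat_lit 175828492))))
    (.node (.node (.leaf (nat_lit 193482512)) (.leaf (nat_lit 592571146))) (.node (.leaf (nat_lit
    414764049)) (.leaf (nat_lit 604849927))))) (.node (.node (.node (.leaf (nat_lit 125890827))
    (.leaf (nat_lit 633649419))) (.node (.leaf (nat_lit 336658697)) (.leaf (nat_lit 366081032))))
    (.node (.node (.leaf (nat_lit 234459403)) (.leaf (nat_lit 444852992))) (.node (.leaf (nat_lit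
    450086150)) (.leaf (nat_lit 731740937)))))))))) (.node (.node (.node (.node (.node (.node
    (.node (.node (.node (.leaf (nat_lit 1049353)) (.leaf (nat_lit 739524097))) (.leaf (nat_lit
    511261958))) (.node (.leaf (nat_lit 213501194)) (.leaf (nat_lit 420189442)))) (.node (.node
    (.leaf (nat_lit 122227728)) (.leaf (nat_lit 253543430))) (.node (.leaf (nat_lit 341475335))
    (.leaf (nat_lit 223108864))))) (.node (.node (.node (.node (.leaf (nat_lit 67141647)) (.leaf
    (nat_lit 766349324))) (.leaf (nat_lit 268712961))) (.node (.leaf (nat_lit 247079429)) (.leaf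
    (nat_lit 433374720)))) (.node (.node (.leaf (nat_lit 187791366)) (.leaf (nat_lit 597459718)))
    (.node (.leaf (nat_lit 139143170)) (.leaf (nat_lit 556616963)))))) (.node (.node (.node (.node
    (.node (.leaf (nat_lit 6310154)) (.leaf (nat_lit 753597441))) (.leaf (nat_lit 545348370)))
    (.node (.leaf (nat_lit 262778130)) (.leaf (nat_lit 86155277)))) (.node (.node (.leaf (nat_lit
    99655947)) (.leaf (nat_lit 357894152))) (.node (.leaf (nat_lit 380679440)) (.leaf (nat_lit
    668283407))))) (.node (.node (.node (.leaf (nat_lit 38842898)) (.leaf (nat_lit 218921729)))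
    (.node (.leaf (nat_lit 227694087)) (.leaf (nat_lit 385121792)))) (.node (.node (.leaf (nat_lit
    86033408)) (.leaf (nat_lit 27281158))) (.node (.leaf (nat_lit 475069452)) (.leaf (nat_lit
    722299397))))))) (.node (.node (.node (.node (.node (.node (.leaf (nat_lit 17827338)) (.leaf
    (nat_lit 743804678))) (.leaf (nat_lit 531710479))) (.node (.leaf (nat_lit 250113802)) (.leaf
    (nat_lit 300602880)))) (.node (.node (.leaf (nat_lit 160461835)) (.leaf (nat_lit 573365004)))
    (.node (.leaf (nat_lit 359704331)) (.leaf (nat_lit 50130176))))) (.node (.node (.node (.node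
    (.leaf (nat_lit 51417606)) (.leaf (nat_lit 773120266))) (.leaf (nat_lit 583818244))) (.node
    (.leaf (nat_lit 187262220)) (.leaf (nat_lit 253296901)))) (.node (.node (.leaf (nat_lit
    209814535)) (.leaf (nat_lit 140170496))) (.node (.leaf (nat_lit 428036104)) (.leaf (nat_lit
    691887369)))))) (.node (.node (.node (.node (.node (.leaf (nat_lit 41443844)) (.leaf (nat_lit
    759539974))) (.leaf (nat_lit 554842373))) (.node (.leaf (nat_lit 81374219)) (.leaf (nat_lit
    317864193)))) (.node (.node (.leaf (nat_lit 184626446)) (.leaf (nat_lit 582298377))) (.node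
    (.leaf (nat_lit 276495112)) (.leaf (nat_lit 475348737))))) (.node (.node (.node (.leaf (nat_lit
    109107202)) (.leaf (nat_lit 339517200))) (.node (.leaf (nat_lit 184186114)) (.leaf (nat_lit
    602547970)))) (.node (.node (.leaf (nat_lit 62500353)) (.leaf (nat_lit 392389888))) (.node
    (.leaf (nat_lit 296463633)) (.leaf (nat_lit 632100615)))))))) (.node (.node (.node (.node
    (.node (.node (.node (.leaf (nat_lit 9962253)) (.leaf (nat_lit 341149706))) (.leaf (nat_lit
    521397265))) (.node (.leaf (nat_lit 243820814)) (.leaf (nat_lit 105565447)))) (.node (.node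
    (.leaf (nat_lit 97591056)) (.leaf (nat_lit 648126738))) (.node (.leaf (nat_lit 348693004))
    (.leaf (nat_lit 409272329))))) (.node (.node (.node (.node (.leaf (nat_lit 68187657)) (.leaf
    (nat_lit 745389061))) (.leaf (nat_lit 577861645))) (.node (.leaf (nat_lit 290489106)) (.leaf
    (nat_lit 428657920)))) (.node (.node (.leaf (nat_lit 198804226)) (.leaf (nat_lit 275942400)))
    (.node (.leaf (nat_lit 437391619)) (.leaf (nat_lit 541414661)))))) (.node (.node (.node (.node
    (.node (.leaf (nat_lit 45616647)) (.leaf (nat_lit 721789441))) (.leaf (nat_lit 552692229)))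
    (.node (.leaf (nat_lit 215587596)) (.leaf (nat_lit 301509893)))) (.node (.node (.leaf (nat_lit
    179849489)) (.leaf (nat_lit 684449552))) (.node (.leaf (nat_lit 102427666)) (.leaf (nat_lit
    400898054))))) (.node (.node (.node (.leaf (nat_lit 79217170)) (.leaf (nat_lit 613519372)))
    (.node (.leaf (nat_lit 324692748)) (.leaf (nat_lit 473239045)))) (.node (.node (.leaf (nat_lit
    82903557)) (.leaf (nat_lit 476382208))) (.node (.leaf (nat_lit 433299218)) (.leaf (nat_lit
    562916873))))))) (.node (.node (.node (.node (.node (.node (.leaf (nat_lit 6307857)) (.leaf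
    (nat_lit 678794767))) (.leaf (nat_lit 518259464))) (.node (.leaf (nat_lit 95545862)) (.leaf
    (nat_lit 463034377)))) (.node (.node (.leaf (nat_lit 166800645)) (.leaf (nat_lit 655159820)))
    (.node (.leaf (nat_lit 371901708)) (.leaf (nat_lit 305407248))))) (.node (.node (.node (.node
    (.leaf (nat_lit 21010949)) (.leaf (nat_lit 702400783))) (.leaf (nat_lit 219442946))) (.node
    (.leaf (nat_lit 172642320)) (.leaf (nat_lit 231429891)))) (.node (.node (.leaf (nat_lit
    219700493)) (.leaf (nat_lit 549096708))) (.node (.leaf (nat_lit 464579855)) (.leaf (nat_lit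
    722820102)))))) (.node (.node (.node (.node (.node (.leaf (nat_lit 60847119)) (.leaf (nat_lit
    646295311))) (.leaf (nat_lit 559050252))) (.node (.leaf (nat_lit 283765258)) (.leaf (nat_lit
    322603266)))) (.node (.node (.leaf (nat_lit 40987921)) (.leaf (nat_lit 286008330))) (.node
    (.leaf (nat_lit 131797255)) (.leaf (nat_lit 707390224))))) (.node (.node (.node (.leaf (nat_lit
    124308232)) (.leaf (nat_lit 630999560))) (.node (.leaf (nat_lit 334135053)) (.leaf (nat_lit
    621408008)))) (.node (.node (.leaf (nat_lit 179944962)) (.leaf (nat_lit 83033856))) (.node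
    (.leaf (nat_lit 504436746)) (.leaf (nat_lit 731740673))))))))) (.node (.node (.node (.node
    (.node (.node (.node (.node (.leaf (nat_lit 4720905)) (.leaf (nat_lit 709198864))) (.leaf
    (nat_lit 335272195))) (.node (.leaf (nat_lit 58837506)) (.leaf (nat_lit 136398598)))) (.node
    (.node (.leaf (nat_lit 35723279)) (.leaf (nat_lit 219465477))) (.node (.leaf (nat_lit
    346595842)) (.leaf (nat_lit 322045953))))) (.node (.node (.node (.node (.leaf (nat_lit
    14165511)) (.leaf (nat_lit 767835409))) (.leaf (nat_lit 574764299))) (.node (.leaf (nat_lit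
    289547017)) (.leaf (nat_lit 268223488)))) (.node (.node (.leaf (nat_lit 199774983)) (.leaf
    (nat_lit 225150976))) (.node (.leaf (nat_lit 431019788)) (.leaf (nat_lit 713310731)))))) (.node
    (.node (.node (.node (.node (.leaf (nat_lit 41424139)) (.leaf (nat_lit 755171343))) (.leaf
    (nat_lit 276043280))) (.node (.leaf (nat_lit 61470720)) (.leaf (nat_lit 109754113)))) (.node
    (.node (.leaf (nat_lit 170479876)) (.leaf (nat_lit 611617298))) (.node (.leaf (nat_lit
    273342992)) (.leaf (nat_lit 575485193))))) (.node (.node (.node (.leaf (nat_lit 45660164))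
    (.leaf (nat_lit 607245064))) (.node (.leaf (nat_lit 317231374)) (.leaf (nat_lit 213087744))))
    (.node (.node (.leaf (nat_lit 125873161)) (.leaf (nat_lit 267976972))) (.node (.leaf (nat_lit
    480837891)) (.leaf (nat_lit 399338754))))))) (.node (.node (.node (.node (.node (.node (.leaf
    (nat_lit 4732686)) (.leaf (nat_lit 748330001))) (.leaf (nat_lit 534332941))) (.node (.leaf
    (nat_lit 253355019)) (.leaf (nat_lit 303297024)))) (.node (.node (.leaf (nat_lit 97597711))
    (.leaf (nat_lit 658090247))) (.node (.leaf (nat_lit 364948743)) (.leaf (nat_lit 367180812)))))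
    (.node (.node (.node (.node (.leaf (nat_lit 19437830)) (.leaf (nat_lit 774684682))) (.leaf
    (nat_lit 588939016))) (.node (.leaf (nat_lit 85605122)) (.leaf (nat_lit 301084172)))) (.node
    (.node (.leaf (nat_lit 213408004)) (.leaf (nat_lit 248262402))) (.node (.leaf (nat_lit
    126053122)) (.leaf (nat_lit 574447622)))))) (.node (.node (.node (.node (.node (.leaf (nat_lit
    57676555)) (.leaf (nat_lit 743287820))) (.leaf (nat_lit 555836423))) (.node (.leaf (nat_lit
    280526860)) (.leaf (nat_lit 260335631)))) (.node (.node (.leaf (nat_lit 188238864)) (.leaf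
    (nat_lit 696545547))) (.node (.leaf (nat_lit 171000584)) (.leaf (nat_lit 682967301))))) (.node
    (.node (.node (.leaf (nat_lit 120073481)) (.leaf (nat_lit 626790408))) (.node (.leaf (nat_lit
    332560905)) (.leaf (nat_lit 161567499)))) (.node (.node (.leaf (nat_lit 179418379)) (.leaf
    (nat_lit 20491537))) (.node (.leaf (nat_lit 334214920)) (.leaf (nat_lit 675640846))))))))
    (.node (.node (.node (.node (.node (.node (.node (.leaf (nat_lit 14162703)) (.leaf (nat_lit
    682461960))) (.leaf (nat_lit 526046730))) (.node (.leaf (nat_lit 247585039)) (.leaf (nat_lit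
    655570448)))) (.node (.node (.leaf (nat_lit 46736908)) (.leaf (nat_lit 255121156))) (.node
    (.leaf (nat_lit 89826561)) (.leaf (nat_lit 336265481))))) (.node (.node (.node (.node (.leaf
    (nat_lit 49842699)) (.leaf (nat_lit 754302735))) (.leaf (nat_lit 583151365))) (.node (.leaf
    (nat_lit 293220363)) (.leaf (nat_lit 582118666)))) (.node (.node (.leaf (nat_lit 207115536))
    (.leaf (nat_lit 349437184))) (.node (.leaf (nat_lit 321020675)) (.leaf (nat_lit 717503244))))))
    (.node (.node (.node (.node (.node (.leaf (nat_lit 13655553)) (.leaf (nat_lit 757943819)))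
    (.leaf (nat_lit 195305220))) (.node (.leaf (nat_lit 85068292)) (.leaf (nat_lit 423781388))))
    (.node (.node (.leaf (nat_lit 181946887)) (.leaf (nat_lit 690602509))) (.node (.leaf (nat_lit
    315815169)) (.leaf (nat_lit 702323722))))) (.node (.node (.node (.leaf (nat_lit 106965511))
    (.leaf (nat_lit 616141068))) (.node (.leaf (nat_lit 118121222)) (.leaf (nat_lit 587483651))))
    (.node (.node (.leaf (nat_lit 104384273)) (.leaf (nat_lit 423860736))) (.node (.leaf (nat_lit
    489350406)) (.leaf (nat_lit 381513988))))))) (.node (.node (.node (.node (.node (.node (.leaf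
    (nat_lit 9968645)) (.leaf (nat_lit 747477250))) (.leaf (nat_lit 521931270))) (.node (.leaf
    (nat_lit 163704843)) (.leaf (nat_lit 91787522)))) (.node (.node (.leaf (nat_lit 53036294))
    (.leaf (nat_lit 670150666))) (.node (.leaf (nat_lit 268094473)) (.leaf (nat_lit 633620749)))))
    (.node (.node (.node (.leaf (nat_lit 89172747)) (.leaf (nat_lit 553939724))) (.node (.leaf
    (nat_lit 87708930)) (.leaf (nat_lit 203659279)))) (.node (.node (.leaf (nat_lit 29899017))
    (.leaf (nat_lit 420711936))) (.node (.leaf (nat_lit 470348295)) (.leaf (nat_lit 569206530))))))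
    (.node (.node (.node (.node (.node (.leaf (nat_lit 51936261)) (.leaf (nat_lit 560312845)))
    (.leaf (nat_lit 563360274))) (.node (.leaf (nat_lit 177820672)) (.leaf (nat_lit 394596864))))
    (.node (.node (.leaf (nat_lit 194026766)) (.leaf (nat_lit 47308032))) (.node (.leaf (nat_lit
    415439879)) (.leaf (nat_lit 709708047))))) (.node (.node (.node (.leaf (nat_lit 29948169))
    (.leaf (nat_lit 600620036))) (.node (.leaf (nat_lit 338855435)) (.leaf (nat_lit 441712910))))
    (.node (.node (.leaf (nat_lit 61456641)) (.leaf (nat_lit 650785034))) (.node (.leaf (nat_lit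
    508109828)) (.leaf (nat_lit 678264326))))))))))) (.node (.node (.node (.node (.node (.node
    (.node (.node (.node (.node (.leaf (nat_lit 524548)) (.leaf (nat_lit 338526481))) (.leaf
    (nat_lit 335793681))) (.node (.leaf (nat_lit 225035273)) (.leaf (nat_lit 524006916)))) (.node
    (.node (.leaf (nat_lit 137376780)) (.leaf (nat_lit 634527249))) (.node (.leaf (nat_lit
    340827410)) (.leaf (nat_lit 547127559))))) (.node (.node (.node (.node (.leaf (nat_lit
    16809734)) (.leaf (nat_lit 759018754))) (.leaf (nat_lit 278673674))) (.node (.leaf (nat_lit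
    261759241)) (.leaf (nat_lit 301605384)))) (.node (.node (.leaf (nat_lit 195655169)) (.leaf
    (nat_lit 62455040))) (.node (.leaf (nat_lit 116597770)) (.leaf (nat_lit 711281673)))))) (.node
    (.node (.node (.node (.node (.leaf (nat_lit 37766659)) (.leaf (nat_lit 753072401))) (.leaf
    (nat_lit 544460299))) (.node (.leaf (nat_lit 199881989)) (.leaf (nat_lit 588429322)))) (.node
    (.node (.leaf (nat_lit 172572168)) (.leaf (nat_lit 674039566))) (.node (.leaf (nat_lit
    181589004)) (.leaf (nat_lit 254095874))))) (.node (.node (.node (.leaf (nat_lit 93333008))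
    (.leaf (nat_lit 265058322))) (.node (.leaf (nat_lit 277385990)) (.leaf (nat_lit 207881472))))
    (.node (.node (.leaf (nat_lit 80848137)) (.leaf (nat_lit 351444489))) (.node (.leaf (nat_lit
    473496335)) (.leaf (nat_lit 726422796))))))) (.node (.node (.node (.node (.node (.node (.leaf
    (nat_lit 16785156)) (.leaf (nat_lit 724930049))) (.leaf (nat_lit 387632650))) (.node (.leaf
    (nat_lit 160553738)) (.leaf (nat_lit 487745803)))) (.node (.node (.leaf (nat_lit 153693956))
    (.leaf (nat_lit 651333638))) (.node (.leaf (nat_lit 358655504)) (.leaf (nat_lit 205653767)))))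
    (.node (.node (.node (.node (.leaf (nat_lit 21532674)) (.leaf (nat_lit 772595467))) (.leaf
    (nat_lit 208952066))) (.node (.leaf (nat_lit 296782349)) (.leaf (nat_lit 277647104)))) (.node
    (.node (.leaf (nat_lit 209737473)) (.leaf (nat_lit 473691648))) (.node (.leaf (nat_lit
    452681740)) (.leaf (nat_lit 487939090)))))) (.node (.node (.node (.node (.node (.leaf (nat_lit
    50861571)) (.leaf (nat_lit 759538692))) (.leaf (nat_lit 554307082))) (.node (.leaf (nat_lit
    278429455)) (.leaf (nat_lit 428522499)))) (.node (.node (.leaf (nat_lit 173629200)) (.leaf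
    (nat_lit 310716933))) (.node (.leaf (nat_lit 398653707)) (.leaf (nat_lit 611663366))))) (.node
    (.node (.node (.leaf (nat_lit 112208649)) (.leaf (nat_lit 619470084))) (.node (.leaf (nat_lit
    329291787)) (.leaf (nat_lit 242525957)))) (.node (.node (.leaf (nat_lit 224943889)) (.leaf
    (nat_lit 411303424))) (.node (.leaf (nat_lit 481012489)) (.leaf (nat_lit 558714634))))))))
    (.node (.node (.node (.node (.node (.node (.node (.leaf (nat_lit 8917265)) (.leaf (nat_lit
    742033927))) (.leaf (nat_lit 521221135))) (.node (.leaf (nat_lit 212979458)) (.leaf (nat_lit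
    182678273)))) (.node (.node (.leaf (nat_lit 29957127)) (.leaf (nat_lit 645189391))) (.node
    (.leaf (nat_lit 348288006)) (.leaf (nat_lit 226779666))))) (.node (.node (.node (.node (.leaf
    (nat_lit 62414097)) (.leaf (nat_lit 745388810))) (.leaf (nat_lit 339495946))) (.node (.leaf
    (nat_lit 54552333)) (.leaf (nat_lit 638900480)))) (.node (.node (.leaf (nat_lit 201872143))
    (.leaf (nat_lit 597285130))) (.node (.leaf (nat_lit 352010497)) (.leaf (nat_lit 710759430))))))
    (.node (.node (.node (.node (.node (.leaf (nat_lit 43519489)) (.leaf (nat_lit 700817675)))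
    (.leaf (nat_lit 552165385))) (.node (.leaf (nat_lit 212467461)) (.leaf (nat_lit 22592524))))
    (.node (.node (.leaf (nat_lit 163083531)) (.leaf (nat_lit 647829009))) (.node (.leaf (nat_lit
    391166731)) (.leaf (nat_lit 293943047))))) (.node (.node (.node (.leaf (nat_lit 21545233))
    (.leaf (nat_lit 611945995))) (.node (.leaf (nat_lit 324047634)) (.leaf (nat_lit 475319812))))
    (.node (.node (.leaf (nat_lit 80807441)) (.leaf (nat_lit 474740480))) (.node (.leaf (nat_lit
    136027665)) (.leaf (nat_lit 624256522))))))) (.node (.node (.node (.node (.node (.node (.leaf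
    (nat_lit 33046281)) (.leaf (nat_lit 682988802))) (.leaf (nat_lit 537480209))) (.node (.leaf
    (nat_lit 256502032)) (.leaf (nat_lit 136890379)))) (.node (.node (.leaf (nat_lit 155794441))
    (.leaf (nat_lit 614789125))) (.node (.leaf (nat_lit 371240715)) (.leaf (nat_lit 682432012)))))
    (.node (.node (.node (.node (.leaf (nat_lit 3682311)) (.leaf (nat_lit 647350278))) (.leaf
    (nat_lit 593592839))) (.node (.leaf (nat_lit 307792914)) (.leaf (nat_lit 216709889)))) (.node
    (.node (.leaf (nat_lit 65117708)) (.leaf (nat_lit 103976704))) (.node (.leaf (nat_lit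
    463147270)) (.leaf (nat_lit 570704398)))))) (.node (.node (.node (.node (.node (.leaf (nat_lit
    60299009)) (.leaf (nat_lit 762626063))) (.leaf (nat_lit 190589704))) (.node (.leaf (nat_lit
    251272197)) (.leaf (nat_lit 462140929)))) (.node (.node (.leaf (nat_lit 188312588)) (.leaf
    (nat_lit 215610884))) (.node (.leaf (nat_lit 397610504)) (.leaf (nat_lit 448611334))))) (.node
    (.node (.node (.leaf (nat_lit 115927812)) (.leaf (nat_lit 629977091))) (.node (.leaf (nat_lit
    334598925)) (.leaf (nat_lit 607915270)))) (.node (.node (.leaf (nat_lit 161070351)) (.leaf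
    (nat_lit 228224517))) (.node (.leaf (nat_lit 501465094)) (.leaf (nat_lit 473266447)))))))))
    (.node (.node (.node (.node (.node (.node (.node (.node (.leaf (nat_lit 2622735)) (.leaf
    (nat_lit 569681415))) (.leaf (nat_lit 181131014))) (.node (.leaf (nat_lit 71943954)) (.leaf
    (nat_lit 675442439)))) (.node (.node (.leaf (nat_lit 110695169)) (.leaf (nat_lit 640786436)))
    (.node (.leaf (nat_lit 211456785)) (.leaf (nat_lit 262802704))))) (.node (.node (.node (.node
    (.leaf (nat_lit 52463110)) (.leaf (nat_lit 767833609))) (.leaf (nat_lit 572277513))) (.node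
    (.leaf (nat_lit 289545989)) (.leaf (nat_lit 314904832)))) (.node (.node (.leaf (nat_lit
    198740492)) (.leaf (nat_lit 95588352))) (.node (.leaf (nat_lit 428396811)) (.leaf (nat_lit
    706564098)))))) (.node (.node (.node (.node (.node (.leaf (nat_lit 12064524)) (.leaf (nat_lit
    753245962))) (.leaf (nat_lit 275518736))) (.node (.leaf (nat_lit 60322829)) (.leaf (nat_lit
    120802816)))) (.node (.node (.leaf (nat_lit 162615302)) (.leaf (nat_lit 612175620))) (.node
    (.leaf (nat_lit 383825677)) (.leaf (nat_lit 418722831))))) (.node (.node (.node (.leaf (nat_lit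
    95430409)) (.leaf (nat_lit 606178056))) (.node (.leaf (nat_lit 315775755)) (.leaf (nat_lit
    116164608)))) (.node (.node (.leaf (nat_lit 82898959)) (.leaf (nat_lit 485598991))) (.node
    (.leaf (nat_lit 479788305)) (.leaf (nat_lit 709716995))))))) (.node (.node (.node (.node (.node
    (.node (.leaf (nat_lit 25691912)) (.leaf (nat_lit 654676482))) (.leaf (nat_lit 533331723)))
    (.node (.leaf (nat_lit 71426060)) (.leaf (nat_lit 131753487)))) (.node (.node (.leaf (nat_lit
    163133455)) (.leaf (nat_lit 655468562))) (.node (.leaf (nat_lit 363899920)) (.leaf (nat_lit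
    588580096))))) (.node (.node (.node (.node (.leaf (nat_lit 79699986)) (.leaf (nat_lit
    758498575))) (.leaf (nat_lit 515138053))) (.node (.leaf (nat_lit 194656262)) (.leaf (nat_lit
    273809936)))) (.node (.node (.leaf (nat_lit 211856393)) (.leaf (nat_lit 263456779))) (.node
    (.leaf (nat_lit 457238539)) (.leaf (nat_lit 721209348)))))) (.node (.node (.node (.node (.node
    (.leaf (nat_lit 55077137)) (.leaf (nat_lit 761504273))) (.leaf (nat_lit 350318855))) (.node
    (.leaf (nat_lit 221910539)) (.leaf (nat_lit 409094662)))) (.node (.node (.leaf (nat_lit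
    186147331)) (.leaf (nat_lit 695988744))) (.node (.leaf (nat_lit 168494087)) (.leaf (nat_lit
    350016527))))) (.node (.node (.node (.leaf (nat_lit 113303556)) (.leaf (nat_lit 529835779)))
    (.node (.leaf (nat_lit 86145285)) (.leaf (nat_lit 159524874)))) (.node (.node (.leaf (nat_lit
    229138450)) (.leaf (nat_lit 123267855))) (.node (.leaf (nat_lit 331068689)) (.leaf (nat_lit
    571831813)))))))) (.node (.node (.node (.node (.node (.node (.node (.leaf (nat_lit 13632530))
    (.leaf (nat_lit 743718410))) (.leaf (nat_lit 380889096))) (.node (.leaf (nat_lit 241817356))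
    (.leaf (nat_lit 109650944)))) (.node (.node (.leaf (nat_lit 56174607)) (.leaf (nat_lit
    271374086))) (.node (.leaf (nat_lit 137011718)) (.leaf (nat_lit 226723339))))) (.node (.node
    (.node (.node (.leaf (nat_lit 17336578)) (.leaf (nat_lit 771506438))) (.leaf (nat_lit
    582758662))) (.node (.leaf (nat_lit 252849669)) (.leaf (nat_lit 109699586)))) (.node (.node
    (.leaf (nat_lit 205542416)) (.leaf (nat_lit 363000832))) (.node (.leaf (nat_lit 400249609))
    (.leaf (nat_lit 289232906)))))) (.node (.node (.node (.node (.node (.leaf (nat_lit 17849606))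
    (.leaf (nat_lit 707634186))) (.leaf (nat_lit 186916356))) (.node (.leaf (nat_lit 272661774))
    (.leaf (nat_lit 321023238)))) (.node (.node (.leaf (nat_lit 171530508)) (.leaf (nat_lit
    583344902))) (.node (.leaf (nat_lit 395886595)) (.leaf (nat_lit 701828621))))) (.node (.node
    (.node (.leaf (nat_lit 91801871)) (.leaf (nat_lit 615616530))) (.node (.leaf (nat_lit
    327718919)) (.leaf (nat_lit 301653770)))) (.node (.node (.leaf (nat_lit 29957632)) (.leaf
    (nat_lit 621438469))) (.node (.leaf (nat_lit 488822025)) (.leaf (nat_lit 678254856)))))))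
    (.node (.node (.node (.node (.node (.node (.leaf (nat_lit 36702983)) (.leaf (nat_lit
    574461961))) (.leaf (nat_lit 177473554))) (.node (.leaf (nat_lit 208793350)) (.leaf (nat_lit
    424826886)))) (.node (.node (.leaf (nat_lit 164709391)) (.leaf (nat_lit 655161604))) (.node
    (.leaf (nat_lit 245549574)) (.leaf (nat_lit 594872837))))) (.node (.node (.node (.leaf (nat_lit
    86025474)) (.leaf (nat_lit 219275779))) (.node (.leaf (nat_lit 277498880)) (.leaf (nat_lit
    537048840)))) (.node (.node (.leaf (nat_lit 29948160)) (.leaf (nat_lit 424939520))) (.node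
    (.leaf (nat_lit 132873734)) (.leaf (nat_lit 723346959)))))) (.node (.node (.node (.node (.node
    (.leaf (nat_lit 64518927)) (.leaf (nat_lit 764778497))) (.leaf (nat_lit 561260812))) (.node
    (.leaf (nat_lit 174666761)) (.leaf (nat_lit 286504704)))) (.node (.node (.leaf (nat_lit
    82407942)) (.leaf (nat_lit 596403973))) (.node (.leaf (nat_lit 132324098)) (.leaf (nat_lit
    547178497))))) (.node (.node (.node (.leaf (nat_lit 128462865)) (.leaf (nat_lit 635204103)))
    (.node (.leaf (nat_lit 337688838)) (.leaf (nat_lit 543980806)))) (.node (.node (.leaf (nat_lit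
    53592072)) (.leaf (nat_lit 342556178))) (.node (.leaf (nat_lit 320587778)) (.leaf (nat_lit
    567639311)))))))))) (.node (.node (.node (.node (.node (.node (.node (.node (.node (.leaf
    (nat_lit 2098191)) (.leaf (nat_lit 740121089))) (.leaf (nat_lit 169071105))) (.node (.leaf
    (nat_lit 61457931)) (.leaf (nat_lit 588462598)))) (.node (.node (.leaf (nat_lit 30478342))
    (.leaf (nat_lit 218415362))) (.node (.leaf (nat_lit 342924817)) (.leaf (nat_lit 272778240)))))
    (.node (.node (.node (.node (.leaf (nat_lit 54034950)) (.leaf (nat_lit 739096080))) (.leaf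
    (nat_lit 334774274))) (.node (.leaf (nat_lit 287343117)) (.leaf (nat_lit 252867840)))) (.node
    (.node (.leaf (nat_lit 190934538)) (.leaf (nat_lit 58301194))) (.node (.leaf (nat_lit
    330508817)) (.leaf (nat_lit 711742737)))))) (.node (.node (.node (.node (.node (.leaf (nat_lit
    40373506)) (.leaf (nat_lit 753678855))) (.leaf (nat_lit 341053711))) (.node (.leaf (nat_lit
    201980166)) (.leaf (nat_lit 120803343)))) (.node (.node (.leaf (nat_lit 174148626)) (.leaf
    (nat_lit 676443148))) (.node (.leaf (nat_lit 211474192)) (.leaf (nat_lit 697945603))))) (.node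
    (.node (.node (.leaf (nat_lit 36221708)) (.leaf (nat_lit 603556359))) (.node (.leaf (nat_lit
    104486658)) (.leaf (nat_lit 174885120)))) (.node (.node (.leaf (nat_lit 21538055)) (.leaf
    (nat_lit 39003392))) (.node (.leaf (nat_lit 136023811)) (.leaf (nat_lit 348927491))))))) (.node
    (.node (.node (.node (.node (.node (.leaf (nat_lit 18875917)) (.leaf (nat_lit 573411330)))
    (.leaf (nat_lit 517208080))) (.node (.leaf (nat_lit 215604741)) (.leaf (nat_lit 486760456))))
    (.node (.node (.leaf (nat_lit 161497613)) (.leaf (nat_lit 299686922))) (.node (.leaf (nat_lit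
    361801490)) (.leaf (nat_lit 226626566))))) (.node (.node (.node (.node (.leaf (nat_lit
    78127119)) (.leaf (nat_lit 769508097))) (.leaf (nat_lit 586251534))) (.node (.leaf (nat_lit
    195704587)) (.leaf (nat_lit 231940616)))) (.node (.node (.leaf (nat_lit 203526407)) (.leaf
    (nat_lit 492644864))) (.node (.leaf (nat_lit 433218314)) (.leaf (nat_lit 719997448)))))) (.node
    (.node (.node (.node (.node (.leaf (nat_lit 47211280)) (.leaf (nat_lit 679848464))) (.leaf
    (nat_lit 299639557))) (.node (.leaf (nat_lit 279478275)) (.leaf (nat_lit 104488453)))) (.node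
    (.node (.leaf (nat_lit 40985092)) (.leaf (nat_lit 239938563))) (.node (.leaf (nat_lit
    336265222)) (.leaf (nat_lit 681853448))))) (.node (.node (.node (.leaf (nat_lit 115878919))
    (.leaf (nat_lit 531931398))) (.node (.leaf (nat_lit 330864898)) (.leaf (nat_lit 283339776))))
    (.node (.node (.leaf (nat_lit 226076675)) (.leaf (nat_lit 310554624))) (.node (.leaf (nat_lit
    470527750)) (.leaf (nat_lit 731622155)))))))) (.node (.node (.node (.node (.node (.node (.node
    (.leaf (nat_lit 11011592)) (.leaf (nat_lit 742754570))) (.leaf (nat_lit 524893453))) (.node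
    (.leaf (nat_lit 209310473)) (.leaf (nat_lit 492460037)))) (.node (.node (.leaf (nat_lit
    153106956)) (.leaf (nat_lit 271373829))) (.node (.leaf (nat_lit 350790411)) (.leaf (nat_lit
    419750918))))) (.node (.node (.node (.node (.leaf (nat_lit 70813455)) (.leaf (nat_lit
    767933697))) (.leaf (nat_lit 578386188))) (.node (.leaf (nat_lit 216148742)) (.leaf (nat_lit
    105495306)))) (.node (.node (.leaf (nat_lit 203523090)) (.leaf (nat_lit 296384512))) (.node
    (.leaf (nat_lit 440458510)) (.leaf (nat_lit 448615941)))))) (.node (.node (.node (.node (.node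
    (.leaf (nat_lit 8411662)) (.leaf (nat_lit 753246977))) (.leaf (nat_lit 552690694))) (.node
    (.leaf (nat_lit 217711109)) (.leaf (nat_lit 121260034)))) (.node (.node (.leaf (nat_lit
    162617093)) (.leaf (nat_lit 384637955))) (.node (.leaf (nat_lit 184217096)) (.leaf (nat_lit
    544028938))))) (.node (.node (.node (.leaf (nat_lit 102809089)) (.leaf (nat_lit 270816256)))
    (.node (.leaf (nat_lit 326145802)) (.leaf (nat_lit 677060113)))) (.node (.node (.leaf (nat_lit
    150538245)) (.leaf (nat_lit 228822288))) (.node (.leaf (nat_lit 485728520)) (.leaf (nat_lit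
    729560326))))))) (.node (.node (.node (.node (.node (.node (.leaf (nat_lit 31998472)) (.leaf
    (nat_lit 750435346))) (.leaf (nat_lit 521405701))) (.node (.leaf (nat_lit 256982284)) (.leaf
    (nat_lit 393424128)))) (.node (.node (.leaf (nat_lit 167789831)) (.leaf (nat_lit 664907020)))
    (.node (.leaf (nat_lit 94553867)) (.leaf (nat_lit 557085449))))) (.node (.node (.node (.node
    (.leaf (nat_lit 82321932)) (.leaf (nat_lit 752208139))) (.leaf (nat_lit 596214544))) (.node
    (.leaf (nat_lit 173691138)) (.leaf (nat_lit 611538946)))) (.node (.node (.leaf (nat_lit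
    194026765)) (.leaf (nat_lit 349371648))) (.node (.leaf (nat_lit 411793414)) (.leaf (nat_lit
    660956175)))))) (.node (.node (.node (.node (.node (.leaf (nat_lit 43546117)) (.leaf (nat_lit
    683520002))) (.leaf (nat_lit 298069002))) (.node (.leaf (nat_lit 177811718)) (.leaf (nat_lit
    418590981)))) (.node (.node (.leaf (nat_lit 47803916)) (.leaf (nat_lit 598864138))) (.node
    (.leaf (nat_lit 413190924)) (.leaf (nat_lit 632112642))))) (.node (.node (.node (.leaf (nat_lit
    124841219)) (.leaf (nat_lit 607434242))) (.node (.leaf (nat_lit 335655683)) (.leaf (nat_lit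
    254579979)))) (.node (.node (.leaf (nat_lit 233944075)) (.leaf (nat_lit 276407815))) (.node
    (.leaf (nat_lit 504528914)) (.leaf (nat_lit 735733516))))))))) (.node (.node (.node (.node
    (.node (.node (.node (.node (.leaf (nat_lit 4721414)) (.leaf (nat_lit 741094147))) (.leaf
    (nat_lit 380360203))) (.node (.leaf (nat_lit 240733188)) (.leaf (nat_lit 109136133)))) (.node
    (.node (.leaf (nat_lit 146848524)) (.leaf (nat_lit 643932419))) (.node (.leaf (nat_lit
    341480966)) (.leaf (nat_lit 226622727))))) (.node (.node (.node (.node (.leaf (nat_lit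
    46689536)) (.leaf (nat_lit 566081804))) (.leaf (nat_lit 559172357))) (.node (.leaf (nat_lit
    289547011)) (.leaf (nat_lit 208380160)))) (.node (.node (.leaf (nat_lit 75006472)) (.leaf
    (nat_lit 95081472))) (.node (.leaf (nat_lit 420690434)) (.leaf (nat_lit 713827345)))))) (.node
    (.node (.node (.node (.node (.leaf (nat_lit 18370310)) (.leaf (nat_lit 578658321))) (.leaf
    (nat_lit 314840841))) (.node (.leaf (nat_lit 266892818)) (.leaf (nat_lit 626738946)))) (.node
    (.node (.leaf (nat_lit 178276622)) (.leaf (nat_lit 611968520))) (.node (.leaf (nat_lit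
    157999626)) (.leaf (nat_lit 604845570))))) (.node (.node (.node (.leaf (nat_lit 98051857))
    (.leaf (nat_lit 608799761))) (.node (.leaf (nat_lit 318922761)) (.leaf (nat_lit 115953933))))
    (.node (.node (.leaf (nat_lit 167832849)) (.leaf (nat_lit 29431808))) (.node (.leaf (nat_lit
    410228489)) (.leaf (nat_lit 713827341))))))) (.node (.node (.node (.node (.node (.node (.leaf
    (nat_lit 31983876)) (.leaf (nat_lit 703435532))) (.leaf (nat_lit 535382546))) (.node (.leaf
    (nat_lit 254833154)) (.leaf (nat_lit 38854661)))) (.node (.node (.leaf (nat_lit 164643602))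
    (.leaf (nat_lit 272950528))) (.node (.leaf (nat_lit 366120977)) (.leaf (nat_lit 646201863)))))
    (.node (.node (.node (.node (.leaf (nat_lit 28851200)) (.leaf (nat_lit 769508874))) (.leaf
    (nat_lit 591495432))) (.node (.leaf (nat_lit 300039426)) (.leaf (nat_lit 294437387)))) (.node
    (.node (.leaf (nat_lit 214538505)) (.leaf (nat_lit 123405568))) (.node (.leaf (nat_lit
    460909328)) (.leaf (nat_lit 305488143)))))) (.node (.node (.node (.node (.node (.leaf (nat_lit
    50884621)) (.leaf (nat_lit 563457286))) (.leaf (nat_lit 557409291))) (.node (.leaf (nat_lit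
    248125958)) (.leaf (nat_lit 301146123)))) (.node (.node (.leaf (nat_lit 43083778)) (.leaf
    (nat_lit 697064459))) (.node (.leaf (nat_lit 406898699)) (.leaf (nat_lit 706036236))))) (.node
    (.node (.node (.leaf (nat_lit 120645387)) (.leaf (nat_lit 628403970))) (.node (.leaf (nat_lit
    80902926)) (.leaf (nat_lit 383395330)))) (.node (.node (.leaf (nat_lit 202488081)) (.leaf
    (nat_lit 296264709))) (.node (.leaf (nat_lit 430660102)) (.leaf (nat_lit 667776778))))))))
    (.node (.node (.node (.node (.node (.node (.node (.leaf (nat_lit 3151112)) (.leaf (nat_lit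
    709687050))) (.leaf (nat_lit 526991114))) (.node (.leaf (nat_lit 92396038)) (.leaf (nat_lit
    131678987)))) (.node (.node (.leaf (nat_lit 156838923)) (.leaf (nat_lit 602659336))) (.node
    (.leaf (nat_lit 356033807)) (.leaf (nat_lit 660845586))))) (.node (.node (.node (.node (.leaf
    (nat_lit 18385666)) (.leaf (nat_lit 709738507))) (.leaf (nat_lit 293733380))) (.node (.leaf
    (nat_lit 278541313)) (.leaf (nat_lit 254987780)))) (.node (.node (.leaf (nat_lit 207704071))
    (.leaf (nat_lit 211559682))) (.node (.leaf (nat_lit 118708492)) (.leaf (nat_lit 718406156))))))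
    (.node (.node (.node (.node (.node (.leaf (nat_lit 15752971)) (.leaf (nat_lit 758853906)))
    (.leaf (nat_lit 198451201))) (.node (.leaf (nat_lit 273288708)) (.leaf (nat_lit 306272517))))
    (.node (.node (.leaf (nat_lit 182471177)) (.leaf (nat_lit 293414418))) (.node (.leaf (nat_lit
    342030091)) (.leaf (nat_lit 702669839))))) (.node (.node (.node (.leaf (nat_lit 109062667))
    (.leaf (nat_lit 275552527))) (.node (.leaf (nat_lit 294703364)) (.leaf (nat_lit 244987402))))
    (.node (.node (.leaf (nat_lit 81897225)) (.leaf (nat_lit 121295616))) (.node (.leaf (nat_lit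
    422815506)) (.leaf (nat_lit 705524226))))))) (.node (.node (.node (.node (.node (.node (.leaf
    (nat_lit 14162700)) (.leaf (nat_lit 731224585))) (.leaf (nat_lit 542379025))) (.node (.leaf
    (nat_lit 260698383)) (.leaf (nat_lit 172543243)))) (.node (.node (.leaf (nat_lit 79775503))
    (.leaf (nat_lit 228917774))) (.node (.leaf (nat_lit 377533195)) (.leaf (nat_lit 579139593)))))
    (.node (.node (.node (.leaf (nat_lit 21016078)) (.leaf (nat_lit 591685644))) (.node (.leaf
    (nat_lit 305810688)) (.leaf (nat_lit 611455243)))) (.node (.node (.leaf (nat_lit 138477577))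
    (.leaf (nat_lit 276469510))) (.node (.leaf (nat_lit 373890826)) (.leaf (nat_lit 621111307))))))
    (.node (.node (.node (.node (.node (.leaf (nat_lit 16284939)) (.leaf (nat_lit 574468875)))
    (.leaf (nat_lit 564409353))) (.node (.leaf (nat_lit 233971210)) (.leaf (nat_lit 247123202))))
    (.node (.node (.leaf (nat_lit 194603020)) (.leaf (nat_lit 583828486))) (.node (.leaf (nat_lit
    418959118)) (.leaf (nat_lit 441797129))))) (.node (.node (.node (.leaf (nat_lit 120650754))
    (.leaf (nat_lit 636246792))) (.node (.leaf (nat_lit 339308039)) (.leaf (nat_lit 264952586))))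
    (.node (.node (.leaf (nat_lit 81904130)) (.leaf (nat_lit 276863746))) (.node (.leaf (nat_lit
    509682954)) (.leaf (nat_lit 340623121)))))))))))) (.node (.node (.node (.node (.node (.node
    (.node (.node (.node (.node (.node (.leaf (nat_lit 524549)) (.leaf (nat_lit 563970053))) (.leaf
    (nat_lit 406572296))) (.node (.leaf (nat_lit 236569611)) (.leaf (nat_lit 323738112)))) (.node
    (.node (.leaf (nat_lit 136852484)) (.leaf (nat_lit 219463430))) (.node (.leaf (nat_lit
    338835463)) (.leaf (nat_lit 575410945))))) (.node (.node (.node (.node (.leaf (nat_lit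
    66591243)) (.leaf (nat_lit 593343500))) (.leaf (nat_lit 566850831))) (.node (.leaf (nat_lit
    282206466)) (.leaf (nat_lit 200940300)))) (.node (.node (.leaf (nat_lit 195654146)) (.leaf
    (nat_lit 332561920))) (.node (.leaf (nat_lit 421580807)) (.leaf (nat_lit 711061777)))))) (.node
    (.node (.node (.node (.node (.leaf (nat_lit 34621449)) (.leaf (nat_lit 555588364))) (.leaf
    (nat_lit 375655938))) (.node (.leaf (nat_lit 206697478)) (.leaf (nat_lit 548583177)))) (.node
    (.node (.leaf (nat_lit 92358929)) (.leaf (nat_lit 674869778))) (.node (.leaf (nat_lit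
    139121426)) (.leaf (nat_lit 631551237))))) (.node (.node (.node (.leaf (nat_lit 92844303))
    (.leaf (nat_lit 231503878))) (.node (.leaf (nat_lit 277386246)) (.leaf (nat_lit 285023232))))
    (.node (.node (.leaf (nat_lit 107011337)) (.leaf (nat_lit 329413641))) (.node (.leaf (nat_lit
    214664207)) (.leaf (nat_lit 500001030))))))) (.node (.node (.node (.node (.node (.node (.leaf
    (nat_lit 16261122)) (.leaf (nat_lit 568167696))) (.leaf (nat_lit 183234817))) (.node (.leaf
    (nat_lit 81910531)) (.leaf (nat_lit 262899984)))) (.node (.node (.leaf (nat_lit 36253457))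
    (.leaf (nat_lit 650795274))) (.node (.leaf (nat_lit 229812738)) (.leaf (nat_lit 444204802)))))
    (.node (.node (.node (.node (.leaf (nat_lit 20483587)) (.leaf (nat_lit 772594447))) (.leaf
    (nat_lit 202660355))) (.node (.leaf (nat_lit 80884996)) (.leaf (nat_lit 98689281)))) (.node
    (.node (.leaf (nat_lit 208244496)) (.leaf (nat_lit 221994240))) (.node (.leaf (nat_lit
    432758531)) (.leaf (nat_lit 719081988)))))) (.node (.node (.node (.node (.node (.leaf (nat_lit
    48259338)) (.leaf (nat_lit 705538049))) (.leaf (nat_lit 314319109))) (.node (.leaf (nat_lit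
    276342026)) (.leaf (nat_lit 351885327)))) (.node (.node (.leaf (nat_lit 183519757)) (.leaf
    (nat_lit 692733957))) (.node (.leaf (nat_lit 398570000)) (.leaf (nat_lit 621624843))))) (.node
    (.node (.node (.leaf (nat_lit 111203590)) (.leaf (nat_lit 212638723))) (.node (.leaf (nat_lit
    82998017)) (.leaf (nat_lit 572327948)))) (.node (.node (.leaf (nat_lit 224419600)) (.leaf
    (nat_lit 153181952))) (.node (.leaf (nat_lit 473672201)) (.leaf (nat_lit 715410954))))))))
    (.node (.node (.node (.node (.node (.node (.node (.leaf (nat_lit 8389135)) (.leaf (nat_lit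
    341149187))) (.leaf (nat_lit 520172554))) (.node (.leaf (nat_lit 58838529)) (.leaf (nat_lit
    441706496)))) (.node (.node (.leaf (nat_lit 140581638)) (.leaf (nat_lit 232574726))) (.node
    (.leaf (nat_lit 348168714)) (.leaf (nat_lit 459079936))))) (.node (.node (.node (.node (.leaf
    (nat_lit 12092672)) (.leaf (nat_lit 768967687))) (.leaf (nat_lit 274484235))) (.node (.leaf
    (nat_lit 283255054)) (.leaf (nat_lit 118084104)))) (.node (.node (.leaf (nat_lit 200900361))
    (.leaf (nat_lit 205114634))) (.node (.leaf (nat_lit 364593158)) (.leaf (nat_lit 715258642))))))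
    (.node (.node (.node (.node (.node (.leaf (nat_lit 41963794)) (.leaf (nat_lit 740663553)))
    (.leaf (nat_lit 551116803))) (.node (.leaf (nat_lit 228720146)) (.leaf (nat_lit 433278723))))
    (.node (.node (.leaf (nat_lit 163624202)) (.leaf (nat_lit 681687820))) (.node (.leaf (nat_lit
    389729538)) (.leaf (nat_lit 428685058))))) (.node (.node (.node (.leaf (nat_lit 100149258))
    (.leaf (nat_lit 216829192))) (.node (.leaf (nat_lit 322999055)) (.leaf (nat_lit 645078530))))
    (.node (.node (.leaf (nat_lit 154732041)) (.leaf (nat_lit 169550592))) (.node (.leaf (nat_lit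
    485032449)) (.leaf (nat_lit 566057994))))))) (.node (.node (.node (.node (.node (.node (.leaf
    (nat_lit 20987404)) (.leaf (nat_lit 749048847))) (.leaf (nat_lit 247726081))) (.node (.leaf
    (nat_lit 199354630)) (.leaf (nat_lit 321620224)))) (.node (.node (.leaf (nat_lit 155794437))
    (.leaf (nat_lit 514069765))) (.node (.leaf (nat_lit 370192133)) (.leaf (nat_lit 679786508)))))
    (.node (.node (.node (.node (.leaf (nat_lit 23603718)) (.leaf (nat_lit 775789323))) (.leaf
    (nat_lit 217344771))) (.node (.leaf (nat_lit 306220047)) (.leaf (nat_lit 218837251)))) (.node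
    (.node (.leaf (nat_lit 217078534)) (.leaf (nat_lit 229792512))) (.node (.leaf (nat_lit
    417559298)) (.leaf (nat_lit 569655313)))))) (.node (.node (.node (.node (.node (.leaf (nat_lit
    59798033)) (.leaf (nat_lit 758492681))) (.leaf (nat_lit 558987010))) (.node (.leaf (nat_lit
    282729488)) (.leaf (nat_lit 319964171)))) (.node (.node (.leaf (nat_lit 190860560)) (.leaf
    (nat_lit 209465344))) (.node (.leaf (nat_lit 408996100)) (.leaf (nat_lit 706865426))))) (.node
    (.node (.node (.leaf (nat_lit 123268098)) (.leaf (nat_lit 591704322))) (.node (.leaf (nat_lit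
    89816583)) (.leaf (nat_lit 234582528)))) (.node (.node (.leaf (nat_lit 53591297)) (.leaf
    (nat_lit 294280448))) (.node (.leaf (nat_lit 152813063)) (.leaf (nat_lit 734314507)))))))))
    (.node (.node (.node (.node (.node (.node (.node (.node (.leaf (nat_lit 2622723)) (.leaf
    (nat_lit 349004810))) (.leaf (nat_lit 514927377))) (.node (.leaf (nat_lit 229230345)) (.leaf
    (nat_lit 229797634)))) (.node (.node (.leaf (nat_lit 119083535)) (.leaf (nat_lit 638340359)))
    (.node (.leaf (nat_lit 86151691)) (.leaf (nat_lit 77204745))))) (.node (.node (.node (.node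
    (.leaf (nat_lit 70261514)) (.leaf (nat_lit 767392783))) (.leaf (nat_lit 564412930))) (.node
    (.leaf (nat_lit 289440524)) (.leaf (nat_lit 52104960)))) (.node (.node (.leaf (nat_lit
    197229060)) (.leaf (nat_lit 125913600))) (.node (.leaf (nat_lit 113978888)) (.leaf (nat_lit
    582831874)))))) (.node (.node (.node (.node (.node (.leaf (nat_lit 12064768)) (.leaf (nat_lit
    754285832))) (.leaf (nat_lit 546499850))) (.node (.leaf (nat_lit 265941253)) (.leaf (nat_lit
    424820481)))) (.node (.node (.leaf (nat_lit 176179216)) (.leaf (nat_lit 232590850))) (.node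
    (.leaf (nat_lit 212523536)) (.leaf (nat_lit 367342597))))) (.node (.node (.node (.leaf (nat_lit
    55096584)) (.leaf (nat_lit 605653767))) (.node (.leaf (nat_lit 228219145)) (.leaf (nat_lit
    213000978)))) (.node (.node (.leaf (nat_lit 100712463)) (.leaf (nat_lit 212507153))) (.node
    (.leaf (nat_lit 134976015)) (.leaf (nat_lit 727854860))))))) (.node (.node (.node (.node (.node
    (.node (.leaf (nat_lit 23594756)) (.leaf (nat_lit 706056453))) (.leaf (nat_lit 249297168)))
    (.node (.leaf (nat_lit 59891718)) (.leaf (nat_lit 301154048)))) (.node (.node (.leaf (nat_lit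
    53556995)) (.leaf (nat_lit 654419984))) (.node (.leaf (nat_lit 113423622)) (.leaf (nat_lit
    108814592))))) (.node (.node (.node (.node (.leaf (nat_lit 79175697)) (.leaf (nat_lit
    774174985))) (.leaf (nat_lit 386162959))) (.node (.leaf (nat_lit 197277698)) (.leaf (nat_lit
    543878416)))) (.node (.node (.leaf (nat_lit 82416399)) (.leaf (nat_lit 21676032))) (.node
    (.leaf (nat_lit 301164037)) (.leaf (nat_lit 721028621)))))) (.node (.node (.node (.node (.node
    (.leaf (nat_lit 54530818)) (.leaf (nat_lit 750103302))) (.leaf (nat_lit 222410759))) (.node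
    (.leaf (nat_lit 280002564)) (.leaf (nat_lit 319987712)))) (.node (.node (.leaf (nat_lit
    48325387)) (.leaf (nat_lit 317009669))) (.node (.leaf (nat_lit 105055238)) (.leaf (nat_lit
    668268807))))) (.node (.node (.node (.leaf (nat_lit 108584712)) (.leaf (nat_lit 340567570)))
    (.node (.leaf (nat_lit 331511308)) (.leaf (nat_lit 520233739)))) (.node (.node (.leaf (nat_lit
    225031172)) (.leaf (nat_lit 107031040))) (.node (.leaf (nat_lit 497092875)) (.leaf (nat_lit
    733104651)))))))) (.node (.node (.node (.node (.node (.node (.node (.leaf (nat_lit 13113604))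
    (.leaf (nat_lit 699238927))) (.leaf (nat_lit 523949576))) (.node (.leaf (nat_lit 246966799))
    (.leaf (nat_lit 118046464)))) (.node (.node (.leaf (nat_lit 155205131)) (.leaf (nat_lit
    251427847))) (.node (.leaf (nat_lit 352887822)) (.leaf (nat_lit 667731986))))) (.node (.node
    (.node (.node (.leaf (nat_lit 71835143)) (.leaf (nat_lit 769506828))) (.leaf (nat_lit
    582580749))) (.node (.leaf (nat_lit 252849414)) (.leaf (nat_lit 242372615)))) (.node (.node
    (.leaf (nat_lit 205096722)) (.leaf (nat_lit 89697030))) (.node (.leaf (nat_lit 445177868))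
    (.leaf (nat_lit 569202447)))))) (.node (.node (.node (.node (.node (.leaf (nat_lit 48257805))
    (.leaf (nat_lit 419800076))) (.leaf (nat_lit 189395204))) (.node (.leaf (nat_lit 271088651))
    (.leaf (nat_lit 124928524)))) (.node (.node (.leaf (nat_lit 75061522)) (.leaf (nat_lit
    265101825))) (.node (.leaf (nat_lit 351465737)) (.leaf (nat_lit 483211788))))) (.node (.node
    (.node (.leaf (nat_lit 104875267)) (.leaf (nat_lit 212636930))) (.node (.leaf (nat_lit
    315256834)) (.leaf (nat_lit 677153286)))) (.node (.node (.leaf (nat_lit 141102848)) (.leaf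
    (nat_lit 322172416))) (.node (.leaf (nat_lit 488702733)) (.leaf (nat_lit 298676241)))))))
    (.node (.node (.node (.node (.node (.node (.leaf (nat_lit 36178450)) (.leaf (nat_lit
    750968594))) (.leaf (nat_lit 540665091))) (.node (.leaf (nat_lit 208268806)) (.leaf (nat_lit
    444752137)))) (.node (.node (.leaf (nat_lit 169362699)) (.leaf (nat_lit 654637057))) (.node
    (.leaf (nat_lit 210946570)) (.leaf (nat_lit 665087493))))) (.node (.node (.node (.leaf (nat_lit
    85500681)) (.leaf (nat_lit 293368325))) (.node (.leaf (nat_lit 294278149)) (.leaf (nat_lit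
    482124294)))) (.node (.node (.leaf (nat_lit 23127296)) (.leaf (nat_lit 424914944))) (.node
    (.leaf (nat_lit 468250130)) (.leaf (nat_lit 567633170)))))) (.node (.node (.node (.node (.node
    (.leaf (nat_lit 63447313)) (.leaf (nat_lit 764163592))) (.leaf (nat_lit 561080077))) (.node
    (.leaf (nat_lit 162084108)) (.leaf (nat_lit 376231424)))) (.node (.node (.leaf (nat_lit
    85553414)) (.leaf (nat_lit 696526338))) (.node (.leaf (nat_lit 415432207)) (.leaf (nat_lit
    708599825))))) (.node (.node (.node (.leaf (nat_lit 27324680)) (.leaf (nat_lit 575453707)))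
    (.node (.leaf (nat_lit 337681421)) (.leaf (nat_lit 537165061)))) (.node (.node (.leaf (nat_lit
    95991568)) (.leaf (nat_lit 103853833))) (.node (.leaf (nat_lit 507060996)) (.leaf (nat_lit
    722828292)))))))))) (.node (.node (.node (.node (.node (.node (.node (.node (.node (.leaf
    (nat_lit 2098184)) (.leaf (nat_lit 739936013))) (.leaf (nat_lit 468439041))) (.node (.leaf
    (nat_lit 238053127)) (.leaf (nat_lit 117136896)))) (.node (.node (.leaf (nat_lit 141571850))
    (.leaf (nat_lit 639774218))) (.node (.leaf (nat_lit 103975937)) (.leaf (nat_lit 342680320)))))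
    (.node (.node (.node (.node (.leaf (nat_lit 55083270)) (.leaf (nat_lit 756921864))) (.leaf
    (nat_lit 568948236))) (.node (.leaf (nat_lit 286818828)) (.leaf (nat_lit 47894272)))) (.node
    (.node (.leaf (nat_lit 191985666)) (.leaf (nat_lit 239888896))) (.node (.leaf (nat_lit
    364587269)) (.leaf (nat_lit 701844752)))))) (.node (.node (.node (.node (.node (.leaf (nat_lit
    39324685)) (.leaf (nat_lit 732798223))) (.leaf (nat_lit 533991427))) (.node (.leaf (nat_lit
    264271118)) (.leaf (nat_lit 325718287)))) (.node (.node (.leaf (nat_lit 93932305)) (.leaf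
    (nat_lit 228919568))) (.node (.leaf (nat_lit 140170764)) (.leaf (nat_lit 399307789))))) (.node
    (.node (.node (.leaf (nat_lit 93857298)) (.leaf (nat_lit 595360770))) (.node (.leaf (nat_lit
    87068935)) (.leaf (nat_lit 373432065)))) (.node (.node (.leaf (nat_lit 18884616)) (.leaf
    (nat_lit 172141568))) (.node (.leaf (nat_lit 134974723)) (.leaf (nat_lit 678783496)))))))
    (.node (.node (.node (.node (.node (.node (.leaf (nat_lit 18359049)) (.leaf (nat_lit
    746404369))) (.leaf (nat_lit 532234770))) (.node (.leaf (nat_lit 250116871)) (.leaf (nat_lit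
    342581254)))) (.node (.node (.leaf (nat_lit 160973072)) (.leaf (nat_lit 652008449))) (.node
    (.leaf (nat_lit 360228620)) (.leaf (nat_lit 225745664))))) (.node (.node (.node (.node (.leaf
    (nat_lit 76583439)) (.leaf (nat_lit 723895042))) (.leaf (nat_lit 585727244))) (.node (.leaf
    (nat_lit 188888837)) (.leaf (nat_lit 453086472)))) (.node (.node (.leaf (nat_lit 78221577))
    (.leaf (nat_lit 81953792))) (.node (.leaf (nat_lit 420101898)) (.leaf (nat_lit 279797010))))))
    (.node (.node (.node (.node (.node (.leaf (nat_lit 51908877)) (.leaf (nat_lit 712354059)))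
    (.leaf (nat_lit 298475020))) (.node (.leaf (nat_lit 76157957)) (.leaf (nat_lit 326786563))))
    (.node (.node (.leaf (nat_lit 91840780)) (.leaf (nat_lit 694273297))) (.node (.leaf (nat_lit
    401655312)) (.leaf (nat_lit 646266633))))) (.node (.node (.node (.leaf (nat_lit 114830096))
    (.leaf (nat_lit 621059849))) (.node (.leaf (nat_lit 87717382)) (.leaf (nat_lit 286071296))))
    (.node (.node (.leaf (nat_lit 225476875)) (.leaf (nat_lit 136651776))) (.node (.leaf (nat_lit
    492023312)) (.leaf (nat_lit 621114126)))))))) (.node (.node (.node (.node (.node (.node (.node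
    (.leaf (nat_lit 11015442)) (.leaf (nat_lit 588613644))) (.leaf (nat_lit 439084303))) (.node
    (.leaf (nat_lit 244869392)) (.leaf (nat_lit 105533698)))) (.node (.node (.leaf (nat_lit
    151534087)) (.leaf (nat_lit 582276362))) (.node (.leaf (nat_lit 349227273)) (.leaf (nat_lit
    671220241))))) (.node (.node (.node (.node (.leaf (nat_lit 55072265)) (.leaf (nat_lit
    770022666))) (.leaf (nat_lit 578037766))) (.node (.leaf (nat_lit 265431561)) (.leaf (nat_lit
    385556746)))) (.node (.node (.leaf (nat_lit 96568071)) (.leaf (nat_lit 343577600))) (.node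
    (.leaf (nat_lit 170083585)) (.leaf (nat_lit 280319247)))))) (.node (.node (.node (.node (.node
    (.leaf (nat_lit 46665227)) (.leaf (nat_lit 724935178))) (.leaf (nat_lit 257516548))) (.node
    (.leaf (nat_lit 216662278)) (.leaf (nat_lit 36240139)))) (.node (.node (.leaf (nat_lit
    176772866)) (.leaf (nat_lit 684834572))) (.node (.leaf (nat_lit 184216839)) (.leaf (nat_lit
    609564934))))) (.node (.node (.node (.leaf (nat_lit 81314575)) (.leaf (nat_lit 613523466)))
    (.node (.leaf (nat_lit 79850768)) (.leaf (nat_lit 677117963)))) (.node (.node (.leaf (nat_lit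
    80282123)) (.leaf (nat_lit 615224582))) (.node (.leaf (nat_lit 365142025)) (.leaf (nat_lit
    622161676))))))) (.node (.node (.node (.node (.node (.node (.leaf (nat_lit 6308107)) (.leaf
    (nat_lit 652580370))) (.leaf (nat_lit 519832582))) (.node (.leaf (nat_lit 257012994)) (.leaf
    (nat_lit 113367820)))) (.node (.node (.leaf (nat_lit 98123535)) (.leaf (nat_lit 268235521)))
    (.node (.leaf (nat_lit 372814084)) (.leaf (nat_lit 576952591))))) (.node (.node (.node (.node
    (.leaf (nat_lit 81797394)) (.leaf (nat_lit 734906626))) (.leaf (nat_lit 577531907))) (.node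
    (.leaf (nat_lit 310939154)) (.leaf (nat_lit 211007756)))) (.node (.node (.leaf (nat_lit
    220241413)) (.leaf (nat_lit 273320722))) (.node (.leaf (nat_lit 465628682)) (.leaf (nat_lit
    574448389)))))) (.node (.node (.node (.node (.node (.leaf (nat_lit 44070149)) (.leaf (nat_lit
    734900229))) (.leaf (nat_lit 338439174))) (.node (.leaf (nat_lit 283726604)) (.leaf (nat_lit
    564348683)))) (.node (.node (.leaf (nat_lit 82353417)) (.leaf (nat_lit 621028357))) (.node
    (.leaf (nat_lit 132322059)) (.leaf (nat_lit 558187779))))) (.node (.node (.node (.leaf (nat_lit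
    107539970)) (.leaf (nat_lit 631872274))) (.node (.leaf (nat_lit 221413391)) (.leaf (nat_lit
    303165195)))) (.node (.node (.leaf (nat_lit 170507791)) (.leaf (nat_lit 186316556))) (.node
    (.leaf (nat_lit 166969865)) (.leaf (nat_lit 735332114))))))))) (.node (.node (.node (.node
    (.node (.node (.node (.node (.leaf (nat_lit 4721156)) (.leaf (nat_lit 732791820))) (.leaf
    (nat_lit 378788358))) (.node (.leaf (nat_lit 177326850)) (.leaf (nat_lit 113330181)))) (.node
    (.node (.leaf (nat_lit 146818051)) (.leaf (nat_lit 641835020))) (.node (.leaf (nat_lit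
    87201035)) (.leaf (nat_lit 223054347))))) (.node (.node (.node (.node (.leaf (nat_lit
    19950342)) (.leaf (nat_lit 736475398))) (.leaf (nat_lit 568084740))) (.node (.leaf (nat_lit
    161567490)) (.leaf (nat_lit 376046347)))) (.node (.node (.leaf (nat_lit 199794690)) (.leaf
    (nat_lit 27330048))) (.node (.leaf (nat_lit 432592656)) (.leaf (nat_lit 564482305)))))) (.node
    (.node (.node (.node (.node (.leaf (nat_lit 40903431)) (.leaf (nat_lit 723886086))) (.leaf
    (nat_lit 276043535))) (.node (.leaf (nat_lit 201980933)) (.leaf (nat_lit 326801420)))) (.node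
    (.node (.leaf (nat_lit 55136770)) (.leaf (nat_lit 679284994))) (.node (.leaf (nat_lit
    156951045)) (.leaf (nat_lit 483162894))))) (.node (.node (.node (.leaf (nat_lit 95465483))
    (.leaf (nat_lit 517244680))) (.node (.leaf (nat_lit 318804497)) (.leaf (nat_lit 116438801))))
    (.node (.node (.leaf (nat_lit 37286667)) (.leaf (nat_lit 484698624))) (.node (.leaf (nat_lit
    479434246)) (.leaf (nat_lit 332754179))))))) (.node (.node (.node (.node (.node (.node (.leaf
    (nat_lit 30410514)) (.leaf (nat_lit 648385286))) (.leaf (nat_lit 323746831))) (.node (.leaf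
    (nat_lit 240248079)) (.leaf (nat_lit 664419849)))) (.node (.node (.leaf (nat_lit 20494605))
    (.leaf (nat_lit 660187403))) (.node (.leaf (nat_lit 365997321)) (.leaf (nat_lit 564326408)))))
    (.node (.node (.node (.node (.leaf (nat_lit 80225285)) (.leaf (nat_lit 653116930))) (.leaf
    (nat_lit 590446353))) (.node (.leaf (nat_lit 73022226)) (.leaf (nat_lit 224707087)))) (.node
    (.node (.leaf (nat_lit 213468424)) (.leaf (nat_lit 25178127))) (.node (.leaf (nat_lit
    458816262)) (.leaf (nat_lit 320168202)))))) (.node (.node (.node (.node (.node (.leaf (nat_lit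
    11038477)) (.leaf (nat_lit 762060303))) (.leaf (nat_lit 189539592))) (.node (.leaf (nat_lit
    282099728)) (.leaf (nat_lit 249711106)))) (.node (.node (.leaf (nat_lit 188238866)) (.leaf
    (nat_lit 242037000))) (.node (.leaf (nat_lit 405859343)) (.leaf (nat_lit 703414801))))) (.node
    (.node (.node (.leaf (nat_lit 112780808)) (.leaf (nat_lit 628201985))) (.node (.leaf (nat_lit
    82475537)) (.leaf (nat_lit 280631051)))) (.node (.node (.leaf (nat_lit 230711823)) (.leaf
    (nat_lit 365619200))) (.node (.leaf (nat_lit 487831817)) (.leaf (nat_lit 678262537))))))))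
    (.node (.node (.node (.node (.node (.node (.node (.leaf (nat_lit 11017478)) (.leaf (nat_lit
    714405898))) (.leaf (nat_lit 173796355))) (.node (.leaf (nat_lit 58317059)) (.leaf (nat_lit
    548091654)))) (.node (.node (.leaf (nat_lit 153692680)) (.leaf (nat_lit 515168258))) (.node
    (.leaf (nat_lit 336241928)) (.leaf (nat_lit 580666385))))) (.node (.node (.node (.node (.leaf
    (nat_lit 40405513)) (.leaf (nat_lit 667795462))) (.leaf (nat_lit 279577873))) (.node (.leaf
    (nat_lit 294684941)) (.leaf (nat_lit 482636288)))) (.node (.node (.leaf (nat_lit 44665618))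
    (.leaf (nat_lit 94041600))) (.node (.leaf (nat_lit 448848139)) (.leaf (nat_lit 709712130))))))
    (.node (.node (.node (.node (.node (.leaf (nat_lit 49307148)) (.leaf (nat_lit 734897670)))
    (.leaf (nat_lit 271851272))) (.node (.leaf (nat_lit 274759181)) (.leaf (nat_lit 300049675))))
    (.node (.node (.leaf (nat_lit 153705226)) (.leaf (nat_lit 266675714))) (.node (.leaf (nat_lit
    164820492)) (.leaf (nat_lit 254071040))))) (.node (.node (.node (.leaf (nat_lit 108014089))
    (.leaf (nat_lit 616144650))) (.node (.leaf (nat_lit 300472582)) (.leaf (nat_lit 597433867))))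
    (.node (.node (.leaf (nat_lit 221357580)) (.leaf (nat_lit 121199104))) (.node (.leaf (nat_lit
    476816905)) (.leaf (nat_lit 730688782))))))) (.node (.node (.node (.node (.node (.node (.leaf
    (nat_lit 14162944)) (.leaf (nat_lit 751661067))) (.leaf (nat_lit 521407238))) (.node (.leaf
    (nat_lit 44138496)) (.leaf (nat_lit 242797580)))) (.node (.node (.leaf (nat_lit 99173903))
    (.leaf (nat_lit 227868686))) (.node (.leaf (nat_lit 375960327)) (.leaf (nat_lit 664921090)))))
    (.node (.node (.node (.leaf (nat_lit 28879884)) (.leaf (nat_lit 598312714))) (.node (.leaf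
    (nat_lit 294793984)) (.leaf (nat_lit 252942347)))) (.node (.node (.leaf (nat_lit 142151177))
    (.leaf (nat_lit 103978760))) (.node (.leaf (nat_lit 470872586)) (.leaf (nat_lit 725441547))))))
    (.node (.node (.node (.node (.node (.leaf (nat_lit 50363654)) (.leaf (nat_lit 739619589)))
    (.leaf (nat_lit 341062405))) (.node (.leaf (nat_lit 237641221)) (.leaf (nat_lit 105495552))))
    (.node (.node (.leaf (nat_lit 190411536)) (.leaf (nat_lit 258780672))) (.node (.leaf (nat_lit
    126033155)) (.leaf (nat_lit 710012945))))) (.node (.node (.node (.leaf (nat_lit 116980481))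
    (.leaf (nat_lit 636067587))) (.node (.leaf (nat_lit 195725061)) (.leaf (nat_lit 283826962))))
    (.node (.node (.leaf (nat_lit 235504646)) (.leaf (nat_lit 296357890))) (.node (.leaf (nat_lit
    333695506)) (.leaf (nat_lit 714440199))))))))))) (.node (.node (.node (.node (.node (.node
    (.node (.node (.node (.node (.leaf (nat_lit 1049092)) (.leaf (nat_lit 569213194))) (.leaf
    (nat_lit 511256842))) (.node (.leaf (nat_lit 237528836)) (.leaf (nat_lit 588456197)))) (.node
    (.node (.leaf (nat_lit 139473937)) (.leaf (nat_lit 639213569))) (.node (.leaf (nat_lit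
    326273795)) (.leaf (nat_lit 487868940))))) (.node (.node (.node (.node (.leaf (nat_lit
    59277064)) (.leaf (nat_lit 748008713))) (.leaf (nat_lit 563886593))) (.node (.leaf (nat_lit
    286294289)) (.leaf (nat_lit 428104192)))) (.node (.node (.leaf (nat_lit 196628746)) (.leaf
    (nat_lit 597290248))) (.node (.leaf (nat_lit 422629388)) (.leaf (nat_lit 585977093)))))) (.node
    (.node (.node (.node (.node (.leaf (nat_lit 36718849)) (.leaf (nat_lit 741710849))) (.leaf
    (nat_lit 380374786))) (.node (.leaf (nat_lit 238155017)) (.leaf (nat_lit 623556868)))) (.node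
    (.node (.leaf (nat_lit 154225163)) (.leaf (nat_lit 675394314))) (.node (.leaf (nat_lit
    137549074)) (.leaf (nat_lit 665661956))))) (.node (.node (.node (.leaf (nat_lit 32027148))
    (.leaf (nat_lit 600934408))) (.node (.leaf (nat_lit 77218568)) (.leaf (nat_lit 684315663))))
    (.node (.node (.leaf (nat_lit 100246792)) (.leaf (nat_lit 18892559))) (.node (.leaf (nat_lit
    444827905)) (.leaf (nat_lit 726801419))))))) (.node (.node (.node (.node (.node (.node (.leaf
    (nat_lit 3154181)) (.leaf (nat_lit 745813508))) (.leaf (nat_lit 276558607))) (.node (.leaf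
    (nat_lit 249588496)) (.leaf (nat_lit 227249168)))) (.node (.node (.leaf (nat_lit 159400205))
    (.leaf (nat_lit 319085319))) (.node (.leaf (nat_lit 109227014)) (.leaf (nat_lit 572841221)))))
    (.node (.node (.node (.node (.leaf (nat_lit 76554251)) (.leaf (nat_lit 773126150))) (.leaf
    (nat_lit 584866321))) (.node (.leaf (nat_lit 187296515)) (.leaf (nat_lit 679630859)))) (.node
    (.node (.leaf (nat_lit 65638415)) (.leaf (nat_lit 27276300))) (.node (.leaf (nat_lit
    453722887)) (.leaf (nat_lit 441801985)))))) (.node (.node (.node (.node (.node (.leaf (nat_lit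
    51384586)) (.leaf (nat_lit 712353800))) (.leaf (nat_lit 554852102))) (.node (.leaf (nat_lit
    75633413)) (.leaf (nat_lit 89798914)))) (.node (.node (.leaf (nat_lit 184568588)) (.leaf
    (nat_lit 693749008))) (.node (.leaf (nat_lit 347273730)) (.leaf (nat_lit 703792908))))) (.node
    (.node (.node (.leaf (nat_lit 26793729)) (.leaf (nat_lit 587505156))) (.node (.leaf (nat_lit
    329413647)) (.leaf (nat_lit 424815111)))) (.node (.node (.leaf (nat_lit 210349317)) (.leaf
    (nat_lit 453765632))) (.node (.leaf (nat_lit 140225539)) (.leaf (nat_lit 682897674))))))))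
    (.node (.node (.node (.node (.node (.node (.node (.leaf (nat_lit 9437964)) (.leaf (nat_lit
    742111505))) (.leaf (nat_lit 163832590))) (.node (.leaf (nat_lit 242792198)) (.leaf (nat_lit
    106161408)))) (.node (.node (.leaf (nat_lit 150485260)) (.leaf (nat_lit 646029580))) (.node
    (.leaf (nat_lit 312587786)) (.leaf (nat_lit 226794498))))) (.node (.node (.node (.node (.leaf
    (nat_lit 47214345)) (.leaf (nat_lit 769932560))) (.leaf (nat_lit 577337356))) (.node (.leaf
    (nat_lit 70920451)) (.leaf (nat_lit 231367943)))) (.node (.node (.leaf (nat_lit 202396432))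
    (.leaf (nat_lit 204177408))) (.node (.leaf (nat_lit 437311748)) (.leaf (nat_lit 267211788))))))
    (.node (.node (.node (.node (.node (.leaf (nat_lit 44568067)) (.leaf (nat_lit 718643718)))
    (.leaf (nat_lit 552690189))) (.node (.leaf (nat_lit 215613447)) (.leaf (nat_lit 140042501))))
    (.node (.node (.leaf (nat_lit 175724036)) (.leaf (nat_lit 577574922))) (.node (.leaf (nat_lit
    99281676)) (.leaf (nat_lit 700258064))))) (.node (.node (.node (.leaf (nat_lit 81314053))
    (.leaf (nat_lit 598511619))) (.node (.leaf (nat_lit 96103169)) (.leaf (nat_lit 251420427))))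
    (.node (.node (.leaf (nat_lit 27302161)) (.leaf (nat_lit 267439887))) (.node (.leaf (nat_lit
    433298946)) (.leaf (nat_lit 558198274))))))) (.node (.node (.node (.node (.node (.node (.leaf
    (nat_lit 6307841)) (.leaf (nat_lit 749556490))) (.leaf (nat_lit 176947468))) (.node (.leaf
    (nat_lit 256502028)) (.leaf (nat_lit 465656073)))) (.node (.node (.leaf (nat_lit 38878725))
    (.leaf (nat_lit 225243663))) (.node (.leaf (nat_lit 234538243)) (.leaf (nat_lit 683480844)))))
    (.node (.node (.node (.node (.leaf (nat_lit 29374982)) (.leaf (nat_lit 776325132))) (.leaf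
    (nat_lit 594641418))) (.node (.leaf (nat_lit 309890319)) (.leaf (nat_lit 585284364)))) (.node
    (.node (.leaf (nat_lit 52011016)) (.leaf (nat_lit 221444608))) (.node (.leaf (nat_lit
    463172619)) (.leaf (nat_lit 721773071)))))) (.node (.node (.node (.node (.node (.leaf (nat_lit
    60823298)) (.leaf (nat_lit 734899978))) (.leaf (nat_lit 195308298))) (.node (.leaf (nat_lit
    68295937)) (.leaf (nat_lit 340418827)))) (.node (.node (.leaf (nat_lit 42036485)) (.leaf
    (nat_lit 189370122))) (.node (.leaf (nat_lit 136515850)) (.leaf (nat_lit 706561036))))) (.node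
    (.node (.node (.leaf (nat_lit 123792645)) (.leaf (nat_lit 630485258))) (.node (.leaf (nat_lit
    335059474)) (.leaf (nat_lit 600071944)))) (.node (.node (.leaf (nat_lit 61979914)) (.leaf
    (nat_lit 326148610))) (.node (.leaf (nat_lit 152813830)) (.leaf (nat_lit 558201098)))))))))
    (.node (.node (.node (.node (.node (.node (.node (.node (.leaf (nat_lit 3670285)) (.leaf
    (nat_lit 563884811))) (.leaf (nat_lit 516049157))) (.node (.leaf (nat_lit 201967881)) (.leaf
    (nat_lit 123291146)))) (.node (.node (.leaf (nat_lit 142677256)) (.leaf (nat_lit 640972552)))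
    (.node (.leaf (nat_lit 345150467)) (.leaf (nat_lit 73533449))))) (.node (.node (.node (.node
    (.leaf (nat_lit 52463113)) (.leaf (nat_lit 739620874))) (.leaf (nat_lit 574191375))) (.node
    (.leaf (nat_lit 55169024)) (.leaf (nat_lit 297506572)))) (.node (.node (.leaf (nat_lit
    45186050)) (.leaf (nat_lit 556571904))) (.node (.leaf (nat_lit 151204615)) (.leaf (nat_lit
    622153743)))))) (.node (.node (.node (.node (.node (.leaf (nat_lit 41422087)) (.leaf (nat_lit
    754813446))) (.leaf (nat_lit 546575873))) (.node (.leaf (nat_lit 265943825)) (.leaf (nat_lit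
    441606408)))) (.node (.node (.leaf (nat_lit 176703506)) (.leaf (nat_lit 678760450))) (.node
    (.leaf (nat_lit 271769360)) (.leaf (nat_lit 698998795))))) (.node (.node (.node (.leaf (nat_lit
    45659664)) (.leaf (nat_lit 568624391))) (.node (.leaf (nat_lit 94526482)) (.leaf (nat_lit
    107598863)))) (.node (.node (.leaf (nat_lit 27307013)) (.leaf (nat_lit 376114688))) (.node
    (.leaf (nat_lit 480312594)) (.leaf (nat_lit 727985673))))))) (.node (.node (.node (.node (.node
    (.node (.leaf (nat_lit 26752011)) (.leaf (nat_lit 747999756))) (.leaf (nat_lit 237238800)))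
    (.node (.leaf (nat_lit 59892232)) (.leaf (nat_lit 136007436)))) (.node (.node (.leaf (nat_lit
    161036292)) (.leaf (nat_lit 656517378))) (.node (.leaf (nat_lit 334149126)) (.leaf (nat_lit
    601651980))))) (.node (.node (.node (.node (.leaf (nat_lit 80224524)) (.leaf (nat_lit
    758498572))) (.leaf (nat_lit 588873484))) (.node (.leaf (nat_lit 298465551)) (.leaf (nat_lit
    465699343)))) (.node (.node (.leaf (nat_lit 212883715)) (.leaf (nat_lit 266076427))) (.node
    (.leaf (nat_lit 458287627)) (.leaf (nat_lit 655187720)))))) (.node (.node (.node (.node (.node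
    (.leaf (nat_lit 9988871)) (.leaf (nat_lit 742763526))) (.leaf (nat_lit 350395147))) (.node
    (.leaf (nat_lit 280014856)) (.leaf (nat_lit 591158277)))) (.node (.node (.leaf (nat_lit
    187190286)) (.leaf (nat_lit 632631298))) (.node (.leaf (nat_lit 127599874)) (.leaf (nat_lit
    404559114))))) (.node (.node (.node (.leaf (nat_lit 28893956)) (.leaf (nat_lit 603236610)))
    (.node (.leaf (nat_lit 331913992)) (.leaf (nat_lit 177987584)))) (.node (.node (.leaf (nat_lit
    199865606)) (.leaf (nat_lit 18913281))) (.node (.leaf (nat_lit 365147654)) (.leaf (nat_lit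
    340096527)))))))) (.node (.node (.node (.node (.node (.node (.node (.leaf (nat_lit 13638148))
    (.leaf (nat_lit 744134412))) (.leaf (nat_lit 221506322))) (.node (.leaf (nat_lit 59889667))
    (.leaf (nat_lit 221832716)))) (.node (.node (.leaf (nat_lit 155207431)) (.leaf (nat_lit
    649710351))) (.node (.leaf (nat_lit 354460689)) (.leaf (nat_lit 575340812))))) (.node (.node
    (.node (.node (.leaf (nat_lit 71846922)) (.leaf (nat_lit 769507076))) (.leaf (nat_lit
    297555980))) (.node (.leaf (nat_lit 253374216)) (.leaf (nat_lit 217647370)))) (.node (.node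
    (.leaf (nat_lit 177309963)) (.leaf (nat_lit 366139648))) (.node (.leaf (nat_lit 277566465))
    (.leaf (nat_lit 564484099)))))) (.node (.node (.node (.node (.node (.leaf (nat_lit 40918282))
    (.leaf (nat_lit 734897409))) (.leaf (nat_lit 298065667))) (.node (.leaf (nat_lit 227674374))
    (.leaf (nat_lit 301140998)))) (.node (.node (.leaf (nat_lit 172055048)) (.leaf (nat_lit
    689561610))) (.node (.leaf (nat_lit 363000841)) (.leaf (nat_lit 702354438))))) (.node (.node
    (.node (.leaf (nat_lit 106441220)) (.leaf (nat_lit 383030788))) (.node (.leaf (nat_lit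
    327734540)) (.leaf (nat_lit 575971074)))) (.node (.node (.leaf (nat_lit 90770181)) (.leaf
    (nat_lit 249628943))) (.node (.leaf (nat_lit 434275332)) (.leaf (nat_lit 497381633)))))))
    (.node (.node (.node (.node (.node (.node (.leaf (nat_lit 9455113)) (.leaf (nat_lit
    751058184))) (.leaf (nat_lit 542200591))) (.node (.leaf (nat_lit 203026438)) (.leaf (nat_lit
    136985615)))) (.node (.node (.leaf (nat_lit 169941510)) (.leaf (nat_lit 668577793))) (.node
    (.leaf (nat_lit 184208132)) (.leaf (nat_lit 676663301))))) (.node (.node (.node (.leaf (nat_lit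
    18917383)) (.leaf (nat_lit 585396994))) (.node (.leaf (nat_lit 313036808)) (.leaf (nat_lit
    300559620)))) (.node (.node (.leaf (nat_lit 23604233)) (.leaf (nat_lit 135375617))) (.node
    (.leaf (nat_lit 469299713)) (.leaf (nat_lit 719152658)))))) (.node (.node (.node (.node (.node
    (.leaf (nat_lit 12090129)) (.leaf (nat_lit 764695050))) (.leaf (nat_lit 562653455))) (.node
    (.leaf (nat_lit 174673408)) (.leaf (nat_lit 583200514)))) (.node (.node (.leaf (nat_lit
    191459850)) (.leaf (nat_lit 585758986))) (.node (.leaf (nat_lit 137042698)) (.leaf (nat_lit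
    708994822))))) (.node (.node (.node (.leaf (nat_lit 129511948)) (.leaf (nat_lit 593804035)))
    (.node (.leaf (nat_lit 297960711)) (.leaf (nat_lit 602622479)))) (.node (.node (.leaf (nat_lit
    209829898)) (.leaf (nat_lit 102379778))) (.node (.leaf (nat_lit 506710025)) (.leaf (nat_lit
    567639305)))))))))) (.node (.node (.node (.node (.node (.node (.node (.node (.node (.leaf
    (nat_lit 1573650)) (.leaf (nat_lit 740053762))) (.leaf (nat_lit 512999940))) (.node (.leaf
    (nat_lit 238073092)) (.leaf (nat_lit 364587776)))) (.node (.node (.leaf (nat_lit 142623757))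
    (.leaf (nat_lit 232890897))) (.node (.leaf (nat_lit 91918089)) (.leaf (nat_lit 267183872)))))
    (.node (.node (.node (.node (.leaf (nat_lit 54035205)) (.leaf (nat_lit 767309318))) (.leaf
    (nat_lit 227819531))) (.node (.leaf (nat_lit 239740422)) (.leaf (nat_lit 325899520)))) (.node
    (.node (.leaf (nat_lit 188840199)) (.leaf (nat_lit 82878720))) (.node (.leaf (nat_lit
    358296069)) (.leaf (nat_lit 711282181)))))) (.node (.node (.node (.node (.node (.leaf (nat_lit
    39849220)) (.leaf (nat_lit 732798469))) (.leaf (nat_lit 546039819))) (.node (.leaf (nat_lit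
    265319698)) (.leaf (nat_lit 401796362)))) (.node (.node (.leaf (nat_lit 174606349)) (.leaf
    (nat_lit 531434241))) (.node (.leaf (nat_lit 342546449)) (.leaf (nat_lit 656749322))))) (.node
    (.node (.node (.leaf (nat_lit 78165008)) (.leaf (nat_lit 604080648))) (.node (.leaf (nat_lit
    314724609)) (.leaf (nat_lit 245569792)))) (.node (.node (.leaf (nat_lit 21011979)) (.leaf
    (nat_lit 615168515))) (.node (.leaf (nat_lit 478383631)) (.leaf (nat_lit 698182406)))))))
    (.node (.node (.node (.node (.node (.node (.leaf (nat_lit 20448784)) (.leaf (nat_lit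
    746905611))) (.leaf (nat_lit 316930054))) (.node (.leaf (nat_lit 250732047)) (.leaf (nat_lit
    132269327)))) (.node (.node (.leaf (nat_lit 160511489)) (.leaf (nat_lit 653371406))) (.node
    (.leaf (nat_lit 346206987)) (.leaf (nat_lit 300026891))))) (.node (.node (.node (.node (.leaf
    (nat_lit 74487052)) (.leaf (nat_lit 732283658))) (.leaf (nat_lit 344743681))) (.node (.leaf
    (nat_lit 271677702)) (.leaf (nat_lit 301252873)))) (.node (.node (.leaf (nat_lit 95523329))
    (.leaf (nat_lit 236168448))) (.node (.leaf (nat_lit 423846659)) (.leaf (nat_lit 282418692))))))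
    (.node (.node (.node (.node (.node (.leaf (nat_lit 52957712)) (.leaf (nat_lit 757443077)))
    (.leaf (nat_lit 230799371))) (.node (.leaf (nat_lit 279581968)) (.leaf (nat_lit 136471055))))
    (.node (.node (.leaf (nat_lit 72966663)) (.leaf (nat_lit 694797836))) (.node (.leaf (nat_lit
    399180038)) (.leaf (nat_lit 637878275))))) (.node (.node (.node (.leaf (nat_lit 115920130))
    (.leaf (nat_lit 622433544))) (.node (.leaf (nat_lit 315258631)) (.leaf (nat_lit 212921869))))
    (.node (.node (.leaf (nat_lit 220836354)) (.leaf (nat_lit 380855040))) (.node (.leaf (nat_lit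
    494995715)) (.leaf (nat_lit 349008898)))))))) (.node (.node (.node (.node (.node (.node (.node
    (.leaf (nat_lit 11539970)) (.leaf (nat_lit 742754569))) (.leaf (nat_lit 510913042))) (.node
    (.leaf (nat_lit 207737858)) (.leaf (nat_lit 650852626)))) (.node (.node (.leaf (nat_lit
    35726597)) (.leaf (nat_lit 583325193))) (.node (.leaf (nat_lit 345153035)) (.leaf (nat_lit
    656746247))))) (.node (.node (.node (.node (.leaf (nat_lit 64521993)) (.leaf (nat_lit
    743816457))) (.leaf (nat_lit 571232771))) (.node (.leaf (nat_lit 291538946)) (.leaf (nat_lit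
    93954314)))) (.node (.node (.leaf (nat_lit 54625547)) (.leaf (nat_lit 224564736))) (.node
    (.leaf (nat_lit 442555919)) (.leaf (nat_lit 710235663)))))) (.node (.node (.node (.node (.node
    (.leaf (nat_lit 48238596)) (.leaf (nat_lit 756909569))) (.leaf (nat_lit 189884940))) (.node
    (.leaf (nat_lit 270040072)) (.leaf (nat_lit 444788488)))) (.node (.node (.leaf (nat_lit
    168384522)) (.leaf (nat_lit 686931981))) (.node (.leaf (nat_lit 393788426)) (.leaf (nat_lit
    263010572))))) (.node (.node (.node (.leaf (nat_lit 103819530)) (.leaf (nat_lit 571617284)))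
    (.node (.leaf (nat_lit 82991620)) (.leaf (nat_lit 247264522)))) (.node (.node (.leaf (nat_lit
    56166144)) (.leaf (nat_lit 304941312))) (.node (.leaf (nat_lit 488178443)) (.leaf (nat_lit
    565014275))))))) (.node (.node (.node (.node (.node (.node (.leaf (nat_lit 34607620)) (.leaf
    (nat_lit 648386308))) (.leaf (nat_lit 539756047))) (.node (.leaf (nat_lit 258503440)) (.leaf
    (nat_lit 294897920)))) (.node (.node (.leaf (nat_lit 168378371)) (.leaf (nat_lit 665431564)))
    (.node (.leaf (nat_lit 373475340)) (.leaf (nat_lit 557035789))))) (.node (.node (.node (.leaf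
    (nat_lit 84419089)) (.leaf (nat_lit 584872204))) (.node (.leaf (nat_lit 96096770)) (.leaf
    (nat_lit 633519105)))) (.node (.node (.leaf (nat_lit 80323337)) (.leaf (nat_lit 294279424)))
    (.node (.leaf (nat_lit 465795339)) (.leaf (nat_lit 724175882)))))) (.node (.node (.node (.node
    (.node (.leaf (nat_lit 45643526)) (.leaf (nat_lit 751677455))) (.leaf (nat_lit 338963718)))
    (.node (.leaf (nat_lit 159461632)) (.leaf (nat_lit 393477888)))) (.node (.node (.leaf (nat_lit
    192433932)) (.leaf (nat_lit 557090304))) (.node (.leaf (nat_lit 413715466)) (.leaf (nat_lit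
    259343884))))) (.node (.node (.node (.leaf (nat_lit 125890568)) (.leaf (nat_lit 597473034)))
    (.node (.leaf (nat_lit 336632589)) (.leaf (nat_lit 615119367)))) (.node (.node (.leaf (nat_lit
    212975366)) (.leaf (nat_lit 403341322))) (.node (.leaf (nat_lit 505487106)) (.leaf (nat_lit
    385710850))))))))) (.node (.node (.node (.node (.node (.node (.node (.node (.leaf (nat_lit
    5770241)) (.leaf (nat_lit 741169922))) (.leaf (nat_lit 518074378))) (.node (.leaf (nat_lit
    241723407)) (.leaf (nat_lit 440133376)))) (.node (.node (.leaf (nat_lit 29956368)) (.leaf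
    (nat_lit 609537282))) (.node (.leaf (nat_lit 347644424)) (.leaf (nat_lit 272830735))))) (.node
    (.node (.node (.node (.leaf (nat_lit 70277383)) (.leaf (nat_lit 768882448))) (.leaf (nat_lit
    338447107))) (.node (.leaf (nat_lit 55694848)) (.leaf (nat_lit 206721802)))) (.node (.node
    (.leaf (nat_lit 95518210)) (.leaf (nat_lit 237219328))) (.node (.leaf (nat_lit 434690062))
    (.leaf (nat_lit 709710342)))))) (.node (.node (.node (.node (.node (.leaf (nat_lit 41422858))
    (.leaf (nat_lit 580219911))) (.leaf (nat_lit 514594822))) (.node (.leaf (nat_lit 267417345))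
    (.leaf (nat_lit 300632584)))) (.node (.node (.leaf (nat_lit 170480899)) (.leaf (nat_lit
    604836353))) (.node (.leaf (nat_lit 388020481)) (.leaf (nat_lit 679818756))))) (.node (.node
    (.node (.leaf (nat_lit 21543952)) (.leaf (nat_lit 609848587))) (.node (.leaf (nat_lit
    319853314)) (.leaf (nat_lit 124360207)))) (.node (.node (.leaf (nat_lit 124862737)) (.leaf
    (nat_lit 183031557))) (.node (.leaf (nat_lit 482935050)) (.leaf (nat_lit 717575949)))))))
    (.node (.node (.node (.node (.node (.node (.leaf (nat_lit 4734224)) (.leaf (nat_lit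
    363172106))) (.leaf (nat_lit 535907083))) (.node (.leaf (nat_lit 241821200)) (.leaf (nat_lit
    94584064)))) (.node (.node (.leaf (nat_lit 156318469)) (.leaf (nat_lit 660882441))) (.node
    (.leaf (nat_lit 367570433)) (.leaf (nat_lit 409260042))))) (.node (.node (.node (.node (.leaf
    (nat_lit 3681792)) (.leaf (nat_lit 679855887))) (.leaf (nat_lit 592210191))) (.node (.leaf
    (nat_lit 302550022)) (.leaf (nat_lit 431276048)))) (.node (.node (.leaf (nat_lit 215505418))
    (.leaf (nat_lit 214538511))) (.node (.leaf (nat_lit 126054401)) (.leaf (nat_lit 722287107))))))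
    (.node (.node (.node (.node (.node (.leaf (nat_lit 15757569)) (.leaf (nat_lit 760589578)))
    (.leaf (nat_lit 558457873))) (.node (.leaf (nat_lit 282729231)) (.leaf (nat_lit 419732485))))
    (.node (.node (.leaf (nat_lit 189811982)) (.leaf (nat_lit 585756936))) (.node (.leaf (nat_lit
    181078023)) (.leaf (nat_lit 428163846))))) (.node (.node (.node (.leaf (nat_lit 29419779))
    (.leaf (nat_lit 585936906))) (.node (.leaf (nat_lit 81427468)) (.leaf (nat_lit 200900366))))
    (.node (.node (.leaf (nat_lit 231324162)) (.leaf (nat_lit 352514560))) (.node (.leaf (nat_lit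
    430685185)) (.leaf (nat_lit 730167298)))))))) (.node (.node (.node (.node (.node (.node (.node
    (.leaf (nat_lit 15212033)) (.leaf (nat_lit 734366725))) (.leaf (nat_lit 528039946))) (.node
    (.leaf (nat_lit 60414475)) (.leaf (nat_lit 120784641)))) (.node (.node (.leaf (nat_lit
    157827084)) (.leaf (nat_lit 335862017))) (.node (.leaf (nat_lit 356051979)) (.leaf (nat_lit
    573326848))))) (.node (.node (.node (.node (.leaf (nat_lit 72387335)) (.leaf (nat_lit
    766361604))) (.leaf (nat_lit 582244623))) (.node (.leaf (nat_lit 227685386)) (.leaf (nat_lit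
    105505545)))) (.node (.node (.leaf (nat_lit 205098252)) (.leaf (nat_lit 3685888))) (.node
    (.leaf (nat_lit 140729095)) (.leaf (nat_lit 613767698)))))) (.node (.node (.node (.node (.node
    (.leaf (nat_lit 48259080)) (.leaf (nat_lit 654681865))) (.leaf (nat_lit 195305474))) (.node
    (.leaf (nat_lit 79302153)) (.leaf (nat_lit 319998726)))) (.node (.node (.leaf (nat_lit
    85023760)) (.leaf (nat_lit 259860227))) (.node (.leaf (nat_lit 357758726)) (.leaf (nat_lit
    682441737))))) (.node (.node (.node (.leaf (nat_lit 110111247)) (.leaf (nat_lit 581736966)))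
    (.node (.leaf (nat_lit 312635905)) (.leaf (nat_lit 293887250)))) (.node (.node (.leaf (nat_lit
    206132999)) (.leaf (nat_lit 181105664))) (.node (.leaf (nat_lit 490940428)) (.leaf (nat_lit
    631586058))))))) (.node (.node (.node (.node (.node (.node (.leaf (nat_lit 36704782)) (.leaf
    (nat_lit 578132487))) (.leaf (nat_lit 543774476))) (.node (.leaf (nat_lit 261747471)) (.leaf
    (nat_lit 624574980)))) (.node (.node (.leaf (nat_lit 157894657)) (.leaf (nat_lit 673820946)))
    (.node (.leaf (nat_lit 172151311)) (.leaf (nat_lit 624072974))))) (.node (.node (.node (.leaf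
    (nat_lit 92311311)) (.leaf (nat_lit 599361539))) (.node (.leaf (nat_lit 74598413)) (.leaf
    (nat_lit 392779020)))) (.node (.node (.leaf (nat_lit 123267849)) (.leaf (nat_lit 424396800)))
    (.node (.leaf (nat_lit 471040777)) (.leaf (nat_lit 605906954)))))) (.node (.node (.node (.node
    (.node (.leaf (nat_lit 49839622)) (.leaf (nat_lit 765736193))) (.leaf (nat_lit 563361039)))
    (.node (.leaf (nat_lit 284302595)) (.leaf (nat_lit 649776396)))) (.node (.node (.leaf (nat_lit
    191460368)) (.leaf (nat_lit 587332618))) (.node (.leaf (nat_lit 135995650)) (.leaf (nat_lit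
    710072840))))) (.node (.node (.node (.leaf (nat_lit 133706510)) (.leaf (nat_lit 611106305)))
    (.node (.leaf (nat_lit 195725318)) (.leaf (nat_lit 585755399)))) (.node (.node (.leaf (nat_lit
    56214020)) (.leaf (nat_lit 607856904))) (.node (.leaf (nat_lit 267635727)) (.leaf (nat_lit
    563969801)))))))))))))))

/-- Certificate data. -/
def pt1_just : Trie :=
    (.node (.node (.node (.node (.node (.node (.node (.node (.node (.node (.node (.node (.node
    (.node (.leaf (nat_lit 1)) (.leaf (nat_lit 34436482286117081280881797431421))) (.leaf (nat_lit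
    37774987160917144436773))) (.node (.leaf (nat_lit 18885014269357417758848)) (.leaf (nat_lit
    1310738604724715522)))) (.node (.node (.leaf (nat_lit 0)) (.leaf (nat_lit
    1461638351934229053457039560))) (.node (.leaf (nat_lit 14282818200772219699355)) (.leaf
    (nat_lit 65980611237006643757100))))) (.node (.node (.node (.node (.leaf (nat_lit
    3403455811173375737948)) (.leaf (nat_lit 2245822864181821641))) (.leaf (nat_lit
    42358766212589505675308))) (.node (.leaf (nat_lit 0)) (.leaf (nat_lit 1635567316328644610))))
    (.node (.node (.leaf (nat_lit 13821315756395782668377)) (.leaf (nat_lit 1426704182005596162)))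
    (.node (.leaf (nat_lit 0)) (.leaf (nat_lit 0)))))) (.node (.node (.node (.node (.node (.leaf
    (nat_lit 0)) (.leaf (nat_lit 2552573668145713967958065178))) (.leaf (nat_lit
    39942196574846940545130))) (.node (.leaf (nat_lit 20946408519864714199073)) (.leaf (nat_lit
    1015191571395641346)))) (.node (.node (.leaf (nat_lit 6285800393159185989650)) (.leaf (nat_lit
    0))) (.node (.leaf (nat_lit 7627952897872267247652)) (.leaf (nat_lit
    1013715260084680975913844899))))) (.node (.node (.node (.leaf (nat_lit
    231666359297888622915879053)) (.leaf (nat_lit 15975343435946307813573))) (.node (.leaf (nat_lit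
    774221091223764994)) (.leaf (nat_lit 39989874627579994112002)))) (.node (.node (.leaf (nat_lit
    9062467156259702505643)) (.leaf (nat_lit 1502140446426660866))) (.node (.leaf (nat_lit
    18668265757243880273374024630415)) (.leaf (nat_lit
    2765201562403091917167129820061695800049664123))))))) (.node (.node (.node (.node (.node (.node
    (.leaf (nat_lit 1143709251901019324457)) (.leaf (nat_lit 74153143082092127781054))) (.leaf
    (nat_lit 31221466224753893376008))) (.node (.leaf (nat_lit 17239007165611516297365)) (.leaf
    (nat_lit 1003509500868689922)))) (.node (.node (.leaf (nat_lit 251609544776161234618941547))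
    (.leaf (nat_lit 31959526977244296839366))) (.node (.leaf (nat_lit 0)) (.leaf (nat_lit
    2053000410507116546))))) (.node (.node (.node (.node (.leaf (nat_lit 5870790304286831214726))
    (.leaf (nat_lit 1616080941110418183888830545))) (.leaf (nat_lit 15228231441029529796641)))
    (.node (.leaf (nat_lit 26616300200123403816914951405616)) (.leaf (nat_lit
    1668359709461184514)))) (.node (.node (.leaf (nat_lit 0)) (.leaf (nat_lit 320085852233531394)))
    (.node (.leaf (nat_lit 315110165604898277721112674)) (.leaf (nat_lit
    71994313296287658868923)))))) (.node (.node (.node (.node (.node (.leaf (nat_lit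
    114397866243257691179057158)) (.leaf (nat_lit 2241865229360778896359030988))) (.leaf (nat_lit
    462578883500963539861110946))) (.node (.leaf (nat_lit 0)) (.leaf (nat_lit
    1018994069151547394)))) (.node (.node (.leaf (nat_lit 395624092063105035)) (.leaf (nat_lit
    43244357428694762061866))) (.node (.leaf (nat_lit 29566399125292239224845)) (.leaf (nat_lit
    2257587375692263579896250641))))) (.node (.node (.node (.leaf (nat_lit 1641806251411128909854))
    (.leaf (nat_lit 0))) (.node (.leaf (nat_lit 858647408094123851679793246)) (.leaf (nat_lit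
    53105545987891707183334)))) (.node (.node (.leaf (nat_lit 12207518809458745737306)) (.leaf
    (nat_lit 32467896668559337783298))) (.node (.leaf (nat_lit 0)) (.leaf (nat_lit
    79432668235303524789843973701775)))))))) (.node (.node (.node (.node (.node (.node (.node
    (.leaf (nat_lit 571852163046611025961)) (.leaf (nat_lit 2493634896118018459656519762))) (.leaf
    (nat_lit 0))) (.node (.leaf (nat_lit 19470658155540669202477)) (.leaf (nat_lit
    1012797779963150338)))) (.node (.node (.leaf (nat_lit 2587358386907882127398)) (.leaf (nat_lit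
    1433679322839310589390749773))) (.node (.leaf (nat_lit 28505369064776430452845)) (.leaf
    (nat_lit 1511441988380131330))))) (.node (.node (.node (.node (.leaf (nat_lit
    155801308757098498)) (.leaf (nat_lit 76809881808346640744606))) (.leaf (nat_lit
    1351166906553771554981019653))) (.node (.leaf (nat_lit 605334473109798914)) (.leaf (nat_lit
    1379284590551760898)))) (.node (.node (.leaf (nat_lit 242696871359659758305148997)) (.leaf
    (nat_lit 3806229925775800467458))) (.node (.leaf (nat_lit 0)) (.leaf (nat_lit 0)))))) (.node
    (.node (.node (.node (.node (.leaf (nat_lit 106974838874487550557306961059942560900317307))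
    (.leaf (nat_lit 78506943552518961168388))) (.leaf (nat_lit 1334542364637412500187644002)))
    (.node (.leaf (nat_lit 545941054000595145)) (.leaf (nat_lit 1233758213661392898)))) (.node
    (.node (.leaf (nat_lit 11012781940288144998591)) (.leaf (nat_lit 50167450934415997468767)))
    (.node (.leaf (nat_lit 0)) (.leaf (nat_lit 2257991634591191473093607449))))) (.node (.node
    (.node (.leaf (nat_lit 1995629463156214635264599195705)) (.leaf (nat_lit 1386306587202813963)))
    (.node (.leaf (nat_lit 810109717690056763)) (.leaf (nat_lit 1061642699263836162)))) (.node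
    (.node (.leaf (nat_lit 11492843843188538146943)) (.leaf (nat_lit 545688741851824130))) (.node
    (.leaf (nat_lit 0)) (.leaf (nat_lit 71796979662346831200329))))))) (.node (.node (.node (.node
    (.node (.node (.leaf (nat_lit 16775607463849480383889487)) (.leaf (nat_lit 0))) (.leaf (nat_lit
    1035174144197379077290852366))) (.node (.leaf (nat_lit 640583650138940471853187278)) (.leaf
    (nat_lit 1783195568609296386)))) (.node (.node (.leaf (nat_lit 10514708871691563630689)) (.leaf
    (nat_lit 25777175467401273546803193253261562282229))) (.node (.leaf (nat_lit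
    962009592585161325574095051)) (.leaf (nat_lit 63328715051498941382792))))) (.node (.node (.node
    (.node (.leaf (nat_lit 194083030871179266)) (.leaf (nat_lit 77496708337159280721953))) (.leaf
    (nat_lit 47469022866027834238103634378779))) (.node (.leaf (nat_lit 0)) (.leaf (nat_lit
    1401662486855417858)))) (.node (.node (.leaf (nat_lit 0)) (.leaf (nat_lit
    6019858467765333721090))) (.node (.leaf (nat_lit 29506071159249756684458)) (.leaf (nat_lit
    77918176303462265441045774139449)))))) (.node (.node (.node (.node (.node (.leaf (nat_lit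
    1111443355865580765270)) (.leaf (nat_lit 2611208059977236243022086170))) (.leaf (nat_lit
    13503426106337385447497))) (.node (.leaf (nat_lit 5617182351397342085302)) (.leaf (nat_lit
    58358129009455133819019)))) (.node (.node (.leaf (nat_lit 0)) (.leaf (nat_lit
    707696572807701259322916930))) (.node (.leaf (nat_lit 415730840340411569888559130)) (.leaf
    (nat_lit 61229988087807541968934))))) (.node (.node (.node (.leaf (nat_lit 0)) (.leaf (nat_lit
    46616344610679050928223))) (.node (.leaf (nat_lit 8483272777922686526447467954309)) (.leaf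
    (nat_lit 659977330243801058306058761200337186)))) (.node (.node (.leaf (nat_lit
    15177173545464577065112)) (.leaf (nat_lit 1837296689059229951678742530))) (.node (.leaf
    (nat_lit 0)) (.leaf (nat_lit 29830230023983220326587))))))))) (.node (.node (.node (.node
    (.node (.node (.node (.node (.leaf (nat_lit 166029422546577981462)) (.leaf (nat_lit
    2483661802263755905296498770))) (.leaf (nat_lit 1239640156937041202116821192))) (.node (.leaf
    (nat_lit 19004986094533170364646)) (.leaf (nat_lit 55092349785349283840002)))) (.node (.node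
    (.leaf (nat_lit 0)) (.leaf (nat_lit 47487978177374416208038))) (.node (.leaf (nat_lit 0))
    (.leaf (nat_lit 1497649370923925506))))) (.node (.node (.node (.node (.leaf (nat_lit
    5013022052059260846167)) (.leaf (nat_lit 80504046800402680840276))) (.leaf (nat_lit
    936129361047886673626444472185919690284466208))) (.node (.leaf (nat_lit
    21748878903495828373535)) (.leaf (nat_lit 30632688699035269398530)))) (.node (.node (.leaf
    (nat_lit 467717422377413309798547669)) (.leaf (nat_lit 27611751455591325958146))) (.node (.leaf
    (nat_lit 0)) (.leaf (nat_lit 70476445577168262725822)))))) (.node (.node (.node (.node (.node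
    (.leaf (nat_lit 2610294790717077389375)) (.leaf (nat_lit 75329578726169975652428))) (.leaf
    (nat_lit 40412684250472018804779))) (.node (.leaf (nat_lit 21536706723044189732920)) (.leaf
    (nat_lit 922023860910555138)))) (.node (.node (.leaf (nat_lit 0)) (.leaf (nat_lit
    53554568203346375189654267035857))) (.node (.leaf (nat_lit 30986790112440994693216)) (.leaf
    (nat_lit 2233358714911312274589483207))))) (.node (.node (.node (.leaf (nat_lit
    203100796730442832696049863)) (.leaf (nat_lit 21020706817728447709276))) (.node (.leaf (nat_lit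
    26254549189948969517239)) (.leaf (nat_lit 63841520345957936594946)))) (.node (.node (.leaf
    (nat_lit 236876779338465282)) (.leaf (nat_lit 1407002007377674242))) (.node (.leaf (nat_lit 0))
    (.leaf (nat_lit 71223624001270466150574))))))) (.node (.node (.node (.node (.node (.node (.leaf
    (nat_lit 488851807909814927431)) (.leaf (nat_lit 77003455094292633288793))) (.leaf (nat_lit
    39186485378894681800735))) (.node (.leaf (nat_lit 20319709831392592592915)) (.leaf (nat_lit
    1087389224317091842)))) (.node (.node (.leaf (nat_lit 3827762315101034709072)) (.leaf (nat_lit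
    1509687235067055721593718772175601764))) (.node (.leaf (nat_lit 883882770713685860142022872))
    (.leaf (nat_lit 2030060423243497474))))) (.node (.node (.node (.node (.leaf (nat_lit 0)) (.leaf
    (nat_lit 0))) (.leaf (nat_lit 31037095334580964229304))) (.node (.leaf (nat_lit
    26933351574902484474167554277642)) (.leaf (nat_lit 1855681495440687106)))) (.node (.node (.leaf
    (nat_lit 14697672898118647218419)) (.leaf (nat_lit 20043989639219627884546))) (.node (.leaf
    (nat_lit 33960961400905287270431)) (.leaf (nat_lit 61392647130739627982890)))))) (.node (.node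
    (.node (.node (.node (.leaf (nat_lit 848572608220405891143)) (.leaf (nat_lit
    79392582303028737146945))) (.leaf (nat_lit 44671189641397486756885803892784))) (.node (.leaf
    (nat_lit 410442855304596592617848867)) (.leaf (nat_lit 1114696480356171778)))) (.node (.node
    (.leaf (nat_lit 6101437803190944989233)) (.leaf (nat_lit 39243268970519875057343778849050)))
    (.node (.leaf (nat_lit 32033014589791708315741)) (.leaf (nat_lit 47971389940120403771423)))))
    (.node (.node (.node (.leaf (nat_lit 8536491896091388870821)) (.leaf (nat_lit 0))) (.node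
    (.leaf (nat_lit 27444946001908277116932)) (.leaf (nat_lit 2107374044354597704956117217))))
    (.node (.node (.leaf (nat_lit 17745875902054313164986)) (.leaf (nat_lit
    1166215068916432003594977282))) (.node (.leaf (nat_lit 1197148274792186545720000711)) (.leaf
    (nat_lit 73018902084611593142455)))))))) (.node (.node (.node (.node (.node (.node (.node
    (.leaf (nat_lit 793215766201102434338)) (.leaf (nat_lit 2498623763420853448554577935))) (.leaf
    (nat_lit 37978392667274824843454))) (.node (.leaf (nat_lit 19065291123663585870036)) (.leaf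
    (nat_lit 1490038834904301570)))) (.node (.node (.leaf (nat_lit 9961297259972821975188)) (.leaf
    (nat_lit 725824888109836447777030242))) (.node (.leaf (nat_lit 6954632382583666835635)) (.leaf
    (nat_lit 1500633824117993610917707939))))) (.node (.node (.node (.node (.leaf (nat_lit
    1129014766184118637212687728801)) (.leaf (nat_lit
    2604736813116853174782170590537936178298487006))) (.leaf (nat_lit 0))) (.node (.leaf (nat_lit
    702725089929592891)) (.leaf (nat_lit 20712962204766247780354)))) (.node (.node (.leaf (nat_lit
    3163710213076832944140)) (.leaf (nat_lit 18001005260002178564098))) (.node (.leaf (nat_lit 0))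
    (.leaf (nat_lit 1788672580096223291440890070)))))) (.node (.node (.node (.node (.node (.leaf
    (nat_lit 1019212308701857906763)) (.leaf (nat_lit 78105898715264575537390))) (.leaf (nat_lit
    15631925692762641480974704296176157917289))) (.node (.leaf (nat_lit 16067254283350969614445))
    (.leaf (nat_lit 1105687760683008002)))) (.node (.node (.leaf (nat_lit
    12577548170973069770143423594557)) (.leaf (nat_lit 0))) (.node (.leaf (nat_lit
    31567938974002161320106)) (.leaf (nat_lit 2437533326749307230013175120970252393))))) (.node
    (.node (.node (.leaf (nat_lit 0)) (.leaf (nat_lit 0))) (.node (.leaf (nat_lit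
    856247832523660395062493397)) (.leaf (nat_lit 44094221734942026694828)))) (.node (.node (.leaf
    (nat_lit 291765026862268418)) (.leaf (nat_lit 25416685759995951906818))) (.node (.leaf (nat_lit
    1107356364067438603)) (.leaf (nat_lit 71949092962439971143687))))))) (.node (.node (.node
    (.node (.node (.node (.leaf (nat_lit 2052263189760153157727)) (.leaf (nat_lit
    68896078290029662896170))) (.leaf (nat_lit 39776166307750878576684))) (.node (.leaf (nat_lit
    20946408097385961160862)) (.leaf (nat_lit 38896656226382787051522)))) (.node (.node (.leaf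
    (nat_lit 11257476018038907273427)) (.leaf (nat_lit 38083848684578550251626))) (.node (.leaf
    (nat_lit 520449704452366529286373536)) (.leaf (nat_lit 2118554300981347985194745870))))) (.node
    (.node (.node (.leaf (nat_lit 1485003577385650683943)) (.leaf (nat_lit
    1299785977429157588509130833))) (.node (.leaf (nat_lit 486302904446666461052928015)) (.leaf
    (nat_lit 1879607169108803586)))) (.node (.node (.leaf (nat_lit 493018509928955906)) (.leaf
    (nat_lit 24803257751007899353090))) (.node (.leaf (nat_lit 32669461040089262129176)) (.leaf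
    (nat_lit 2062435044907155564)))))) (.node (.node (.node (.node (.node (.leaf (nat_lit
    4404295118955477139460)) (.leaf (nat_lit 2620877858094378700484378678))) (.leaf (nat_lit
    25189797357885390520412))) (.node (.leaf (nat_lit 23307791751203225010178)) (.leaf (nat_lit
    1207725283008970754)))) (.node (.node (.leaf (nat_lit 0)) (.leaf (nat_lit
    1277803627267883010))) (.node (.leaf (nat_lit 282745725888825811206930447)) (.leaf (nat_lit
    0))))) (.node (.node (.node (.leaf (nat_lit 216852664584736475948777487)) (.leaf (nat_lit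
    1537647238456903058080399374))) (.node (.leaf (nat_lit 27748755600829275373620)) (.leaf
    (nat_lit 1511051973287127927438442712)))) (.node (.node (.leaf (nat_lit
    11667922413450105651290)) (.leaf (nat_lit 913717952505839618))) (.node (.leaf (nat_lit
    1065095422567293680051552462)) (.leaf (nat_lit 80102115611665096659781198086410))))))))))
    (.node (.node (.node (.node (.node (.node (.node (.node (.node (.leaf (nat_lit 0)) (.leaf
    (nat_lit 0))) (.leaf (nat_lit 363278774961307756))) (.node (.leaf (nat_lit
    3947722172676834525260)) (.leaf (nat_lit 34460197255683065970690)))) (.node (.node (.leaf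
    (nat_lit 0)) (.leaf (nat_lit 0))) (.node (.leaf (nat_lit 6871840598875604975783)) (.leaf
    (nat_lit 43213475838294277423325))))) (.node (.node (.node (.node (.leaf (nat_lit 0)) (.leaf
    (nat_lit 2459181271856264973499236367))) (.leaf (nat_lit 0))) (.node (.leaf (nat_lit
    23750334028349429710901)) (.leaf (nat_lit 33980771903082384785410)))) (.node (.node (.leaf
    (nat_lit 0)) (.leaf (nat_lit 1546612616573616130))) (.node (.leaf (nat_lit 0)) (.leaf (nat_lit
    64799459525413935710305)))))) (.node (.node (.node (.node (.node (.leaf (nat_lit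
    79337689267060124730785886)) (.leaf (nat_lit 2193511488460948295532150838))) (.leaf (nat_lit
    25710542810765922074661))) (.node (.leaf (nat_lit 163979694143059714191392866)) (.leaf (nat_lit
    958192991690948610)))) (.node (.node (.leaf (nat_lit 6793085855315047677980)) (.leaf (nat_lit
    691911805387276396))) (.node (.leaf (nat_lit 7627955431275906662591)) (.leaf (nat_lit
    871963828426119220430110745))))) (.node (.node (.node (.leaf (nat_lit
    201594583328577242341310659)) (.leaf (nat_lit 44928416016570779893852))) (.node (.leaf (nat_lit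
    0)) (.leaf (nat_lit 58999245680128045547522)))) (.node (.node (.leaf (nat_lit
    17891253467742324489318478184496)) (.leaf (nat_lit 517118842737131522))) (.node (.leaf (nat_lit
    9472688671323630796841)) (.leaf (nat_lit 1545225187518185483))))))) (.node (.node (.node (.node
    (.node (.node (.leaf (nat_lit 0)) (.leaf (nat_lit 0))) (.leaf (nat_lit 0))) (.node (.leaf
    (nat_lit 6687104623331325968430)) (.leaf (nat_lit 1184780708720279554)))) (.node (.node (.leaf
    (nat_lit 0)) (.leaf (nat_lit 41621738206176794050845))) (.node (.leaf (nat_lit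
    288335352209400698388086809)) (.leaf (nat_lit 1486672886214295554))))) (.node (.node (.node
    (.node (.leaf (nat_lit 145105981196599307)) (.leaf (nat_lit 81587306202695744028710))) (.leaf
    (nat_lit 0))) (.node (.leaf (nat_lit 26745136347979765928157541368078)) (.leaf (nat_lit
    1529029621759213570)))) (.node (.node (.leaf (nat_lit 14753013130185157050610)) (.leaf (nat_lit
    524718211841785858))) (.node (.leaf (nat_lit 27080852923176666202203)) (.leaf (nat_lit
    49844935358243540154138031882471)))))) (.node (.node (.node (.node (.node (.leaf (nat_lit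
    27306504419934316)) (.leaf (nat_lit 0))) (.leaf (nat_lit
    1458593067965147973607209334078832740))) (.node (.leaf (nat_lit 6262816845426717819070)) (.leaf
    (nat_lit 892049636339089410)))) (.node (.node (.leaf (nat_lit 10284138646314326098026)) (.leaf
    (nat_lit 19886171123222971613217))) (.node (.leaf (nat_lit 31955346214176669499457)) (.leaf
    (nat_lit 1608710158169172365475937986726461545))))) (.node (.node (.node (.leaf (nat_lit 0))
    (.leaf (nat_lit 0))) (.node (.leaf (nat_lit 27283567394885835358226)) (.leaf (nat_lit
    24388580963378809470978)))) (.node (.node (.leaf (nat_lit 584682272929570362314981474)) (.leaf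
    (nat_lit 30747802803817131737090))) (.node (.leaf (nat_lit 35547381815509768142891)) (.leaf
    (nat_lit 69694068847764016660619)))))))) (.node (.node (.node (.node (.node (.node (.node
    (.leaf (nat_lit 519949626150144358319114223664)) (.leaf (nat_lit 76283134706670784151622)))
    (.leaf (nat_lit 789905764378011634728435953))) (.node (.leaf (nat_lit 19595517917828737073318))
    (.leaf (nat_lit 1177742270934417410)))) (.node (.node (.leaf (nat_lit 9786295400369781669994))
    (.leaf (nat_lit 0))) (.node (.leaf (nat_lit 26213503680822571630762)) (.leaf (nat_lit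
    1990379974301819532495552804))))) (.node (.node (.node (.node (.leaf (nat_lit
    105484187391943763753697455)) (.leaf (nat_lit 80988009105534277058718))) (.leaf (nat_lit
    15020699799559547846877))) (.node (.leaf (nat_lit 19336952338842933985471)) (.leaf (nat_lit
    1388995571737559042)))) (.node (.node (.leaf (nat_lit 3219050163694135869473)) (.leaf (nat_lit
    15884240391823243280386))) (.node (.leaf (nat_lit 25337429145765940494411)) (.leaf (nat_lit
    0)))))) (.node (.node (.node (.node (.node (.leaf (nat_lit 3089849197739154538624)) (.leaf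
    (nat_lit 72049351960893382131750))) (.leaf (nat_lit 666090459699852970598293706371367011)))
    (.node (.leaf (nat_lit 666742904612940872155398159)) (.leaf (nat_lit
    56384231808005887426562)))) (.node (.node (.leaf (nat_lit 10998946882370301788319)) (.leaf
    (nat_lit 0))) (.node (.leaf (nat_lit 0)) (.leaf (nat_lit 0))))) (.node (.node (.node (.leaf
    (nat_lit 0)) (.leaf (nat_lit 0))) (.node (.leaf (nat_lit 20052221774405619089417)) (.leaf
    (nat_lit 62665503004593475485719)))) (.node (.node (.leaf (nat_lit 16496527401968398958594))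
    (.leaf (nat_lit 1153111767363223554))) (.node (.leaf (nat_lit 984547529659660980023722146))
    (.leaf (nat_lit 71094512133570226749626))))))) (.node (.node (.node (.node (.node (.node (.leaf
    (nat_lit 558029491118664777814)) (.leaf (nat_lit 2537458582156953457883611278))) (.leaf
    (nat_lit 0))) (.node (.leaf (nat_lit 729696012283016512205660452154638441)) (.leaf (nat_lit
    1071486180190715906)))) (.node (.node (.leaf (nat_lit 346359405654382859547574385)) (.leaf
    (nat_lit 45799334079037897375781))) (.node (.leaf (nat_lit 580004999727086211176857615)) (.leaf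
    (nat_lit 45030578080200863711481))))) (.node (.node (.node (.node (.leaf (nat_lit
    1669629483750040731838)) (.leaf (nat_lit 82187195097031490338992))) (.leaf (nat_lit
    16086015737201923653640))) (.node (.leaf (nat_lit 5949256398166464593994)) (.leaf (nat_lit
    1336078894591246338)))) (.node (.node (.leaf (nat_lit 0)) (.leaf (nat_lit
    27971484783316497006594))) (.node (.leaf (nat_lit 32669459491839451267095)) (.leaf (nat_lit
    1495154498740854655247712363)))))) (.node (.node (.node (.node (.node (.leaf (nat_lit
    129200995745005627)) (.leaf (nat_lit 79318558218082161197064))) (.leaf (nat_lit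
    1378038808994172499642286094))) (.node (.leaf (nat_lit 22680421886336331612358)) (.leaf
    (nat_lit 46409255442546698682527)))) (.node (.node (.leaf (nat_lit 2993065725734070452414))
    (.leaf (nat_lit 15432270680085296775170))) (.node (.leaf (nat_lit 8614876647813036572680))
    (.leaf (nat_lit 75581018343184392075378786893967))))) (.node (.node (.node (.leaf (nat_lit
    8900824802854755827909)) (.leaf (nat_lit 0))) (.node (.leaf (nat_lit 6705594862435762896951))
    (.leaf (nat_lit 65667168019839352766513)))) (.node (.node (.leaf (nat_lit 0)) (.leaf (nat_lit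
    797327989506441218))) (.node (.leaf (nat_lit 37245112774797224509532)) (.leaf (nat_lit
    0))))))))) (.node (.node (.node (.node (.node (.node (.node (.node (.leaf (nat_lit 0)) (.leaf
    (nat_lit 42840270678134270132462))) (.leaf (nat_lit 0))) (.node (.leaf (nat_lit
    395927149284227750140575868)) (.leaf (nat_lit 1059100362092445698)))) (.node (.node (.leaf
    (nat_lit 0)) (.leaf (nat_lit 49415142434800633605802577690881))) (.node (.leaf (nat_lit
    7766286447385111625771)) (.leaf (nat_lit 1856248542792908802))))) (.node (.node (.node (.node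
    (.leaf (nat_lit 51436997964760288807310644428013595)) (.leaf (nat_lit
    73392612335420986032156))) (.leaf (nat_lit 0))) (.node (.leaf (nat_lit 599704836136632322))
    (.leaf (nat_lit 1328900483821207554)))) (.node (.node (.leaf (nat_lit
    129358959742771684899553496)) (.leaf (nat_lit 1409112193529675778))) (.node (.leaf (nat_lit 0))
    (.leaf (nat_lit 1511051973288131992007999702)))))) (.node (.node (.node (.node (.node (.leaf
    (nat_lit 2674859239563199709274)) (.leaf (nat_lit 78350163534501803917331))) (.leaf (nat_lit
    31032432979905632993360))) (.node (.leaf (nat_lit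
    884939398458568684512995112025431826613036519036804786437824863999492363)) (.leaf (nat_lit
    1200403068143927298)))) (.node (.node (.leaf (nat_lit 12230560908916992180279)) (.leaf (nat_lit
    18327398307950688927956))) (.node (.leaf (nat_lit 0)) (.leaf (nat_lit 1938160131837657099)))))
    (.node (.node (.node (.leaf (nat_lit 0)) (.leaf (nat_lit 0))) (.node (.leaf (nat_lit
    26411349888740463149240)) (.leaf (nat_lit 19776863960541952147458)))) (.node (.node (.leaf
    (nat_lit 280646327195533314)) (.leaf (nat_lit 25596476481234652037122))) (.node (.leaf (nat_lit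
    9472932569674418421815)) (.leaf (nat_lit 0))))))) (.node (.node (.node (.node (.node (.node
    (.leaf (nat_lit 0)) (.leaf (nat_lit 2525825373549517334431137952))) (.leaf (nat_lit
    30894038488174112735272))) (.node (.leaf (nat_lit 0)) (.leaf (nat_lit
    39205629887727576219650)))) (.node (.node (.leaf (nat_lit 3823150629194276470967)) (.leaf
    (nat_lit 1490174014704975931))) (.node (.leaf (nat_lit 936024858633516431247147183)) (.leaf
    (nat_lit 69282190233091807587002376061063))))) (.node (.node (.node (.node (.leaf (nat_lit
    46568868014185857151454335088328809)) (.leaf (nat_lit 1891429144103596417257570464))) (.leaf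
    (nat_lit 41150377107634867086518093414448))) (.node (.leaf (nat_lit 0)) (.leaf (nat_lit
    1200830065202561026)))) (.node (.node (.leaf (nat_lit 15205188325356251316422)) (.leaf (nat_lit
    1578701373803986946))) (.node (.leaf (nat_lit 1057533781361164299)) (.leaf (nat_lit
    69947489076437680586963)))))) (.node (.node (.node (.node (.node (.leaf (nat_lit
    4273442308908462499735292674167)) (.leaf (nat_lit 76283918932231193821222))) (.leaf (nat_lit
    890907175038353410))) (.node (.leaf (nat_lit 802709853851671214707683780299456617)) (.leaf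
    (nat_lit 44241253414014701207837)))) (.node (.node (.leaf (nat_lit 0)) (.leaf (nat_lit
    1562652000141836347))) (.node (.leaf (nat_lit 370547067257775101535584434)) (.leaf (nat_lit
    0))))) (.node (.node (.node (.leaf (nat_lit 8494926204960168411295)) (.leaf (nat_lit 0)))
    (.node (.leaf (nat_lit 29597479538553721219266447212605)) (.leaf (nat_lit
    1170856029609656322)))) (.node (.node (.leaf (nat_lit 484635701244824208437149858)) (.leaf
    (nat_lit 686567508861386754))) (.node (.leaf (nat_lit 27776720570344540405850)) (.leaf (nat_lit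
    74816248705716658044998)))))))) (.node (.node (.node (.node (.node (.node (.node (.leaf
    (nat_lit 682536568525089341482)) (.leaf (nat_lit 49378977624966599737450))) (.leaf (nat_lit
    38130561839725640089783))) (.node (.leaf (nat_lit 523933455031204063578685521)) (.leaf (nat_lit
    1160853961310339074)))) (.node (.node (.leaf (nat_lit 6673182017478725927001)) (.leaf (nat_lit
    48234985043161214287893))) (.node (.leaf (nat_lit 7046866103098243481782)) (.leaf (nat_lit
    72094844679023137126788800774375))))) (.node (.node (.node (.node (.leaf (nat_lit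
    5741653665358417166515)) (.leaf (nat_lit 80923644082112881164481))) (.leaf (nat_lit
    1423525048786132672457212175))) (.node (.leaf (nat_lit 20678972673728551518364)) (.leaf
    (nat_lit 1455142328703516674)))) (.node (.node (.leaf (nat_lit 492652190752812394426400881))
    (.leaf (nat_lit 31190428958620905570306))) (.node (.leaf (nat_lit 34085767116716471681099))
    (.leaf (nat_lit 2248670588438192380912599055)))))) (.node (.node (.node (.node (.node (.leaf
    (nat_lit 3575267399362200483848788443163)) (.leaf (nat_lit 83187155538514482686688435175472)))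
    (.leaf (nat_lit 13697111148161348599999))) (.node (.leaf (nat_lit 17745909120070114803750))
    (.leaf (nat_lit 1038274864538058754)))) (.node (.node (.leaf (nat_lit 11225187461725950246962))
    (.leaf (nat_lit 1657937944769099286060466244))) (.node (.leaf (nat_lit
    29928893729328323418015456886909)) (.leaf (nat_lit 69495465592349138288795))))) (.node (.node
    (.node (.leaf (nat_lit 8102932329902721138843)) (.leaf (nat_lit 25595329478512806658091)))
    (.node (.leaf (nat_lit 9477942789469259355913334358247)) (.leaf (nat_lit
    42046054430354178244629)))) (.node (.node (.leaf (nat_lit 226378236258280846930477270)) (.leaf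
    (nat_lit 933983558123520002))) (.node (.leaf (nat_lit 31277313531809104068763)) (.leaf (nat_lit
    63587868083364028416179))))))) (.node (.node (.node (.node (.node (.node (.leaf (nat_lit
    17983523294671583658115170)) (.leaf (nat_lit 46566825524246425537028213244161))) (.leaf
    (nat_lit 38471420860027029880862))) (.node (.leaf (nat_lit 14605340525864593588379)) (.leaf
    (nat_lit 252112815043772418)))) (.node (.node (.leaf (nat_lit 0)) (.leaf (nat_lit 0))) (.node
    (.leaf (nat_lit 7821642443862793453720)) (.leaf (nat_lit
    2223019917411821169519956236727353449))))) (.node (.node (.node (.leaf (nat_lit 0)) (.leaf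
    (nat_lit 44577015759207619821604))) (.node (.leaf (nat_lit 24802336341155513565293)) (.leaf
    (nat_lit 1829786175540428802)))) (.node (.node (.leaf (nat_lit 278253205777940482)) (.leaf
    (nat_lit 1743320157175522982011076610))) (.node (.leaf (nat_lit 14817868783182657290389))
    (.leaf (nat_lit 0)))))) (.node (.node (.node (.node (.node (.leaf (nat_lit 0)) (.leaf (nat_lit
    3025109950979885907578844973391963165412557079))) (.leaf (nat_lit 13577217586644167884872)))
    (.node (.leaf (nat_lit 369457755431501826)) (.leaf (nat_lit 1358173718190358530)))) (.node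
    (.node (.leaf (nat_lit 491815107652106626322076508291989603)) (.leaf (nat_lit
    46662618959819351195650))) (.node (.leaf (nat_lit 32895410972320726188041)) (.leaf (nat_lit
    70666941924629022965881))))) (.node (.node (.node (.leaf (nat_lit 0)) (.leaf (nat_lit
    47026796747009825112229))) (.node (.leaf (nat_lit 0)) (.leaf (nat_lit
    1595690227732802776219932251069481205)))) (.node (.node (.leaf (nat_lit 571830833393041516))
    (.leaf (nat_lit 803661356871057410))) (.node (.leaf (nat_lit 37618630067904422543453)) (.leaf
    (nat_lit 0))))))))))) (.node (.node (.node (.node (.node (.node (.node (.node (.node (.node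
    (.leaf (nat_lit 59953888624522756100)) (.leaf (nat_lit 35253632168365512014139845050425)))
    (.leaf (nat_lit 1056790020649298075280736333))) (.node (.leaf (nat_lit
    12465724673216838041612)) (.leaf (nat_lit 1384768988910845954)))) (.node (.node (.leaf (nat_lit
    8822406860003801759955)) (.leaf (nat_lit 1539583048154864197289902105))) (.node (.leaf (nat_lit
    28339246192073728262231)) (.leaf (nat_lit 1933735875426142793981231139))))) (.node (.node
    (.node (.node (.leaf (nat_lit 89513505065140235)) (.leaf (nat_lit
    2632662016137928191317901432))) (.leaf (nat_lit 27841182989519536980154))) (.node (.leaf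
    (nat_lit 5552619873649150853307)) (.leaf (nat_lit 1812896577426161666)))) (.node (.node (.leaf
    (nat_lit 13600289079140601233584)) (.leaf (nat_lit 15704372814945099907074))) (.node (.leaf
    (nat_lit 29663269584163322396769)) (.leaf (nat_lit 70900708165046730162229)))))) (.node (.node
    (.node (.node (.node (.leaf (nat_lit 62412769299881204635664482)) (.leaf (nat_lit
    1844683092893642223889154172))) (.leaf (nat_lit 30884856071502283604002))) (.node (.leaf
    (nat_lit 15320151858909817274406)) (.leaf (nat_lit 955661769894920194)))) (.node (.node (.leaf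
    (nat_lit 11875307681236344045751)) (.leaf (nat_lit 18106028371531912118327))) (.node (.leaf
    (nat_lit 30764849608892757508152)) (.leaf (nat_lit 0))))) (.node (.node (.node (.leaf (nat_lit
    7139108106285451771993)) (.leaf (nat_lit 44318765423786186702935))) (.node (.leaf (nat_lit
    34617054855543594638427491415439140948626691656579656908904)) (.leaf (nat_lit
    1174232251861434370)))) (.node (.node (.leaf (nat_lit 0)) (.leaf (nat_lit
    27284349053039349530626))) (.node (.leaf (nat_lit 0)) (.leaf (nat_lit
    70541052812023321264141))))))) (.node (.node (.node (.node (.node (.node (.leaf (nat_lit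
    27654989806039263818809404)) (.leaf (nat_lit 76800686295031035920446))) (.leaf (nat_lit
    1247800419885332428088410127))) (.node (.leaf (nat_lit 19268204182900901609535)) (.leaf
    (nat_lit 1342546127496544258)))) (.node (.node (.leaf (nat_lit 2107600193067818352687)) (.leaf
    (nat_lit 0))) (.node (.leaf (nat_lit 962633351373470547709263985)) (.leaf (nat_lit
    2032030541922041858))))) (.node (.node (.node (.node (.leaf (nat_lit 0)) (.leaf (nat_lit
    87534856434541479760924307161319))) (.leaf (nat_lit 39882307006664800403487))) (.node (.leaf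
    (nat_lit 6299736512885864726687)) (.leaf (nat_lit 1839637241379553282)))) (.node (.node (.leaf
    (nat_lit 15393903223131133378686)) (.leaf (nat_lit 35912798834282786390018))) (.node (.leaf
    (nat_lit 1124183461388892566341288014)) (.leaf (nat_lit 2360923106731209136099557571))))))
    (.node (.node (.node (.node (.node (.leaf (nat_lit 3306678942903847551004)) (.leaf (nat_lit
    79783887941188786482705603035367))) (.leaf (nat_lit 640606151541863148326710582257778790)))
    (.node (.leaf (nat_lit 0)) (.leaf (nat_lit 1160013290181623810)))) (.node (.node (.leaf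
    (nat_lit 11057545041859365527175356023003)) (.leaf (nat_lit 0))) (.node (.leaf (nat_lit
    31936805313794082537510)) (.leaf (nat_lit 20697876152939574394892))))) (.node (.node (.node
    (.leaf (nat_lit 8130602164735877251227)) (.leaf (nat_lit 26757481251499596251179))) (.node
    (.leaf (nat_lit 24890028464071915012105)) (.leaf (nat_lit 67334894643289368385474672263216))))
    (.node (.node (.leaf (nat_lit 17607524336141504544955)) (.leaf (nat_lit 617746533458247682)))
    (.node (.leaf (nat_lit 0)) (.leaf (nat_lit 43324450167542843113594)))))))) (.node (.node (.node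
    (.node (.node (.node (.node (.leaf (nat_lit 654868000217659277357)) (.leaf (nat_lit
    42631290034953407103018))) (.leaf (nat_lit 0))) (.node (.leaf (nat_lit
    599793476422371402167091281)) (.leaf (nat_lit 1011671940185849858)))) (.node (.node (.leaf
    (nat_lit 0)) (.leaf (nat_lit 45657086194789308891329))) (.node (.leaf (nat_lit
    829955971290890348)) (.leaf (nat_lit 1511160599302766594))))) (.node (.node (.node (.node
    (.leaf (nat_lit 154675511929470978)) (.leaf (nat_lit 2651705863052543377451253858))) (.leaf
    (nat_lit 927260594005394472489451526))) (.node (.leaf (nat_lit 653448612847229769529688289))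
    (.leaf (nat_lit 1064173405663789058)))) (.node (.node (.leaf (nat_lit
    485540140725172752991125646)) (.leaf (nat_lit 1575041821149626370))) (.node (.leaf (nat_lit
    33592023281704359886887)) (.leaf (nat_lit 43281921128097672003624)))))) (.node (.node (.node
    (.node (.node (.leaf (nat_lit 0)) (.leaf (nat_lit 1421138014026340996464508982))) (.leaf
    (nat_lit 1065848911542210115099951303))) (.node (.leaf (nat_lit 0)) (.leaf (nat_lit
    1048829377300791298)))) (.node (.node (.leaf (nat_lit 12419600338647007821845)) (.leaf (nat_lit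
    0))) (.node (.leaf (nat_lit 0)) (.leaf (nat_lit 20531851796534555508759))))) (.node (.node
    (.node (.leaf (nat_lit 0)) (.leaf (nat_lit 1474454387823270142301962246))) (.node (.leaf
    (nat_lit 6152176494982572736584)) (.leaf (nat_lit 672786764805997266276188174)))) (.node (.node
    (.leaf (nat_lit 318364180233191426)) (.leaf (nat_lit 543296213139718146))) (.node (.leaf
    (nat_lit 1083205748076474222837498058)) (.leaf (nat_lit 73111312429767817625739))))))) (.node
    (.node (.node (.node (.node (.node (.leaf (nat_lit 0)) (.leaf (nat_lit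
    83097812032303647683562415915239))) (.leaf (nat_lit 12165994937608042643527))) (.node (.leaf
    (nat_lit 14928157139436029804698)) (.leaf (nat_lit 254505043108167682)))) (.node (.node (.leaf
    (nat_lit 10533155615833992659054)) (.leaf (nat_lit 0))) (.node (.leaf (nat_lit
    907003006624656874059071696)) (.leaf (nat_lit 2223732587221333282178465826))))) (.node (.node
    (.node (.node (.leaf (nat_lit 1531278903076960010391)) (.leaf (nat_lit 0))) (.leaf (nat_lit
    21827667146212156571782))) (.node (.leaf (nat_lit 5949256116622768406600)) (.leaf (nat_lit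
    1458942696155643906)))) (.node (.node (.leaf (nat_lit 4602602976574255071316)) (.leaf (nat_lit
    26827786084781484343298))) (.node (.leaf (nat_lit 34689376419729555783689)) (.leaf (nat_lit
    2381324375599875752699625602)))))) (.node (.node (.node (.node (.node (.leaf (nat_lit
    136911720807667042875605123)) (.leaf (nat_lit 79761520727520234897545))) (.leaf (nat_lit
    1375329398154270259886161934))) (.node (.leaf (nat_lit 19885739314684274868266)) (.leaf
    (nat_lit 32629456151532380815512)))) (.node (.node (.leaf (nat_lit 13456979753373312155681))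
    (.leaf (nat_lit 41806501615120301621250))) (.node (.leaf (nat_lit 0)) (.leaf (nat_lit
    70270111189185302036535))))) (.node (.node (.node (.leaf (nat_lit 267929697453106020728700988))
    (.leaf (nat_lit 46574837747792193192147))) (.node (.leaf (nat_lit
    978453268901557157710473877466251312)) (.leaf (nat_lit 1064458711751327746)))) (.node (.node
    (.leaf (nat_lit 11063765930607078736070)) (.leaf (nat_lit 798453855053545474))) (.node (.leaf
    (nat_lit 0)) (.leaf (nat_lit 75039031521925816057865))))))))) (.node (.node (.node (.node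
    (.node (.node (.node (.node (.leaf (nat_lit 4835721727454677985132569)) (.leaf (nat_lit
    2421388251319257447019053081))) (.leaf (nat_lit 21417215544342817734709))) (.node (.leaf
    (nat_lit 19762882957465088575414234054913)) (.leaf (nat_lit 29599460622070316204034)))) (.node
    (.node (.leaf (nat_lit 321431840906493929443295394)) (.leaf (nat_lit 45500346290388011778290)))
    (.node (.leaf (nat_lit 730800325190345531809071306)) (.leaf (nat_lit 1834434223507898370)))))
    (.node (.node (.node (.node (.leaf (nat_lit 4003014822638917976073)) (.leaf (nat_lit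
    86183072940454636542560469057655))) (.leaf (nat_lit 42852222668616832843815))) (.node (.leaf
    (nat_lit 24576356978146552731612676948222)) (.leaf (nat_lit 20528485600067886186498)))) (.node
    (.node (.leaf (nat_lit 14531861194417855725696)) (.leaf (nat_lit 1299477672921006082))) (.node
    (.leaf (nat_lit 35252655301907062176463957852417)) (.leaf (nat_lit
    2321661756998967217151541410)))))) (.node (.node (.node (.node (.node (.leaf (nat_lit
    28290773485223938)) (.leaf (nat_lit 76062926593626090963009))) (.leaf (nat_lit 0))) (.node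
    (.leaf (nat_lit 23184848281726922063108804772106)) (.leaf (nat_lit 1130597205200207874))))
    (.node (.node (.leaf (nat_lit 11658417279000148901921)) (.leaf (nat_lit 0))) (.node (.leaf
    (nat_lit 7646403864405634908203)) (.leaf (nat_lit 34156040198718184685592))))) (.node (.node
    (.node (.leaf (nat_lit 4925471514633852616896)) (.leaf (nat_lit 21269745462616617320538)))
    (.node (.leaf (nat_lit 24880281266252998181033)) (.leaf (nat_lit 1540712877697138690)))) (.node
    (.node (.leaf (nat_lit 638019314815202211922683779678051022972387575)) (.leaf (nat_lit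
    1241213280454836226))) (.node (.leaf (nat_lit 1163928866959453359788261571)) (.leaf (nat_lit
    50794658410052647583850))))))) (.node (.node (.node (.node (.node (.node (.leaf (nat_lit 0))
    (.leaf (nat_lit 70168941066797898203354))) (.leaf (nat_lit 31456701759254335520951))) (.node
    (.leaf (nat_lit 16016552475681917960280)) (.leaf (nat_lit 1717330965224882178)))) (.node (.node
    (.leaf (nat_lit 2228646448024587328816211624061)) (.leaf (nat_lit 17773978814606181859399)))
    (.node (.leaf (nat_lit 8241600575230416453787)) (.leaf (nat_lit 55037925603887852748802)))))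
    (.node (.node (.node (.node (.leaf (nat_lit 6022899945024885293238)) (.leaf (nat_lit
    74886844205402838728843))) (.leaf (nat_lit 0))) (.node (.leaf (nat_lit
    13807564728868840603835)) (.leaf (nat_lit 1225740549101846530)))) (.node (.node (.leaf (nat_lit
    15712435084500951826463)) (.leaf (nat_lit 1562094341588123650))) (.node (.leaf (nat_lit
    34118077918215537885335)) (.leaf (nat_lit 69808484207267135291444)))))) (.node (.node (.node
    (.node (.node (.leaf (nat_lit 118786078009327675)) (.leaf (nat_lit 68365604076714283171879)))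
    (.leaf (nat_lit 456259942963352235426447418))) (.node (.leaf (nat_lit 12045873083100017393739))
    (.leaf (nat_lit 1825562152514224130)))) (.node (.node (.leaf (nat_lit
    436424821952731989080801286)) (.leaf (nat_lit 1288149785260996195143385283))) (.node (.leaf
    (nat_lit 10316586254994354929830)) (.leaf (nat_lit 69966021807612081930320))))) (.node (.node
    (.node (.leaf (nat_lit 8384245740449191624860)) (.leaf (nat_lit 46408341484501226160171)))
    (.node (.leaf (nat_lit 6701020049287097286748)) (.leaf (nat_lit 24158003398757161566210))))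
    (.node (.node (.leaf (nat_lit 5414228192527049228471)) (.leaf (nat_lit
    34995110884097673854978))) (.node (.leaf (nat_lit 1127623180865896459)) (.leaf (nat_lit
    1918743787283283979)))))))) (.node (.node (.node (.node (.node (.node (.node (.leaf (nat_lit
    654866452362985406501)) (.leaf (nat_lit 45675502046628701024191343034622))) (.leaf (nat_lit
    41581194889367477751216056107274))) (.node (.leaf (nat_lit 19839594163258364461186)) (.leaf
    (nat_lit 7025272168188737683458)))) (.node (.node (.leaf (nat_lit 316950508927582219)) (.leaf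
    (nat_lit 48178989513791026429956))) (.node (.leaf (nat_lit 0)) (.leaf (nat_lit
    67069256829026795978878))))) (.node (.node (.node (.node (.leaf (nat_lit
    3666326700208873996291)) (.leaf (nat_lit 2496460157619363874531967136))) (.leaf (nat_lit
    24894324913243301281836))) (.node (.leaf (nat_lit 20434553314674590548058)) (.leaf (nat_lit
    833645554356584450)))) (.node (.node (.leaf (nat_lit 14858946096614896500766)) (.leaf (nat_lit
    27279718085804628836354))) (.node (.leaf (nat_lit 0)) (.leaf (nat_lit
    2316646954927579014050873607)))))) (.node (.node (.node (.node (.node (.leaf (nat_lit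
    3510902828910351759920557523077)) (.leaf (nat_lit 78393700755611246854417972265092))) (.leaf
    (nat_lit 41077537153155764256933))) (.node (.leaf (nat_lit 676686524280078347)) (.leaf (nat_lit
    812813287933739010)))) (.node (.node (.leaf (nat_lit 377045228045877172863500504)) (.leaf
    (nat_lit 44678588261799492255935))) (.node (.leaf (nat_lit 0)) (.leaf (nat_lit
    69431011318163006750826))))) (.node (.node (.node (.leaf (nat_lit 8028998418108057321631))
    (.leaf (nat_lit 31009450412198802423844))) (.node (.leaf (nat_lit 22468820402077920592043))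
    (.leaf (nat_lit 57740283415840510115877)))) (.node (.node (.leaf (nat_lit
    16450417578860406308866)) (.leaf (nat_lit 1127076353752382438006587394))) (.node (.leaf
    (nat_lit 35880011772686424539188)) (.leaf (nat_lit 74135113058843810267328))))))) (.node (.node
    (.node (.node (.node (.node (.leaf (nat_lit 571864127184820174904)) (.leaf (nat_lit
    64786308598551611113527))) (.leaf (nat_lit 0))) (.node (.leaf (nat_lit
    15209469986817798504486)) (.leaf (nat_lit 1550556779530813442)))) (.node (.node (.leaf (nat_lit
    352417455504752651)) (.leaf (nat_lit 48746069433255079378978))) (.node (.leaf (nat_lit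
    30358953563969680506888)) (.leaf (nat_lit 64505026704878885601445))))) (.node (.node (.node
    (.leaf (nat_lit 7333780904166563994378808131641)) (.leaf (nat_lit 41136697567162424033350)))
    (.node (.leaf (nat_lit 24797791646104233902177)) (.leaf (nat_lit 1387026002814828546)))) (.node
    (.node (.leaf (nat_lit 1568469495144698281986)) (.leaf (nat_lit 32140450924474470170626)))
    (.node (.leaf (nat_lit 0)) (.leaf (nat_lit 2231590756878002183456686275)))))) (.node (.node
    (.node (.node (.node (.leaf (nat_lit 0)) (.leaf (nat_lit 0))) (.leaf (nat_lit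
    41916026762436863524916))) (.node (.leaf (nat_lit 12537363168505720751627048007291000782953))
    (.leaf (nat_lit 915272799386468354)))) (.node (.node (.leaf (nat_lit
    455930049429830122369974353)) (.leaf (nat_lit 1565330444826836994))) (.node (.leaf (nat_lit 0))
    (.leaf (nat_lit 0))))) (.node (.node (.node (.leaf (nat_lit 0)) (.leaf (nat_lit 0))) (.node
    (.leaf (nat_lit 27919998502804293615668)) (.leaf (nat_lit 22805996216747345248377)))) (.node
    (.node (.leaf (nat_lit 0)) (.leaf (nat_lit 29004539885902442463234))) (.node (.leaf (nat_lit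
    37531045470928795533388)) (.leaf (nat_lit 2243057151824937998048559365)))))))))) (.node (.node
    (.node (.node (.node (.node (.node (.node (.node (.leaf (nat_lit 6346962016121113842810890))
    (.leaf (nat_lit 74301140090704216916020))) (.leaf (nat_lit 0))) (.node (.leaf (nat_lit
    14725266456282541522947)) (.leaf (nat_lit 1164231068325380098)))) (.node (.node (.leaf (nat_lit
    0)) (.leaf (nat_lit 43548902091430016778249))) (.node (.leaf (nat_lit
    257076344260159248789667917)) (.leaf (nat_lit 57385232274398432657410))))) (.node (.node (.node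
    (.node (.leaf (nat_lit 4906866438540691177624)) (.leaf (nat_lit 77769234237737597600029)))
    (.leaf (nat_lit 0))) (.node (.leaf (nat_lit 24952678811135157287115370594535)) (.leaf (nat_lit
    16105877865379840327682)))) (.node (.node (.leaf (nat_lit 13503422562259221807143)) (.leaf
    (nat_lit 19504405762237496754178))) (.node (.leaf (nat_lit 33038621240547143254055)) (.leaf
    (nat_lit 44020519066389897740474)))))) (.node (.node (.node (.node (.node (.leaf (nat_lit
    1881624615127068377140)) (.leaf (nat_lit 82513571412140978943965805215983))) (.leaf (nat_lit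
    25562968858236375203882))) (.node (.leaf (nat_lit 0)) (.leaf (nat_lit 1342828659035209730))))
    (.node (.node (.leaf (nat_lit 0)) (.leaf (nat_lit 46316042479470138032165))) (.node (.leaf
    (nat_lit 429350634810545116889219232)) (.leaf (nat_lit 73728979029250373628240033284396)))))
    (.node (.node (.node (.leaf (nat_lit 1494230609078239035447)) (.leaf (nat_lit 0))) (.node
    (.leaf (nat_lit 847180616786652792455692466)) (.leaf (nat_lit 24005773298252472582146))))
    (.node (.node (.leaf (nat_lit 211403259586412546)) (.leaf (nat_lit 11844425389506354675714)))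
    (.node (.leaf (nat_lit 0)) (.leaf (nat_lit 78829123327650896233288731787291))))))) (.node
    (.node (.node (.node (.node (.node (.leaf (nat_lit 45033727362606512241639438)) (.leaf (nat_lit
    67212831751542990373091))) (.leaf (nat_lit 39168243689315736158263))) (.node (.leaf (nat_lit
    15901232459069689888771)) (.leaf (nat_lit 56863191477480419688450)))) (.node (.node (.leaf
    (nat_lit 3827760344724658127035)) (.leaf (nat_lit 41704751791548028616790))) (.node (.leaf
    (nat_lit 0)) (.leaf (nat_lit 21418730027825173299202))))) (.node (.node (.node (.node (.leaf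
    (nat_lit 199325389383506652997877945)) (.leaf (nat_lit 79995622491633509138469))) (.leaf
    (nat_lit 22339455363046472614109))) (.node (.leaf (nat_lit 13696884827230507827390)) (.leaf
    (nat_lit 1437128187892072450)))) (.node (.node (.leaf (nat_lit 6175143716848564109434)) (.leaf
    (nat_lit 6688546065968485564418))) (.node (.leaf (nat_lit 34145748597155796549788)) (.leaf
    (nat_lit 1409366989808414102869246029)))))) (.node (.node (.node (.node (.node (.leaf (nat_lit
    3325125687140765859892)) (.leaf (nat_lit 2983510819333761154920046561808245194089824288)))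
    (.leaf (nat_lit 0))) (.node (.leaf (nat_lit 257372663352874849565671584)) (.leaf (nat_lit
    885857195441389570)))) (.node (.node (.leaf (nat_lit 329438917528306221481984160)) (.leaf
    (nat_lit 50960599569006952906805))) (.node (.leaf (nat_lit 0)) (.leaf (nat_lit
    69873726442647381541003))))) (.node (.node (.node (.leaf (nat_lit 1660253277165973602491))
    (.leaf (nat_lit 1515282696521643092045201506))) (.node (.leaf (nat_lit
    814236401624199093192753210)) (.leaf (nat_lit 1537899210261790722)))) (.node (.node (.leaf
    (nat_lit 379304225655619595)) (.leaf (nat_lit 1558154490778091522))) (.node (.leaf (nat_lit 0))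
    (.leaf (nat_lit 2594118838909409746824899875324690620)))))))) (.node (.node (.node (.node
    (.node (.node (.node (.leaf (nat_lit 793215203199609405470)) (.leaf (nat_lit
    2363677432641850150559678678))) (.leaf (nat_lit 0))) (.node (.leaf (nat_lit
    4021510275490054864930)) (.leaf (nat_lit 1114269689455968258)))) (.node (.node (.leaf (nat_lit
    9850763725416868020227)) (.leaf (nat_lit 1573914072284050835290456177))) (.node (.leaf (nat_lit
    0)) (.leaf (nat_lit 2177029646300561563348893878))))) (.node (.node (.node (.node (.leaf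
    (nat_lit 3062320945772766625968)) (.leaf (nat_lit 81080439853932641190060))) (.leaf (nat_lit
    43281924478240882360359))) (.node (.leaf (nat_lit 674448842404908192005095586)) (.leaf (nat_lit
    1373514473788276738)))) (.node (.node (.leaf (nat_lit 0)) (.leaf (nat_lit
    7901412590380151668738))) (.node (.leaf (nat_lit 0)) (.leaf (nat_lit
    71643240695283656622150)))))) (.node (.node (.node (.node (.node (.leaf (nat_lit
    96267392677707787)) (.leaf (nat_lit 0))) (.leaf (nat_lit 761146446270562306))) (.node (.leaf
    (nat_lit 22025552478327177150616)) (.leaf (nat_lit 997179105621442562)))) (.node (.node (.leaf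
    (nat_lit 12221045788376014454820)) (.leaf (nat_lit 0))) (.node (.leaf (nat_lit
    1032302258212614919864713222)) (.leaf (nat_lit 69020599997237158936730))))) (.node (.node
    (.node (.leaf (nat_lit 218212401758272740927996112)) (.leaf (nat_lit
    600549978624793147768832240))) (.node (.leaf (nat_lit 7627918413536897990696)) (.leaf (nat_lit
    64550377370333804167338)))) (.node (.node (.leaf (nat_lit 10111804498797837862946195439864))
    (.leaf (nat_lit 1500029701928910850))) (.node (.leaf (nat_lit 1186747959734435118848409606))
    (.leaf (nat_lit 79462976025317100851483138916606))))))) (.node (.node (.node (.node (.node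
    (.node (.leaf (nat_lit 1987654548311895113736)) (.leaf (nat_lit 77546983959681726349471)))
    (.leaf (nat_lit 12110656675840599982152))) (.node (.leaf (nat_lit 20868107103827302482093))
    (.leaf (nat_lit 1759551816594489346)))) (.node (.node (.leaf (nat_lit 2361247428368146825437))
    (.leaf (nat_lit 48294118996016097329193))) (.node (.leaf (nat_lit 15057372740036805722187))
    (.leaf (nat_lit 68102085483198681382943))))) (.node (.node (.node (.node (.leaf (nat_lit
    1466555707343314812970)) (.leaf (nat_lit 2617241256839518377451192482))) (.leaf (nat_lit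
    39568722491189504442399))) (.node (.leaf (nat_lit 6023043656004998987831)) (.leaf (nat_lit
    1404336610803318786)))) (.node (.node (.leaf (nat_lit
    21449376493841096005892201851950269221951749484261952651508)) (.leaf (nat_lit
    1642455614942740482))) (.node (.leaf (nat_lit 32798587685595146027016)) (.leaf (nat_lit
    1630301373481998651337474289)))))) (.node (.node (.node (.node (.node (.leaf (nat_lit
    4325789496078047051794)) (.leaf (nat_lit 74384140872726402498670))) (.leaf (nat_lit
    41321967068534964158554))) (.node (.leaf (nat_lit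
    877944303716063359835284109227647661370769645)) (.leaf (nat_lit
    65488956474807829444395111088176)))) (.node (.node (.leaf (nat_lit
    451547559927395130531905648)) (.leaf (nat_lit 1366749659778908162))) (.node (.leaf (nat_lit
    9532609906110665785356)) (.leaf (nat_lit 2308060926478952830578458705))))) (.node (.node (.node
    (.leaf (nat_lit 8956165035136014024915)) (.leaf (nat_lit 46846128537779021479991))) (.node
    (.leaf (nat_lit 892668143888771535192981750)) (.leaf (nat_lit 21312607359012161388782))))
    (.node (.node (.leaf (nat_lit 198935959145593341311126525996040381)) (.leaf (nat_lit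
    1264295001639223298))) (.node (.leaf (nat_lit 371150184392235628808634378)) (.leaf (nat_lit
    75177070485404263841823))))))))) (.node (.node (.node (.node (.node (.node (.node (.node (.leaf
    (nat_lit 16472126204034539181047843)) (.leaf (nat_lit 0))) (.leaf (nat_lit
    25710511424459182899238))) (.node (.leaf (nat_lit 517586571710560346770243619)) (.leaf (nat_lit
    904992829523230722)))) (.node (.node (.leaf (nat_lit 9929012635174143459364)) (.leaf (nat_lit
    0))) (.node (.leaf (nat_lit 28787021652094311661695)) (.leaf (nat_lit 1492864365039321090)))))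
    (.node (.node (.node (.node (.leaf (nat_lit 137223882984783874)) (.leaf (nat_lit
    80522493544656779018278))) (.leaf (nat_lit 0))) (.node (.leaf (nat_lit
    23349702530905000837285)) (.leaf (nat_lit 1345929728502136834)))) (.node (.node (.leaf (nat_lit
    480706512522738066071486493)) (.leaf (nat_lit 530769554473877506))) (.node (.leaf (nat_lit
    33019928065431971233825)) (.leaf (nat_lit 44411194512372964458505)))))) (.node (.node (.node
    (.node (.node (.leaf (nat_lit 93844167283435729563418650)) (.leaf (nat_lit
    71985537642800064167967))) (.leaf (nat_lit 15670986932240777412654))) (.node (.leaf (nat_lit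
    15149522009932291047614)) (.leaf (nat_lit 1181544536762089474)))) (.node (.node (.leaf (nat_lit
    12317933267188879392863)) (.leaf (nat_lit 22130994742201927117124596465807))) (.node (.leaf
    (nat_lit 11875322898902474227751)) (.leaf (nat_lit 0))))) (.node (.node (.node (.leaf (nat_lit
    6221394551708638707834)) (.leaf (nat_lit 45375547597668695081009))) (.node (.leaf (nat_lit
    26480487901123106242613)) (.leaf (nat_lit 1348747089609359362)))) (.node (.node (.leaf (nat_lit
    320615842607923202)) (.leaf (nat_lit 36009664076379217657858))) (.node (.leaf (nat_lit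
    1154692627522596074869227540)) (.leaf (nat_lit 858997920778859633648599066))))))) (.node (.node
    (.node (.node (.node (.node (.leaf (nat_lit 0)) (.leaf (nat_lit 70057395348423261224998)))
    (.leaf (nat_lit 26748139513076051542060))) (.node (.leaf (nat_lit 19364598103854729592854))
    (.leaf (nat_lit 1128344005227184130)))) (.node (.node (.leaf (nat_lit 311884637951623170))
    (.leaf (nat_lit 0))) (.node (.leaf (nat_lit 16505760075534322303144)) (.leaf (nat_lit
    2276570432052173487736475219608862825))))) (.node (.node (.node (.node (.leaf (nat_lit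
    6368933459555613081602)) (.leaf (nat_lit 80476377389259458543827))) (.leaf (nat_lit
    15883098737435193049270))) (.node (.leaf (nat_lit 827686083803801557737406518)) (.leaf (nat_lit
    1656678798575403010)))) (.node (.node (.leaf (nat_lit 0)) (.leaf (nat_lit 520214792603041794)))
    (.node (.leaf (nat_lit 0)) (.leaf (nat_lit 60968544842903346937864)))))) (.node (.node (.node
    (.node (.node (.leaf (nat_lit 25085501316729626362642563)) (.leaf (nat_lit
    71427041046856651178014))) (.leaf (nat_lit 1369905179175271555024551942))) (.node (.leaf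
    (nat_lit 22938675880975411642526)) (.leaf (nat_lit 1082496758255411798984622217)))) (.node
    (.node (.leaf (nat_lit 0)) (.leaf (nat_lit 1643101296832079108182900830))) (.node (.leaf
    (nat_lit 0)) (.leaf (nat_lit 49854407150508609568808))))) (.node (.node (.node (.leaf (nat_lit
    8199778018374558351516)) (.leaf (nat_lit 46126569566215719813358))) (.node (.leaf (nat_lit
    773993606411702007352762259883819113)) (.leaf (nat_lit 2109792108132633891261644979)))) (.node
    (.node (.leaf (nat_lit 18216272661223259176990)) (.leaf (nat_lit 30069832742588138061826)))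
    (.node (.leaf (nat_lit 0)) (.leaf (nat_lit 32200608067667452166214)))))))) (.node (.node (.node
    (.node (.node (.node (.node (.leaf (nat_lit 793220129277989814310)) (.leaf (nat_lit
    2296882920621220042983604249))) (.leaf (nat_lit 31295250104738088419477))) (.node (.leaf
    (nat_lit 15269460888362376429611)) (.leaf (nat_lit 253378662164987906)))) (.node (.node (.leaf
    (nat_lit 0)) (.leaf (nat_lit 1182969739163903269577949267))) (.node (.leaf (nat_lit
    31568382988020181562324974633199)) (.leaf (nat_lit 42614029803972066476176))))) (.node (.node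
    (.node (.node (.leaf (nat_lit 93844038152009186344697870)) (.leaf (nat_lit
    49411657718645813084315))) (.leaf (nat_lit 43604184458647688118312))) (.node (.leaf (nat_lit
    0)) (.leaf (nat_lit 1472312319462735874)))) (.node (.node (.leaf (nat_lit 0)) (.leaf (nat_lit
    5964507708682441785346))) (.node (.leaf (nat_lit 1042052176605741067)) (.leaf (nat_lit
    76690226481064718570136602476810)))))) (.node (.node (.node (.node (.node (.leaf (nat_lit
    3435793061922864300168)) (.leaf (nat_lit 79023618035972422435008))) (.leaf (nat_lit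
    41205847355791341977744))) (.node (.leaf (nat_lit 0)) (.leaf (nat_lit 1088377487701966850))))
    (.node (.node (.leaf (nat_lit 12908423582812395995148)) (.leaf (nat_lit
    43710138138716853698751))) (.node (.leaf (nat_lit 34142818487684088191989202616436)) (.leaf
    (nat_lit 1463875414555492354))))) (.node (.node (.node (.leaf (nat_lit 1586466019121280778377))
    (.leaf (nat_lit 0))) (.node (.leaf (nat_lit 26545660617771857412251)) (.leaf (nat_lit
    1515906699015909595104411716)))) (.node (.node (.leaf (nat_lit 258565696717841778409209937))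
    (.leaf (nat_lit 612679923747913730))) (.node (.leaf (nat_lit 36424207470742229680198)) (.leaf
    (nat_lit 0))))))) (.node (.node (.node (.node (.node (.node (.leaf (nat_lit 32793960795734018))
    (.leaf (nat_lit 2263553519971860491))) (.leaf (nat_lit 12571832877791177801801))) (.node (.leaf
    (nat_lit 14854886805229673840642)) (.leaf (nat_lit 32781568585360681926658)))) (.node (.node
    (.leaf (nat_lit 11727755401133247627298)) (.leaf (nat_lit 0))) (.node (.leaf (nat_lit
    30567187485248857505882)) (.leaf (nat_lit 1420533551164234177077051465))))) (.node (.node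
    (.node (.leaf (nat_lit 0)) (.leaf (nat_lit 44244977321462592634888))) (.node (.leaf (nat_lit
    787450363589558274)) (.leaf (nat_lit 1364226675730153474)))) (.node (.node (.leaf (nat_lit
    8435274057300226277550)) (.leaf (nat_lit 973952644039180290))) (.node (.leaf (nat_lit
    1154710595439875474061525224)) (.leaf (nat_lit 0)))))) (.node (.node (.node (.node (.node
    (.leaf (nat_lit 3417358563891837337690)) (.leaf (nat_lit 75665218075224797544638))) (.leaf
    (nat_lit 28565211220342143647815))) (.node (.leaf (nat_lit 22791102351130776240204)) (.leaf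
    (nat_lit 1467667492720738306)))) (.node (.node (.leaf (nat_lit 13627625225028089610368)) (.leaf
    (nat_lit 1542108905277095938))) (.node (.leaf (nat_lit 29658255248036091592792)) (.leaf
    (nat_lit 50729190564820641054902))))) (.node (.node (.node (.leaf (nat_lit
    9362008040679024033887)) (.leaf (nat_lit 47068301944458689315013))) (.node (.leaf (nat_lit
    23986481703962755058088802582798)) (.leaf (nat_lit 66035438496497354866847)))) (.node (.node
    (.leaf (nat_lit 528492656463507483587142982771802357)) (.leaf (nat_lit 822379451412250626)))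
    (.node (.leaf (nat_lit 0)) (.leaf (nat_lit 2473235463317686578749636728)))))))))))) (.node
    (.node (.node (.node (.node (.node (.node (.node (.node (.node (.node (.leaf (nat_lit 1))
    (.leaf (nat_lit 72672545156303287418920))) (.leaf (nat_lit 37424154504338511953996))) (.node
    (.leaf (nat_lit 511092017409524807435026447)) (.leaf (nat_lit 1312005242119913474)))) (.node
    (.node (.leaf (nat_lit 0)) (.leaf (nat_lit 1402633819479212043))) (.node (.leaf (nat_lit
    13840101128120744214618)) (.leaf (nat_lit 43631892331360485048476))))) (.node (.node (.node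
    (.node (.leaf (nat_lit 155801597194260617403564042)) (.leaf (nat_lit 79457076980354474246280)))
    (.leaf (nat_lit 0))) (.node (.leaf (nat_lit 0)) (.leaf (nat_lit 1828659167532023810)))) (.node
    (.node (.leaf (nat_lit 0)) (.leaf (nat_lit 670099461787222018))) (.node (.leaf (nat_lit
    1009800219208056940)) (.leaf (nat_lit 42345755058196514537506)))))) (.node (.node (.node (.node
    (.node (.leaf (nat_lit 1964596541952641662979)) (.leaf (nat_lit 74909355725990274465983)))
    (.leaf (nat_lit 42847985642407041675772805054674))) (.node (.leaf (nat_lit 0)) (.leaf (nat_lit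
    936519375534555138)))) (.node (.node (.leaf (nat_lit 0)) (.leaf (nat_lit
    45799333797992417394726))) (.node (.leaf (nat_lit 842482055861354399875203126)) (.leaf (nat_lit
    46847100048661138309163))))) (.node (.node (.node (.leaf (nat_lit 3989268149598928699548))
    (.leaf (nat_lit 44886900282119734624287))) (.node (.leaf (nat_lit 792094795194564610)) (.leaf
    (nat_lit 19620057351755200135170)))) (.node (.node (.leaf (nat_lit 8652028367093851422890))
    (.leaf (nat_lit 896828551960068098))) (.node (.leaf (nat_lit 35326596783220717715526)) (.leaf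
    (nat_lit 71753970567178556211212))))))) (.node (.node (.node (.node (.node (.node (.leaf
    (nat_lit 0)) (.leaf (nat_lit 2342922140485025900))) (.leaf (nat_lit 28828810421782481928372)))
    (.node (.leaf (nat_lit 610537946247987259)) (.leaf (nat_lit 1070782020302536706)))) (.node
    (.node (.leaf (nat_lit 319611446885696934791872626)) (.leaf (nat_lit
    582403532853301182952898759))) (.node (.leaf (nat_lit 0)) (.leaf (nat_lit
    2030904642015199234))))) (.node (.node (.node (.node (.leaf (nat_lit 0)) (.leaf (nat_lit
    71949217240574266114139))) (.leaf (nat_lit 43581094943996034351322))) (.node (.leaf (nat_lit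
    0)) (.leaf (nat_lit 1748720815312076802)))) (.node (.node (.leaf (nat_lit
    16475001566619090486014282891389)) (.leaf (nat_lit 9474002175079840153602))) (.node (.leaf
    (nat_lit 36034267250237065879003959984337)) (.leaf (nat_lit 1603102056200644287244009579))))))
    (.node (.node (.node (.node (.node (.leaf (nat_lit 0)) (.leaf (nat_lit 0))) (.leaf (nat_lit
    0))) (.node (.leaf (nat_lit 17773581769627268218922)) (.leaf (nat_lit 999290846551605250))))
    (.node (.node (.leaf (nat_lit 12991514435409789779981)) (.leaf (nat_lit 0))) (.node (.leaf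
    (nat_lit 24885196106035433242794)) (.leaf (nat_lit 50286451536064420184107))))) (.node (.node
    (.node (.leaf (nat_lit 1531126068469618114757)) (.leaf (nat_lit 43940621808047671672887)))
    (.node (.leaf (nat_lit 731120266102211751904018648)) (.leaf (nat_lit 1308919144908980283))))
    (.node (.node (.leaf (nat_lit 0)) (.leaf (nat_lit 1814625788154207486752325634))) (.node (.leaf
    (nat_lit 34514148678201461899450)) (.leaf (nat_lit 70127568461895768932544)))))))) (.node
    (.node (.node (.node (.node (.node (.node (.leaf (nat_lit 0)) (.leaf (nat_lit 0))) (.leaf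
    (nat_lit 790660752720445478596247823))) (.node (.leaf (nat_lit 395776052003097937357045884))
    (.leaf (nat_lit 1246984977766285314)))) (.node (.node (.leaf (nat_lit
    8680665101900896853467976761540)) (.leaf (nat_lit 22192110253272174100765))) (.node (.leaf
    (nat_lit 9463466419044879630519)) (.leaf (nat_lit 950743886312112130))))) (.node (.node (.node
    (.node (.leaf (nat_lit 3984654069402521764010)) (.leaf (nat_lit 78239567383716425826463)))
    (.leaf (nat_lit 0))) (.node (.leaf (nat_lit
    35458170289058214077052228552010687398403276175610094708044869755285107835149)) (.leaf (nat_lit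
    59151360236533479309314)))) (.node (.node (.leaf (nat_lit 0)) (.leaf (nat_lit
    51260482024298355294210))) (.node (.leaf (nat_lit 9574117473741527253179)) (.leaf (nat_lit
    70900720550435331702974)))))) (.node (.node (.node (.node (.node (.leaf (nat_lit
    20249779587022457074352252)) (.leaf (nat_lit 72049351116365372784677))) (.leaf (nat_lit 0)))
    (.node (.leaf (nat_lit 4870103429807507439854)) (.leaf (nat_lit 1031377860025253890)))) (.node
    (.node (.leaf (nat_lit 406513735530085769697034472)) (.leaf (nat_lit 47796976485711156019329)))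
    (.node (.leaf (nat_lit 8398447422246860315915519852783)) (.leaf (nat_lit 0))))) (.node (.node
    (.node (.leaf (nat_lit 196451663217951474169675979)) (.leaf (nat_lit 21076047894683744141402)))
    (.node (.leaf (nat_lit 0)) (.leaf (nat_lit 1952229568526024706)))) (.node (.node (.leaf
    (nat_lit 335894935972729793413855156130676763)) (.leaf (nat_lit 33528579248255051956226)))
    (.node (.leaf (nat_lit 0)) (.leaf (nat_lit 2252572250668662786))))))) (.node (.node (.node
    (.node (.node (.node (.leaf (nat_lit 525746140791401807925)) (.leaf (nat_lit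
    2533962951303816320985071621))) (.leaf (nat_lit 19526245963721282355280))) (.node (.leaf
    (nat_lit 0)) (.leaf (nat_lit 1770811021821345794)))) (.node (.node (.leaf (nat_lit
    11220575352008999108773)) (.leaf (nat_lit 0))) (.node (.leaf (nat_lit
    12473850302145690908730096681017)) (.leaf (nat_lit 67908534985133685669983))))) (.node (.node
    (.node (.node (.leaf (nat_lit 228468053874709570335587789502283881)) (.leaf (nat_lit
    2615288503919012006764740768))) (.leaf (nat_lit 42887680875092669161646739226767))) (.node
    (.leaf (nat_lit 0)) (.leaf (nat_lit 1402788386762260482)))) (.node (.node (.leaf (nat_lit 0))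
    (.leaf (nat_lit 7048264309936016785410))) (.node (.leaf (nat_lit 0)) (.leaf (nat_lit
    77918176303485382415489230504068)))))) (.node (.node (.node (.node (.node (.leaf (nat_lit
    4407105528926546228114469748871)) (.leaf (nat_lit 77906538856572587802721))) (.leaf (nat_lit
    41174390863982265303131))) (.node (.leaf (nat_lit 752410819553320211522519281)) (.leaf (nat_lit
    60815311681902260453416)))) (.node (.node (.leaf (nat_lit 14613084286184891778057460056274))
    (.leaf (nat_lit 1428674077345841154))) (.node (.leaf (nat_lit 0)) (.leaf (nat_lit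
    2302307563407619880544108612))))) (.node (.node (.node (.leaf (nat_lit 8886966663254382936068))
    (.leaf (nat_lit 46215128490128900817018))) (.node (.leaf (nat_lit 0)) (.leaf (nat_lit
    34778724895357730488322)))) (.node (.node (.leaf (nat_lit 0)) (.leaf (nat_lit
    1762947815716816840797978626))) (.node (.leaf (nat_lit 0)) (.leaf (nat_lit
    28403497120623598957518263746721))))))))) (.node (.node (.node (.node (.node (.node (.node
    (.node (.leaf (nat_lit 147576204677253103639)) (.leaf (nat_lit
    81473668685110445761020689711152))) (.leaf (nat_lit 37862264535626503356603))) (.node (.leaf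
    (nat_lit 14711430272421841797230)) (.leaf (nat_lit 972405906056806402)))) (.node (.node (.leaf
    (nat_lit 1798607940282778583113)) (.leaf (nat_lit 47547933334753752842335))) (.node (.leaf
    (nat_lit 0)) (.leaf (nat_lit 57883295631034575683586))))) (.node (.node (.node (.node (.leaf
    (nat_lit 5031503558344133771268)) (.leaf (nat_lit 2489407106043036965607309423))) (.leaf
    (nat_lit 42409500388609568735265))) (.node (.leaf (nat_lit 19350786270620352184362)) (.leaf
    (nat_lit 1444023723526062082)))) (.node (.node (.leaf (nat_lit 14301273657676715458583)) (.leaf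
    (nat_lit 849539922649022466))) (.node (.leaf (nat_lit 25337430130541811925146)) (.leaf (nat_lit
    41903029400815947415592)))))) (.node (.node (.node (.node (.node (.leaf (nat_lit
    32452305983724497316021661237379175)) (.leaf (nat_lit 2354911959499216793106645225))) (.leaf
    (nat_lit 28638965965922492416227))) (.node (.leaf (nat_lit 0)) (.leaf (nat_lit
    34169715632651758665730)))) (.node (.node (.leaf (nat_lit 11012779688256403079358)) (.leaf
    (nat_lit 18216715028664175231046))) (.node (.leaf (nat_lit 11967554648808746057824)) (.leaf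
    (nat_lit 1892983294996381707))))) (.node (.node (.node (.leaf (nat_lit 4985385152259396141148))
    (.leaf (nat_lit 1378706522313457675))) (.node (.leaf (nat_lit 22653292908814841086159)) (.leaf
    (nat_lit 9017801334498456174594)))) (.node (.node (.leaf (nat_lit 531792925575248602904920132))
    (.leaf (nat_lit 1193221779745800194))) (.node (.leaf (nat_lit
    38381401562937205380545574666359)) (.leaf (nat_lit 1117711316123830373572673750))))))) (.node
    (.node (.node (.node (.node (.node (.leaf (nat_lit 0)) (.leaf (nat_lit
    77040564199749750816864))) (.leaf (nat_lit 41882363094354898658216315781263))) (.node (.leaf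
    (nat_lit 20398096952896805601314)) (.leaf (nat_lit 1683553224990261250)))) (.node (.node (.leaf
    (nat_lit 3827761892940109250593)) (.leaf (nat_lit 782438096224172110917143374137262183)))
    (.node (.leaf (nat_lit 13900470897329026826311)) (.leaf (nat_lit 1403074998519857154)))))
    (.node (.node (.node (.node (.leaf (nat_lit 5976783647730435293255)) (.leaf (nat_lit
    87812179364181809975937642856679))) (.leaf (nat_lit 31120108497722553860202))) (.node (.leaf
    (nat_lit 25028035484491308007445)) (.leaf (nat_lit 1217296299800526850)))) (.node (.node (.leaf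
    (nat_lit 15675596623856781164624)) (.leaf (nat_lit 762531483501524615170))) (.node (.leaf
    (nat_lit 33970184772976501784615)) (.leaf (nat_lit 77619585082612926299635687161913))))))
    (.node (.node (.node (.node (.node (.leaf (nat_lit 3850874500359603290238)) (.leaf (nat_lit
    75080539519543033397301))) (.leaf (nat_lit 1363995829290062435091480586))) (.node (.leaf
    (nat_lit 24432598919524655804151039852571)) (.leaf (nat_lit 1041935293365747714)))) (.node
    (.node (.leaf (nat_lit 0)) (.leaf (nat_lit 0))) (.node (.leaf (nat_lit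
    31700973477991452704848)) (.leaf (nat_lit 50825392151723741605510087245967))))) (.node (.node
    (.node (.leaf (nat_lit 6558017373421554565212)) (.leaf (nat_lit 0))) (.node (.leaf (nat_lit
    27398861515834565787845)) (.leaf (nat_lit 23880037454780249079878)))) (.node (.node (.leaf
    (nat_lit 17745876887242501455906)) (.leaf (nat_lit 6264301351553470758914))) (.node (.leaf
    (nat_lit 0)) (.leaf (nat_lit 74683921428973814481022)))))))) (.node (.node (.node (.node (.node
    (.node (.node (.leaf (nat_lit 0)) (.leaf (nat_lit 75320348597118772117540))) (.leaf (nat_lit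
    41541582319382909577145568526384))) (.node (.leaf (nat_lit 21268452891980044256004347855107))
    (.leaf (nat_lit 1180841149968023554)))) (.node (.node (.leaf (nat_lit 10353551217414828654596))
    (.leaf (nat_lit 19351215401770925883472))) (.node (.leaf (nat_lit 0)) (.leaf (nat_lit
    1457680594245910530))))) (.node (.node (.node (.node (.leaf (nat_lit 4574957057639421509675))
    (.leaf (nat_lit 75494897145549607338017))) (.leaf (nat_lit 0))) (.node (.leaf (nat_lit
    24488224621133283131544)) (.leaf (nat_lit 1356063102541627394)))) (.node (.node (.leaf (nat_lit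
    12548772594858739302492)) (.leaf (nat_lit 7993647157106364841986))) (.node (.leaf (nat_lit
    33038404786968657592356)) (.leaf (nat_lit 24678462342899182010580)))))) (.node (.node (.node
    (.node (.node (.leaf (nat_lit 3269784328573053763664)) (.leaf (nat_lit
    74324200775439435890735))) (.leaf (nat_lit 1251053746314674178))) (.node (.leaf (nat_lit 0))
    (.leaf (nat_lit 1027719355342913538)))) (.node (.node (.leaf (nat_lit 11598736984628514717771))
    (.leaf (nat_lit 0))) (.node (.leaf (nat_lit 869646382548516875)) (.leaf (nat_lit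
    62770285306197504622683))))) (.node (.node (.node (.leaf (nat_lit 7332803845670358417514))
    (.leaf (nat_lit 0))) (.node (.leaf (nat_lit 24876193405715985137871)) (.leaf (nat_lit
    61074421085133072433290)))) (.node (.node (.leaf (nat_lit 177427139693073978286670077)) (.leaf
    (nat_lit 1514385965123239938))) (.node (.leaf (nat_lit 1128114462612644977180934158)) (.leaf
    (nat_lit 1635392606650727078794887363))))))) (.node (.node (.node (.node (.node (.node (.leaf
    (nat_lit 525747266966186557536)) (.leaf (nat_lit 77658316768152314380353))) (.leaf (nat_lit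
    0))) (.node (.leaf (nat_lit 0)) (.leaf (nat_lit 1053190444143476738)))) (.node (.node (.leaf
    (nat_lit 0)) (.leaf (nat_lit 48746069011016844509370))) (.node (.leaf (nat_lit
    17095738945430029008934)) (.leaf (nat_lit 2234767567918049131848007715))))) (.node (.node
    (.node (.leaf (nat_lit 6816115147996861235255)) (.leaf (nat_lit 43728464265093685903390)))
    (.node (.leaf (nat_lit 5995374384413854072928)) (.leaf (nat_lit 1544229751537926146)))) (.node
    (.node (.leaf (nat_lit 48569581832372226)) (.leaf (nat_lit 835044674312994818))) (.node (.leaf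
    (nat_lit 0)) (.leaf (nat_lit 2351859087674719113765453839)))))) (.node (.node (.node (.node
    (.node (.leaf (nat_lit 3154476838817060028572)) (.leaf (nat_lit 43369575821465010503711)))
    (.leaf (nat_lit 1380181293066703239226065125))) (.node (.leaf (nat_lit 710886764742574082))
    (.leaf (nat_lit 1209836345334300674)))) (.node (.node (.leaf (nat_lit 13899711885219509502110))
    (.leaf (nat_lit 1382793922429976578))) (.node (.leaf (nat_lit 0)) (.leaf (nat_lit
    70574745644598496002158))))) (.node (.node (.node (.leaf (nat_lit 1605067997563769258007))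
    (.leaf (nat_lit 1476143284988642216789672049))) (.node (.leaf (nat_lit
    918962455714095571619020854)) (.leaf (nat_lit 65750817216626153422871)))) (.node (.node (.leaf
    (nat_lit 475147108060626955)) (.leaf (nat_lit 1235727670914973698))) (.node (.leaf (nat_lit
    37517109494297542197369)) (.leaf (nat_lit 75297275071084173131915)))))))))) (.node (.node
    (.node (.node (.node (.node (.node (.node (.node (.leaf (nat_lit 4835703278740133409718286))
    (.leaf (nat_lit 75729357630266360922295))) (.leaf (nat_lit 1192792819006140532260077588)))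
    (.node (.leaf (nat_lit 19069887465619290521770)) (.leaf (nat_lit 1104276778026926082)))) (.node
    (.node (.leaf (nat_lit 9624858381736279736478)) (.leaf (nat_lit 47275143690571774886062)))
    (.node (.leaf (nat_lit 28468769293173048672422)) (.leaf (nat_lit 1340867783126286338)))))
    (.node (.node (.node (.node (.leaf (nat_lit 0)) (.leaf (nat_lit 0))) (.leaf (nat_lit
    42667753257383101661227))) (.node (.leaf (nat_lit 23003806517329892933850)) (.leaf (nat_lit
    50153955484123504246786)))) (.node (.node (.leaf (nat_lit 451094115898085643460542577)) (.leaf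
    (nat_lit 1547879253968814082))) (.node (.leaf (nat_lit 0)) (.leaf (nat_lit
    2166114429869700916355268613)))))) (.node (.node (.node (.node (.node (.leaf (nat_lit
    83266675122799751222001678)) (.leaf (nat_lit 2299301082532282569))) (.leaf (nat_lit
    20089116964107411718199))) (.node (.leaf (nat_lit 0)) (.leaf (nat_lit 402842948540170242))))
    (.node (.node (.leaf (nat_lit 7738616315666636144653)) (.leaf (nat_lit
    49756765143884271649017))) (.node (.leaf (nat_lit 30862343271968076398750)) (.leaf (nat_lit
    49863310202621808279773))))) (.node (.node (.node (.leaf (nat_lit 7245163934794473734336))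
    (.leaf (nat_lit 0))) (.node (.leaf (nat_lit 843251885180641281665400952)) (.leaf (nat_lit
    282196982344973581830848514)))) (.node (.node (.leaf (nat_lit 6881144735131056144386)) (.leaf
    (nat_lit 518807692597395458))) (.node (.leaf (nat_lit 0)) (.leaf (nat_lit
    72908149139143062126616))))))) (.node (.node (.node (.node (.node (.node (.leaf (nat_lit
    1346653695409259741234)) (.leaf (nat_lit 1850871626153012156083483132558055082635558944)))
    (.leaf (nat_lit 38646281559018716725434))) (.node (.leaf (nat_lit 15938153250255490187434))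
    (.leaf (nat_lit 38855176097549928038402)))) (.node (.node (.leaf (nat_lit
    10796073642376082686079)) (.leaf (nat_lit 48516419206296599986267))) (.node (.leaf (nat_lit
    686404386003484683)) (.leaf (nat_lit 49028893208616426995714))))) (.node (.node (.node (.node
    (.leaf (nat_lit 6055289551863798759437)) (.leaf (nat_lit
    3082287337535280334054547900510555368986247447))) (.leaf (nat_lit 14882356256439489724599)))
    (.node (.leaf (nat_lit 0)) (.leaf (nat_lit 1445853834860691458)))) (.node (.node (.leaf
    (nat_lit 0)) (.leaf (nat_lit 9510897348409217449986))) (.node (.leaf (nat_lit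
    34418033409026376794162)) (.leaf (nat_lit 1924708909930200946940011879377855950650605872))))))
    (.node (.node (.node (.node (.node (.leaf (nat_lit 3721720692325193285650)) (.leaf (nat_lit
    79152483055478205775903))) (.leaf (nat_lit 44447952286487112464685181763685))) (.node (.leaf
    (nat_lit 22611301047337471901705)) (.leaf (nat_lit 59520080370884115890178)))) (.node (.node
    (.leaf (nat_lit 13139093454626356396106)) (.leaf (nat_lit 51836606799326436249597213212797)))
    (.node (.leaf (nat_lit 32047489700761251807359)) (.leaf (nat_lit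
    74470221776720102038419785711847))))) (.node (.node (.node (.leaf (nat_lit 0)) (.leaf (nat_lit
    0))) (.node (.leaf (nat_lit 27453396858640920961677074432209)) (.leaf (nat_lit
    1830210913446264834)))) (.node (.node (.leaf (nat_lit 17644417965112311349289)) (.leaf (nat_lit
    1013218910096457730))) (.node (.leaf (nat_lit 351043952158339571619463203)) (.leaf (nat_lit
    0)))))))) (.node (.node (.node (.node (.node (.node (.node (.leaf (nat_lit
    765549027712949223468)) (.leaf (nat_lit 76330268848434849185804))) (.leaf (nat_lit
    1260618273094340080396664946))) (.node (.leaf (nat_lit 0)) (.leaf (nat_lit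
    1097662657240104962)))) (.node (.node (.leaf (nat_lit 10030727707229721657415)) (.leaf (nat_lit
    0))) (.node (.leaf (nat_lit 0)) (.leaf (nat_lit 58690449738789274906297190645977))))) (.node
    (.node (.node (.node (.leaf (nat_lit 4270585779761788944558)) (.leaf (nat_lit
    42825420093921050165319))) (.leaf (nat_lit 40869200214354393497644))) (.node (.leaf (nat_lit
    23925580349433599688745)) (.leaf (nat_lit 1869191890595872770)))) (.node (.node (.leaf (nat_lit
    16039227782563441298018610249909)) (.leaf (nat_lit 22446670010565594906626))) (.node (.leaf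
    (nat_lit 0)) (.leaf (nat_lit 53557094502778324320280)))))) (.node (.node (.node (.node (.node
    (.leaf (nat_lit 2739425518142699536474)) (.leaf (nat_lit 1406930428597576126421008438))) (.leaf
    (nat_lit 15462045260440362079807415335029337161833))) (.node (.leaf (nat_lit 0)) (.leaf
    (nat_lit 269847447973527554)))) (.node (.node (.leaf (nat_lit 12553386530340518166581)) (.leaf
    (nat_lit 39864629258395037401121))) (.node (.leaf (nat_lit 11391188894705099407529)) (.leaf
    (nat_lit 65448933638639057680334185627765))))) (.node (.node (.node (.leaf (nat_lit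
    206878915890198323415744718)) (.leaf (nat_lit 22219575875767753703530))) (.node (.leaf (nat_lit
    0)) (.leaf (nat_lit 47884660176421344444423)))) (.node (.node (.leaf (nat_lit
    495130568686698498)) (.leaf (nat_lit 34312567420157209804802))) (.node (.leaf (nat_lit
    1101794232320241701096784078)) (.leaf (nat_lit 51877616072570836287558))))))) (.node (.node
    (.node (.node (.node (.node (.leaf (nat_lit 18285454981961748637286420)) (.leaf (nat_lit
    68005994600160708198433))) (.leaf (nat_lit 38443729492306615795882))) (.node (.leaf (nat_lit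
    12207466739491452158043)) (.leaf (nat_lit 327125621459255298)))) (.node (.node (.leaf (nat_lit
    10611836034706319802372)) (.leaf (nat_lit 49166354490029966033018))) (.node (.leaf (nat_lit 0))
    (.leaf (nat_lit 2070178255234010892116164803))))) (.node (.node (.node (.node (.leaf (nat_lit
    1485002451374074691774)) (.leaf (nat_lit 78940330161010274140200))) (.leaf (nat_lit 0))) (.node
    (.leaf (nat_lit 7295869137776906797238)) (.leaf (nat_lit 1337064057009733634)))) (.node (.node
    (.leaf (nat_lit 0)) (.leaf (nat_lit 1341981064419213314))) (.node (.leaf (nat_lit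
    32780138971162239762618)) (.leaf (nat_lit 0)))))) (.node (.node (.node (.node (.node (.leaf
    (nat_lit 4252105117386450075735)) (.leaf (nat_lit 79871911554606593933349))) (.leaf (nat_lit
    34953034740810607952093))) (.node (.leaf (nat_lit 23192541819957527380138)) (.leaf (nat_lit
    58870032744399857975435)))) (.node (.node (.leaf (nat_lit
    518856576972742134326830284185957504857407520)) (.leaf (nat_lit 1303417781429075970))) (.node
    (.leaf (nat_lit 282921256629656608034783292)) (.leaf (nat_lit 70421084374434303901854)))))
    (.node (.node (.node (.leaf (nat_lit 0)) (.leaf (nat_lit 0))) (.node (.leaf (nat_lit 0)) (.leaf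
    (nat_lit 65704466021402712145969)))) (.node (.node (.leaf (nat_lit 12133677086976722010199))
    (.leaf (nat_lit 789728182315122690))) (.node (.leaf (nat_lit 391988707189719148)) (.leaf
    (nat_lit 72585540255418698367174))))))))) (.node (.node (.node (.node (.node (.node (.node
    (.node (.leaf (nat_lit 17945651966294483746802191633591528034140192)) (.leaf (nat_lit
    72791714624989068197928))) (.leaf (nat_lit 876793576689337813591916704))) (.node (.leaf
    (nat_lit 597979829438813738239262801)) (.leaf (nat_lit 900629958794280962)))) (.node (.node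
    (.leaf (nat_lit 1896538955987515787632800235739)) (.leaf (nat_lit 47039947703915445944333)))
    (.node (.leaf (nat_lit 679366686951997499)) (.leaf (nat_lit 1857515180188106754))))) (.node
    (.node (.node (.node (.leaf (nat_lit 135816508101230594)) (.leaf (nat_lit 0))) (.leaf (nat_lit
    759600249454067723))) (.node (.leaf (nat_lit 23340470293033444901001)) (.leaf (nat_lit
    1543525153563082754)))) (.node (.node (.leaf (nat_lit 4344340676971663130714)) (.leaf (nat_lit
    18084009274786118303746))) (.node (.leaf (nat_lit 0)) (.leaf (nat_lit 0)))))) (.node (.node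
    (.node (.node (.node (.leaf (nat_lit 91881193891542561460584568)) (.leaf (nat_lit
    72050100402633117466654))) (.leaf (nat_lit 33672296547568972276268949373047))) (.node (.leaf
    (nat_lit 655153241885114370)) (.leaf (nat_lit 1263453531646590978)))) (.node (.node (.leaf
    (nat_lit 10948216084118678732842)) (.leaf (nat_lit 0))) (.node (.leaf (nat_lit
    12972903889813215838390)) (.leaf (nat_lit 2022292392904700909628686449))))) (.node (.node
    (.node (.leaf (nat_lit 7558719036594264932370)) (.leaf (nat_lit 22976120799458568110172)))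
    (.node (.leaf (nat_lit 0)) (.leaf (nat_lit 19633902280306753470466)))) (.node (.node (.leaf
    (nat_lit 11430018562627737792982823431348796150335742214366)) (.leaf (nat_lit
    1156630110082826242))) (.node (.leaf (nat_lit 35787775518596409786386)) (.leaf (nat_lit
    42801815454773248458775))))))) (.node (.node (.node (.node (.node (.node (.leaf (nat_lit 0))
    (.leaf (nat_lit 70164332195675266809909))) (.leaf (nat_lit 31654970621907255361588))) (.node
    (.leaf (nat_lit 18327007171017118515213)) (.leaf (nat_lit 38260326585159731314690)))) (.node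
    (.node (.leaf (nat_lit 230158937746036469033861227)) (.leaf (nat_lit 0))) (.node (.leaf
    (nat_lit 29953748379508421099610)) (.leaf (nat_lit 65568256778472360396808106868995))))) (.node
    (.node (.node (.node (.leaf (nat_lit 59711889256180685102867589867372733)) (.leaf (nat_lit 0)))
    (.leaf (nat_lit 38720677370352514564351))) (.node (.leaf (nat_lit 25244549010159097282596))
    (.leaf (nat_lit 1852866848752795650)))) (.node (.node (.leaf (nat_lit 15297414727409764335827))
    (.leaf (nat_lit 1557168546675556354))) (.node (.leaf (nat_lit 29330827371930003374250)) (.leaf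
    (nat_lit 43369060855994321666086)))))) (.node (.node (.node (.node (.node (.leaf (nat_lit 0))
    (.leaf (nat_lit 85445126028421672166181143117967))) (.leaf (nat_lit 41077536591004674752602)))
    (.node (.leaf (nat_lit 22901782392793632800874)) (.leaf (nat_lit
    2781441692822879914469973346345634187992543802394111630565380420361126155)))) (.node (.node
    (.leaf (nat_lit 2997675441195732631585)) (.leaf (nat_lit 1677884795561199280710746147))) (.node
    (.leaf (nat_lit 0)) (.leaf (nat_lit 69966019416423399620679))))) (.node (.node (.node (.leaf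
    (nat_lit 8181331274275078996106)) (.leaf (nat_lit 1524040818429312762820952242))) (.node (.leaf
    (nat_lit 253881091131476006599393305)) (.leaf (nat_lit 1992762978784641026)))) (.node (.node
    (.leaf (nat_lit 0)) (.leaf (nat_lit 29968375649542785400834))) (.node (.leaf (nat_lit 0))
    (.leaf (nat_lit 0)))))))) (.node (.node (.node (.node (.node (.node (.node (.leaf (nat_lit 0))
    (.leaf (nat_lit 2510857906887817847013376120))) (.leaf (nat_lit 1272576988921201048693244150)))
    (.node (.leaf (nat_lit 19932313850268692447288)) (.leaf (nat_lit 1504394178975629314)))) (.node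
    (.node (.leaf (nat_lit 0)) (.leaf (nat_lit 0))) (.node (.leaf (nat_lit
    29201406157853059907763)) (.leaf (nat_lit 2201344898541374904402706727))))) (.node (.node
    (.node (.node (.leaf (nat_lit 2863892770147044360204)) (.leaf (nat_lit
    86881194804737313419994281083015))) (.leaf (nat_lit 43567925975346193826047))) (.node (.leaf
    (nat_lit 22173158662258408226829)) (.leaf (nat_lit 1555488166490800130)))) (.node (.node (.leaf
    (nat_lit 3182157801755861254178)) (.leaf (nat_lit 6771552192935737098242))) (.node (.leaf
    (nat_lit 0)) (.leaf (nat_lit 0)))))) (.node (.node (.node (.node (.node (.leaf (nat_lit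
    973087708110343307350)) (.leaf (nat_lit 0))) (.leaf (nat_lit
    15301037567665672393400797954167))) (.node (.leaf (nat_lit 18013387190665419620394)) (.leaf
    (nat_lit 1699459653550866434)))) (.node (.node (.leaf (nat_lit 11833932971705750454275)) (.leaf
    (nat_lit 24709990335395362177068))) (.node (.leaf (nat_lit 0)) (.leaf (nat_lit
    69495466561723256995976))))) (.node (.node (.node (.leaf (nat_lit 6571852571819188093018))
    (.leaf (nat_lit 22339482527271510802538))) (.node (.leaf (nat_lit 27034528186867323699407))
    (.leaf (nat_lit 64782331609318284263486)))) (.node (.node (.leaf (nat_lit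
    7748143535259335720983)) (.leaf (nat_lit 8666984120148318945282))) (.node (.leaf (nat_lit
    36428724015151922217005)) (.leaf (nat_lit 1072227709550712001252318735447498266715357406)))))))
    (.node (.node (.node (.node (.node (.node (.leaf (nat_lit 2401675156138729740020555776101))
    (.leaf (nat_lit 57721836122354584060063))) (.leaf (nat_lit 12359695320883388416072))) (.node
    (.leaf (nat_lit 656466827617248662740271320)) (.leaf (nat_lit 58523999654886208897026))))
    (.node (.node (.leaf (nat_lit 126789923098762910835671121)) (.leaf (nat_lit 0))) (.node (.leaf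
    (nat_lit 20241056865972696318121)) (.leaf (nat_lit 42917662528228485693484))))) (.node (.node
    (.node (.leaf (nat_lit 0)) (.leaf (nat_lit 0))) (.node (.leaf (nat_lit
    25857934336483716694078)) (.leaf (nat_lit 1361552663451402242)))) (.node (.node (.leaf (nat_lit
    285149377067089922)) (.leaf (nat_lit 1182684520640095077072633858))) (.node (.leaf (nat_lit
    30438056481184391823450)) (.leaf (nat_lit 34435474837453878018824709931123)))))) (.node (.node
    (.node (.node (.node (.leaf (nat_lit 32793099841175617834057891)) (.leaf (nat_lit 0))) (.leaf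
    (nat_lit 13697121423149049774153))) (.node (.leaf (nat_lit 377057614162427906)) (.leaf (nat_lit
    30618849981663556075522)))) (.node (.node (.leaf (nat_lit 0)) (.leaf (nat_lit
    15925731901859875192834))) (.node (.leaf (nat_lit 281839598780917033906471032)) (.leaf (nat_lit
    75648726762579206546446858125522))))) (.node (.node (.node (.leaf (nat_lit 0)) (.leaf (nat_lit
    47095975296023952294054))) (.node (.leaf (nat_lit 821338969847490948945412156)) (.leaf (nat_lit
    23225661051927970119933)))) (.node (.node (.leaf (nat_lit 17856805050360048844956)) (.leaf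
    (nat_lit 691071374776729602))) (.node (.leaf (nat_lit 32531147335137801470195)) (.leaf (nat_lit
    2455691000315665352155725964))))))))))) (.node (.node (.node (.node (.node (.node (.node (.node
    (.node (.node (.leaf (nat_lit 0)) (.leaf (nat_lit 75664791592454137774120))) (.leaf (nat_lit
    21915052031881443999815))) (.node (.leaf (nat_lit 130574780193850866658443278)) (.leaf (nat_lit
    1365907743109677058)))) (.node (.node (.leaf (nat_lit 0)) (.leaf (nat_lit 0))) (.node (.leaf
    (nat_lit 28436076961938008113195)) (.leaf (nat_lit 2169020696305999125795831834))))) (.node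
    (.node (.node (.node (.leaf (nat_lit 3500306424933319376909)) (.leaf (nat_lit
    80361078622667942330580))) (.leaf (nat_lit 1396182952991817213862477838))) (.node (.leaf
    (nat_lit 24784316245944470926759179911300)) (.leaf (nat_lit 47202475869882533740546)))) (.node
    (.node (.leaf (nat_lit 458347670815773358379237470)) (.leaf (nat_lit 5208176000418174926850)))
    (.node (.leaf (nat_lit 0)) (.leaf (nat_lit 1535835985174146778065535237)))))) (.node (.node
    (.node (.node (.node (.leaf (nat_lit 0)) (.leaf (nat_lit 71999838963810670149685))) (.leaf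
    (nat_lit 0))) (.node (.leaf (nat_lit 14743692795507793657953)) (.leaf (nat_lit
    1834878537778633495483252738)))) (.node (.node (.leaf (nat_lit 0)) (.leaf (nat_lit
    49683038822418962645084))) (.node (.leaf (nat_lit 33073225598162455202783713099892)) (.leaf
    (nat_lit 63707775292277231124503))))) (.node (.node (.node (.leaf (nat_lit
    1466560492864595493022)) (.leaf (nat_lit 1473551198525965809601478881))) (.node (.leaf (nat_lit
    26056821054457321291778)) (.leaf (nat_lit 26735889722643654574082)))) (.node (.node (.leaf
    (nat_lit 16602173405333691760710)) (.leaf (nat_lit 967197313317601282))) (.node (.leaf (nat_lit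
    0)) (.leaf (nat_lit 2171150701492931957050572907))))))) (.node (.node (.node (.node (.node
    (.node (.leaf (nat_lit 0)) (.leaf (nat_lit 76819197359675976908998))) (.leaf (nat_lit 0)))
    (.node (.leaf (nat_lit 17229783793660560867480)) (.leaf (nat_lit 1108220940984123394)))) (.node
    (.node (.leaf (nat_lit 2130656793572606673055)) (.leaf (nat_lit 0))) (.node (.leaf (nat_lit
    6973079971468853575714)) (.leaf (nat_lit 66700868990772522975234))))) (.node (.node (.node
    (.node (.leaf (nat_lit 1485001887805645979831)) (.leaf (nat_lit 0))) (.leaf (nat_lit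
    43244237373140384284859))) (.node (.leaf (nat_lit 661222190928180274510856312242700387)) (.leaf
    (nat_lit 1525651913448751106)))) (.node (.node (.leaf (nat_lit 14660780535716516135007)) (.leaf
    (nat_lit 35806730601525961490434))) (.node (.leaf (nat_lit 0)) (.leaf (nat_lit
    72124234427197598924984)))))) (.node (.node (.node (.node (.node (.leaf (nat_lit
    40953593570939178179625102)) (.leaf (nat_lit 2341306406711518877211427032))) (.leaf (nat_lit
    931374810281232756880948583127711847))) (.node (.leaf (nat_lit 20181354327089262821421)) (.leaf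
    (nat_lit 1793473103226077186)))) (.node (.node (.leaf (nat_lit 11451038057475596288227)) (.leaf
    (nat_lit 26254907825761204502718))) (.node (.leaf (nat_lit 956892337279033771857018905)) (.leaf
    (nat_lit 45019908636338083266573))))) (.node (.node (.node (.leaf (nat_lit
    1586466300768056180900)) (.leaf (nat_lit 0))) (.node (.leaf (nat_lit 830376568848252939))
    (.leaf (nat_lit 20630056154715996225689)))) (.node (.node (.leaf (nat_lit
    17806262136019724992608)) (.leaf (nat_lit 1551680523364073474))) (.node (.leaf (nat_lit
    36696041925781104033942)) (.leaf (nat_lit 2272416855002054764)))))))) (.node (.node (.node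
    (.node (.node (.node (.node (.leaf (nat_lit 682538116353993408559)) (.leaf (nat_lit
    75610897763931057750106))) (.leaf (nat_lit 10893134411093432795208))) (.node (.leaf (nat_lit
    15195881358773186658516)) (.leaf (nat_lit 1242340692190167042)))) (.node (.node (.leaf (nat_lit
    0)) (.leaf (nat_lit 47875375005105089871891))) (.node (.leaf (nat_lit
    950393968374062642538741774)) (.leaf (nat_lit 984855905390607591184531705))))) (.node (.node
    (.node (.node (.leaf (nat_lit 3348249420045974962310)) (.leaf (nat_lit
    72940653032123964522676))) (.leaf (nat_lit 1415529432953366718009573489))) (.node (.leaf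
    (nat_lit 20778382169841001420241848565893)) (.leaf (nat_lit 47336222221888903118850)))) (.node
    (.node (.leaf (nat_lit 3182156675512357027870)) (.leaf (nat_lit 9229577590803026608130)))
    (.node (.leaf (nat_lit 27057587889858918154335)) (.leaf (nat_lit 71158976656377255231531))))))
    (.node (.node (.node (.node (.node (.leaf (nat_lit 0)) (.leaf (nat_lit 2399220790844325899)))
    (.leaf (nat_lit 37705545745061095079964))) (.node (.leaf (nat_lit 0)) (.leaf (nat_lit
    826464188649046018)))) (.node (.node (.leaf (nat_lit 0)) (.leaf (nat_lit 0))) (.node (.leaf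
    (nat_lit 1004341919358193555709624433)) (.leaf (nat_lit
    2608719700921008119978572848935387132720578782))))) (.node (.node (.node (.leaf (nat_lit
    7701750126666357866536)) (.leaf (nat_lit 1389965864979267595))) (.node (.leaf (nat_lit 0))
    (.leaf (nat_lit 2111755584081629220496998616)))) (.node (.node (.leaf (nat_lit
    323289992325627906)) (.leaf (nat_lit 1110186824824913922))) (.node (.leaf (nat_lit
    36082932290435097493544)) (.leaf (nat_lit 72783882722506717724765))))))) (.node (.node (.node
    (.node (.node (.node (.leaf (nat_lit 55310002669804343921999955)) (.leaf (nat_lit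
    77413829714813131096134))) (.leaf (nat_lit 39643260578984339111989))) (.node (.leaf (nat_lit
    628208122017055879456882723)) (.leaf (nat_lit 1066982571973410818)))) (.node (.node (.leaf
    (nat_lit 0)) (.leaf (nat_lit 0))) (.node (.leaf (nat_lit 0)) (.leaf (nat_lit
    1646302665576603248018850016))))) (.node (.node (.node (.node (.leaf (nat_lit
    1586619135366808141992)) (.leaf (nat_lit 50250391225453066256422))) (.leaf (nat_lit
    21574125464766828970074))) (.node (.leaf (nat_lit 0)) (.leaf (nat_lit 1369433670741524482))))
    (.node (.node (.leaf (nat_lit 0)) (.leaf (nat_lit 28557168620430837350402))) (.node (.leaf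
    (nat_lit 28473609545058772779026)) (.leaf (nat_lit 72672253967742640783399)))))) (.node (.node
    (.node (.node (.node (.leaf (nat_lit 3089913234361508102291)) (.leaf (nat_lit
    3013305067646980520506634015642320521147187508))) (.leaf (nat_lit 41183614236087839555677)))
    (.node (.leaf (nat_lit 0)) (.leaf (nat_lit 1420804146710862116313846208335839506)))) (.node
    (.node (.leaf (nat_lit 442933654142329774590394563)) (.leaf (nat_lit 40967175886765935493122)))
    (.node (.leaf (nat_lit 0)) (.leaf (nat_lit 65897078796311624613931))))) (.node (.node (.node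
    (.leaf (nat_lit 8923884217761418903614)) (.leaf (nat_lit 1530696440752922403417620680))) (.node
    (.leaf (nat_lit 27841177194264329912392)) (.leaf (nat_lit 65045221934721474429020)))) (.node
    (.node (.leaf (nat_lit 18405609050562692841510)) (.leaf (nat_lit 880503827944570882))) (.node
    (.leaf (nat_lit 37295839631982561787911)) (.leaf (nat_lit 1598414129825132609769046123)))))))))
    (.node (.node (.node (.node (.node (.node (.node (.node (.leaf (nat_lit
    11636160052717426651168797)) (.leaf (nat_lit 2360352360893318521199788246))) (.leaf (nat_lit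
    1238863908094795413801140301))) (.node (.leaf (nat_lit 0)) (.leaf (nat_lit
    894156025740001282)))) (.node (.node (.leaf (nat_lit 0)) (.leaf (nat_lit
    47524873356690977915091))) (.node (.leaf (nat_lit 0)) (.leaf (nat_lit 1854559684342710274)))))
    (.node (.node (.node (.node (.leaf (nat_lit 5123699136199047446547)) (.leaf (nat_lit
    79554010910999582015652))) (.leaf (nat_lit 0))) (.node (.leaf (nat_lit
    25759841842014541804642356232458)) (.leaf (nat_lit 32532704185010788433922)))) (.node (.node
    (.leaf (nat_lit 15628232285202904843159760863471)) (.leaf (nat_lit 5364978391126135472130)))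
    (.node (.leaf (nat_lit 1020659425540702219)) (.leaf (nat_lit 43262884975173622235286))))))
    (.node (.node (.node (.node (.node (.leaf (nat_lit 3168976575945168556125974650026212130916))
    (.leaf (nat_lit 76491723602916756619272))) (.leaf (nat_lit 0))) (.node (.leaf (nat_lit
    816615451665657797642693784892592045286752374)) (.leaf (nat_lit 811123166763155458)))) (.node
    (.node (.leaf (nat_lit 361328652553969294503051345)) (.leaf (nat_lit
    21378326744351265939077778964623))) (.node (.leaf (nat_lit 0)) (.leaf (nat_lit
    68876537853940143947846))))) (.node (.node (.node (.leaf (nat_lit 7249790119157908570140))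
    (.leaf (nat_lit 20983811640834247557212))) (.node (.leaf (nat_lit 0)) (.leaf (nat_lit
    45404006682199039606786)))) (.node (.node (.leaf (nat_lit 15749423852645247025154)) (.leaf
    (nat_lit 513515637287604649986))) (.node (.leaf (nat_lit 9463709197603203907637)) (.leaf
    (nat_lit 1488611613528798762840907147664294076))))))) (.node (.node (.node (.node (.node (.node
    (.leaf (nat_lit 0)) (.leaf (nat_lit 49346311187788739051707))) (.leaf (nat_lit
    30581291219295488114860))) (.node (.leaf (nat_lit 0)) (.leaf (nat_lit 1095692770489794562))))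
    (.node (.node (.leaf (nat_lit 11008428647044207542368)) (.leaf (nat_lit
    48783902906580417577016))) (.node (.leaf (nat_lit 7009975711690964271262)) (.leaf (nat_lit
    66806949453964119310338))))) (.node (.node (.node (.node (.leaf (nat_lit
    1485000762189206978600)) (.leaf (nat_lit 77782576293659661238305))) (.leaf (nat_lit
    25696765317882430292007))) (.node (.leaf (nat_lit 462578883274924118356787281)) (.leaf (nat_lit
    1192245069822951426)))) (.node (.node (.leaf (nat_lit 0)) (.leaf (nat_lit
    1578419890237341698))) (.node (.leaf (nat_lit 1096226844278804277211955214)) (.leaf (nat_lit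
    77739896166338952461298413404276)))))) (.node (.node (.node (.node (.node (.leaf (nat_lit 0))
    (.leaf (nat_lit 71091307968369751425077))) (.leaf (nat_lit 13942017037150640603227))) (.node
    (.leaf (nat_lit 413918097372561077682045144)) (.leaf (nat_lit 1833584404098842626)))) (.node
    (.node (.leaf (nat_lit 438390359371109864615182449)) (.leaf (nat_lit
    53465394957942038333070057472257))) (.node (.leaf (nat_lit 0)) (.leaf (nat_lit
    2295366422849060103690387681))))) (.node (.node (.node (.leaf (nat_lit 0)) (.leaf (nat_lit
    1521931853095797274397901014))) (.node (.leaf (nat_lit 27431144725407160533068)) (.leaf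
    (nat_lit 1171278199125049346)))) (.node (.node (.leaf (nat_lit 17810439506423965745192)) (.leaf
    (nat_lit 988449378433892354))) (.node (.leaf (nat_lit 1212429083128345079302062328)) (.leaf
    (nat_lit 72239655218697667280920)))))))) (.node (.node (.node (.node (.node (.node (.node
    (.leaf (nat_lit 986908549428738719799)) (.leaf (nat_lit 76168929083146717298844))) (.leaf
    (nat_lit 38771387468107311415345))) (.node (.leaf (nat_lit 0)) (.leaf (nat_lit
    395382719196037122)))) (.node (.node (.leaf (nat_lit 341531939097383589336318072)) (.leaf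
    (nat_lit 47869792371480916590685))) (.node (.leaf (nat_lit 29326002303853182255195)) (.leaf
    (nat_lit 64547205008975313698818))))) (.node (.node (.node (.node (.leaf (nat_lit
    157615008875153102750351538)) (.leaf (nat_lit 76058246793515157880916))) (.leaf (nat_lit
    43466393889740901515303))) (.node (.leaf (nat_lit 20489893546938668875886)) (.leaf (nat_lit
    1374921943161110530)))) (.node (.node (.leaf (nat_lit 14895839584805265276961)) (.leaf (nat_lit
    11922804758796461867010))) (.node (.leaf (nat_lit 1115719449521586566154420470)) (.leaf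
    (nat_lit 70541021848470213033992)))))) (.node (.node (.node (.node (.node (.leaf (nat_lit
    3334351310586592296964)) (.leaf (nat_lit 0))) (.leaf (nat_lit 0))) (.node (.leaf (nat_lit 0))
    (.leaf (nat_lit 1039963637088911362)))) (.node (.node (.leaf (nat_lit 0)) (.leaf (nat_lit
    44586354541465304236070))) (.node (.leaf (nat_lit 29224791523278129922201)) (.leaf (nat_lit
    0))))) (.node (.node (.node (.leaf (nat_lit 228488409575577822123262066)) (.leaf (nat_lit
    22302586224305605115959))) (.node (.leaf (nat_lit 225481415194301266099699890)) (.leaf (nat_lit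
    64745228855430602752012)))) (.node (.node (.leaf (nat_lit 310342478404386818)) (.leaf (nat_lit
    1477935831812538370))) (.node (.leaf (nat_lit 0)) (.leaf (nat_lit
    71418765255278011285596))))))) (.node (.node (.node (.node (.node (.node (.leaf (nat_lit
    742498058013365174275)) (.leaf (nat_lit 2362921854005718702528659660))) (.leaf (nat_lit
    1309127864848748069731434698))) (.node (.leaf (nat_lit 525450395832164805165449420)) (.leaf
    (nat_lit 1053474564820041730)))) (.node (.node (.leaf (nat_lit 10759389862037024866348)) (.leaf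
    (nat_lit 0))) (.node (.leaf (nat_lit 30506907497684743159892)) (.leaf (nat_lit
    2401327913275518666540589868130893929))))) (.node (.node (.node (.leaf (nat_lit 0)) (.leaf
    (nat_lit 0))) (.node (.leaf (nat_lit 778161586278891522)) (.leaf (nat_lit
    1014212430521303042)))) (.node (.node (.leaf (nat_lit 1688373331825673830402)) (.leaf (nat_lit
    37047285271393187594242))) (.node (.leaf (nat_lit 17354054024777619931174)) (.leaf (nat_lit
    2069847702477538782936825963)))))) (.node (.node (.node (.node (.node (.leaf (nat_lit
    3214428757125335548063)) (.leaf (nat_lit 80073993111529773531166))) (.leaf (nat_lit 0))) (.node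
    (.leaf (nat_lit 712997904377315330)) (.leaf (nat_lit 1804311513327075330)))) (.node (.node
    (.leaf (nat_lit 13960000166112069353476)) (.leaf (nat_lit 704394956119310839333519510))) (.node
    (.leaf (nat_lit 8794741550708965966035)) (.leaf (nat_lit 45545653791129547767817))))) (.node
    (.node (.node (.leaf (nat_lit 9232796249907513196581)) (.leaf (nat_lit
    47017467964836165124242))) (.node (.leaf (nat_lit 0)) (.leaf (nat_lit
    65925924625372615475435)))) (.node (.node (.leaf (nat_lit 609468093106821429557723142)) (.leaf
    (nat_lit 802676194452570114))) (.node (.leaf (nat_lit 37572551911757807026212)) (.leaf (nat_lit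
    67222024019108859936824)))))))))) (.node (.node (.node (.node (.node (.node (.node (.node
    (.node (.leaf (nat_lit 225980214933471821842)) (.leaf (nat_lit 75795342685978526679076)))
    (.leaf (nat_lit 18129083413092421009426))) (.node (.leaf (nat_lit 618822870084155128066343089))
    (.leaf (nat_lit 33251913271057641046018)))) (.node (.node (.leaf (nat_lit
    2238211609733237854903262838945)) (.leaf (nat_lit 1446121900949504002))) (.node (.leaf (nat_lit
    6779672180821913174234)) (.leaf (nat_lit 64454946940484409556994))))) (.node (.node (.node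
    (.node (.leaf (nat_lit 3901556463484451094682)) (.leaf (nat_lit
    2822545425025571851898428937820569702))) (.leaf (nat_lit 42566297431683813802170))) (.node
    (.leaf (nat_lit 0)) (.leaf (nat_lit 30522008231668139360258)))) (.node (.node (.leaf (nat_lit
    14305872255057186193417)) (.leaf (nat_lit 620419248656875522))) (.node (.leaf (nat_lit
    29893860922122318315562)) (.leaf (nat_lit 0)))))) (.node (.node (.node (.node (.node (.leaf
    (nat_lit 79378378678992955)) (.leaf (nat_lit 78115122084913428496556))) (.leaf (nat_lit
    29100134849180078375133))) (.node (.leaf (nat_lit 148097743931397866447437964)) (.leaf (nat_lit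
    1046857910002515970)))) (.node (.node (.leaf (nat_lit 394567066024384247223288024)) (.leaf
    (nat_lit 49641701980455376715882))) (.node (.leaf (nat_lit 31245829342920057481436602892563))
    (.leaf (nat_lit 20384248710932602224837))))) (.node (.node (.node (.leaf (nat_lit 0)) (.leaf
    (nat_lit 21325086820634573602906))) (.node (.leaf (nat_lit 0)) (.leaf (nat_lit
    39842304347479413555202)))) (.node (.node (.leaf (nat_lit 242365524204453890)) (.leaf (nat_lit
    35064264923026227920898))) (.node (.leaf (nat_lit 1168913200233243441843405016)) (.leaf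
    (nat_lit 0))))))) (.node (.node (.node (.node (.node (.node (.leaf (nat_lit 0)) (.leaf (nat_lit
    70038948181922338242719))) (.leaf (nat_lit 31475110926324164919482))) (.node (.leaf (nat_lit
    15947697363079846363160)) (.leaf (nat_lit 1106670182912360450)))) (.node (.node (.leaf (nat_lit
    0)) (.leaf (nat_lit 1484960010306977900))) (.node (.leaf (nat_lit 7046867229376107446456))
    (.leaf (nat_lit 2028653048359944194))))) (.node (.node (.node (.node (.leaf (nat_lit
    5949112968626967871518)) (.leaf (nat_lit 2580228685593445317495488566))) (.leaf (nat_lit 0)))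
    (.node (.leaf (nat_lit 945371323529912788059004341059575557168562208)) (.leaf (nat_lit
    1501304499761971202)))) (.node (.node (.leaf (nat_lit 509720921540308082157158614)) (.leaf
    (nat_lit 30798441274522592280578))) (.node (.leaf (nat_lit 34145748315715179577353)) (.leaf
    (nat_lit 0)))))) (.node (.node (.node (.node (.node (.leaf (nat_lit 0)) (.leaf (nat_lit
    67978320826584843616296))) (.leaf (nat_lit 26480708169319745519806))) (.node (.leaf (nat_lit
    19041800772951285629081)) (.leaf (nat_lit 59529302617029653757954)))) (.node (.node (.leaf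
    (nat_lit 5815416161181481762981)) (.leaf (nat_lit 43604186594904291606601))) (.node (.leaf
    (nat_lit 900213152152585255994523746)) (.leaf (nat_lit 0))))) (.node (.node (.node (.leaf
    (nat_lit 8144437363709036396547)) (.leaf (nat_lit 30520619435262625382574))) (.node (.leaf
    (nat_lit 6899278074938665402519)) (.leaf (nat_lit 1060799159096967170)))) (.node (.node (.leaf
    (nat_lit 0)) (.leaf (nat_lit 40372350990796112199682))) (.node (.leaf (nat_lit
    10369301787496171371506128191505)) (.leaf (nat_lit 2444966366907153277853630562)))))))) (.node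
    (.node (.node (.node (.node (.node (.node (.leaf (nat_lit 0)) (.leaf (nat_lit
    73863016971680211992584))) (.leaf (nat_lit 38718987780461162292917051916507))) (.node (.leaf
    (nat_lit 12979197322027863272858149257341)) (.leaf (nat_lit 1163387124431585282)))) (.node
    (.node (.leaf (nat_lit 10072229503764567097565)) (.leaf (nat_lit 47298895112692228620385)))
    (.node (.leaf (nat_lit 890051050617307147)) (.leaf (nat_lit 2041037388989464578))))) (.node
    (.node (.node (.node (.leaf (nat_lit 4062965474679165485215)) (.leaf (nat_lit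
    76270370557934340079795))) (.leaf (nat_lit 0))) (.node (.leaf (nat_lit
    22003024349333136015451)) (.leaf (nat_lit 1793052952345313282)))) (.node (.node (.leaf (nat_lit
    14226596886625703620877083803882)) (.leaf (nat_lit 26910782358174635851778))) (.node (.leaf
    (nat_lit 0)) (.leaf (nat_lit 63259162869827897589911)))))) (.node (.node (.node (.node (.node
    (.leaf (nat_lit 20552020265579823768010883)) (.leaf (nat_lit 77712502673091680469034))) (.leaf
    (nat_lit 1545593312226470219872593851917344667953791094))) (.node (.leaf (nat_lit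
    16081089622838278815841)) (.leaf (nat_lit 998164268039929858)))) (.node (.node (.leaf (nat_lit
    10865209254533432279079)) (.leaf (nat_lit 1523265118378417111188111520))) (.node (.leaf
    (nat_lit 1027159997587022488919080966)) (.leaf (nat_lit 2115486768710156396))))) (.node (.node
    (.node (.leaf (nat_lit 0)) (.leaf (nat_lit 1324523070332993538))) (.node (.leaf (nat_lit
    26351365337253492752392)) (.leaf (nat_lit 1861787010546891484522580612525827661092094202))))
    (.node (.node (.leaf (nat_lit 18653613879874064336854798631029)) (.leaf (nat_lit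
    1520014433865302018))) (.node (.leaf (nat_lit 1127661115430289448290746374)) (.leaf (nat_lit
    79462413111447778535931401011343))))))) (.node (.node (.node (.node (.node (.node (.leaf
    (nat_lit 1890807172768314097757)) (.leaf (nat_lit 77460240857240174788663))) (.leaf (nat_lit
    12221337140325806964809))) (.node (.leaf (nat_lit 0)) (.leaf (nat_lit
    33454960596495957688322)))) (.node (.node (.leaf (nat_lit 0)) (.leaf (nat_lit
    49171295932277191802986))) (.node (.leaf (nat_lit 510786691162454861233258712)) (.leaf (nat_lit
    19425785178598974619821))))) (.node (.node (.node (.node (.leaf (nat_lit 0)) (.leaf (nat_lit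
    2423522821044443318218653794))) (.leaf (nat_lit 43663898971925712666657))) (.node (.leaf
    (nat_lit 835090962570976317755621459)) (.leaf (nat_lit 1533111438418247682)))) (.node (.node
    (.leaf (nat_lit 18577408114310568423964309292535683416169)) (.leaf (nat_lit
    1051517171124376160952385538))) (.node (.leaf (nat_lit 35082161661168628990036)) (.leaf
    (nat_lit 72829967071369108848766)))))) (.node (.node (.node (.node (.node (.leaf (nat_lit
    4385807138737549934679)) (.leaf (nat_lit 2584307970910883921241833701))) (.leaf (nat_lit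
    42165413310039765221555))) (.node (.leaf (nat_lit 817649359124267365653870127142535268)) (.leaf
    (nat_lit 61036626564781697073176)))) (.node (.node (.leaf (nat_lit 98994526276823282404819104))
    (.leaf (nat_lit 1391800941296091138))) (.node (.leaf (nat_lit
    31919930178052630515349803303143)) (.leaf (nat_lit 41903028837230338834615))))) (.node (.node
    (.node (.leaf (nat_lit 0)) (.leaf (nat_lit 1431534528260036829603168291))) (.node (.leaf
    (nat_lit 916836910877322304681148689)) (.leaf (nat_lit 1809514974815879093358428392)))) (.node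
    (.node (.leaf (nat_lit 517889209086578857406103578)) (.leaf (nat_lit
    1114230119567558357008252930))) (.node (.leaf (nat_lit 40193861700510770773337974309123))
    (.leaf (nat_lit 72991381010033773052010))))))))) (.node (.node (.node (.node (.node (.node
    (.node (.node (.leaf (nat_lit 451947200624642424870)) (.leaf (nat_lit
    76099697072076201590975))) (.leaf (nat_lit 36405818993668031447179))) (.node (.leaf (nat_lit
    636064774743829568765034521)) (.leaf (nat_lit 1157475900812558338)))) (.node (.node (.leaf
    (nat_lit 10399013380538179316059237318788)) (.leaf (nat_lit 1538071849376157388429852956)))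
    (.node (.leaf (nat_lit 903831033633489997466435589)) (.leaf (nat_lit 1403777595039940610)))))
    (.node (.node (.node (.node (.leaf (nat_lit 137505418091036674)) (.leaf (nat_lit
    86791921377902142619499186421903))) (.leaf (nat_lit 42017508766090669523041))) (.node (.leaf
    (nat_lit 1129979518812644978830554634143281966329693016731351554680029391971287307)) (.leaf
    (nat_lit 60751613743562804625410)))) (.node (.node (.leaf (nat_lit 5013054430748258533468))
    (.leaf (nat_lit 20007082623638918332418))) (.node (.leaf (nat_lit 0)) (.leaf (nat_lit 0))))))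
    (.node (.node (.node (.node (.node (.leaf (nat_lit 2910016946004948090899)) (.leaf (nat_lit
    81552931757415411283784731263095))) (.leaf (nat_lit 0))) (.node (.leaf (nat_lit
    21536707849184614744105)) (.leaf (nat_lit 1732672541161553922)))) (.node (.node (.leaf (nat_lit
    0)) (.leaf (nat_lit 22200383609093272514420650868879))) (.node (.leaf (nat_lit 0)) (.leaf
    (nat_lit 20697872070882397192215))))) (.node (.node (.node (.leaf (nat_lit
    1485007800300575326304)) (.leaf (nat_lit 44189642156375160324279))) (.node (.leaf (nat_lit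
    224413671522854501930500357)) (.leaf (nat_lit 1074027546699497474)))) (.node (.node (.leaf
    (nat_lit 9904079459524235614673258742008)) (.leaf (nat_lit 50525770672655815669972994))) (.node
    (.leaf (nat_lit 0)) (.leaf (nat_lit 71381926792872904032329))))))) (.node (.node (.node (.node
    (.node (.node (.leaf (nat_lit 585701155186982191179)) (.leaf (nat_lit
    77280286160837377458298))) (.leaf (nat_lit 28740392095204283449399))) (.node (.leaf (nat_lit
    627426925886963771)) (.leaf (nat_lit 347813911988404226)))) (.node (.node (.leaf (nat_lit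
    10667127712292102406200)) (.leaf (nat_lit 1491159280202678274))) (.node (.leaf (nat_lit 0))
    (.leaf (nat_lit 1935203605200109769))))) (.node (.node (.node (.node (.leaf (nat_lit
    49967808435585026)) (.leaf (nat_lit 80958954187685146943674500055274))) (.leaf (nat_lit
    21767822188377851232348))) (.node (.leaf (nat_lit 0)) (.leaf (nat_lit 1727610492706488322))))
    (.node (.node (.leaf (nat_lit 0)) (.leaf (nat_lit 8911384076910858534914))) (.node (.leaf
    (nat_lit 0)) (.leaf (nat_lit 72566956553256055275782)))))) (.node (.node (.node (.node (.node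
    (.leaf (nat_lit 3897167625069139390344724807813)) (.leaf (nat_lit 41875360418473670017055)))
    (.leaf (nat_lit 0))) (.node (.leaf (nat_lit 686841927714518825634627665)) (.leaf (nat_lit
    1835414146066284546)))) (.node (.node (.leaf (nat_lit 2993065162595138470071)) (.leaf (nat_lit
    1681213756025023635896139790))) (.node (.leaf (nat_lit 12843849021543084654604)) (.leaf
    (nat_lit 2651604529869794853732181917891966658035580960))))) (.node (.node (.node (.leaf
    (nat_lit 269289729775955913686122510)) (.leaf (nat_lit 1449668314096037687036477500))) (.node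
    (.leaf (nat_lit 0)) (.leaf (nat_lit 32578471551474440780033342898311)))) (.node (.node (.leaf
    (nat_lit 597515363872013331850330353)) (.leaf (nat_lit 820971827420594178))) (.node (.leaf
    (nat_lit 37148153508208757112923)) (.leaf (nat_lit 2454042497665575457485226291)))))))) (.node
    (.node (.node (.node (.node (.node (.node (.leaf (nat_lit 0)) (.leaf (nat_lit 0))) (.leaf
    (nat_lit 38328664209929835577500))) (.node (.leaf (nat_lit 18963832905598794661950)) (.leaf
    (nat_lit 1010546358106587138)))) (.node (.node (.leaf (nat_lit 10394797153328988094476)) (.leaf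
    (nat_lit 0))) (.node (.leaf (nat_lit 6973079408381461201082)) (.leaf (nat_lit
    883223321513057329317507484680061033))))) (.node (.node (.node (.node (.leaf (nat_lit
    3693997942373963989015)) (.leaf (nat_lit 2528243271504472799470420184))) (.leaf (nat_lit
    24530889471704961319084))) (.node (.leaf (nat_lit 6262843024643956342975)) (.leaf (nat_lit
    1873414161275420674)))) (.node (.node (.leaf (nat_lit 12641003500683678384218)) (.leaf (nat_lit
    1407986620040347650))) (.node (.leaf (nat_lit 0)) (.leaf (nat_lit 35101465108848314613866))))))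
    (.node (.node (.node (.node (.node (.leaf (nat_lit 3500305579181244350472)) (.leaf (nat_lit
    68379441808438246703159))) (.leaf (nat_lit 13858520440392953036841))) (.node (.leaf (nat_lit
    6779323849748617822391)) (.leaf (nat_lit 1551403918880276482)))) (.node (.node (.leaf (nat_lit
    12853159632680777875594)) (.leaf (nat_lit 0))) (.node (.leaf (nat_lit 7969232300999834796044))
    (.leaf (nat_lit 49254893878589343858718))))) (.node (.node (.node (.leaf (nat_lit
    250238912222593035)) (.leaf (nat_lit 0))) (.node (.leaf (nat_lit 26176729395395054207039))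
    (.leaf (nat_lit 64874207571151732015123)))) (.node (.node (.leaf (nat_lit
    245569827166206980926996642)) (.leaf (nat_lit 1778972672912245144332533762))) (.node (.leaf
    (nat_lit 0)) (.leaf (nat_lit 35436599317772434786900735492306))))))) (.node (.node (.node
    (.node (.node (.node (.leaf (nat_lit 24068262287507458)) (.leaf (nat_lit
    2363366687754053335277371617))) (.leaf (nat_lit 1313689090063233425774739570))) (.node (.leaf
    (nat_lit 22461322799794270894901183185127)) (.leaf (nat_lit 604660283503411202)))) (.node
    (.node (.leaf (nat_lit 347576766500208615891402812)) (.leaf (nat_lit 0))) (.node (.leaf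
    (nat_lit 0)) (.leaf (nat_lit 28229522916983793975314))))) (.node (.node (.node (.leaf (nat_lit
    0)) (.leaf (nat_lit 0))) (.node (.leaf (nat_lit 25448074418139527577602)) (.leaf (nat_lit
    1529593396346355714)))) (.node (.node (.leaf (nat_lit 9583583876880783310887)) (.leaf (nat_lit
    976063706364510210))) (.node (.leaf (nat_lit
    35413254480062054475404565301332381955693436535031)) (.leaf (nat_lit
    2164653975016709590264053766)))))) (.node (.node (.node (.node (.node (.leaf (nat_lit
    4644076332273753063589)) (.leaf (nat_lit 3023368996297470288312125348106554801557864480)))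
    (.leaf (nat_lit 1013863833109756582526451874))) (.node (.leaf (nat_lit
    25244234070561311286017290207466)) (.leaf (nat_lit 1469215605092646914)))) (.node (.node (.leaf
    (nat_lit 0)) (.leaf (nat_lit 1425156069633687554))) (.node (.leaf (nat_lit 0)) (.leaf (nat_lit
    1453906209286810093417136389))))) (.node (.node (.node (.leaf (nat_lit
    265669653300403759074246733)) (.leaf (nat_lit 47261130091054628775470523810049))) (.node (.leaf
    (nat_lit 926817863243982222292942874)) (.leaf (nat_lit 2016394232444616812)))) (.node (.node
    (.leaf (nat_lit 18631778141111117348887)) (.leaf (nat_lit 1128764989331603458))) (.node (.leaf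
    (nat_lit 10385831496930669297672)) (.leaf (nat_lit 75379604567576467931169))))))))))))) (.node
    (.node (.node (.node (.node (.node (.node (.node (.node (.node (.node (.node (.leaf (nat_lit
    1)) (.leaf (nat_lit 42438330212118448767031))) (.leaf (nat_lit 37757015411664839966886)))
    (.node (.leaf (nat_lit 18438081276693887254536)) (.leaf (nat_lit 1311583029654847490)))) (.node
    (.node (.leaf (nat_lit 0)) (.leaf (nat_lit 1547319442816780951491969224))) (.node (.leaf
    (nat_lit 924856439051389624887017688)) (.leaf (nat_lit 689300806756832275213844712))))) (.node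
    (.node (.node (.node (.leaf (nat_lit 152479214032923200338526302)) (.leaf (nat_lit
    74084383674418111643796))) (.leaf (nat_lit 15157784855034611735813236785284))) (.node (.leaf
    (nat_lit 24590600520892810886335867191527)) (.leaf (nat_lit 58104499352442335592450)))) (.node
    (.node (.leaf (nat_lit 161939715021776543180108805838340285)) (.leaf (nat_lit
    15930345134457371164674))) (.node (.leaf (nat_lit 9481877841840122822854)) (.leaf (nat_lit
    70421092959807640633377)))))) (.node (.node (.node (.node (.node (.leaf (nat_lit
    47904137563646501411094635)) (.leaf (nat_lit 74857859456788594884638))) (.leaf (nat_lit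
    1307616749343031176336769131))) (.node (.leaf (nat_lit 15393938835153115873439)) (.leaf
    (nat_lit 899083177862234114)))) (.node (.node (.leaf (nat_lit 377196394476963792599384099))
    (.leaf (nat_lit 48424181827724017598500))) (.node (.leaf (nat_lit 30668647673939133399258))
    (.leaf (nat_lit 73539604283644550729492530004129))))) (.node (.node (.node (.leaf (nat_lit
    95989577013133420)) (.leaf (nat_lit 1458886147475183252120273095))) (.node (.leaf (nat_lit
    25378901239324874047490)) (.leaf (nat_lit 30273052054305286324226)))) (.node (.node (.leaf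
    (nat_lit 9505189718111310512298)) (.leaf (nat_lit 26228271829112844386306))) (.node (.leaf
    (nat_lit 35409606554472014872604)) (.leaf (nat_lit 0))))))) (.node (.node (.node (.node (.node
    (.node (.leaf (nat_lit 986911505062023069739)) (.leaf (nat_lit 75412106765737505521734)))
    (.leaf (nat_lit 1061901764815840456640561167))) (.node (.leaf (nat_lit
    618975733681563391618187467)) (.leaf (nat_lit 1052204671839633410)))) (.node (.node (.leaf
    (nat_lit 10639392853767208763448)) (.leaf (nat_lit 39158495234273992441984))) (.node (.leaf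
    (nat_lit 0)) (.leaf (nat_lit 1487517199475277826))))) (.node (.node (.node (.node (.leaf
    (nat_lit 6293733101794977051419888386229)) (.leaf (nat_lit 72442574476328705392643))) (.leaf
    (nat_lit 15638482049378229046874235797629))) (.node (.leaf (nat_lit 24769548993252336795813))
    (.leaf (nat_lit 1668922659414605826)))) (.node (.node (.leaf (nat_lit 15154445282788522524743))
    (.leaf (nat_lit 8408702680771296690178))) (.node (.leaf (nat_lit 1120531798514562585852117099))
    (.leaf (nat_lit 0)))))) (.node (.node (.node (.node (.node (.leaf (nat_lit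
    3555717165437818175550)) (.leaf (nat_lit 79115764220475071463488))) (.leaf (nat_lit
    15157810257067768110466235433217))) (.node (.leaf (nat_lit 22302259269310311759913)) (.leaf
    (nat_lit 1244737017653362690)))) (.node (.node (.leaf (nat_lit 343693054076649483)) (.leaf
    (nat_lit 1431109602990095869677928610))) (.node (.leaf (nat_lit 0)) (.leaf (nat_lit
    69564794569642165338168))))) (.node (.node (.node (.leaf (nat_lit 0)) (.leaf (nat_lit
    49370555103944119588260088709265))) (.node (.leaf (nat_lit 27158429512205263372383)) (.leaf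
    (nat_lit 42880764533294573486206)))) (.node (.node (.leaf (nat_lit 0)) (.leaf (nat_lit
    9501700439061737701378))) (.node (.leaf (nat_lit 36613130092110711816428)) (.leaf (nat_lit
    71561802249676005769281)))))))) (.node (.node (.node (.node (.node (.node (.node (.leaf
    (nat_lit 571851740834145959979)) (.leaf (nat_lit 2495147880319102827154898979))) (.leaf
    (nat_lit 0))) (.node (.leaf (nat_lit 4021509430858966302906)) (.leaf (nat_lit
    1191675136252706818)))) (.node (.node (.leaf (nat_lit 0)) (.leaf (nat_lit
    45956845785944139432000))) (.node (.leaf (nat_lit 900515402018623430326485221)) (.leaf (nat_lit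
    1545428496629214734931071496754692201))))) (.node (.node (.node (.node (.leaf (nat_lit
    145224958131079900505047109)) (.leaf (nat_lit 46400426595373746946235))) (.leaf (nat_lit
    43106743742492733276339))) (.node (.leaf (nat_lit 23866214180148132118530)) (.leaf (nat_lit
    59109854084803011477506)))) (.node (.node (.leaf (nat_lit 483728808652054787287941134)) (.leaf
    (nat_lit 1351550681051430914))) (.node (.leaf (nat_lit 0)) (.leaf (nat_lit
    46819404059744892289104)))))) (.node (.node (.node (.node (.node (.leaf (nat_lit 0)) (.leaf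
    (nat_lit 78465618246481050009653))) (.leaf (nat_lit 38840563330000919658652))) (.node (.leaf
    (nat_lit 15615303705245650190484)) (.leaf (nat_lit 55964561202828758155266)))) (.node (.node
    (.leaf (nat_lit 10782198906004170801183)) (.leaf (nat_lit 0))) (.node (.leaf (nat_lit
    12742413179450451755030)) (.leaf (nat_lit 74173223566360266742095864463387))))) (.node (.node
    (.node (.leaf (nat_lit 192676781269057737)) (.leaf (nat_lit 1455863828319668497581080590)))
    (.node (.leaf (nat_lit 0)) (.leaf (nat_lit 2106281406807908047388934146)))) (.node (.node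
    (.leaf (nat_lit 8582870249093122425012)) (.leaf (nat_lit 8777660386706721013762))) (.node
    (.leaf (nat_lit 0)) (.leaf (nat_lit 42557940327810095841533))))))) (.node (.node (.node (.node
    (.node (.node (.leaf (nat_lit 58180043910205716688011345)) (.leaf (nat_lit
    77100526673558631546971))) (.leaf (nat_lit 0))) (.node (.leaf (nat_lit 0)) (.leaf (nat_lit
    390879609194938370)))) (.node (.node (.leaf (nat_lit 345612003775265768372174853)) (.leaf
    (nat_lit 1493551860454391810))) (.node (.leaf (nat_lit 0)) (.leaf (nat_lit
    51312363675207870172983577608474))))) (.node (.node (.node (.node (.leaf (nat_lit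
    194223776949469186)) (.leaf (nat_lit 68670098360926264819871))) (.leaf (nat_lit
    1350276707852091403))) (.node (.leaf (nat_lit 0)) (.leaf (nat_lit 1402084699320483842))))
    (.node (.node (.leaf (nat_lit 5531289881777362544286494949519)) (.leaf (nat_lit
    7011370821664043630594))) (.node (.leaf (nat_lit 29216268527790468063249285054481)) (.leaf
    (nat_lit 64957813823273504538842)))))) (.node (.node (.node (.node (.node (.leaf (nat_lit
    3523355565715569705106)) (.leaf (nat_lit 0))) (.leaf (nat_lit 0))) (.node (.leaf (nat_lit
    19664378104264653996070)) (.leaf (nat_lit 60815311236192029311072)))) (.node (.node (.leaf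
    (nat_lit 2970005606671814164666)) (.leaf (nat_lit 41119359836549948833794))) (.node (.leaf
    (nat_lit 0)) (.leaf (nat_lit 1696748906589478125958332657))))) (.node (.node (.node (.leaf
    (nat_lit 0)) (.leaf (nat_lit 1528278630635333609937174742))) (.node (.leaf (nat_lit
    9592833583861800829054)) (.leaf (nat_lit 1540432845829439490)))) (.node (.node (.leaf (nat_lit
    600095920319102530128969810)) (.leaf (nat_lit 240570434033156098))) (.node (.leaf (nat_lit
    1218002600288947588150067225)) (.leaf (nat_lit 74092615123672055873607))))))))) (.node (.node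
    (.node (.node (.node (.node (.node (.node (.leaf (nat_lit 5911262273863691)) (.leaf (nat_lit
    75813821799988090568826))) (.leaf (nat_lit 0))) (.node (.leaf (nat_lit 0)) (.leaf (nat_lit
    906400024018157570)))) (.node (.node (.leaf (nat_lit 9703282659097059721312)) (.leaf (nat_lit
    47137492294007131406354))) (.node (.leaf (nat_lit 6779385217134696267872)) (.leaf (nat_lit
    1490331038709317634))))) (.node (.node (.node (.node (.leaf (nat_lit 3966121334439959265283))
    (.leaf (nat_lit 76833035235968539623510))) (.leaf (nat_lit 1402529859690361938803687450)))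
    (.node (.leaf (nat_lit 0)) (.leaf (nat_lit 1434031361852833794)))) (.node (.node (.leaf
    (nat_lit 440521820454649867)) (.leaf (nat_lit 848414022742179842))) (.node (.leaf (nat_lit 0))
    (.leaf (nat_lit 1534178324453374113276493964)))))) (.node (.node (.node (.node (.node (.leaf
    (nat_lit 663543719310006311423077318772)) (.leaf (nat_lit 75818424199522719826150))) (.leaf
    (nat_lit 37973570298911366774837))) (.node (.leaf (nat_lit 14895878152821309374506)) (.leaf
    (nat_lit 1028843872270286850)))) (.node (.node (.leaf (nat_lit 5137493248892282798110)) (.leaf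
    (nat_lit 49687820811016027177212))) (.node (.leaf (nat_lit 0)) (.leaf (nat_lit
    68776153742784457801798))))) (.node (.node (.node (.leaf (nat_lit 7383499739916767789126))
    (.leaf (nat_lit 0))) (.node (.leaf (nat_lit 860308011503470893104103628)) (.leaf (nat_lit
    1951244075395055618)))) (.node (.node (.leaf (nat_lit 508781606840958978)) (.leaf (nat_lit
    31241177911956986855426))) (.node (.leaf (nat_lit 35363483516239278702689)) (.leaf (nat_lit
    71224211298809372934266))))))) (.node (.node (.node (.node (.node (.node (.leaf (nat_lit 0))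
    (.leaf (nat_lit 0))) (.leaf (nat_lit 38236480029483606409342))) (.node (.leaf (nat_lit 0))
    (.leaf (nat_lit 1682990275036839938)))) (.node (.node (.leaf (nat_lit 10916190416805380161712))
    (.leaf (nat_lit 1840035173478932859723049642723229080989728886))) (.node (.leaf (nat_lit 0))
    (.leaf (nat_lit 2030623373196918786))))) (.node (.node (.node (.node (.leaf (nat_lit
    1466554018021008146619)) (.leaf (nat_lit 2774718325725596510011341497828769891))) (.leaf
    (nat_lit 26411573413673364029483))) (.node (.leaf (nat_lit 25101847248459750637632)) (.leaf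
    (nat_lit 1433046852269375490)))) (.node (.node (.leaf (nat_lit 237106751515636072762835160))
    (.leaf (nat_lit 36899702730247603683330))) (.node (.leaf (nat_lit 0)) (.leaf (nat_lit
    783859987565189457542119628)))))) (.node (.node (.node (.node (.node (.leaf (nat_lit 0)) (.leaf
    (nat_lit 79392583035672848433245))) (.leaf (nat_lit 29165073379266681569288))) (.node (.leaf
    (nat_lit 22731357453441623589034)) (.leaf (nat_lit 1774896038231015426)))) (.node (.node (.leaf
    (nat_lit 433262067827751704015929573)) (.leaf (nat_lit 0))) (.node (.leaf (nat_lit 0)) (.leaf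
    (nat_lit 2631219738474744178101812761767057272324227104))))) (.node (.node (.node (.leaf
    (nat_lit 8162884107834285555821)) (.leaf (nat_lit 0))) (.node (.leaf (nat_lit
    6871607958879640682649)) (.leaf (nat_lit 24171837496578015428860)))) (.node (.node (.leaf
    (nat_lit 17607525603002238042145)) (.leaf (nat_lit 1924704506345817309186))) (.node (.leaf
    (nat_lit 32573309189719939284995)) (.leaf (nat_lit 2126724245640518588084518994)))))))) (.node
    (.node (.node (.node (.node (.node (.node (.leaf (nat_lit 0)) (.leaf (nat_lit
    76459379873368015831170))) (.leaf (nat_lit 1461257092030800265480148092391007934690623520)))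
    (.node (.leaf (nat_lit 15181838853831867433130)) (.leaf (nat_lit 1756737135546859522)))) (.node
    (.node (.leaf (nat_lit 0)) (.leaf (nat_lit 48105853890520944935049))) (.node (.leaf (nat_lit
    952509575342032906044571662)) (.leaf (nat_lit 1457117627112620034))))) (.node (.node (.node
    (.node (.leaf (nat_lit 5617066086039933878327)) (.leaf (nat_lit 0))) (.leaf (nat_lit 0)))
    (.node (.leaf (nat_lit 20383824205470396252311)) (.leaf (nat_lit 24651342486702817214466))))
    (.node (.node (.leaf (nat_lit 15048097421633226211341)) (.leaf (nat_lit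
    28967594467215253110786))) (.node (.leaf (nat_lit 0)) (.leaf (nat_lit 0)))))) (.node (.node
    (.node (.node (.node (.leaf (nat_lit 23574736032144476357263438)) (.leaf (nat_lit 0))) (.leaf
    (nat_lit 41025975018895433728002))) (.node (.leaf (nat_lit 16002690679092986183772)) (.leaf
    (nat_lit 20085668464097277181954)))) (.node (.node (.leaf (nat_lit 12705542753898727669911))
    (.leaf (nat_lit 30382358649144384618529))) (.node (.leaf (nat_lit 963518270101651467)) (.leaf
    (nat_lit 69168177046146068447235))))) (.node (.node (.node (.leaf (nat_lit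
    253880731098503857888821262)) (.leaf (nat_lit 0))) (.node (.leaf (nat_lit 818272784072441867))
    (.leaf (nat_lit 2441135005085474210637571034728501249332216030)))) (.node (.node (.leaf
    (nat_lit 287824394368188418)) (.leaf (nat_lit 1129493264926855083290001410))) (.node (.leaf
    (nat_lit 36239733555891691257879)) (.leaf (nat_lit 74092117615860445806750))))))) (.node (.node
    (.node (.node (.node (.node (.leaf (nat_lit 0)) (.leaf (nat_lit 2524306127173231576650875084)))
    (.leaf (nat_lit 42789462903268232867463454589208))) (.node (.leaf (nat_lit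
    15269421905014404874399)) (.leaf (nat_lit 1207016475966177282)))) (.node (.node (.leaf (nat_lit
    11322039903793342251145)) (.leaf (nat_lit 1609551359402629510935609612))) (.node (.leaf
    (nat_lit 30409675917679944466485)) (.leaf (nat_lit 53509312196510377097477168103694))))) (.node
    (.node (.node (.leaf (nat_lit 1494226949439685328939)) (.leaf (nat_lit 0))) (.node (.leaf
    (nat_lit 0)) (.leaf (nat_lit 1543244589119438850)))) (.node (.node (.leaf (nat_lit
    17378781195607462105887430693817816490899260637302)) (.leaf (nat_lit 22561978352185402130434)))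
    (.node (.leaf (nat_lit 312364542237272873415999513)) (.leaf (nat_lit
    60996221151815586218196)))))) (.node (.node (.node (.node (.node (.leaf (nat_lit 0)) (.leaf
    (nat_lit 42936078039420277817530))) (.leaf (nat_lit 473761341271221119261868038))) (.node
    (.leaf (nat_lit 709338652370665474)) (.leaf (nat_lit 1208147495474036738)))) (.node (.node
    (.leaf (nat_lit 454559037019214301393846403)) (.leaf (nat_lit 1350564986056998914))) (.node
    (.leaf (nat_lit 0)) (.leaf (nat_lit 22173627642295942840328))))) (.node (.node (.node (.leaf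
    (nat_lit 0)) (.leaf (nat_lit 0))) (.node (.leaf (nat_lit 918944313012384263634682018)) (.leaf
    (nat_lit 1664299959785401013158281448)))) (.node (.node (.leaf (nat_lit
    609460552769783273447751774)) (.leaf (nat_lit 1647241746108776450))) (.node (.leaf (nat_lit
    10275148780465260003340)) (.leaf (nat_lit 45676723725112738442586479722771)))))))))) (.node
    (.node (.node (.node (.node (.node (.node (.node (.node (.leaf (nat_lit 147573952731410530316))
    (.leaf (nat_lit 73486511154465975030440180121819))) (.leaf (nat_lit
    1225407985765546187529912335))) (.node (.leaf (nat_lit 490829416906265410740158541)) (.leaf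
    (nat_lit 1103854565561860098)))) (.node (.node (.leaf (nat_lit 8508763374928179429451)) (.leaf
    (nat_lit 47062930416955379875990))) (.node (.leaf (nat_lit 582720042064596185215402042)) (.leaf
    (nat_lit 33542814991385700270082))))) (.node (.node (.node (.node (.leaf (nat_lit
    3947674590220220825748)) (.leaf (nat_lit 80443989178396585426981))) (.leaf (nat_lit 0))) (.node
    (.leaf (nat_lit 19664379793810298961957)) (.leaf (nat_lit 59713980167725783384066)))) (.node
    (.node (.leaf (nat_lit 14241319909703781908503)) (.leaf (nat_lit 1547034829038682114))) (.node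
    (.leaf (nat_lit 0)) (.leaf (nat_lit 2124298640302848458736533681)))))) (.node (.node (.node
    (.node (.node (.leaf (nat_lit 64830399570581831408681072)) (.leaf (nat_lit
    2243235735147116478607917154))) (.leaf (nat_lit 810753098340908457884123377))) (.node (.leaf
    (nat_lit 21394227888456951070893)) (.leaf (nat_lit 1203779960410603522)))) (.node (.node (.leaf
    (nat_lit 391249031878032539368292419)) (.leaf (nat_lit 28025766263875338174676))) (.node (.leaf
    (nat_lit 420272032465959341493846287)) (.leaf (nat_lit 73697879394080694802749342416923)))))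
    (.node (.node (.node (.leaf (nat_lit 221839216109196765332504751)) (.leaf (nat_lit
    44410999144249223741448))) (.node (.leaf (nat_lit 22597950424630689988617)) (.leaf (nat_lit
    58953129090415042166786)))) (.node (.node (.leaf (nat_lit 7725083416287273746434)) (.leaf
    (nat_lit 517681792690552834))) (.node (.leaf (nat_lit 35561761376307517784186)) (.leaf (nat_lit
    68908517931936532070579))))))) (.node (.node (.node (.node (.node (.node (.leaf (nat_lit
    36571315801579503898329156)) (.leaf (nat_lit 73894461526954834329770))) (.leaf (nat_lit 0)))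
    (.node (.leaf (nat_lit 393522556398239449442680992)) (.leaf (nat_lit 1737596871490273282))))
    (.node (.node (.leaf (nat_lit 3800090228562554192058)) (.leaf (nat_lit
    1365825552613056906612965496))) (.node (.leaf (nat_lit 7046866947815231389737)) (.leaf (nat_lit
    1487095098679361538))))) (.node (.node (.node (.node (.leaf (nat_lit 5838432504081631346867))
    (.leaf (nat_lit 81587404298730877419590))) (.leaf (nat_lit 15394253545222418137270))) (.node
    (.leaf (nat_lit 21606510550091806474326)) (.leaf (nat_lit 1434594827202330626)))) (.node (.node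
    (.leaf (nat_lit 15500327637822168301648)) (.leaf (nat_lit 8242683679181178601474))) (.node
    (.leaf (nat_lit 34390169503308517146633)) (.leaf (nat_lit
    2420316939443449483550980460004114620)))))) (.node (.node (.node (.node (.node (.leaf (nat_lit
    3472703439573908389897)) (.leaf (nat_lit 78940330721194268623039))) (.leaf (nat_lit
    1806856079864962002499155479984236522748122501319075967263309928))) (.node (.leaf (nat_lit
    853377931587899413390445622923864782693466144)) (.leaf (nat_lit 1659913372805758978)))) (.node
    (.node (.leaf (nat_lit 13148130766085788205112)) (.leaf (nat_lit 674448842832915598745534659)))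
    (.node (.leaf (nat_lit 28929976744060131672149)) (.leaf (nat_lit 0))))) (.node (.node (.node
    (.leaf (nat_lit 1604913044884715405324)) (.leaf (nat_lit 46150549685784088346821))) (.node
    (.leaf (nat_lit 12797787747907887366250)) (.leaf (nat_lit 796916273941446658)))) (.node (.node
    (.leaf (nat_lit 17769367803498915364919)) (.leaf (nat_lit 30775472919962055802882))) (.node
    (.leaf (nat_lit 11368331864915191201990)) (.leaf (nat_lit 74370176049711809757193))))))))
    (.node (.node (.node (.node (.node (.node (.node (.leaf (nat_lit 742496086172404744242)) (.leaf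
    (nat_lit 75628333731414938943580))) (.leaf (nat_lit 38512526479106225930292))) (.node (.leaf
    (nat_lit 0)) (.leaf (nat_lit 1126936046228078594)))) (.node (.node (.leaf (nat_lit
    10196651287728993009737)) (.leaf (nat_lit 0))) (.node (.leaf (nat_lit 29068243299522041806872))
    (.leaf (nat_lit 1509471835341848578))))) (.node (.node (.node (.node (.leaf (nat_lit
    5013068917041587749035)) (.leaf (nat_lit 73069783618391191519419))) (.leaf (nat_lit
    19629242109376992437708167381201))) (.node (.leaf (nat_lit 21472177461336115183647)) (.leaf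
    (nat_lit 1361411032609849346)))) (.node (.node (.leaf (nat_lit 3089923236670325588165)) (.leaf
    (nat_lit 22271425941521756782594))) (.node (.leaf (nat_lit 33781629751914649551059)) (.leaf
    (nat_lit 66100879909950865998003)))))) (.node (.node (.node (.node (.node (.leaf (nat_lit
    3108295941830043959425)) (.leaf (nat_lit 1411645744011667142181388529))) (.leaf (nat_lit
    43897974293025270601067163615333))) (.node (.leaf (nat_lit 21993610127516790620179)) (.leaf
    (nat_lit 824353143503585282)))) (.node (.node (.leaf (nat_lit 410291388872958817599750179))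
    (.leaf (nat_lit 38402070783419398422572))) (.node (.leaf (nat_lit 12802274040663890919443))
    (.leaf (nat_lit 953556004873440451530850411))))) (.node (.node (.node (.leaf (nat_lit
    7697096923140405264550)) (.leaf (nat_lit 1451028088151099679212568590))) (.node (.leaf (nat_lit
    26725187882473920594077)) (.leaf (nat_lit 38129694773051092920511762858085)))) (.node (.node
    (.leaf (nat_lit 494567618733277186)) (.leaf (nat_lit 32684641832872941125634))) (.node (.leaf
    (nat_lit 1008699264471269435)) (.leaf (nat_lit 41903028558959407726782))))))) (.node (.node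
    (.node (.node (.node (.node (.leaf (nat_lit 1904680933521224826968)) (.leaf (nat_lit 0)))
    (.leaf (nat_lit 0))) (.node (.leaf (nat_lit 7291205374489741426691)) (.leaf (nat_lit
    1818259561682344424688058370)))) (.node (.node (.leaf (nat_lit 372205692346697226054270996))
    (.leaf (nat_lit 1583136654903226960338747653))) (.node (.leaf (nat_lit
    30257869838023416545445)) (.leaf (nat_lit 66266632493869209682000))))) (.node (.node (.node
    (.node (.leaf (nat_lit 0)) (.leaf (nat_lit 0))) (.leaf (nat_lit 1355343394871836683))) (.node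
    (.leaf (nat_lit 5995373539842895052853)) (.leaf (nat_lit 1336501107056312322)))) (.node (.node
    (.leaf (nat_lit 490907353114345483)) (.leaf (nat_lit 37720589174852093673474))) (.node (.leaf
    (nat_lit 0)) (.leaf (nat_lit 72441492699441039929158589022418)))))) (.node (.node (.node (.node
    (.node (.leaf (nat_lit 3089913515870844551319)) (.leaf (nat_lit 79673918687329504133290)))
    (.leaf (nat_lit 29260842818712967999865212961002))) (.node (.leaf (nat_lit
    399109023568234031232581667)) (.leaf (nat_lit 1996128066303683755392630882)))) (.node (.node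
    (.leaf (nat_lit 3182145274702058422342)) (.leaf (nat_lit 1302432619010588674))) (.node (.leaf
    (nat_lit 9412699032688416456713)) (.leaf (nat_lit 1422823437754603494164398178))))) (.node
    (.node (.node (.leaf (nat_lit 295440217170669312778960954)) (.leaf (nat_lit
    1437608165727293976348983373))) (.node (.leaf (nat_lit 374623530120348129523138722)) (.leaf
    (nat_lit 65686090914084964990980)))) (.node (.node (.leaf (nat_lit 18415022142493401743445))
    (.leaf (nat_lit 1284279699215876098))) (.node (.leaf (nat_lit 33767903627991069163626)) (.leaf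
    (nat_lit 71833814886741734260890))))))))) (.node (.node (.node (.node (.node (.node (.node
    (.node (.leaf (nat_lit 451948185718341435422)) (.leaf (nat_lit 0))) (.leaf (nat_lit
    30599062703860686717115))) (.node (.leaf (nat_lit 0)) (.leaf (nat_lit 899926271352504322))))
    (.node (.node (.leaf (nat_lit 0)) (.leaf (nat_lit 1393627015361462283))) (.node (.leaf (nat_lit
    916091519419444472148394146)) (.leaf (nat_lit 1856811492746330114))))) (.node (.node (.node
    (.node (.leaf (nat_lit 5036118903021862322178)) (.leaf (nat_lit
    2865210863874835363570593627818388920583323871))) (.leaf (nat_lit 42566628587182892449826)))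
    (.node (.leaf (nat_lit 907214983194608259409537825304193470902567030)) (.leaf (nat_lit
    35949964084544534675458)))) (.node (.node (.leaf (nat_lit 14605341364203555061855)) (.leaf
    (nat_lit 17890318460023598153730))) (.node (.leaf (nat_lit 1022348326940573707)) (.leaf
    (nat_lit 2336149908293863254050210095)))))) (.node (.node (.node (.node (.node (.leaf (nat_lit
    92032092924781286421430278)) (.leaf (nat_lit 2567378195750021915641905337))) (.leaf (nat_lit
    30691167933067029577759))) (.node (.leaf (nat_lit 24719084665826671321177412418858612359267))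
    (.leaf (nat_lit 1106108959535792130)))) (.node (.node (.leaf (nat_lit 12235175972635140096126))
    (.leaf (nat_lit 1639472854434387427556851925))) (.node (.leaf (nat_lit 0)) (.leaf (nat_lit
    63586676876331966464024))))) (.node (.node (.node (.leaf (nat_lit 229690603267555339)) (.leaf
    (nat_lit 1468889421078138053913215089))) (.node (.leaf (nat_lit 833862514891378682612678770))
    (.leaf (nat_lit 1000562466108866562)))) (.node (.node (.leaf (nat_lit 281209277148954626))
    (.leaf (nat_lit 1155785685152694274))) (.node (.leaf (nat_lit 684564746698150303670468691))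
    (.leaf (nat_lit 54096802506346829381644))))))) (.node (.node (.node (.node (.node (.node (.leaf
    (nat_lit 0)) (.leaf (nat_lit 77187928028468994048091))) (.leaf (nat_lit
    39417279378725240242348))) (.node (.leaf (nat_lit 0)) (.leaf (nat_lit 1777003548618391554))))
    (.node (.node (.leaf (nat_lit 0)) (.leaf (nat_lit 0))) (.node (.leaf (nat_lit
    970472100992016770148860103)) (.leaf (nat_lit 2118705750215872965419204662))))) (.node (.node
    (.node (.node (.leaf (nat_lit 50301767469450784229643013880938598)) (.leaf (nat_lit
    81919668754843479244972))) (.leaf (nat_lit 44130165214080628097121))) (.node (.leaf (nat_lit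
    25244549573109050703925)) (.leaf (nat_lit 1780809254714867714)))) (.node (.node (.leaf (nat_lit
    517586571711961339332395066)) (.leaf (nat_lit 1556324121745424386))) (.node (.leaf (nat_lit
    895122736978985068)) (.leaf (nat_lit 0)))))) (.node (.node (.node (.node (.node (.leaf (nat_lit
    0)) (.leaf (nat_lit 2546679929456911161745473797))) (.leaf (nat_lit
    1367006789870936415336136764))) (.node (.leaf (nat_lit 805317287664062548220866038155575396))
    (.leaf (nat_lit 60654473926930149343316)))) (.node (.node (.leaf (nat_lit
    2997676848544846381136)) (.leaf (nat_lit 51204980359688387493983))) (.node (.leaf (nat_lit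
    1059181441912320384016056536)) (.leaf (nat_lit 69554911420663627710510))))) (.node (.node
    (.node (.leaf (nat_lit 1669477212376120098852)) (.leaf (nat_lit
    41446600955235077649439868125438))) (.node (.leaf (nat_lit 529057932697010187)) (.leaf (nat_lit
    24015043666620344107010)))) (.node (.node (.leaf (nat_lit 18156658362159454158941)) (.leaf
    (nat_lit 26781700328239266988034))) (.node (.leaf (nat_lit 29999931392892111880301)) (.leaf
    (nat_lit 69692587008003529598959154954457)))))))) (.node (.node (.node (.node (.node (.node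
    (.node (.leaf (nat_lit 0)) (.leaf (nat_lit 53540291725423862730215160873170))) (.leaf (nat_lit
    31456702462460740960295))) (.node (.leaf (nat_lit 0)) (.leaf (nat_lit 1488913055256543234))))
    (.node (.node (.leaf (nat_lit 343793694175883643326824672)) (.leaf (nat_lit
    48137372336009200730182))) (.node (.leaf (nat_lit 686544831434063883)) (.leaf (nat_lit
    42765464925808590258342))))) (.node (.node (.node (.node (.leaf (nat_lit 0)) (.leaf (nat_lit
    78299524650358496493714))) (.leaf (nat_lit 600851393745545173552857201))) (.node (.leaf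
    (nat_lit 0)) (.leaf (nat_lit 1456127491122003970)))) (.node (.node (.leaf (nat_lit
    14859297236742832324678)) (.leaf (nat_lit 34713756941725787684866))) (.node (.leaf (nat_lit
    34104457900020191133951)) (.leaf (nat_lit 71875215321554472861817)))))) (.node (.node (.node
    (.node (.node (.leaf (nat_lit 3251270312100169449556)) (.leaf (nat_lit
    2587323839165882041670828037))) (.leaf (nat_lit 13429635610892373786655))) (.node (.leaf
    (nat_lit 0)) (.leaf (nat_lit 1116384239294742530)))) (.node (.node (.leaf (nat_lit
    420868599928483643566325786)) (.leaf (nat_lit 0))) (.node (.leaf (nat_lit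
    26812580668529390583816)) (.leaf (nat_lit 69495466999758381580455))))) (.node (.node (.node
    (.leaf (nat_lit 8130605401487656026207)) (.leaf (nat_lit 1282385883255549147803287714))) (.node
    (.leaf (nat_lit 26573330452355905421463)) (.leaf (nat_lit 2122464411554138236221915165))))
    (.node (.node (.leaf (nat_lit 17571038986521337331801)) (.leaf (nat_lit
    1795898676625919672272027650))) (.node (.leaf (nat_lit 30807017259438771994631)) (.leaf
    (nat_lit 73503295890057853075480))))))) (.node (.node (.node (.node (.node (.node (.leaf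
    (nat_lit 77073938882861895740046530492891235)) (.leaf (nat_lit 77496708614674297585710)))
    (.leaf (nat_lit 38416057124645345886399))) (.node (.leaf (nat_lit 4362785456724899987667))
    (.leaf (nat_lit 920334426934738946)))) (.node (.node (.leaf (nat_lit 4067575336796780953671))
    (.leaf (nat_lit 0))) (.node (.leaf (nat_lit 20236695692683541414095)) (.leaf (nat_lit
    2130170198660046056287633519))))) (.node (.node (.node (.leaf (nat_lit 0)) (.leaf (nat_lit
    505497502592016260364763397))) (.node (.leaf (nat_lit 22579503680273512595548)) (.leaf (nat_lit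
    1854978185956032514)))) (.node (.node (.leaf (nat_lit 284023459980378114)) (.leaf (nat_lit
    1101038578844172290))) (.node (.leaf (nat_lit 15057676456158061330584)) (.leaf (nat_lit
    48922791971346624741597)))))) (.node (.node (.node (.node (.node (.leaf (nat_lit
    3219040724670279254058)) (.leaf (nat_lit 80148549240618202890244))) (.leaf (nat_lit 0))) (.node
    (.leaf (nat_lit 699909395269681154)) (.leaf (nat_lit 57597212907576481742850)))) (.node (.node
    (.leaf (nat_lit 211822989560381442)) (.leaf (nat_lit 21787184432149774401538))) (.node (.leaf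
    (nat_lit 9154447289969409196039)) (.leaf (nat_lit 0))))) (.node (.node (.node (.leaf (nat_lit
    0)) (.leaf (nat_lit 1434440337228693563))) (.node (.leaf (nat_lit 28187045916711000932526))
    (.leaf (nat_lit 1853795354638762150474430623860414708538456361920754682754820297074802955))))
    (.node (.node (.leaf (nat_lit 0)) (.leaf (nat_lit 821816492868894722))) (.node (.leaf (nat_lit
    36138320234082117812396)) (.leaf (nat_lit 49909406521437794271262))))))))))) (.node (.node
    (.node (.node (.node (.node (.node (.node (.node (.node (.leaf (nat_lit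
    2568967366962630692700166)) (.leaf (nat_lit 72621840113329860968500))) (.leaf (nat_lit
    21915052454093909065886))) (.node (.leaf (nat_lit 18631779126385204985880)) (.leaf (nat_lit
    1346485961126707202)))) (.node (.node (.leaf (nat_lit 312364560654578962105892878)) (.leaf
    (nat_lit 780537304794404451164356786))) (.node (.leaf (nat_lit 6770161000466752929863)) (.leaf
    (nat_lit 66193261110519876747287))))) (.node (.node (.node (.node (.leaf (nat_lit
    4676390646111174590487)) (.leaf (nat_lit 2338568954907328620))) (.leaf (nat_lit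
    28067955392592918027989512683639))) (.node (.leaf (nat_lit 646931363876351516902424736)) (.leaf
    (nat_lit 1732816955141914626)))) (.node (.node (.leaf (nat_lit 14139860565438436147292)) (.leaf
    (nat_lit 746519926554099714))) (.node (.leaf (nat_lit 1079301444178364152081022981)) (.leaf
    (nat_lit 42373425174367208407076)))))) (.node (.node (.node (.node (.node (.leaf (nat_lit
    2439640593342316871692)) (.leaf (nat_lit 2372566319065894777419726883))) (.leaf (nat_lit
    40228571043914349477907))) (.node (.leaf (nat_lit 0)) (.leaf (nat_lit 962837303036870658))))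
    (.node (.node (.leaf (nat_lit 368582512129757020739076131)) (.leaf (nat_lit
    1443941946867970321412260002))) (.node (.leaf (nat_lit 313431432689521595401896050)) (.leaf
    (nat_lit 68267384499363473719308))))) (.node (.node (.node (.leaf (nat_lit
    7640738950890574242436165730331)) (.leaf (nat_lit 21578637509150306926681))) (.node (.leaf
    (nat_lit 794346655137792002)) (.leaf (nat_lit 30499025513422705065986)))) (.node (.node (.leaf
    (nat_lit 6779280637970983616702)) (.leaf (nat_lit 965226979890692098))) (.node (.leaf (nat_lit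
    0)) (.leaf (nat_lit 985637944547086063594897434))))))) (.node (.node (.node (.node (.node
    (.node (.leaf (nat_lit 1217523390612714487870)) (.leaf (nat_lit 74734485455028313325721)))
    (.leaf (nat_lit 1279232684582266094791950612))) (.node (.leaf (nat_lit 4270580023672388649136))
    (.leaf (nat_lit 1107798728519057410)))) (.node (.node (.leaf (nat_lit 2144492273840353902779))
    (.leaf (nat_lit 1174035367099415325636296818))) (.node (.leaf (nat_lit 0)) (.leaf (nat_lit
    2032593491875463170))))) (.node (.node (.node (.node (.leaf (nat_lit 0)) (.leaf (nat_lit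
    79812272365713387356203))) (.leaf (nat_lit 0))) (.node (.leaf (nat_lit
    814681549257374609021599795)) (.leaf (nat_lit 1524807488518619138)))) (.node (.node (.leaf
    (nat_lit 3214440166989425213624)) (.leaf (nat_lit 35709884931376454762498))) (.node (.leaf
    (nat_lit 34316602219049045393566)) (.leaf (nat_lit 43369690374427547730050)))))) (.node (.node
    (.node (.node (.node (.leaf (nat_lit 118928963058646254130299020)) (.leaf (nat_lit
    38130461859888593759695651799250))) (.leaf (nat_lit 41409238652455881998512))) (.node (.leaf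
    (nat_lit 0)) (.leaf (nat_lit 1041653234273484802)))) (.node (.node (.leaf (nat_lit
    10630170049619519799349)) (.leaf (nat_lit 20208988018552852381776))) (.node (.leaf (nat_lit 0))
    (.leaf (nat_lit 62886953728874643652631))))) (.node (.node (.node (.leaf (nat_lit
    1540349440540832628947)) (.leaf (nat_lit 28150210851328672071829))) (.node (.leaf (nat_lit
    892052976955661454722465970)) (.leaf (nat_lit 2129436728375326015991578640)))) (.node (.node
    (.leaf (nat_lit 17797003433057907310720)) (.leaf (nat_lit 32532461542933639921666))) (.node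
    (.leaf (nat_lit 918944312785119853033029827)) (.leaf (nat_lit
    2324835285733291744804732963)))))))) (.node (.node (.node (.node (.node (.node (.node (.leaf
    (nat_lit 0)) (.leaf (nat_lit 80924134541792739945109088698425))) (.leaf (nat_lit
    1257306999924003386180239374))) (.node (.leaf (nat_lit 456570635771052140)) (.leaf (nat_lit
    1189001184103497730)))) (.node (.node (.leaf (nat_lit 9638626590652824223841)) (.leaf (nat_lit
    47902985283787120902290))) (.node (.leaf (nat_lit 29012653541722629013677)) (.leaf (nat_lit
    1500936055568946203241742392))))) (.node (.node (.node (.node (.leaf (nat_lit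
    122024431810904066)) (.leaf (nat_lit 78428726871663698968661))) (.leaf (nat_lit
    821781783957853085865607397))) (.node (.leaf (nat_lit 19300647269598843043842)) (.leaf (nat_lit
    24623668581116837822466)))) (.node (.node (.leaf (nat_lit 0)) (.leaf (nat_lit
    1578138054483378178))) (.node (.leaf (nat_lit 0)) (.leaf (nat_lit 46847074175915586158776))))))
    (.node (.node (.node (.node (.node (.leaf (nat_lit 3020745683521675395198)) (.leaf (nat_lit
    76920702445214176051290))) (.leaf (nat_lit 1065978416908979610186940649))) (.node (.leaf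
    (nat_lit 20905410282767578759215)) (.leaf (nat_lit 1049814539719278594)))) (.node (.node (.leaf
    (nat_lit 163512304170307966510301261)) (.leaf (nat_lit 0))) (.node (.leaf (nat_lit 0)) (.leaf
    (nat_lit 47906869541515431182349))))) (.node (.node (.node (.leaf (nat_lit 0)) (.leaf (nat_lit
    0))) (.node (.leaf (nat_lit 26647117991265689600071)) (.leaf (nat_lit
    35999571557166350733071874326759)))) (.node (.node (.leaf (nat_lit 319349342651678722)) (.leaf
    (nat_lit 35511604518624468074498))) (.node (.leaf (nat_lit 0)) (.leaf (nat_lit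
    69255549134908757835868))))))) (.node (.node (.node (.node (.node (.node (.leaf (nat_lit
    1798571763395287253032)) (.leaf (nat_lit 67784497718785132920962))) (.leaf (nat_lit
    39638072009936718725249))) (.node (.leaf (nat_lit 4325890842333976658118)) (.leaf (nat_lit
    255067993061588994)))) (.node (.node (.leaf (nat_lit 345150479834768161653391454)) (.leaf
    (nat_lit 46003063696813283541029))) (.node (.leaf (nat_lit 0)) (.leaf (nat_lit
    1534524130471313410))))) (.node (.node (.node (.node (.leaf (nat_lit
    51385873068482833875730524)) (.leaf (nat_lit 79447490366586751221942))) (.leaf (nat_lit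
    21827666864737179861081))) (.node (.leaf (nat_lit 0)) (.leaf (nat_lit 1369011458276458498))))
    (.node (.node (.leaf (nat_lit 4607189329844778500185)) (.leaf (nat_lit
    22377509217483140300802))) (.node (.leaf (nat_lit 34916077913934366179493)) (.leaf (nat_lit
    2217527559506231298)))))) (.node (.node (.node (.node (.node (.leaf (nat_lit
    4530993375302157995915086200965)) (.leaf (nat_lit 2613625497211115647860474151))) (.leaf
    (nat_lit 0))) (.node (.leaf (nat_lit 670523504942387775179849932)) (.leaf (nat_lit
    65355325465267557044625401511984)))) (.node (.node (.leaf (nat_lit 2970006310419385483298))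
    (.leaf (nat_lit 42318398763187216515074))) (.node (.leaf (nat_lit 0)) (.leaf (nat_lit
    63480491146360983322664))))) (.node (.node (.node (.leaf (nat_lit 8942313510098809585668))
    (.leaf (nat_lit 1513319048942294524571680984))) (.node (.leaf (nat_lit
    529136161681878537214134645579197269162852574)) (.leaf (nat_lit 65612329690697501442133))))
    (.node (.node (.leaf (nat_lit 10819133776548033921152)) (.leaf (nat_lit 879377928037728258)))
    (.node (.leaf (nat_lit 37254336146791129612291)) (.leaf (nat_lit 0))))))))) (.node (.node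
    (.node (.node (.node (.node (.node (.node (.leaf (nat_lit 411000928792146214656785317915))
    (.leaf (nat_lit 2395713570151646628057186372))) (.leaf (nat_lit 0))) (.node (.leaf (nat_lit
    631228771472712526255620110)) (.leaf (nat_lit 972968907549835266)))) (.node (.node (.leaf
    (nat_lit 9698578227151115583572)) (.leaf (nat_lit 1457256406295352014272725134))) (.node (.leaf
    (nat_lit 0)) (.leaf (nat_lit 1834997173461319682))))) (.node (.node (.node (.node (.leaf
    (nat_lit 166986881898913338054934543)) (.leaf (nat_lit 86574246725485630113573933220050)))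
    (.leaf (nat_lit 42649307780144355803176))) (.node (.leaf (nat_lit
    31385708672071769806383232353249516741684001406507027202313)) (.leaf (nat_lit
    57477313858370996994050)))) (.node (.node (.leaf (nat_lit 3089922954851751493830)) (.leaf
    (nat_lit 5424930309331331776514))) (.node (.leaf (nat_lit 0)) (.leaf (nat_lit 0)))))) (.node
    (.node (.node (.node (.node (.leaf (nat_lit 82615443990380546)) (.leaf (nat_lit 0))) (.leaf
    (nat_lit 0))) (.node (.leaf (nat_lit 21228250961882588053506)) (.leaf (nat_lit
    1694391583551651842)))) (.node (.node (.leaf (nat_lit 10809865222022160908447)) (.leaf (nat_lit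
    18336620272561120542899))) (.node (.leaf (nat_lit 0)) (.leaf (nat_lit
    2121573494709557647517155353))))) (.node (.node (.node (.leaf (nat_lit
    171215567317233821045489684)) (.leaf (nat_lit 1448610491033365976652709948))) (.node (.leaf
    (nat_lit 0)) (.leaf (nat_lit 23646067413641746120706)))) (.node (.node (.leaf (nat_lit
    480071322425229314)) (.leaf (nat_lit 946086775963648002))) (.node (.leaf (nat_lit
    918811671711251470380957777)) (.leaf (nat_lit 45667476650124880889329534435582))))))) (.node
    (.node (.node (.node (.node (.node (.leaf (nat_lit 0)) (.leaf (nat_lit 0))) (.leaf (nat_lit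
    662653851482898765338378501))) (.node (.leaf (nat_lit 5658666694009730302041)) (.leaf (nat_lit
    831796158114527149109280770)))) (.node (.node (.leaf (nat_lit 0)) (.leaf (nat_lit 0))) (.node
    (.leaf (nat_lit 29898467960505095094430)) (.leaf (nat_lit 1021005527213597540980359421)))))
    (.node (.node (.node (.node (.leaf (nat_lit 5995231095551716163767)) (.leaf (nat_lit 0)))
    (.leaf (nat_lit 31037097023533903708342))) (.node (.leaf (nat_lit 463787975115516885894168771))
    (.leaf (nat_lit 953835764549025794)))) (.node (.node (.leaf (nat_lit 6751673852914135400500))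
    (.leaf (nat_lit 1563783191448387586))) (.node (.leaf (nat_lit 34450119030101692842140)) (.leaf
    (nat_lit 77739896762791078790718332141822)))))) (.node (.node (.node (.node (.node (.leaf
    (nat_lit 0)) (.leaf (nat_lit 79475525261511079690379))) (.leaf (nat_lit
    41694678769182095638638))) (.node (.leaf (nat_lit 4989993052693648834636)) (.leaf (nat_lit
    1831754816750223362)))) (.node (.node (.leaf (nat_lit 120444925775025489578295365)) (.leaf
    (nat_lit 51149407061526502899802))) (.node (.leaf (nat_lit 32227445681857486848075)) (.leaf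
    (nat_lit 69952190946637496123413))))) (.node (.node (.node (.leaf (nat_lit 262905681311563787))
    (.leaf (nat_lit 41456506742110022489325292552423))) (.node (.leaf (nat_lit
    6880831330985214935115)) (.leaf (nat_lit 24107274853958914605058)))) (.node (.node (.leaf
    (nat_lit 15490795075363166945318)) (.leaf (nat_lit 35151908490259311296514))) (.node (.leaf
    (nat_lit 1014892469873147963)) (.leaf (nat_lit 62434858336850198855859)))))))) (.node (.node
    (.node (.node (.node (.node (.node (.leaf (nat_lit 30979655701008578253160502)) (.leaf (nat_lit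
    77393261459594430629165979205680))) (.leaf (nat_lit 38716285792727878271183))) (.node (.leaf
    (nat_lit 15209508970028331106335)) (.leaf (nat_lit 8763877657386217046018)))) (.node (.node
    (.leaf (nat_lit 2535373133761002027073461878927)) (.leaf (nat_lit 0))) (.node (.leaf (nat_lit
    27495710442368146800831)) (.leaf (nat_lit 2115683071317028722352324778))))) (.node (.node
    (.node (.node (.leaf (nat_lit 4118345535721167847514)) (.leaf (nat_lit
    81255615528886465659019))) (.leaf (nat_lit 43466389948627371098303))) (.node (.leaf (nat_lit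
    0)) (.leaf (nat_lit 24568332571076194402306)))) (.node (.node (.leaf (nat_lit
    477831052759283406920220796)) (.leaf (nat_lit 29036770320222574018562))) (.node (.leaf (nat_lit
    27425961088283371044905)) (.leaf (nat_lit 0)))))) (.node (.node (.node (.node (.node (.leaf
    (nat_lit 1342030330077674405891)) (.leaf (nat_lit 43309664716066285355098))) (.leaf (nat_lit
    41077048776075258298604))) (.node (.leaf (nat_lit 0)) (.leaf (nat_lit 1055866964683128834))))
    (.node (.node (.leaf (nat_lit 12779175059848482193488)) (.leaf (nat_lit 0))) (.node (.leaf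
    (nat_lit 31669254884471697768521)) (.leaf (nat_lit 74550980756522217764269253263570))))) (.node
    (.node (.node (.leaf (nat_lit 0)) (.leaf (nat_lit 1281926683770734198409920753))) (.node (.leaf
    (nat_lit 738356272957309252463231184)) (.leaf (nat_lit 2037981164587620424143339760)))) (.node
    (.node (.leaf (nat_lit 501745436797829122)) (.leaf (nat_lit 1401374638147239938))) (.node
    (.leaf (nat_lit 36391178347451944992927)) (.leaf (nat_lit 2281614914848567313886871587)))))))
    (.node (.node (.node (.node (.node (.node (.leaf (nat_lit 1844689890483244302377)) (.leaf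
    (nat_lit 76533259738754515665022))) (.leaf (nat_lit 12507268147513028444231))) (.node (.leaf
    (nat_lit 21038641817840408264759)) (.leaf (nat_lit 1016880266637082626)))) (.node (.node (.leaf
    (nat_lit 0)) (.leaf (nat_lit 0))) (.node (.leaf (nat_lit 26688048256339247562922)) (.leaf
    (nat_lit 2155579758517393873367728248))))) (.node (.node (.node (.leaf (nat_lit 0)) (.leaf
    (nat_lit 22006004779218899488912953376887))) (.node (.leaf (nat_lit
    906242225838942920167599789304053859)) (.leaf (nat_lit 1387448215279894530)))) (.node (.node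
    (.leaf (nat_lit 1642256471607040212994)) (.leaf (nat_lit 33736094704720599515138))) (.node
    (.leaf (nat_lit 30064498373123238985824)) (.leaf (nat_lit 0)))))) (.node (.node (.node (.node
    (.node (.leaf (nat_lit 0)) (.leaf (nat_lit 80075017710630030475526))) (.leaf (nat_lit
    42295050692251667857464))) (.node (.leaf (nat_lit 710464629586919426)) (.leaf (nat_lit
    23037236468254098259970)))) (.node (.node (.leaf (nat_lit 13775524844071330971651)) (.leaf
    (nat_lit 1682393001044394644963852357))) (.node (.leaf (nat_lit 0)) (.leaf (nat_lit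
    45684004653157346115592))))) (.node (.node (.node (.leaf (nat_lit 0)) (.leaf (nat_lit
    47017468387130234568814))) (.node (.leaf (nat_lit 400791812782456764917803817013477475)) (.leaf
    (nat_lit 2292171449597435476840903178194668060951445622)))) (.node (.node (.leaf (nat_lit
    15855333318276663148654)) (.leaf (nat_lit 1150860714873847810))) (.node (.leaf (nat_lit 0))
    (.leaf (nat_lit 0)))))))))) (.node (.node (.node (.node (.node (.node (.node (.node (.node
    (.leaf (nat_lit 3626851251872091930361872)) (.leaf (nat_lit 75795343379800428576864))) (.leaf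
    (nat_lit 0))) (.node (.leaf (nat_lit 4980772773445564039258)) (.leaf (nat_lit
    1238962674642059266)))) (.node (.node (.leaf (nat_lit 1660257218932339048606)) (.leaf (nat_lit
    1551401066384291604772159640))) (.node (.leaf (nat_lit 310400854287790527618482336)) (.leaf
    (nat_lit 49010410334509024346114))))) (.node (.node (.node (.node (.leaf (nat_lit 0)) (.leaf
    (nat_lit 2446487785954461175775494454))) (.leaf (nat_lit 0))) (.node (.leaf (nat_lit
    23838514649863846821910)) (.leaf (nat_lit 25573669133320026521602)))) (.node (.node (.leaf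
    (nat_lit 14402726668540336865289)) (.leaf (nat_lit 19993244482110650253314))) (.node (.leaf
    (nat_lit 0)) (.leaf (nat_lit 2238073980918384259378708611)))))) (.node (.node (.node (.node
    (.node (.leaf (nat_lit 0)) (.leaf (nat_lit 69458818826600878112809))) (.leaf (nat_lit 0)))
    (.node (.leaf (nat_lit 15149521165249662877887)) (.leaf (nat_lit 979726050747613186)))) (.node
    (.node (.leaf (nat_lit 12041231261709845594188)) (.leaf (nat_lit
    1612151769249510494631624965))) (.node (.leaf (nat_lit 28431272890092281331818)) (.leaf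
    (nat_lit 57745017525559498047562))))) (.node (.node (.node (.leaf (nat_lit
    230911809240564146798592083)) (.leaf (nat_lit 0))) (.node (.leaf (nat_lit 0)) (.leaf (nat_lit
    1213075875956916226)))) (.node (.node (.leaf (nat_lit 241521090684387330)) (.leaf (nat_lit
    32998229562542847623170))) (.node (.leaf (nat_lit 35547760257619523207209)) (.leaf (nat_lit
    2355936841145523155874611463))))))) (.node (.node (.node (.node (.node (.node (.leaf (nat_lit
    1401995616583327875090)) (.leaf (nat_lit 0))) (.leaf (nat_lit 0))) (.node (.leaf (nat_lit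
    617856484621025291)) (.leaf (nat_lit 1103433220680187906)))) (.node (.node (.leaf (nat_lit
    10860637246638361084032)) (.leaf (nat_lit 48553312553758070341720))) (.node (.leaf (nat_lit 0))
    (.leaf (nat_lit 1495539442469961730))))) (.node (.node (.node (.node (.leaf (nat_lit 0)) (.leaf
    (nat_lit 72478575407496773697575))) (.leaf (nat_lit 43908628655664028385322))) (.node (.leaf
    (nat_lit 476180018395335518956290319)) (.leaf (nat_lit 1449372349378985986)))) (.node (.node
    (.leaf (nat_lit 483120042918587644065873980)) (.leaf (nat_lit 856999447618519042))) (.node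
    (.leaf (nat_lit 34399614254877683941503)) (.leaf (nat_lit 2367580882633941554963939342))))))
    (.node (.node (.node (.node (.node (.leaf (nat_lit 123008907848453899914838147)) (.leaf
    (nat_lit 79304971279763582943287))) (.leaf (nat_lit 13900030540637179936848))) (.node (.leaf
    (nat_lit 22639456576421287362736)) (.leaf (nat_lit 1658787481488850946)))) (.node (.node (.leaf
    (nat_lit 5810901584030019551439)) (.leaf (nat_lit 19941511355512819744950))) (.node (.leaf
    (nat_lit 32001387076211720781827)) (.leaf (nat_lit 2246224365785529692943810673))))) (.node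
    (.node (.node (.leaf (nat_lit 1669476649220008247336)) (.leaf (nat_lit 1398270046807130171)))
    (.node (.leaf (nat_lit 27371145517782379200519)) (.leaf (nat_lit 1539588077301923842)))) (.node
    (.node (.leaf (nat_lit 19024777375089508434580074725630)) (.leaf (nat_lit
    1230658999620337666))) (.node (.leaf (nat_lit 35372162235226990510089)) (.leaf (nat_lit
    74614450717863098646693)))))))) (.node (.node (.node (.node (.node (.node (.node (.leaf
    (nat_lit 31012888305760079350836981960806637488308256)) (.leaf (nat_lit 0))) (.leaf (nat_lit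
    0))) (.node (.leaf (nat_lit 644377158966957266834817219)) (.leaf (nat_lit
    992109558153478146)))) (.node (.node (.leaf (nat_lit 0)) (.leaf (nat_lit 0))) (.node (.leaf
    (nat_lit 0)) (.leaf (nat_lit 2038222639222358018))))) (.node (.node (.node (.node (.leaf
    (nat_lit 0)) (.leaf (nat_lit 2336036367311699979))) (.leaf (nat_lit
    1418261990005436981520367819))) (.node (.leaf (nat_lit 15965827592390535479299)) (.leaf
    (nat_lit 58487280975562754162690)))) (.node (.node (.leaf (nat_lit 3108369980804164681939))
    (.leaf (nat_lit 24743289929350554779650))) (.node (.leaf (nat_lit 0)) (.leaf (nat_lit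
    1330458216919859259)))))) (.node (.node (.node (.node (.node (.leaf (nat_lit
    3182082918193601642626)) (.leaf (nat_lit 78677763121875672825982))) (.leaf (nat_lit
    40915640487096474599426))) (.node (.leaf (nat_lit 0)) (.leaf (nat_lit 997601318086508546))))
    (.node (.node (.leaf (nat_lit 10782197921039320809509)) (.leaf (nat_lit
    30382355693588409680059))) (.node (.leaf (nat_lit 0)) (.leaf (nat_lit
    68180629127136660357248))))) (.node (.node (.node (.leaf (nat_lit 7876999824994981838938))
    (.leaf (nat_lit 16086049374647051550876))) (.node (.leaf (nat_lit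
    27497542755932633746407623557177)) (.leaf (nat_lit 64578357233902298529931)))) (.node (.node
    (.leaf (nat_lit 503011936754073602)) (.leaf (nat_lit 54115024755091317129218))) (.node (.leaf
    (nat_lit 0)) (.leaf (nat_lit 79462976922645204190193611243636))))))) (.node (.node (.node
    (.node (.node (.node (.leaf (nat_lit 0)) (.leaf (nat_lit 2367133596982050924))) (.leaf (nat_lit
    0))) (.node (.leaf (nat_lit 20859199822507052040434)) (.leaf (nat_lit
    30544986852716636733442)))) (.node (.node (.leaf (nat_lit 11451156978823600472282)) (.leaf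
    (nat_lit 1510143419091424894460887202))) (.node (.leaf (nat_lit 30248616639607649534028))
    (.leaf (nat_lit 1979240321497825291))))) (.node (.node (.node (.node (.leaf (nat_lit
    6719417514220312527041)) (.leaf (nat_lit 88356715819072412774512384606351))) (.leaf (nat_lit
    44480177224373181284518))) (.node (.leaf (nat_lit 7646357556703904596152)) (.leaf (nat_lit
    1531985538511405058)))) (.node (.node (.leaf (nat_lit 206476957867704322)) (.leaf (nat_lit
    878533640546549762))) (.node (.leaf (nat_lit 34957084596212810842282)) (.leaf (nat_lit 0))))))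
    (.node (.node (.node (.node (.node (.leaf (nat_lit 3062243399846179569739)) (.leaf (nat_lit
    2590015780908070779482275846))) (.leaf (nat_lit 822990456106588250380173489))) (.node (.leaf
    (nat_lit 23238993215110126960861)) (.leaf (nat_lit 1862690057434038380)))) (.node (.node (.leaf
    (nat_lit 3025347668695039803551)) (.leaf (nat_lit 1367171872243974146))) (.node (.leaf (nat_lit
    32595901634045351755789)) (.leaf (nat_lit 70476424606706972164149))))) (.node (.node (.node
    (.leaf (nat_lit 9089880988759726686257)) (.leaf (nat_lit 0))) (.node (.leaf (nat_lit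
    1055634534281598247579171942887265926967197919)) (.leaf (nat_lit
    1452998787637332483449815256)))) (.node (.node (.leaf (nat_lit 606294833259488113722654976))
    (.leaf (nat_lit 976909067597512706))) (.node (.leaf (nat_lit 427368287142759983185395727))
    (.leaf (nat_lit 80720337884247870344002493808897))))))))) (.node (.node (.node (.node (.node
    (.node (.node (.node (.leaf (nat_lit 525735302819387473956)) (.leaf (nat_lit
    74291900393402180763692))) (.leaf (nat_lit 1010088361158399537327636741))) (.node (.leaf
    (nat_lit 19411152371754765320362)) (.leaf (nat_lit 911748237554221058)))) (.node (.node (.leaf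
    (nat_lit 9929014605773858340903)) (.leaf (nat_lit 0))) (.node (.leaf (nat_lit 0)) (.leaf
    (nat_lit 1491738482312347650))))) (.node (.node (.node (.node (.leaf (nat_lit
    3159164100463007301634)) (.leaf (nat_lit 2363076147281667480082448645))) (.leaf (nat_lit 0)))
    (.node (.leaf (nat_lit 24129077468693539258565)) (.leaf (nat_lit 1750972219988770818)))) (.node
    (.node (.leaf (nat_lit 481613414444002907389165645)) (.leaf (nat_lit 20209996803643654995970)))
    (.node (.leaf (nat_lit 0)) (.leaf (nat_lit 71349254719722993418367)))))) (.node (.node (.node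
    (.node (.node (.leaf (nat_lit 2882385532604897230851)) (.leaf (nat_lit
    1396938906147901652414497041))) (.leaf (nat_lit 1016435415273979470166622403))) (.node (.leaf
    (nat_lit 21781127067166079910071)) (.leaf (nat_lit 58025415591340110184450)))) (.node (.node
    (.leaf (nat_lit 0)) (.leaf (nat_lit 640176338206786287585984712))) (.node (.leaf (nat_lit
    1022915221504432828080980036)) (.leaf (nat_lit 31591960787051455119372))))) (.node (.node
    (.node (.leaf (nat_lit 0)) (.leaf (nat_lit 0))) (.node (.leaf (nat_lit
    18216345289463831920677)) (.leaf (nat_lit 1034902507756847106)))) (.node (.node (.leaf (nat_lit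
    282475991853563906)) (.leaf (nat_lit 1532700774475864670210))) (.node (.leaf (nat_lit
    35801407492507534819418)) (.leaf (nat_lit 930320809125170730957537387))))))) (.node (.node
    (.node (.node (.node (.node (.leaf (nat_lit 451958882935687544906)) (.leaf (nat_lit
    2197876541710815926793011461))) (.leaf (nat_lit 1252019877223944300563529888))) (.node (.leaf
    (nat_lit 21902280458931784962654863687737)) (.leaf (nat_lit 1099211353727565826)))) (.node
    (.node (.leaf (nat_lit 7199181625451568365642)) (.leaf (nat_lit
    52321893802486412344980672938085))) (.node (.leaf (nat_lit 557019544470789938777161757)) (.leaf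
    (nat_lit 43919155558405592252634))))) (.node (.node (.node (.node (.leaf (nat_lit
    447529874108425895938)) (.leaf (nat_lit 2517064069708535348615970893))) (.leaf (nat_lit
    21491113145955680190554))) (.node (.leaf (nat_lit 0)) (.leaf (nat_lit 1715507068707930114))))
    (.node (.node (.leaf (nat_lit 0)) (.leaf (nat_lit 9040511271240548417538))) (.node (.leaf
    (nat_lit 0)) (.leaf (nat_lit 25421668168440110842026)))))) (.node (.node (.node (.node (.node
    (.leaf (nat_lit 4067530856680944500782)) (.leaf (nat_lit 41903029971634280923327))) (.leaf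
    (nat_lit 0))) (.node (.leaf (nat_lit 19742776766517790048415)) (.leaf (nat_lit
    1088520295364558850)))) (.node (.node (.leaf (nat_lit 13489592288471089872992)) (.leaf (nat_lit
    51287952289005041811694))) (.node (.leaf (nat_lit 11575577804817045848234)) (.leaf (nat_lit
    1614588824861881325695795404))))) (.node (.node (.node (.leaf (nat_lit 0)) (.leaf (nat_lit 0)))
    (.node (.leaf (nat_lit 9565163467682517024898)) (.leaf (nat_lit 1420242962054512642)))) (.node
    (.node (.leaf (nat_lit 14909695756352838893717)) (.leaf (nat_lit 234800188420653058))) (.node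
    (.leaf (nat_lit 1216667407263171943868923919)) (.leaf (nat_lit 74909355418431961366711))))))))
    (.node (.node (.node (.node (.node (.node (.node (.leaf (nat_lit 35815506552575397137219638))
    (.leaf (nat_lit 1617619408960104578467233869))) (.leaf (nat_lit
    32770989147238968510064672178415))) (.node (.leaf (nat_lit 6230547144368082583699)) (.leaf
    (nat_lit 1009420458199744514)))) (.node (.node (.leaf (nat_lit 0)) (.leaf (nat_lit
    51910884682255203178061286932528))) (.node (.leaf (nat_lit 8853796431212711514757375787239))
    (.leaf (nat_lit 42816193894301066002626))))) (.node (.node (.node (.node (.leaf (nat_lit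
    142853992404353035)) (.leaf (nat_lit 48641529093779041222899))) (.leaf (nat_lit
    43613392207053808926896))) (.node (.leaf (nat_lit 6659448866653641834526)) (.leaf (nat_lit
    1473016006904512514)))) (.node (.node (.leaf (nat_lit 484782306696622531854729230)) (.leaf
    (nat_lit 35922020507007240568834))) (.node (.leaf (nat_lit 0)) (.leaf (nat_lit
    71930629863452920971447)))))) (.node (.node (.node (.node (.node (.leaf (nat_lit
    3251270312168888926298)) (.leaf (nat_lit 71206705249296150888539))) (.leaf (nat_lit
    41252786851656186921015))) (.node (.leaf (nat_lit 22302258284087763730614)) (.leaf (nat_lit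
    1767717343993135106)))) (.node (.node (.leaf (nat_lit 422983223948379218809978894)) (.leaf
    (nat_lit 681401582136928142023196943))) (.node (.leaf (nat_lit 0)) (.leaf (nat_lit
    69177414190472299216968))))) (.node (.node (.node (.leaf (nat_lit 1595689391175315423240))
    (.leaf (nat_lit 0))) (.node (.leaf (nat_lit 27089870107989852225620)) (.leaf (nat_lit
    64864788160903223902354)))) (.node (.node (.leaf (nat_lit 6770057266904791449642)) (.leaf
    (nat_lit 940598280205762562))) (.node (.leaf (nat_lit 9564926333260975505442)) (.leaf (nat_lit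
    49835654165534299324637))))))) (.node (.node (.node (.node (.node (.node (.leaf (nat_lit
    2250572444166720258050)) (.leaf (nat_lit 50057308676126647975991))) (.leaf (nat_lit
    40071323924048856154164))) (.node (.leaf (nat_lit 0)) (.leaf (nat_lit 1419814092390137858))))
    (.node (.node (.leaf (nat_lit 357484159704367163)) (.leaf (nat_lit 46003063978700577112102)))
    (.node (.leaf (nat_lit 0)) (.leaf (nat_lit 49369602530160586981504))))) (.node (.node (.node
    (.leaf (nat_lit 0)) (.leaf (nat_lit 44803151488966939836568))) (.node (.leaf (nat_lit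
    5931418906666960355330)) (.leaf (nat_lit 1390404020362936322)))) (.node (.node (.leaf (nat_lit
    9191590565018102595755)) (.leaf (nat_lit 974937806457667586))) (.node (.leaf (nat_lit
    35335667173543305740444)) (.leaf (nat_lit 51702312893386751934574)))))) (.node (.node (.node
    (.node (.node (.leaf (nat_lit 4662451720568260722852)) (.leaf (nat_lit
    80073993708753565974559))) (.leaf (nat_lit 28417635719665865130026))) (.node (.leaf (nat_lit
    592530112432622806732374093)) (.leaf (nat_lit 48110975183480013651970)))) (.node (.node (.leaf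
    (nat_lit 447002964390230896515743943)) (.leaf (nat_lit 1542531117742161922))) (.node (.leaf
    (nat_lit 0)) (.leaf (nat_lit 62143113178953449406502))))) (.node (.node (.node (.leaf (nat_lit
    0)) (.leaf (nat_lit 1545507682130884101081923642))) (.node (.leaf (nat_lit
    926065410987864361026191395)) (.leaf (nat_lit 24365171259108512432321)))) (.node (.node (.leaf
    (nat_lit 572537638981074955)) (.leaf (nat_lit 1517904118864281602))) (.node (.leaf (nat_lit
    937983391058193852810919965)) (.leaf (nat_lit 42410660095939164962974)))))))))))) (.node (.node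
    (.node (.node (.node (.node (.node (.node (.node (.node (.node (.leaf (nat_lit 0)) (.leaf
    (nat_lit 75567930326625544241195))) (.leaf (nat_lit 31927209417957787762817))) (.node (.leaf
    (nat_lit 0)) (.leaf (nat_lit 873201950082024048439853058)))) (.node (.node (.leaf (nat_lit
    265511864261747268571627555)) (.leaf (nat_lit 18336553701212277637143))) (.node (.leaf (nat_lit
    30439197766191025285489249026109)) (.leaf (nat_lit 43914094779401125429431))))) (.node (.node
    (.node (.node (.leaf (nat_lit 4745567199722150756519)) (.leaf (nat_lit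
    2453437887283577007934537870))) (.leaf (nat_lit 0))) (.node (.leaf (nat_lit
    23658100307894982607006)) (.leaf (nat_lit 23041850687543021076482)))) (.node (.node (.leaf
    (nat_lit 465450575802622671646359557)) (.leaf (nat_lit 22013159422818171158530))) (.node (.leaf
    (nat_lit 34737657309273204439142690521115)) (.leaf (nat_lit 2321661757000796503852449873))))))
    (.node (.node (.node (.node (.node (.leaf (nat_lit 1904679385872709386330)) (.leaf (nat_lit
    75412031190848720011295))) (.leaf (nat_lit 0))) (.node (.leaf (nat_lit
    21038642240284801564854)) (.leaf (nat_lit 937926750418108418)))) (.node (.node (.leaf (nat_lit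
    11769381047705817776204)) (.leaf (nat_lit 1618165149561855958740893778))) (.node (.leaf
    (nat_lit 30167043178805781460778096066677)) (.leaf (nat_lit 46847099907897880150175))))) (.node
    (.node (.node (.leaf (nat_lit 174241515987864808675606543)) (.leaf (nat_lit 0))) (.node (.leaf
    (nat_lit 910789056388464327591987061918662756)) (.leaf (nat_lit 949333736879685634)))) (.node
    (.node (.leaf (nat_lit 9011739032351070683310)) (.leaf (nat_lit 897672976890200066))) (.node
    (.leaf (nat_lit 0)) (.leaf (nat_lit 64745335830138094551063))))))) (.node (.node (.node (.node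
    (.node (.node (.leaf (nat_lit 0)) (.leaf (nat_lit 2278752189461692475))) (.leaf (nat_lit 0)))
    (.node (.leaf (nat_lit 6230547425928958640279)) (.leaf (nat_lit 1522127154048008194)))) (.node
    (.node (.leaf (nat_lit 0)) (.leaf (nat_lit 48446583555607199154207))) (.node (.leaf (nat_lit
    29003722200485212651532)) (.leaf (nat_lit 2031467591968620546))))) (.node (.node (.node (.node
    (.leaf (nat_lit 1448106710765416939550)) (.leaf (nat_lit 86341523972531152871471333048347)))
    (.leaf (nat_lit 15320466568833090650142))) (.node (.leaf (nat_lit 22625107410656119947451))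
    (.leaf (nat_lit 1815430393382436866)))) (.node (.node (.leaf (nat_lit 15389663787769405833271))
    (.leaf (nat_lit 9390991828075292065794))) (.node (.leaf (nat_lit 0)) (.leaf (nat_lit
    2722690451612740180844497988535775514304446496)))))) (.node (.node (.node (.node (.node (.leaf
    (nat_lit 1203681720081617977482)) (.leaf (nat_lit 1614877562085950588341977195))) (.leaf
    (nat_lit 31241250837913535853162611933450))) (.node (.leaf (nat_lit
    226388156168167956043530317)) (.leaf (nat_lit 1245862951919943682)))) (.node (.node (.leaf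
    (nat_lit 425554764724382618788036633)) (.leaf (nat_lit 22514831731428218306604))) (.node (.leaf
    (nat_lit 24348704312192162583564662407185)) (.leaf (nat_lit 0))))) (.node (.node (.node (.leaf
    (nat_lit 0)) (.leaf (nat_lit 31009453930902299279400))) (.node (.leaf (nat_lit 0)) (.leaf
    (nat_lit 2128827483163003881661923470)))) (.node (.node (.leaf (nat_lit
    17760109943969890369663)) (.leaf (nat_lit 921317287250755586))) (.node (.leaf (nat_lit
    32499446355661179519167)) (.leaf (nat_lit 2437873340911888931464937592)))))))) (.node (.node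
    (.node (.node (.node (.node (.node (.leaf (nat_lit 0)) (.leaf (nat_lit
    76019899482379974279209))) (.leaf (nat_lit 10865460917231608332361))) (.node (.leaf (nat_lit
    19350753896900631658529)) (.leaf (nat_lit 952843661463388162)))) (.node (.node (.leaf (nat_lit
    8702454328886294675603)) (.leaf (nat_lit 0))) (.node (.leaf (nat_lit 28902320558087581401124))
    (.leaf (nat_lit 1130173553148236411445297259483627771))))) (.node (.node (.node (.node (.leaf
    (nat_lit 174997366715581727643009196)) (.leaf (nat_lit 2650046260151337495084400721))) (.leaf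
    (nat_lit 41943721789881730662510))) (.node (.leaf (nat_lit 721865165007618050)) (.leaf (nat_lit
    19726056342217510027266)))) (.node (.node (.leaf (nat_lit 3163709931378517934259)) (.leaf
    (nat_lit 1577293612373377026))) (.node (.leaf (nat_lit 33296630634032757145782)) (.leaf
    (nat_lit 21749370121611301290054)))))) (.node (.node (.node (.node (.node (.leaf (nat_lit
    682548533084205285447)) (.leaf (nat_lit 78022234641041774018599))) (.leaf (nat_lit
    1324719242858499760562896922))) (.node (.leaf (nat_lit 20877740166579705020438)) (.leaf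
    (nat_lit 1032363022443741186)))) (.node (.node (.leaf (nat_lit 6719456364750715420763)) (.leaf
    (nat_lit 1645849027849282441420472560))) (.node (.leaf (nat_lit 27910775415248892657754))
    (.leaf (nat_lit 63541749529579660443660))))) (.node (.node (.node (.leaf (nat_lit
    6668701918460700196954)) (.leaf (nat_lit 0))) (.node (.leaf (nat_lit 811798619089928203))
    (.leaf (nat_lit 1083457130217996290)))) (.node (.node (.leaf (nat_lit 317519755303059458))
    (.leaf (nat_lit 11553895765924842242050))) (.node (.leaf (nat_lit
    10171224109553931598001332355268)) (.leaf (nat_lit 931807237957449523105366294))))))) (.node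
    (.node (.node (.node (.node (.node (.leaf (nat_lit 1798572044827314290727)) (.leaf (nat_lit
    80052597109957336075542494248987))) (.leaf (nat_lit 0))) (.node (.leaf (nat_lit 0)) (.leaf
    (nat_lit 26583450753459839762434)))) (.node (.node (.leaf (nat_lit 0)) (.leaf (nat_lit
    1606862575818256262971523186))) (.node (.leaf (nat_lit 968205494208573928118681806)) (.leaf
    (nat_lit 67908995773612024856712))))) (.node (.node (.node (.node (.leaf (nat_lit
    1503608786983575552153)) (.leaf (nat_lit 82104337737831472627851))) (.leaf (nat_lit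
    21574125464715289362516))) (.node (.leaf (nat_lit 0)) (.leaf (nat_lit 1461898131871498242))))
    (.node (.node (.leaf (nat_lit 15989186347881866657826)) (.leaf (nat_lit
    26357394108432284581890))) (.node (.leaf (nat_lit 0)) (.leaf (nat_lit
    72639970871093326184700)))))) (.node (.node (.node (.node (.node (.leaf (nat_lit
    4099899353205842313268)) (.leaf (nat_lit 2595491863756398693691162801))) (.leaf (nat_lit
    453512553240745996257067106))) (.node (.leaf (nat_lit 23067803089611637588023)) (.leaf (nat_lit
    1992796672737232582017810636)))) (.node (.node (.leaf (nat_lit 444596088886436100881776866))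
    (.leaf (nat_lit 21704161703184008675330))) (.node (.leaf (nat_lit 29685669221505532362770))
    (.leaf (nat_lit 59561735299770616053853))))) (.node (.node (.node (.leaf (nat_lit 0)) (.leaf
    (nat_lit 0))) (.node (.leaf (nat_lit 27606066786965972516888)) (.leaf (nat_lit
    13675815438562991350289820102460623733012052438598380663026213014898878644484)))) (.node (.node
    (.leaf (nat_lit 12530307698689868759194)) (.leaf (nat_lit 25776354321413890572290))) (.node
    (.leaf (nat_lit 37161267430861220020248)) (.leaf (nat_lit 75020556071076679057412)))))))))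
    (.node (.node (.node (.node (.node (.node (.node (.node (.leaf (nat_lit 193693487073992048653))
    (.leaf (nat_lit 69241967406213710938204))) (.leaf (nat_lit 1249009373532687634366988494)))
    (.node (.leaf (nat_lit 244358079011779761980833886)) (.leaf (nat_lit 902459425883815938))))
    (.node (.node (.leaf (nat_lit 0)) (.leaf (nat_lit 47142099476451701227538))) (.node (.leaf
    (nat_lit 7683276098984699166887)) (.leaf (nat_lit 1492301380726161410))))) (.node (.node (.node
    (.node (.leaf (nat_lit 3993791450584883331240)) (.leaf (nat_lit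
    2651199638600163011321074063119876341))) (.leaf (nat_lit 0))) (.node (.leaf (nat_lit
    676564637832457647464644770)) (.leaf (nat_lit 1544088077746700290)))) (.node (.node (.leaf
    (nat_lit 14416553141763448176653)) (.leaf (nat_lit 850243610090799106))) (.node (.leaf (nat_lit
    0)) (.leaf (nat_lit 70421105345007263612970)))))) (.node (.node (.node (.node (.node (.leaf
    (nat_lit 95086818233675995753147301835964515)) (.leaf (nat_lit 2387965777505550347))) (.leaf
    (nat_lit 1023991331327581254764986646))) (.node (.leaf (nat_lit
    28173572205563321218997964152153984525433884777736240300297)) (.leaf (nat_lit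
    56936836451298774810626)))) (.node (.node (.leaf (nat_lit 6709683523090654659890852986999))
    (.leaf (nat_lit 0))) (.node (.leaf (nat_lit 12972901356426756292663)) (.leaf (nat_lit
    62481029656910548369587))))) (.node (.node (.node (.leaf (nat_lit 7245163796389152620628))
    (.leaf (nat_lit 42551055329892640538559986860175))) (.node (.leaf (nat_lit
    7867720456566091219180)) (.leaf (nat_lit 1035465268731707394)))) (.node (.node (.leaf (nat_lit
    18044766659081866933104965648401)) (.leaf (nat_lit 1399965158729711618))) (.node (.leaf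
    (nat_lit 0)) (.leaf (nat_lit 78966928516407521777858264760463))))))) (.node (.node (.node
    (.node (.node (.node (.leaf (nat_lit 0)) (.leaf (nat_lit 70158852299945146515493))) (.leaf
    (nat_lit 39274314438184662138933))) (.node (.leaf (nat_lit 0)) (.leaf (nat_lit
    51117612338985576890370)))) (.node (.node (.leaf (nat_lit 10837525626112157352007)) (.leaf
    (nat_lit 17746308698478437662790))) (.node (.leaf (nat_lit 0)) (.leaf (nat_lit
    22609262290648318137186377791832860049613889337182006909235369767606772760836))))) (.node
    (.node (.node (.node (.leaf (nat_lit 4939264631818093264986)) (.leaf (nat_lit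
    2877428433696035205547373491713868050))) (.leaf (nat_lit 0))) (.node (.leaf (nat_lit
    25032993965672660926622)) (.leaf (nat_lit 39902200246000966369282)))) (.node (.node (.leaf
    (nat_lit 0)) (.leaf (nat_lit 1219088699840402751490))) (.node (.leaf (nat_lit
    824331677257039931)) (.leaf (nat_lit 1424330774487891979)))))) (.node (.node (.node (.node
    (.node (.leaf (nat_lit 0)) (.leaf (nat_lit 76615706998010206683318))) (.leaf (nat_lit
    41649405360357651972105))) (.node (.leaf (nat_lit 798823312049832511092310417940545641)) (.leaf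
    (nat_lit 30314441420231388889090)))) (.node (.node (.leaf (nat_lit 13282059099120664248430))
    (.leaf (nat_lit 24829906134981891260463))) (.node (.leaf (nat_lit 0)) (.leaf (nat_lit
    75134703439601945661685650227248))))) (.node (.node (.node (.leaf (nat_lit 0)) (.leaf (nat_lit
    31074488302342299123933))) (.node (.leaf (nat_lit 900825653742978135734091976)) (.leaf (nat_lit
    1173389235680575490)))) (.node (.node (.leaf (nat_lit 17644419091184016883894)) (.leaf (nat_lit
    7998295857419237130242))) (.node (.leaf (nat_lit 0)) (.leaf (nat_lit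
    2268775081708988375087972556)))))))) (.node (.node (.node (.node (.node (.node (.node (.leaf
    (nat_lit 931568317156070457397)) (.leaf (nat_lit 0))) (.leaf (nat_lit
    38706840048712028455009))) (.node (.leaf (nat_lit 0)) (.leaf (nat_lit
    7680130738028309315586)))) (.node (.node (.leaf (nat_lit 0)) (.leaf (nat_lit
    43090630805543726440681174270067))) (.node (.leaf (nat_lit 0)) (.leaf (nat_lit
    1457399136449069058))))) (.node (.node (.node (.node (.leaf (nat_lit
    37931191358352590138245283)) (.leaf (nat_lit 81006317082607677014175))) (.leaf (nat_lit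
    43437958136108564021343))) (.node (.leaf (nat_lit 20476057925890483617795)) (.leaf (nat_lit
    59082190440216024776706)))) (.node (.node (.leaf (nat_lit 0)) (.leaf (nat_lit
    515851578276708354))) (.node (.leaf (nat_lit 1049225392808507240884732145)) (.leaf (nat_lit
    77066287951939307268546433974299)))))) (.node (.node (.node (.node (.node (.leaf (nat_lit
    107443964753129714282135633)) (.leaf (nat_lit 77856346941588351680671))) (.leaf (nat_lit
    41026810718101287665666))) (.node (.leaf (nat_lit 18326980713898316071068)) (.leaf (nat_lit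
    1068111031680761858)))) (.node (.node (.leaf (nat_lit 11884676998894731854035)) (.leaf (nat_lit
    0))) (.node (.leaf (nat_lit 7747867149793101021363)) (.leaf (nat_lit
    806525113923099950617722978))))) (.node (.node (.node (.leaf (nat_lit
    7754692299200736247481222103250)) (.leaf (nat_lit 44051297768624013639776))) (.node (.leaf
    (nat_lit 7867729182840125063403)) (.leaf (nat_lit 1996734568473667496111767835)))) (.node
    (.node (.leaf (nat_lit 10496730366966803660872)) (.leaf (nat_lit 53377207066053008621570)))
    (.node (.leaf (nat_lit 39025651752008952105609919267050)) (.leaf (nat_lit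
    2428352717614314472687796305))))))) (.node (.node (.node (.node (.node (.node (.leaf (nat_lit
    1858527903991422189606)) (.leaf (nat_lit 2529300597380436998572212322))) (.leaf (nat_lit
    12359694194888992292934))) (.node (.leaf (nat_lit 4574921887586753642678)) (.leaf (nat_lit
    1119618555827060738)))) (.node (.node (.leaf (nat_lit 378858455087203859004915925)) (.leaf
    (nat_lit 0))) (.node (.leaf (nat_lit 0)) (.leaf (nat_lit 62323723565722446790826))))) (.node
    (.node (.node (.leaf (nat_lit 6816162435792948625534)) (.leaf (nat_lit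
    15154457554180102094928))) (.node (.leaf (nat_lit 0)) (.leaf (nat_lit 1884392260892753922))))
    (.node (.node (.leaf (nat_lit 1513129262227784925186)) (.leaf (nat_lit
    33293372145119554371586))) (.node (.leaf (nat_lit 32835481173862824214558)) (.leaf (nat_lit
    72954349859358359355654)))))) (.node (.node (.node (.node (.node (.leaf (nat_lit
    4478083502668148572317)) (.leaf (nat_lit 2936470520317435906129137718056002282330783776)))
    (.leaf (nat_lit 1384714727504610932958691342))) (.node (.leaf (nat_lit
    814241998861635503133404418877554793)) (.leaf (nat_lit 31587301790417779097602)))) (.node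
    (.node (.leaf (nat_lit 6816160331327693062303)) (.leaf (nat_lit 1430926143447498754))) (.node
    (.leaf (nat_lit 32813146272956349087828)) (.leaf (nat_lit
    2440240207181489225574456060019081461))))) (.node (.node (.node (.leaf (nat_lit
    52594794278529576464547865)) (.leaf (nat_lit 0))) (.node (.leaf (nat_lit
    463099375084874696460169755784249447)) (.leaf (nat_lit 57426622340923895513323)))) (.node
    (.node (.leaf (nat_lit 703017633327088068239684540723041870729969886)) (.leaf (nat_lit
    1238401683193724930))) (.node (.leaf (nat_lit 0)) (.leaf (nat_lit 0)))))))))) (.node (.node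
    (.node (.node (.node (.node (.node (.node (.node (.leaf (nat_lit 193693768445889544200)) (.leaf
    (nat_lit 2481499547955636674710733004))) (.leaf (nat_lit 0))) (.node (.leaf (nat_lit
    624271134405870124274024661)) (.leaf (nat_lit 1675952494380974082)))) (.node (.node (.leaf
    (nat_lit 6645641801305409388634)) (.leaf (nat_lit 1462362072100546729105162454))) (.node (.leaf
    (nat_lit 27251283482854159482956)) (.leaf (nat_lit 46086601529208382619650))))) (.node (.node
    (.node (.node (.leaf (nat_lit 3947673323617185366166)) (.leaf (nat_lit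
    60950283879718790037740))) (.leaf (nat_lit 42681824030789845844090))) (.node (.leaf (nat_lit
    670506099887241699055108357)) (.leaf (nat_lit 1530999465559851010)))) (.node (.node (.leaf
    (nat_lit 14356598407618778824832)) (.leaf (nat_lit 4050645907069911367682))) (.node (.leaf
    (nat_lit 29907695980126060871717)) (.leaf (nat_lit
    2683609181049136794739850227285338768215113851)))))) (.node (.node (.node (.node (.node (.leaf
    (nat_lit 0)) (.leaf (nat_lit 78059780728527559786632))) (.leaf (nat_lit
    38268165105641224077352))) (.node (.leaf (nat_lit 0)) (.leaf (nat_lit 805211453517856770))))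
    (.node (.node (.leaf (nat_lit 0)) (.leaf (nat_lit 37839858434667750555701))) (.node (.leaf
    (nat_lit 7646402175401155821727)) (.leaf (nat_lit 1131471467864954925277673665228832873)))))
    (.node (.node (.node (.leaf (nat_lit 140543123881884382126145603)) (.leaf (nat_lit
    16095247272605808525324))) (.node (.leaf (nat_lit 26171528141337618743494)) (.leaf (nat_lit
    40128231684685800079362)))) (.node (.node (.leaf (nat_lit 14043093125515475877890)) (.leaf
    (nat_lit 11742968296735879921666))) (.node (.leaf (nat_lit 0)) (.leaf (nat_lit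
    1953696281141828331652775950))))))) (.node (.node (.node (.node (.node (.node (.leaf (nat_lit
    41378105771819019)) (.leaf (nat_lit 76920647555128406245533))) (.leaf (nat_lit
    39158495505539831890064))) (.node (.leaf (nat_lit 20264366207749322899506)) (.leaf (nat_lit
    1102307320773345282)))) (.node (.node (.leaf (nat_lit 353017154060239216352428258)) (.leaf
    (nat_lit 48553311005645698433108))) (.node (.leaf (nat_lit 952509547666006276235853937)) (.leaf
    (nat_lit 46077414608434414944258))))) (.node (.node (.node (.node (.leaf (nat_lit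
    6551367885942099958589710204955)) (.leaf (nat_lit 78363847171659704500277))) (.leaf (nat_lit
    478586631396991511675797745))) (.node (.leaf (nat_lit 13807565854622718558288)) (.leaf (nat_lit
    1106817294132183042)))) (.node (.node (.leaf (nat_lit 7572619125470930337958)) (.leaf (nat_lit
    844896015030026242))) (.node (.leaf (nat_lit 33832154933039382855836)) (.leaf (nat_lit
    3377399111817338825625145795198749926374684022358241956235991712139182385)))))) (.node (.node
    (.node (.node (.node (.leaf (nat_lit 3721719847900263153808)) (.leaf (nat_lit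
    2239910631113125035912724611))) (.leaf (nat_lit 1264565000463319042))) (.node (.leaf (nat_lit
    6687091396257983430843)) (.leaf (nat_lit 831954737401298946)))) (.node (.node (.leaf (nat_lit
    11169800364273386586271)) (.leaf (nat_lit 1668819171757011951608398024))) (.node (.leaf
    (nat_lit 0)) (.leaf (nat_lit 74640157325052989092885357199477))))) (.node (.node (.node (.leaf
    (nat_lit 1641806533075084181690)) (.leaf (nat_lit 46182832332372369932364))) (.node (.leaf
    (nat_lit 0)) (.leaf (nat_lit 23949113806404777607337)))) (.node (.node (.leaf (nat_lit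
    512750346996328365111378082)) (.leaf (nat_lit 36604581856428475744258))) (.node (.leaf (nat_lit
    0)) (.leaf (nat_lit 68052552303960153493229866909950)))))))) (.node (.node (.node (.node (.node
    (.node (.node (.leaf (nat_lit 0)) (.leaf (nat_lit 44016086262658382364802))) (.leaf (nat_lit
    0))) (.node (.leaf (nat_lit 19304886423674572439622)) (.leaf (nat_lit 1127499004771434498))))
    (.node (.node (.leaf (nat_lit 9795423493178559496343)) (.leaf (nat_lit
    43558824366358030123136))) (.node (.leaf (nat_lit 29123076579092318060703)) (.leaf (nat_lit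
    1086696454682181634))))) (.node (.node (.node (.node (.leaf (nat_lit 4888555364787280871595))
    (.leaf (nat_lit 2564354636000869356247711919))) (.leaf (nat_lit 43281926167503059484863)))
    (.node (.leaf (nat_lit 19526031184166429851690)) (.leaf (nat_lit 34460395974671571550210))))
    (.node (.node (.leaf (nat_lit 14928404125902662992048)) (.leaf (nat_lit
    28455696753191907688450))) (.node (.leaf (nat_lit 0)) (.leaf (nat_lit
    2166002376046908083160743961)))))) (.node (.node (.node (.node (.node (.leaf (nat_lit 0))
    (.leaf (nat_lit 60950389008981913960539))) (.leaf (nat_lit 760583496317140994))) (.node (.leaf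
    (nat_lit 15380113347985776246934)) (.leaf (nat_lit 56471854967603079610370)))) (.node (.node
    (.leaf (nat_lit 12553389908040238694627)) (.leaf (nat_lit 54089382932716242613476690034823)))
    (.node (.leaf (nat_lit 0)) (.leaf (nat_lit 0))))) (.node (.node (.node (.leaf (nat_lit
    7817012300136512159951)) (.leaf (nat_lit 45642621613413127880742))) (.node (.leaf (nat_lit
    26411351173176202821687)) (.leaf (nat_lit 62683948904285204578354)))) (.node (.node (.leaf
    (nat_lit 17266648287248268853250)) (.leaf (nat_lit 1499466751975489538))) (.node (.leaf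
    (nat_lit 36133432138313710633050)) (.leaf (nat_lit 43452073035313522606132))))))) (.node (.node
    (.node (.node (.node (.node (.leaf (nat_lit 1738624067392051019866)) (.leaf (nat_lit
    2249577384211868828578349137))) (.leaf (nat_lit 38499070006028490965183))) (.node (.leaf
    (nat_lit 244056779166711451182432261)) (.leaf (nat_lit 28091474190013890232322)))) (.node
    (.node (.leaf (nat_lit 0)) (.leaf (nat_lit 39172204473779189121150))) (.node (.leaf (nat_lit
    30304166003226758545504)) (.leaf (nat_lit 43637701273357014728852))))) (.node (.node (.node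
    (.node (.leaf (nat_lit 1494226527124141047967)) (.leaf (nat_lit 69191236051153937694763)))
    (.leaf (nat_lit 15209795956693623046330))) (.node (.leaf (nat_lit 205216426274954257228890194))
    (.leaf (nat_lit 1360004267611652098)))) (.node (.node (.leaf (nat_lit 16136717930103771955371))
    (.leaf (nat_lit 875999249064656898))) (.node (.leaf (nat_lit 32789362343216274407464)) (.leaf
    (nat_lit 43369060997023867797541)))))) (.node (.node (.node (.node (.node (.leaf (nat_lit
    3053020027774965055641)) (.leaf (nat_lit 0))) (.leaf (nat_lit 28399530826642133024771))) (.node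
    (.leaf (nat_lit 814716743228703496622414147566829673)) (.leaf (nat_lit
    60990320547666407391411)))) (.node (.node (.leaf (nat_lit 13775524843852287639601)) (.leaf
    (nat_lit 1410096797602414594))) (.node (.leaf (nat_lit 0)) (.leaf (nat_lit
    20946916487270309756999))))) (.node (.node (.node (.leaf (nat_lit 8873084599535120089243))
    (.leaf (nat_lit 46818508524188541845575))) (.node (.leaf (nat_lit 26937548095554396029100))
    (.leaf (nat_lit 2150741914076518071419535472)))) (.node (.node (.leaf (nat_lit
    15855333318070504718340)) (.leaf (nat_lit 819283054869741570))) (.node (.leaf (nat_lit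
    10551842060151296294921)) (.leaf (nat_lit 2123521424963075134766448839))))))))) (.node (.node
    (.node (.node (.node (.node (.node (.node (.leaf (nat_lit 488841673900120277025)) (.leaf
    (nat_lit 2469726965033018574252540066))) (.leaf (nat_lit 20199800804342424076341))) (.node
    (.leaf (nat_lit 3929275710404519198917)) (.leaf (nat_lit 1063041020356329474)))) (.node (.node
    (.leaf (nat_lit 9929013344655496118312)) (.leaf (nat_lit 47709340093543063158812))) (.node
    (.leaf (nat_lit 7821627242616323244206)) (.leaf (nat_lit 1898329051811151874))))) (.node (.node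
    (.node (.node (.leaf (nat_lit 136660933031362562)) (.leaf (nat_lit 76528653122146117288118)))
    (.leaf (nat_lit 0))) (.node (.leaf (nat_lit 24018395878218231120043)) (.leaf (nat_lit
    1242487674560970754)))) (.node (.node (.leaf (nat_lit 243150181645430786183397381)) (.leaf
    (nat_lit 5420319468304770203650))) (.node (.leaf (nat_lit 17354030942291931365562)) (.leaf
    (nat_lit 71312674519134528274440)))))) (.node (.node (.node (.node (.node (.leaf (nat_lit
    1309805666750479663154)) (.leaf (nat_lit 78021484228633604325567))) (.leaf (nat_lit 0))) (.node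
    (.leaf (nat_lit 0)) (.leaf (nat_lit 41529972584136239677442)))) (.node (.node (.leaf (nat_lit
    0)) (.leaf (nat_lit 18336621680039083311116))) (.node (.leaf (nat_lit 15652540883024056877239))
    (.leaf (nat_lit 1138408701055878044785573942))))) (.node (.node (.node (.leaf (nat_lit
    231817502798336937425109073)) (.leaf (nat_lit 41951688802628522369634158313703))) (.node (.leaf
    (nat_lit 0)) (.leaf (nat_lit 8985520099081809231874)))) (.node (.node (.leaf (nat_lit
    316393717957263362)) (.leaf (nat_lit 33588528914716269150210))) (.node (.leaf (nat_lit 0))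
    (.leaf (nat_lit 49724923597927712227341))))))) (.node (.node (.node (.node (.node (.node (.leaf
    (nat_lit 525745577721189302345)) (.leaf (nat_lit 48792913369254389285047))) (.leaf (nat_lit
    0))) (.node (.leaf (nat_lit 14909747549913217171623)) (.leaf (nat_lit 1199841389500825602))))
    (.node (.node (.leaf (nat_lit 249348144865034436419518536)) (.leaf (nat_lit 0))) (.node (.leaf
    (nat_lit 29944213133214550786140)) (.leaf (nat_lit 51489877955588230080962417197326))))) (.node
    (.node (.node (.node (.leaf (nat_lit 44056790974988290)) (.leaf (nat_lit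
    78096380219643807334555))) (.leaf (nat_lit 0))) (.node (.leaf (nat_lit
    25244548728684120571943)) (.leaf (nat_lit 1476957025945649154)))) (.node (.node (.leaf (nat_lit
    519097516834711336948858894)) (.leaf (nat_lit 1557731496628977666))) (.node (.leaf (nat_lit
    30597815203099333919489386676241)) (.leaf (nat_lit 0)))))) (.node (.node (.node (.node (.node
    (.leaf (nat_lit 793233502079572705352)) (.leaf (nat_lit 2606523648658983972809998434))) (.leaf
    (nat_lit 0))) (.node (.leaf (nat_lit 0)) (.leaf (nat_lit 65181983961599144793814910435582))))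
    (.node (.node (.leaf (nat_lit 13480051271867182547073)) (.leaf (nat_lit 0))) (.node (.leaf
    (nat_lit 1058597925915576258665906270)) (.leaf (nat_lit 70035197521492527218743))))) (.node
    (.node (.node (.leaf (nat_lit 0)) (.leaf (nat_lit 0))) (.node (.leaf (nat_lit
    29686056018856311028511288918043)) (.leaf (nat_lit 65427981845669815189554)))) (.node (.node
    (.leaf (nat_lit 0)) (.leaf (nat_lit 29986822394213495406594))) (.node (.leaf (nat_lit
    1131563950798929931)) (.leaf (nat_lit 49931612081835101847743)))))))) (.node (.node (.node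
    (.node (.node (.node (.node (.leaf (nat_lit 1079146773482813194293)) (.leaf (nat_lit
    2511468904542498400338444365))) (.leaf (nat_lit 38254787443065887064212))) (.node (.leaf
    (nat_lit 19742779156263363346473)) (.leaf (nat_lit 1496935100682731522)))) (.node (.node (.leaf
    (nat_lit 0)) (.leaf (nat_lit 36391321352824766529662))) (.node (.leaf (nat_lit
    27269730790668096438285)) (.leaf (nat_lit 821810719287507465021948201))))) (.node (.node (.node
    (.node (.leaf (nat_lit 4796301661121315799064)) (.leaf (nat_lit 0))) (.leaf (nat_lit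
    21795405187381828190390))) (.node (.leaf (nat_lit 24269158026970272504589567983664)) (.leaf
    (nat_lit 1471608632020959234)))) (.node (.node (.leaf (nat_lit 498394902000190672412606659))
    (.leaf (nat_lit 1458890443265562312706))) (.node (.leaf (nat_lit 0)) (.leaf (nat_lit
    2322821920385928955674493052)))))) (.node (.node (.node (.node (.node (.leaf (nat_lit
    3403445536134134956166)) (.leaf (nat_lit 74346853459507263242399))) (.leaf (nat_lit
    44264224097159140542185694625840))) (.node (.leaf (nat_lit 0)) (.leaf (nat_lit
    1085844212911570946)))) (.node (.node (.leaf (nat_lit 380067966888464189533454514)) (.leaf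
    (nat_lit 0))) (.node (.leaf (nat_lit 333821684222811875395764338)) (.leaf (nat_lit
    69048271661700613341205))))) (.node (.node (.node (.leaf (nat_lit 6539570910444864602204))
    (.leaf (nat_lit 49028872472962416891986201346165))) (.node (.leaf (nat_lit
    9071896171151408862141046128755)) (.leaf (nat_lit 64836946617147339243617)))) (.node (.node
    (.leaf (nat_lit 6797727101506019328159)) (.leaf (nat_lit 33639263934925039140866))) (.node
    (.leaf (nat_lit 32499446074065943724222)) (.leaf (nat_lit
    2592493542437307146583044865397227625))))))) (.node (.node (.node (.node (.node (.node (.leaf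
    (nat_lit 27584864462160112760119665925423207)) (.leaf (nat_lit 2257586711555441341505994927)))
    (.leaf (nat_lit 0))) (.node (.leaf (nat_lit 742196646632334363975520076389810281)) (.leaf
    (nat_lit 395665096115879938)))) (.node (.node (.leaf (nat_lit 0)) (.leaf (nat_lit 0))) (.node
    (.leaf (nat_lit 976322531591595748189982832070099046)) (.leaf (nat_lit
    1409650428719206076692824363))))) (.node (.node (.node (.leaf (nat_lit 1448264759918322712650))
    (.leaf (nat_lit 44766592377355092820033))) (.node (.leaf (nat_lit
    909165239984592997965367861622210659)) (.leaf (nat_lit 1362397088381534210)))) (.node (.node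
    (.leaf (nat_lit 332319893354775194491945071)) (.leaf (nat_lit 973530431574114306))) (.node
    (.leaf (nat_lit 661367608465398264362063555765472362678976734)) (.leaf (nat_lit
    2759104476902670775194159066579309744651501686)))))) (.node (.node (.node (.node (.node (.leaf
    (nat_lit 3477242787399494467587)) (.leaf (nat_lit 79995592794640486695098))) (.leaf (nat_lit
    0))) (.node (.leaf (nat_lit 19392290318499744776267)) (.leaf (nat_lit
    57454250922914001125378)))) (.node (.node (.leaf (nat_lit 13687901120965839618246)) (.leaf
    (nat_lit 4567149110594862514178))) (.node (.leaf (nat_lit 32817043716401761812565)) (.leaf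
    (nat_lit 70731578999310536343595))))) (.node (.node (.node (.leaf (nat_lit 0)) (.leaf (nat_lit
    47100585855807465390142))) (.node (.leaf (nat_lit 14282817919219933577369)) (.leaf (nat_lit
    66013687964133889343618)))) (.node (.node (.leaf (nat_lit 18793064837345253195941)) (.leaf
    (nat_lit 692056537195216898))) (.node (.leaf (nat_lit 30755735053090752233561)) (.leaf (nat_lit
    2472479450898052753146511411))))))))))) (.node (.node (.node (.node (.node (.node (.node (.node
    (.node (.node (.leaf (nat_lit 110681168237073465353)) (.leaf (nat_lit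
    2479383938202068395317526816))) (.leaf (nat_lit 1002230103521823736627200081))) (.node (.leaf
    (nat_lit 19014557920058478362752)) (.leaf (nat_lit 1515794001431756802)))) (.node (.node (.leaf
    (nat_lit 0)) (.leaf (nat_lit 0))) (.node (.leaf (nat_lit 830799898004816073)) (.leaf (nat_lit
    2078208201679238026148184069))))) (.node (.node (.node (.node (.leaf (nat_lit
    114550351682272041204187161)) (.leaf (nat_lit 79134167057570560409756))) (.leaf (nat_lit 0)))
    (.node (.leaf (nat_lit 23690849919197589471408)) (.leaf (nat_lit 34432717132875383898114))))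
    (.node (.node (.leaf (nat_lit 14282818749862313656558)) (.leaf (nat_lit 1420933987932700674)))
    (.node (.leaf (nat_lit 280024001036722521774489669)) (.leaf (nat_lit 0)))))) (.node (.node
    (.node (.node (.node (.leaf (nat_lit 1978466362244857004142)) (.leaf (nat_lit
    67197858691153299439654))) (.leaf (nat_lit 40238187216218234224736))) (.node (.leaf (nat_lit
    592241315242145699781148849)) (.leaf (nat_lit 1239808688710090754)))) (.node (.node (.leaf
    (nat_lit 10413505951860145717386)) (.leaf (nat_lit 27906269862407834894427))) (.node (.leaf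
    (nat_lit 27896316467426694987906)) (.leaf (nat_lit 49935927368827537653773))))) (.node (.node
    (.node (.leaf (nat_lit 7079153373339078295586)) (.leaf (nat_lit 21823164110153214787674)))
    (.node (.leaf (nat_lit 687526935835836418)) (.leaf (nat_lit 1536490555477983234)))) (.node
    (.node (.leaf (nat_lit 628435708380814276562727778888847373143375904)) (.leaf (nat_lit
    968041746837667842))) (.node (.leaf (nat_lit 0)) (.leaf (nat_lit 73314059549322994974793)))))))
    (.node (.node (.node (.node (.node (.node (.leaf (nat_lit 1111451093807510257729)) (.leaf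
    (nat_lit 2491515669207917967056306375))) (.leaf (nat_lit 11940008248466638831851))) (.node
    (.leaf (nat_lit 628044425225931862160179406)) (.leaf (nat_lit 833911778297303881878863874))))
    (.node (.node (.leaf (nat_lit 350749338980578019885973729)) (.leaf (nat_lit
    25287146610381962805312))) (.node (.leaf (nat_lit 29639562753205084553309)) (.leaf (nat_lit
    56127030076042806525971231916975056158825))))) (.node (.node (.node (.node (.leaf (nat_lit
    1494225259868270559416)) (.leaf (nat_lit 81586711979728230875166))) (.leaf (nat_lit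
    1315502326668663225896403025))) (.node (.leaf (nat_lit 876382547924699354119123367509753956))
    (.leaf (nat_lit 1528044459340726274)))) (.node (.node (.leaf (nat_lit 5963006159923594854638))
    (.leaf (nat_lit 1093297656207376386))) (.node (.leaf (nat_lit 32831594144407434231846)) (.leaf
    (nat_lit 1428821972281512232954888469)))))) (.node (.node (.node (.node (.node (.leaf (nat_lit
    1356902420954867999613986865295)) (.leaf (nat_lit 79221958960995383836681))) (.leaf (nat_lit
    1023713307449792007538712133681676387))) (.node (.leaf (nat_lit 6687092522071990927440)) (.leaf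
    (nat_lit 891345948897312770)))) (.node (.node (.leaf (nat_lit 338954527496040406889791542))
    (.leaf (nat_lit 50881963900545639055450))) (.node (.leaf (nat_lit 0)) (.leaf (nat_lit
    872002846688365067267997722))))) (.node (.node (.node (.leaf (nat_lit 8199624191947598659592))
    (.leaf (nat_lit 28187104339501860978840))) (.node (.leaf (nat_lit 880406504832141997730168846))
    (.leaf (nat_lit 1419116684190547970)))) (.node (.node (.leaf (nat_lit 15490794793664851935269))
    (.leaf (nat_lit 1553369373224337410))) (.node (.leaf (nat_lit 36561737974156563251241)) (.leaf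
    (nat_lit 70925392957567186174190)))))))) (.node (.node (.node (.node (.node (.node (.node
    (.leaf (nat_lit 654863637381290065954)) (.leaf (nat_lit
    2502817155905997616973851011978032701168419038))) (.leaf (nat_lit 0))) (.node (.leaf (nat_lit
    15274072855503593210026)) (.leaf (nat_lit 1482020953375761432578)))) (.node (.node (.leaf
    (nat_lit 0)) (.leaf (nat_lit 51425591816259717909270092906523))) (.node (.leaf (nat_lit
    951755887179656980290863139)) (.leaf (nat_lit 54604401508966499287042))))) (.node (.node (.node
    (.node (.leaf (nat_lit 3053101232902019154087)) (.leaf (nat_lit 2203007641955901576394833940)))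
    (.leaf (nat_lit 43180078937598681350239))) (.node (.leaf (nat_lit 0)) (.leaf (nat_lit
    1372951489475117058)))) (.node (.node (.leaf (nat_lit 487351417384309678550548721)) (.leaf
    (nat_lit 14818940921368948178946))) (.node (.leaf (nat_lit 33753929235518757994662)) (.leaf
    (nat_lit 2308060926476279814732120226)))))) (.node (.node (.node (.node (.node (.leaf (nat_lit
    3062179081602820407423)) (.leaf (nat_lit 67217374477755491745845))) (.leaf (nat_lit
    954757241504433743293841437))) (.node (.leaf (nat_lit 15928902576735032377353)) (.leaf (nat_lit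
    31591807350452907081730)))) (.node (.node (.leaf (nat_lit 11658418545955371679931)) (.leaf
    (nat_lit 0))) (.node (.leaf (nat_lit 25632532997895234977855)) (.leaf (nat_lit
    69182010274429318398022))))) (.node (.node (.node (.leaf (nat_lit 205216393856901686705258700))
    (.leaf (nat_lit 42704861795118557102089))) (.node (.leaf (nat_lit 25650387091998843797512))
    (.leaf (nat_lit 64468148794045273145516)))) (.node (.node (.leaf (nat_lit
    6803936835358944811578267336758)) (.leaf (nat_lit 1653997386068000770))) (.node (.leaf (nat_lit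
    27753654539577628753963)) (.leaf (nat_lit 0))))))) (.node (.node (.node (.node (.node (.node
    (.leaf (nat_lit 1738624067323331543124)) (.leaf (nat_lit 1420531249950370912926957699))) (.leaf
    (nat_lit 654502156891997538978365701))) (.node (.leaf (nat_lit 680795634217749981874618481))
    (.leaf (nat_lit 1817957182653488023099146242)))) (.node (.node (.leaf (nat_lit 0)) (.leaf
    (nat_lit 0))) (.node (.leaf (nat_lit 7544949867460472012970)) (.leaf (nat_lit
    2077740410799716464412852302))))) (.node (.node (.node (.node (.leaf (nat_lit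
    1641959367665246208037)) (.leaf (nat_lit 2510257695658385709482639621))) (.leaf (nat_lit
    44328878537734797590620))) (.node (.leaf (nat_lit 0)) (.leaf (nat_lit 1370418833160011778))))
    (.node (.node (.leaf (nat_lit 0)) (.leaf (nat_lit 830681760634372098))) (.node (.leaf (nat_lit
    0)) (.leaf (nat_lit 0)))))) (.node (.node (.node (.node (.node (.leaf (nat_lit
    4233555775623599947925)) (.leaf (nat_lit 0))) (.leaf (nat_lit 821657449109216236897829093)))
    (.node (.leaf (nat_lit 12045874209317751816346)) (.leaf (nat_lit 42452428857200064266330))))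
    (.node (.node (.leaf (nat_lit 0)) (.leaf (nat_lit 1563922855194918914))) (.node (.leaf (nat_lit
    0)) (.leaf (nat_lit 2073805649671087651576610978))))) (.node (.node (.node (.leaf (nat_lit
    8873084740212478902425)) (.leaf (nat_lit 1483971685685539783410188572))) (.node (.leaf (nat_lit
    619211284348183454808045230062174307)) (.leaf (nat_lit 65611085259060612890758)))) (.node
    (.node (.leaf (nat_lit 18405573865030962839622)) (.leaf (nat_lit 1476808566106095618))) (.node
    (.leaf (nat_lit 0)) (.leaf (nat_lit 75094197380012325404856))))))))) (.node (.node (.node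
    (.node (.node (.node (.node (.node (.leaf (nat_lit 0)) (.leaf (nat_lit
    75523286143476470841466))) (.leaf (nat_lit 855488671102475180179718412))) (.node (.leaf
    (nat_lit 4021509149229370769438)) (.leaf (nat_lit 894859713181777922)))) (.node (.node (.leaf
    (nat_lit 0)) (.leaf (nat_lit 47635482607891112984742))) (.node (.leaf (nat_lit
    28704008629690210385960)) (.leaf (nat_lit 1895795768430821378))))) (.node (.node (.node (.node
    (.leaf (nat_lit 180274151699174902639459929365545059)) (.leaf (nat_lit
    80554775346708461322378))) (.leaf (nat_lit 0))) (.node (.leaf (nat_lit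
    5689926777500682980462688912455292616804)) (.leaf (nat_lit 1328056058891075586)))) (.node
    (.node (.leaf (nat_lit 0)) (.leaf (nat_lit 1408689981064609794))) (.node (.leaf (nat_lit 0))
    (.leaf (nat_lit 22026070297365547515967)))))) (.node (.node (.node (.node (.node (.leaf
    (nat_lit 101225188725077366280740660157205290141876342)) (.leaf (nat_lit
    2488649968607347055899443215))) (.leaf (nat_lit 39057559989191146930206))) (.node (.leaf
    (nat_lit 21620245399958708224171)) (.leaf (nat_lit 57250651495527321108482)))) (.node (.node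
    (.leaf (nat_lit 12216693340411705622549)) (.leaf (nat_lit 0))) (.node (.leaf (nat_lit 0))
    (.leaf (nat_lit 2230484072050563924081679718913802345))))) (.node (.node (.node (.leaf (nat_lit
    181194495093076961238712388)) (.leaf (nat_lit 0))) (.node (.leaf (nat_lit
    12260909050551627227862466363646)) (.leaf (nat_lit 30351459742715662761986)))) (.node (.node
    (.leaf (nat_lit 280083377242112002)) (.leaf (nat_lit 30632437327299652812802))) (.node (.leaf
    (nat_lit 16616437871358779785289)) (.leaf (nat_lit 73618589588072563933349))))))) (.node (.node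
    (.node (.node (.node (.node (.leaf (nat_lit 0)) (.leaf (nat_lit 70043560290290669650079)))
    (.leaf (nat_lit 0))) (.node (.leaf (nat_lit 0)) (.leaf (nat_lit 1100198972867346434)))) (.node
    (.node (.leaf (nat_lit 3855432009110803120310)) (.leaf (nat_lit 0))) (.node (.leaf (nat_lit
    9592824578672590782623)) (.leaf (nat_lit 1086978685573136386))))) (.node (.node (.node (.node
    (.leaf (nat_lit 6022901211696640229560)) (.leaf (nat_lit 76615909521515102797983))) (.leaf
    (nat_lit 44102796416919747625082))) (.node (.leaf (nat_lit 0)) (.leaf (nat_lit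
    1721699501015695362)))) (.node (.node (.leaf (nat_lit 7295850973526988357675)) (.leaf (nat_lit
    1566034999852007426))) (.node (.leaf (nat_lit 33499557767585844101276)) (.leaf (nat_lit
    70021282526674163007492)))))) (.node (.node (.node (.node (.node (.leaf (nat_lit 0)) (.leaf
    (nat_lit 75283459052447115444406))) (.leaf (nat_lit 890484962573287426))) (.node (.leaf
    (nat_lit 748488811404972783785213966)) (.leaf (nat_lit 1806844289901264898)))) (.node (.node
    (.leaf (nat_lit 0)) (.leaf (nat_lit 23889263065525857222746))) (.node (.leaf (nat_lit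
    32268950996786591498330)) (.leaf (nat_lit 2642867839307194932106214781303848068828364832)))))
    (.node (.node (.node (.leaf (nat_lit 0)) (.leaf (nat_lit 0))) (.node (.leaf (nat_lit
    862595961933181782583410888)) (.leaf (nat_lit 2140140663842273971327467522)))) (.node (.node
    (.leaf (nat_lit 17644419513448021557432)) (.leaf (nat_lit 1761110404713657867650203650)))
    (.node (.leaf (nat_lit 30018378136931461693443)) (.leaf (nat_lit
    1996869769262264537913229326)))))))) (.node (.node (.node (.node (.node (.node (.node (.leaf
    (nat_lit 931566909832726511656)) (.leaf (nat_lit 2482152204475310430555996237))) (.leaf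
    (nat_lit 20886963835879836287072))) (.node (.leaf (nat_lit 19526247212027757133895)) (.leaf
    (nat_lit 1142276604257501186)))) (.node (.node (.leaf (nat_lit 10395056250924791169048)) (.leaf
    (nat_lit 48234985720254218567817))) (.node (.leaf (nat_lit 7009972614933644509217)) (.leaf
    (nat_lit 66765108051732364198109))))) (.node (.node (.node (.node (.leaf (nat_lit
    111980240583259999179112546)) (.leaf (nat_lit 72501639888940132663382))) (.leaf (nat_lit
    15209784696809791356958))) (.node (.leaf (nat_lit 0)) (.leaf (nat_lit 1470201222777667586))))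
    (.node (.node (.leaf (nat_lit 0)) (.leaf (nat_lit 843910697992716290))) (.node (.leaf (nat_lit
    0)) (.leaf (nat_lit 71753971410297816285354)))))) (.node (.node (.node (.node (.node (.leaf
    (nat_lit 42766853087021026878160901)) (.leaf (nat_lit 2257119542089914185465200747))) (.leaf
    (nat_lit 24977295993659669545146))) (.node (.leaf (nat_lit 6779321597837134987300)) (.leaf
    (nat_lit 1040526587042332674)))) (.node (.node (.leaf (nat_lit 12714804829874456559623)) (.leaf
    (nat_lit 1473248764074432205850673413))) (.node (.leaf (nat_lit 978491938571673773363429536))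
    (.leaf (nat_lit 38129622271292746058925443711207))))) (.node (.node (.node (.leaf (nat_lit
    1531125786814252777670)) (.leaf (nat_lit 40661710093252384981032))) (.node (.leaf (nat_lit
    26973961948417354825939)) (.leaf (nat_lit 1663048184607865637738090167423373286807437559))))
    (.node (.node (.leaf (nat_lit 8084803653918494228639)) (.leaf (nat_lit 933139133193388034)))
    (.node (.leaf (nat_lit 30211068656772149282086353961191)) (.leaf (nat_lit
    1854285519400337419))))))) (.node (.node (.node (.node (.node (.node (.leaf (nat_lit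
    2172170967013493243908)) (.leaf (nat_lit 2547429905255943111344128058))) (.leaf (nat_lit
    38443750743899285684403))) (.node (.leaf (nat_lit 0)) (.leaf (nat_lit 1053896777285107714))))
    (.node (.node (.leaf (nat_lit 11635609642188843188383)) (.leaf (nat_lit
    48801409665527747641385))) (.node (.leaf (nat_lit 780417801318957115)) (.leaf (nat_lit
    68305076790035686293757))))) (.node (.node (.node (.leaf (nat_lit 0)) (.leaf (nat_lit
    44656275453474643312736))) (.node (.leaf (nat_lit 905920054447706503854600120347000937)) (.leaf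
    (nat_lit 1781794692011261954)))) (.node (.node (.leaf (nat_lit 255453715484508162)) (.leaf
    (nat_lit 37656027831001038389250))) (.node (.leaf (nat_lit 721138271442161687721148498)) (.leaf
    (nat_lit 78156013979706960054112477315338)))))) (.node (.node (.node (.node (.node (.leaf
    (nat_lit 105330410626802523115356320)) (.leaf (nat_lit 80073992297234038980646))) (.leaf
    (nat_lit 1371869702078326923635982449))) (.node (.leaf (nat_lit
    802234436045221937593838925326450793)) (.leaf (nat_lit 1356907080795160578)))) (.node (.node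
    (.leaf (nat_lit 457289906842722267061026821)) (.leaf (nat_lit 1422622743303684098))) (.node
    (.leaf (nat_lit 272621161236279966252138573)) (.leaf (nat_lit 70666726733332835664037)))))
    (.node (.node (.node (.leaf (nat_lit 1595691925446538231821)) (.leaf (nat_lit
    22096022295325972824151))) (.node (.leaf (nat_lit 28150152710004198801646)) (.leaf (nat_lit
    65925972192685174489209)))) (.node (.node (.leaf (nat_lit 612188369897537356173672677)) (.leaf
    (nat_lit 803098406917636098))) (.node (.leaf (nat_lit 37355796054229767094310)) (.leaf (nat_lit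
    75186609560816097362104)))))))))) (.node (.node (.node (.node (.node (.node (.node (.node
    (.node (.leaf (nat_lit 7556035411517945812353044)) (.leaf (nat_lit 75795341838933666496702)))
    (.leaf (nat_lit 1204857063102493172533821475))) (.node (.leaf (nat_lit
    19161890232651300929715)) (.leaf (nat_lit 1831858109307709968649289730)))) (.node (.node (.leaf
    (nat_lit 2587451695579193868325)) (.leaf (nat_lit 47391133898643989528595))) (.node (.leaf
    (nat_lit 0)) (.leaf (nat_lit 65663208677295205318658))))) (.node (.node (.node (.node (.leaf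
    (nat_lit 3901557730147616096331)) (.leaf (nat_lit 2457207127127752715))) (.leaf (nat_lit
    42741542204071496319007))) (.node (.leaf (nat_lit 19521418934734192574655)) (.leaf (nat_lit
    20233336727004768305154)))) (.node (.node (.leaf (nat_lit 14416552297304158306313)) (.leaf
    (nat_lit 3165202753042992267266))) (.node (.leaf (nat_lit 909901046258119974104334540)) (.leaf
    (nat_lit 41875359284645253546170)))))) (.node (.node (.node (.node (.node (.leaf (nat_lit
    663540394648710220680622571635)) (.leaf (nat_lit 0))) (.leaf (nat_lit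
    33919808092643458089530794770480))) (.node (.leaf (nat_lit 702407424590041264209264903)) (.leaf
    (nat_lit 1019695652059348994)))) (.node (.node (.leaf (nat_lit
    5338160817578091166631058538631)) (.leaf (nat_lit 0))) (.node (.leaf (nat_lit 0)) (.leaf
    (nat_lit 62530480869600217202706))))) (.node (.node (.node (.leaf (nat_lit
    7083739586018142257350)) (.leaf (nat_lit 1475058906959111077539086396))) (.node (.leaf (nat_lit
    202954371225893550453686379)) (.leaf (nat_lit 63887636643243796660226)))) (.node (.node (.leaf
    (nat_lit 212669922751414274)) (.leaf (nat_lit 1238679971304701954))) (.node (.leaf (nat_lit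
    1167680680506105400209440846)) (.leaf (nat_lit 50936817487683363471510))))))) (.node (.node
    (.node (.node (.node (.node (.leaf (nat_lit 451958319745215955014)) (.leaf (nat_lit
    77003611736010525966402))) (.leaf (nat_lit 31309124991820402720959))) (.node (.leaf (nat_lit
    16855894036662676908723321241743)) (.leaf (nat_lit 1669620136333672450)))) (.node (.node (.leaf
    (nat_lit 3800091776778005315614)) (.leaf (nat_lit 0))) (.node (.leaf (nat_lit
    29713984897932561940691)) (.leaf (nat_lit 2029215998313365506))))) (.node (.node (.node (.node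
    (.leaf (nat_lit 5976784351374927396944)) (.leaf (nat_lit 67448365090691960995931))) (.leaf
    (nat_lit 40634803335500543492222))) (.node (.leaf (nat_lit 25065276742969682231299)) (.leaf
    (nat_lit 1502571137157169154)))) (.node (.node (.leaf (nat_lit 15587972760692406288460)) (.leaf
    (nat_lit 18969466501990642286594))) (.node (.leaf (nat_lit 0)) (.leaf (nat_lit
    66022909090255035629608)))))) (.node (.node (.node (.node (.node (.leaf (nat_lit
    23876584719360927977439356)) (.leaf (nat_lit 2537145185557724367226667212))) (.leaf (nat_lit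
    1571352415569397961942273321288793811923238944))) (.node (.leaf (nat_lit
    4962322936480005292230)) (.leaf (nat_lit 996899185422893058)))) (.node (.node (.leaf (nat_lit
    2665635455020505956588)) (.leaf (nat_lit 1299305084771054200906055941))) (.node (.leaf (nat_lit
    29432677963982025457773)) (.leaf (nat_lit 49845183778257006428346))))) (.node (.node (.node
    (.leaf (nat_lit 6544183019002174570586)) (.leaf (nat_lit 0))) (.node (.leaf (nat_lit
    809549508224694472350629948)) (.leaf (nat_lit 35166095821128484454402)))) (.node (.node (.leaf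
    (nat_lit 0)) (.leaf (nat_lit 1419528708993187842))) (.node (.leaf (nat_lit
    1297302488926627597815934905664012533)) (.leaf (nat_lit 64953063097644603342944)))))))) (.node
    (.node (.node (.node (.node (.node (.node (.leaf (nat_lit 848559094646974906415)) (.leaf
    (nat_lit 75997268612966439387145))) (.leaf (nat_lit 0))) (.node (.leaf (nat_lit
    446015495943094380)) (.leaf (nat_lit 1200682558845747202)))) (.node (.node (.leaf (nat_lit
    57008282035945673)) (.leaf (nat_lit 47823675511159203758171))) (.node (.leaf (nat_lit 0))
    (.leaf (nat_lit 47344242860116301512742))))) (.node (.node (.node (.node (.leaf (nat_lit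
    133135294042387915796119712)) (.leaf (nat_lit 73895363235968327024664))) (.leaf (nat_lit 0)))
    (.node (.leaf (nat_lit 26235089772923290537094352797723)) (.leaf (nat_lit
    935257986589392898)))) (.node (.node (.leaf (nat_lit 0)) (.leaf (nat_lit
    17761197584754736824322))) (.node (.leaf (nat_lit 0)) (.leaf (nat_lit
    24498608136215576379568)))))) (.node (.node (.node (.node (.node (.leaf (nat_lit
    3218976406375380484142)) (.leaf (nat_lit 84151632339444559333271263314116))) (.leaf (nat_lit
    26745072877585510970961628037221))) (.node (.leaf (nat_lit 672017294077764576301285381)) (.leaf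
    (nat_lit 943276690531024898)))) (.node (.node (.leaf (nat_lit 362129355813552187)) (.leaf
    (nat_lit 54103541387185221405011800817918))) (.node (.leaf (nat_lit
    33340625934877053736542944952577)) (.leaf (nat_lit 2271486129963852662361554969))))) (.node
    (.node (.node (.leaf (nat_lit 253427383916148337588568070)) (.leaf (nat_lit
    43637168276196278075521))) (.node (.leaf (nat_lit 25872242994758753124522)) (.leaf (nat_lit
    61069826146824219721865)))) (.node (.node (.leaf (nat_lit
    605716415722940402473629303251009641)) (.leaf (nat_lit 1165912837778891159204265986))) (.node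
    (.leaf (nat_lit 0)) (.leaf (nat_lit 74052101584599325540356))))))) (.node (.node (.node (.node
    (.node (.node (.leaf (nat_lit 24481255147859793443815518)) (.leaf (nat_lit
    68365569875786625908776))) (.leaf (nat_lit 0))) (.node (.leaf (nat_lit 0)) (.leaf (nat_lit
    1245439304935800834)))) (.node (.node (.leaf (nat_lit 345007932881429013436039262)) (.leaf
    (nat_lit 1597764332659697975082352747))) (.node (.leaf (nat_lit 0)) (.leaf (nat_lit
    68156701485213881139271))))) (.node (.node (.node (.leaf (nat_lit 0)) (.leaf (nat_lit
    15108338723610861699106))) (.node (.leaf (nat_lit 448695005779984492)) (.leaf (nat_lit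
    1457957653996240898)))) (.node (.node (.leaf (nat_lit 492314822487179266)) (.leaf (nat_lit
    836452040606613506))) (.node (.leaf (nat_lit 0)) (.leaf (nat_lit
    71322377632216557464612310941753)))))) (.node (.node (.node (.node (.node (.leaf (nat_lit
    3126807004138522738691)) (.leaf (nat_lit 2620274455775665838664974350))) (.leaf (nat_lit
    28182781583844765270125))) (.node (.leaf (nat_lit
    879686656074909357102564292093451073829208182)) (.leaf (nat_lit
    2000048180133603555187884058)))) (.node (.node (.leaf (nat_lit
    2886981361903055893395392495741)) (.leaf (nat_lit 1530145892349378562))) (.node (.leaf (nat_lit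
    31429098562916641829034249224401)) (.leaf (nat_lit 1693272097491771841113751793))))) (.node
    (.node (.node (.leaf (nat_lit 0)) (.leaf (nat_lit 45624761889036890734803))) (.node (.leaf
    (nat_lit 690061997332627467)) (.leaf (nat_lit 43659576521254244647068)))) (.node (.node (.leaf
    (nat_lit 18502647273179935080451)) (.leaf (nat_lit 977894238605934594))) (.node (.leaf (nat_lit
    1064941838928748317604315339)) (.leaf (nat_lit 71139109061616090873600516882686))))))))) (.node
    (.node (.node (.node (.node (.node (.node (.node (.leaf (nat_lit 0)) (.leaf (nat_lit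
    76099713541239967252519))) (.leaf (nat_lit 23414242364434556321884))) (.node (.leaf (nat_lit
    0)) (.leaf (nat_lit 397071259818655746)))) (.node (.node (.leaf (nat_lit
    9703283081558632890421)) (.leaf (nat_lit 0))) (.node (.leaf (nat_lit 9463465293093433180196))
    (.leaf (nat_lit 1396881466700464130))))) (.node (.node (.node (.node (.leaf (nat_lit
    122305786528530434)) (.leaf (nat_lit 2625111455005736972851609698))) (.leaf (nat_lit
    930901169624161071743107249))) (.node (.leaf (nat_lit
    13919850837465146488157448644992977797219)) (.leaf (nat_lit 47520686989137705893890)))) (.node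
    (.node (.leaf (nat_lit 4372012200543010357340)) (.leaf (nat_lit 18886442924262029459458)))
    (.node (.leaf (nat_lit 0)) (.leaf (nat_lit 45428872320882454103518400020734)))))) (.node (.node
    (.node (.node (.node (.leaf (nat_lit 2610301403880086503546)) (.leaf (nat_lit
    2516153044907177219174170824))) (.leaf (nat_lit 37978392246969325256744))) (.node (.leaf
    (nat_lit 597979829406446392250204322)) (.leaf (nat_lit 1182811242876764162)))) (.node (.node
    (.leaf (nat_lit 5137494515761606230202)) (.leaf (nat_lit 47769306369557642018944))) (.node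
    (.leaf (nat_lit 15753749996060876668969)) (.leaf (nat_lit 47865365633883900674061))))) (.node
    (.node (.node (.leaf (nat_lit 7259013491349382168631)) (.leaf (nat_lit
    1475963396050696389414617301))) (.node (.leaf (nat_lit 0)) (.leaf (nat_lit
    1068961022888509442)))) (.node (.node (.leaf (nat_lit 17082169587340306219010)) (.leaf (nat_lit
    8639309781887334154242))) (.node (.leaf (nat_lit 1179191822714389744104767493)) (.leaf (nat_lit
    78339262248958448856472639308076))))))) (.node (.node (.node (.node (.node (.node (.leaf
    (nat_lit 56517766308231945730129997)) (.leaf (nat_lit 82751306090693231998976659882241)))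
    (.leaf (nat_lit 15753884548787735822462))) (.node (.leaf (nat_lit 19549064840955922940056))
    (.leaf (nat_lit 1865706247567500422420889602)))) (.node (.node (.leaf (nat_lit 0)) (.leaf
    (nat_lit 52307039428520274632587176378485))) (.node (.leaf (nat_lit 917636440148541451)) (.leaf
    (nat_lit 49951106187717261852767))))) (.node (.node (.node (.node (.leaf (nat_lit
    225709457830205423749909118494048372)) (.leaf (nat_lit 0))) (.leaf (nat_lit
    15929217286520866799624))) (.node (.leaf (nat_lit 0)) (.leaf (nat_lit 1508341494438821890))))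
    (.node (.node (.leaf (nat_lit 17088974640947946374348369363063)) (.leaf (nat_lit
    1076972322306523138))) (.node (.leaf (nat_lit 34689374449318819463176)) (.leaf (nat_lit
    72567035946615580065829)))))) (.node (.node (.node (.node (.node (.leaf (nat_lit
    3601763235228090040404)) (.leaf (nat_lit 79874199981751989625571862970487))) (.leaf (nat_lit
    41875359538907317469254))) (.node (.leaf (nat_lit 0)) (.leaf (nat_lit
    60723758403968238289045)))) (.node (.node (.leaf (nat_lit 0)) (.leaf (nat_lit
    23016376473414994663827795411087))) (.node (.leaf (nat_lit 562605716668941449520480270)) (.leaf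
    (nat_lit 21537207090152967700662))))) (.node (.node (.node (.leaf (nat_lit 0)) (.leaf (nat_lit
    1448610236526085843489915095))) (.node (.leaf (nat_lit 7046854561086600052895)) (.leaf (nat_lit
    44186562678241406156802)))) (.node (.node (.leaf (nat_lit 0)) (.leaf (nat_lit
    29258176284858549207042))) (.node (.leaf (nat_lit 0)) (.leaf (nat_lit
    74940705561688238391454)))))))) (.node (.node (.node (.node (.node (.node (.node (.leaf
    (nat_lit 1143710659275902877752)) (.leaf (nat_lit 49908552527561044983994))) (.leaf (nat_lit
    1187579189151268875))) (.node (.leaf (nat_lit 10906759190144063045870)) (.leaf (nat_lit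
    1002946550915268610)))) (.node (.node (.leaf (nat_lit 2753259799057422945831174340751)) (.leaf
    (nat_lit 28805128533352894365850))) (.node (.leaf (nat_lit 27495710724006332268734)) (.leaf
    (nat_lit 64703933124236484935702229133105317900717713686794540351753))))) (.node (.node (.node
    (.node (.leaf (nat_lit 191313728478113657725911054)) (.leaf (nat_lit 81440131634454883139805)))
    (.leaf (nat_lit 0))) (.node (.leaf (nat_lit 17985750290861259948063)) (.leaf (nat_lit
    888674023972667394)))) (.node (.node (.leaf (nat_lit 3219051852939133124688)) (.leaf (nat_lit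
    1589397242530365442))) (.node (.leaf (nat_lit 0)) (.leaf (nat_lit
    2210738912947670304644399211)))))) (.node (.node (.node (.node (.node (.leaf (nat_lit 0))
    (.leaf (nat_lit 63159014502215838793770))) (.leaf (nat_lit 13494199215262026367019))) (.node
    (.leaf (nat_lit 17985719044939821809702)) (.leaf (nat_lit 1021668072840364034)))) (.node (.node
    (.leaf (nat_lit 7249792094567986823189)) (.leaf (nat_lit 50720870568072791130168))) (.node
    (.leaf (nat_lit 29690570544630749921303)) (.leaf (nat_lit 47972881475738525696072))))) (.node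
    (.node (.node (.leaf (nat_lit 0)) (.leaf (nat_lit 45923647640336249061597))) (.node (.leaf
    (nat_lit 24876193405939323437148)) (.leaf (nat_lit 42263471331912267792512)))) (.node (.node
    (.leaf (nat_lit 12650188594339903635549)) (.leaf (nat_lit 32426391470543537897474))) (.node
    (.leaf (nat_lit 35648838063344211656747)) (.leaf (nat_lit
    2807703302295734216267411570495059730541052183))))))) (.node (.node (.node (.node (.node (.node
    (.leaf (nat_lit 76913293945581179698508645825642601)) (.leaf (nat_lit
    74490209508548728258569))) (.leaf (nat_lit 40099831965532723281993))) (.node (.leaf (nat_lit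
    0)) (.leaf (nat_lit 1384488991402885122)))) (.node (.node (.leaf (nat_lit
    10593361706449964826778)) (.leaf (nat_lit 40630238734860636240889183011033))) (.node (.leaf
    (nat_lit 0)) (.leaf (nat_lit 68453115601362603933887))))) (.node (.node (.node (.leaf (nat_lit
    195696333610610841992036430)) (.leaf (nat_lit 15938448821873212063756))) (.node (.leaf (nat_lit
    790546622693113858)) (.leaf (nat_lit 31098519222573391347714)))) (.node (.node (.leaf (nat_lit
    8910277295462523535534)) (.leaf (nat_lit 36148008190532357652482))) (.node (.leaf (nat_lit 0))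
    (.leaf (nat_lit 1700557366098823629049692389)))))) (.node (.node (.node (.node (.node (.leaf
    (nat_lit 3523359647652487823469)) (.leaf (nat_lit 48931483503123723649116))) (.leaf (nat_lit
    0))) (.node (.leaf (nat_lit 710505121709897868374560031600865682697748598)) (.leaf (nat_lit
    1469919292534423554)))) (.node (.node (.leaf (nat_lit 13821316037870759379078)) (.leaf (nat_lit
    1425719019587108866))) (.node (.leaf (nat_lit 0)) (.leaf (nat_lit 70805222413033560801402)))))
    (.node (.node (.node (.leaf (nat_lit 0)) (.leaf (nat_lit 47105197965932438421580))) (.node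
    (.leaf (nat_lit 0)) (.leaf (nat_lit 65912232944054502097035)))) (.node (.node (.leaf (nat_lit
    18553378493635433267213)) (.leaf (nat_lit 1228688631833690114))) (.node (.leaf (nat_lit
    37364195408418330312713)) (.leaf (nat_lit 931793550472081752295997600)))))))))))))) (.node
    (.node (.node (.node (.node (.node (.node (.node (.node (.node (.node (.node (.node (.leaf
    (nat_lit 1)) (.leaf (nat_lit 0))) (.leaf (nat_lit 37774987427952441098278))) (.node (.leaf
    (nat_lit 0)) (.leaf (nat_lit 1310879342213070850)))) (.node (.node (.leaf (nat_lit 0)) (.leaf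
    (nat_lit 47220442828549791088806))) (.node (.leaf (nat_lit 28224378646679836098636)) (.leaf
    (nat_lit 70807154645231600338628784750711))))) (.node (.node (.node (.node (.leaf (nat_lit
    44277922745698684024127494)) (.leaf (nat_lit 73595532149353368191123))) (.leaf (nat_lit
    45641761380415430775437705675032))) (.node (.leaf (nat_lit 23611983447667759054954)) (.leaf
    (nat_lit 36208214136983457562626)))) (.node (.node (.leaf (nat_lit
    449572259186619360576012308)) (.leaf (nat_lit 20251495070393987956738))) (.node (.leaf (nat_lit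
    0)) (.leaf (nat_lit 70836144560728617189534)))))) (.node (.node (.node (.node (.node (.leaf
    (nat_lit 1835506347370342449258)) (.leaf (nat_lit 0))) (.leaf (nat_lit
    39905303368174498152669))) (.node (.leaf (nat_lit 4519582781488870129851)) (.leaf (nat_lit
    908653301300592642)))) (.node (.node (.leaf (nat_lit 6230460442413034045568)) (.leaf (nat_lit
    18050688139250653921333))) (.node (.leaf (nat_lit 25539742800819125420215)) (.leaf (nat_lit
    30941891337404574531656))))) (.node (.node (.node (.leaf (nat_lit 0)) (.leaf (nat_lit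
    43442545080224853459142))) (.node (.leaf (nat_lit 910789056494870751361886255025881223)) (.leaf
    (nat_lit 26708218762052325539842)))) (.node (.node (.leaf (nat_lit
    296044698758312193826226181)) (.leaf (nat_lit 1653715052097830914))) (.node (.leaf (nat_lit
    765217661009683882628484343012229068142149854)) (.leaf (nat_lit 73197400143431477690438)))))))
    (.node (.node (.node (.node (.node (.node (.leaf (nat_lit 848560643034224721962)) (.leaf
    (nat_lit 32199677090899968589855))) (.leaf (nat_lit 12963800714849911242964))) (.node (.leaf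
    (nat_lit 19244793909001977004054)) (.leaf (nat_lit 1004072450822111234)))) (.node (.node (.leaf
    (nat_lit 10730789312563025299252646838482)) (.leaf (nat_lit 28007622526351337259026))) (.node
    (.leaf (nat_lit 7009972896571829977275)) (.leaf (nat_lit
    25627678848337595610065160981376125042793))))) (.node (.node (.node (.node (.leaf (nat_lit
    5870790585761807925428)) (.leaf (nat_lit 0))) (.leaf (nat_lit 25134133430824024080455))) (.node
    (.leaf (nat_lit 24797791361687204593713)) (.leaf (nat_lit 1668641184437895170)))) (.node (.node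
    (.leaf (nat_lit 15209472374098060574754)) (.leaf (nat_lit 320508064698597378))) (.node (.leaf
    (nat_lit 0)) (.leaf (nat_lit 71994313999554193850448)))))) (.node (.node (.node (.node (.node
    (.leaf (nat_lit 110164084757078817074577502)) (.leaf (nat_lit 2583251069862142349439926434)))
    (.leaf (nat_lit 41326087145531470184540))) (.node (.leaf (nat_lit 6779322864646328877096))
    (.leaf (nat_lit 1019416290206547970)))) (.node (.node (.leaf (nat_lit 0)) (.leaf (nat_lit
    1453928004800306100794818764))) (.node (.leaf (nat_lit 880406523324770744661180529)) (.leaf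
    (nat_lit 0))))) (.node (.node (.node (.leaf (nat_lit 0)) (.leaf (nat_lit
    40518751063823756754988))) (.node (.leaf (nat_lit 27159018516267820843070)) (.leaf (nat_lit
    58674846278793983560319911657529)))) (.node (.node (.leaf (nat_lit 0)) (.leaf (nat_lit
    1122290394852360194))) (.node (.leaf (nat_lit 39174567842427776882092083052810)) (.leaf
    (nat_lit 2435757679208593639413645512)))))))) (.node (.node (.node (.node (.node (.node (.node
    (.leaf (nat_lit 488840829552499556394)) (.leaf (nat_lit 2394955127750964267922489558))) (.leaf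
    (nat_lit 1170690166562619403))) (.node (.leaf (nat_lit 19304637036664818171934)) (.leaf
    (nat_lit 1190971448810930178)))) (.node (.node (.leaf (nat_lit 9924653580592355672137)) (.leaf
    (nat_lit 0))) (.node (.leaf (nat_lit 27966116771119365292142)) (.leaf (nat_lit
    1511864200845197314))))) (.node (.node (.node (.node (.leaf (nat_lit
    174241557492474362416332805)) (.leaf (nat_lit 80536182798768614342689))) (.leaf (nat_lit
    928318118166550120155578466))) (.node (.leaf (nat_lit
    27473329450046245919810957237477033050211)) (.leaf (nat_lit 1379847540505182210)))) (.node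
    (.node (.leaf (nat_lit 14762454503891394560170)) (.leaf (nat_lit 1136066248097596112898)))
    (.node (.leaf (nat_lit 9564894101687492608186)) (.leaf (nat_lit 42345755903171200483358))))))
    (.node (.node (.node (.node (.node (.leaf (nat_lit 2896228894266481639443)) (.leaf (nat_lit
    0))) (.leaf (nat_lit 0))) (.node (.leaf (nat_lit 7558687949578026811539)) (.leaf (nat_lit
    1417139160988385282)))) (.node (.node (.leaf (nat_lit 10865208269173445296318)) (.leaf (nat_lit
    50171910900328146600058))) (.node (.leaf (nat_lit 0)) (.leaf (nat_lit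
    808191459166547074774990874))))) (.node (.node (.node (.leaf (nat_lit 0)) (.leaf (nat_lit
    44660929079977565159603))) (.node (.leaf (nat_lit 0)) (.leaf (nat_lit 1541557551735373826))))
    (.node (.node (.leaf (nat_lit 17114242675752592146468)) (.leaf (nat_lit 952420083198722050)))
    (.node (.leaf (nat_lit 1098630373501435915)) (.leaf (nat_lit
    1999876867470759401450360963119479956329874782988162358238294945276231981))))))) (.node (.node
    (.node (.node (.node (.node (.leaf (nat_lit 1766328523269385420880)) (.leaf (nat_lit
    77330412212850316738563))) (.leaf (nat_lit 1275745244725824930407776369))) (.node (.leaf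
    (nat_lit 677169479357348670922293330)) (.leaf (nat_lit 19126445380652916473858)))) (.node
    (.node (.leaf (nat_lit 9970529921517131858010)) (.leaf (nat_lit 1491440798129061890))) (.node
    (.leaf (nat_lit 0)) (.leaf (nat_lit 68088922269645769520776606974191))))) (.node (.node (.node
    (.node (.leaf (nat_lit 1554336207312139780098)) (.leaf (nat_lit 68005994463649467662523)))
    (.leaf (nat_lit 0))) (.node (.leaf (nat_lit 0)) (.leaf (nat_lit 1401803224343773186)))) (.node
    (.node (.leaf (nat_lit 486122132481376267)) (.leaf (nat_lit 6315006372918916743170))) (.node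
    (.leaf (nat_lit 1069629714574025277525196815)) (.leaf (nat_lit
    2282416955722022691140636262441287785)))))) (.node (.node (.node (.node (.node (.leaf (nat_lit
    3417360111523172909144)) (.leaf (nat_lit 79019039569344186220636))) (.leaf (nat_lit
    1342382540166683307278598385))) (.node (.leaf (nat_lit 19839622454439871447077)) (.leaf
    (nat_lit 60778187494401195049133)))) (.node (.node (.leaf (nat_lit 13429309637202618286110))
    (.leaf (nat_lit 1427829652415709186))) (.node (.leaf (nat_lit 32452960191249375232129)) (.leaf
    (nat_lit 66113828039091812499495))))) (.node (.node (.node (.leaf (nat_lit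
    8273564994755295903903)) (.leaf (nat_lit 46593287164559626534974))) (.node (.leaf (nat_lit 0))
    (.leaf (nat_lit 34769500678904535515138)))) (.node (.node (.leaf (nat_lit
    497325091951429501828989134)) (.leaf (nat_lit 238459371707826178))) (.node (.leaf (nat_lit
    9896978986196701216792)) (.leaf (nat_lit 32219083663003583971487))))))))) (.node (.node (.node
    (.node (.node (.node (.node (.node (.leaf (nat_lit 0)) (.leaf (nat_lit
    72022900206625349632176))) (.leaf (nat_lit 0))) (.node (.leaf (nat_lit
    11598737412845344063737)) (.leaf (nat_lit 54299140071654749831170)))) (.node (.node (.leaf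
    (nat_lit 1669480591029323366453)) (.leaf (nat_lit 0))) (.node (.leaf (nat_lit 0)) (.leaf
    (nat_lit 1496523479607017474))))) (.node (.node (.node (.node (.leaf (nat_lit 0)) (.leaf
    (nat_lit 69255930399001004933205))) (.leaf (nat_lit 1402529836634054415209463833))) (.node
    (.leaf (nat_lit 780838820722444051570491516)) (.leaf (nat_lit 1753786926806204418)))) (.node
    (.node (.leaf (nat_lit 0)) (.leaf (nat_lit 27616363141622638247938))) (.node (.leaf (nat_lit
    27006860609932834832447)) (.leaf (nat_lit 21472664456596793000006)))))) (.node (.node (.node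
    (.node (.node (.leaf (nat_lit 0)) (.leaf (nat_lit 78161237961764939956435))) (.leaf (nat_lit
    0))) (.node (.leaf (nat_lit 4574924702843326890025)) (.leaf (nat_lit 1028562397293576194))))
    (.node (.node (.leaf (nat_lit 0)) (.leaf (nat_lit 0))) (.node (.leaf (nat_lit
    8046832100027533805698832203908)) (.leaf (nat_lit 68776152890083125690399))))) (.node (.node
    (.node (.leaf (nat_lit 7383525635606035234850)) (.leaf (nat_lit 1454533394686441732606001246)))
    (.node (.leaf (nat_lit 26254517255814856769572)) (.leaf (nat_lit 63915307322244184866818))))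
    (.node (.node (.leaf (nat_lit 508077919399182338)) (.leaf (nat_lit 32947501877725902340098)))
    (.node (.leaf (nat_lit 35363483797714255413251)) (.leaf (nat_lit 71335736188181762212016)))))))
    (.node (.node (.node (.node (.node (.node (.leaf (nat_lit 0)) (.leaf (nat_lit
    2339269532792782859))) (.leaf (nat_lit 39260478529309243539477))) (.node (.leaf (nat_lit
    20338156575483482013724)) (.leaf (nat_lit 1114551559569670146)))) (.node (.node (.leaf (nat_lit
    10782185393839489089606)) (.leaf (nat_lit 52296945025397377251893171257461))) (.node (.leaf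
    (nat_lit 31905154235782948726997816508650)) (.leaf (nat_lit 2030341898220208130))))) (.node
    (.node (.node (.node (.leaf (nat_lit 5976783084780481871905)) (.leaf (nat_lit
    68683890493789900570676))) (.leaf (nat_lit 39195371266849686880298))) (.node (.leaf (nat_lit
    25074502236016006594767)) (.leaf (nat_lit 1432906114781020162)))) (.node (.node (.leaf (nat_lit
    13037601602423562109057)) (.leaf (nat_lit 20145447013112892030978))) (.node (.leaf (nat_lit 0))
    (.leaf (nat_lit 52135863028986878820395)))))) (.node (.node (.node (.node (.node (.leaf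
    (nat_lit 4095132099017710641860044980349)) (.leaf (nat_lit 79392582725413000904768))) (.leaf
    (nat_lit 41621735807171271262258))) (.node (.leaf (nat_lit 693711714511880300)) (.leaf (nat_lit
    1754348364931137538)))) (.node (.node (.leaf (nat_lit 5700219290000413622322)) (.leaf (nat_lit
    51066314657574036897887))) (.node (.leaf (nat_lit 903980982639988797964812357)) (.leaf (nat_lit
    2290529746461645521815863567))))) (.node (.node (.node (.leaf (nat_lit 0)) (.leaf (nat_lit
    30649746643838721786026))) (.node (.leaf (nat_lit 0)) (.leaf (nat_lit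
    2137596276758153185896694049)))) (.node (.node (.leaf (nat_lit 0)) (.leaf (nat_lit
    50293074898845698))) (.node (.leaf (nat_lit 0)) (.leaf (nat_lit
    1403782491534213021073408241)))))))) (.node (.node (.node (.node (.node (.node (.node (.leaf
    (nat_lit 29166170135327973805654067)) (.leaf (nat_lit 78631349914461944031096783306769)))
    (.leaf (nat_lit 30884853396046895841311))) (.node (.leaf (nat_lit 12428644286432207372297))
    (.leaf (nat_lit 1112871097198458141329850370)))) (.node (.node (.leaf (nat_lit
    1923128248378908147861)) (.leaf (nat_lit 48105825016396411764900))) (.node (.leaf (nat_lit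
    7969504907075237642264)) (.leaf (nat_lit 1500797289815615799526948916))))) (.node (.node (.node
    (.node (.leaf (nat_lit 0)) (.leaf (nat_lit 81172334529273605062726))) (.leaf (nat_lit 0)))
    (.node (.leaf (nat_lit 19918044480559183495318)) (.leaf (nat_lit 59183647112552150925314))))
    (.node (.node (.leaf (nat_lit 14794382492288193593523)) (.leaf (nat_lit
    27980693803840391282690))) (.node (.leaf (nat_lit 0)) (.leaf (nat_lit
    75986424222576287367372673974333)))))) (.node (.node (.node (.node (.node (.leaf (nat_lit
    3237424135628688392268)) (.leaf (nat_lit 2448455195801531762843320371))) (.leaf (nat_lit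
    414228640553893890))) (.node (.leaf (nat_lit 16062642878807518937198)) (.leaf (nat_lit
    1243891982837874690)))) (.node (.node (.leaf (nat_lit 11399015201143511987700816478323)) (.leaf
    (nat_lit 0))) (.node (.leaf (nat_lit 0)) (.leaf (nat_lit 0))))) (.node (.node (.node (.leaf
    (nat_lit 242920330899881995)) (.leaf (nat_lit 22228799247916277628980))) (.node (.leaf (nat_lit
    0)) (.leaf (nat_lit 2263945732697763667893512472842945727467880480)))) (.node (.node (.leaf
    (nat_lit 177427148916446006551511084)) (.leaf (nat_lit 1513541540193107970))) (.node (.leaf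
    (nat_lit 34454914943055745449996)) (.leaf (nat_lit 0))))))) (.node (.node (.node (.node (.node
    (.node (.leaf (nat_lit 2203557146378957354030397194301)) (.leaf (nat_lit
    76615910643437869924395))) (.leaf (nat_lit 1302327431394294722279506034))) (.node (.leaf
    (nat_lit 4519581655322675314721)) (.leaf (nat_lit 1187313219006496770)))) (.node (.node (.leaf
    (nat_lit 11515722835229289939118)) (.leaf (nat_lit 0))) (.node (.leaf (nat_lit 0)) (.leaf
    (nat_lit 47940442042949651595447))))) (.node (.node (.node (.leaf (nat_lit 0)) (.leaf (nat_lit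
    44573155442954162340013))) (.node (.leaf (nat_lit 25682932062437807161501)) (.leaf (nat_lit
    1414047566219313154)))) (.node (.node (.leaf (nat_lit 16196734596701892050946)) (.leaf (nat_lit
    52795423761234365972482))) (.node (.leaf (nat_lit 34883297619978102177805)) (.leaf (nat_lit
    25435510545196974800904)))))) (.node (.node (.node (.node (.node (.leaf (nat_lit 0)) (.leaf
    (nat_lit 0))) (.leaf (nat_lit 25189798343047809007709))) (.node (.leaf (nat_lit
    698642603255660546)) (.leaf (nat_lit 39579353814713566953474)))) (.node (.node (.leaf (nat_lit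
    13872041769083175370804)) (.leaf (nat_lit 1350424248568643586))) (.node (.leaf (nat_lit
    32766292770411308581021)) (.leaf (nat_lit 2018522758106972268))))) (.node (.node (.node (.leaf
    (nat_lit 52292636688148540028092432)) (.leaf (nat_lit 0))) (.node (.leaf (nat_lit
    28043954857994828841222)) (.leaf (nat_lit 50924245812498925813896)))) (.node (.node (.leaf
    (nat_lit 608410370642463121683513349)) (.leaf (nat_lit 914280902459260930))) (.node (.leaf
    (nat_lit 0)) (.leaf (nat_lit 80112019133201512947873132904565)))))))))) (.node (.node (.node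
    (.node (.node (.node (.node (.node (.node (.leaf (nat_lit 3377841454579723)) (.leaf (nat_lit
    73742458423769615761460))) (.leaf (nat_lit 13009909411297787838472))) (.node (.leaf (nat_lit
    12041231697966853718227)) (.leaf (nat_lit 1835199105218052411177041922)))) (.node (.node (.leaf
    (nat_lit 0)) (.leaf (nat_lit 1445418127608381499))) (.node (.leaf (nat_lit
    7683582062086815154312)) (.leaf (nat_lit 50613230596003085991419845539440003318032))))) (.node
    (.node (.node (.node (.leaf (nat_lit 3929226579509116076179)) (.leaf (nat_lit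
    82731515522126196290522989264913))) (.leaf (nat_lit 42649306513292212240423))) (.node (.leaf
    (nat_lit 23067803512459757813942)) (.leaf (nat_lit 60839231556174821392386)))) (.node (.node
    (.leaf (nat_lit 436581024751812619)) (.leaf (nat_lit 1546753354061971458))) (.node (.leaf
    (nat_lit 9564888190300664823838)) (.leaf (nat_lit 60654465492297279799387)))))) (.node (.node
    (.node (.node (.node (.leaf (nat_lit 80998643343998960372285551)) (.leaf (nat_lit
    83830542873467274743258225639567))) (.leaf (nat_lit 30691163429192524300326))) (.node (.leaf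
    (nat_lit 21394196360935982170249)) (.leaf (nat_lit 1835492403949165432531058690)))) (.node
    (.node (.leaf (nat_lit 5358851785059106750637)) (.leaf (nat_lit 42986075426178807824392)))
    (.node (.leaf (nat_lit 11451043281289699590334)) (.leaf (nat_lit
    832975279048347035663335450))))) (.node (.node (.node (.leaf (nat_lit
    219723591313185145849381024)) (.leaf (nat_lit 0))) (.node (.leaf (nat_lit
    7959953332346500087816)) (.leaf (nat_lit 1176202602468212738)))) (.node (.node (.leaf (nat_lit
    210218657557476639334727683)) (.leaf (nat_lit 517400317713842178))) (.node (.leaf (nat_lit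
    1085258843228864713)) (.leaf (nat_lit 64758020640812717768716))))))) (.node (.node (.node
    (.node (.node (.node (.leaf (nat_lit 31584007943158931390726211)) (.leaf (nat_lit
    2317032880783622252))) (.leaf (nat_lit 11930784876455553859670))) (.node (.leaf (nat_lit
    7295846614813787750559)) (.leaf (nat_lit 1756736800539410434)))) (.node (.node (.leaf (nat_lit
    0)) (.leaf (nat_lit 1589937116548690945367081189))) (.node (.leaf (nat_lit 0)) (.leaf (nat_lit
    1486954361191006210))))) (.node (.node (.node (.node (.leaf (nat_lit 1374320297506431500300))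
    (.leaf (nat_lit 81587466496136565686303))) (.leaf (nat_lit 43821575060785289429045))) (.node
    (.leaf (nat_lit 24940758834274212446303)) (.leaf (nat_lit 1535503554813493250)))) (.node (.node
    (.leaf (nat_lit 477075441490771268935614522)) (.leaf (nat_lit 8436374491946538958850))) (.node
    (.leaf (nat_lit 34390152749173671395540)) (.leaf (nat_lit
    65236546719931708063031950114864)))))) (.node (.node (.node (.node (.node (.leaf (nat_lit
    3680147119709941334024)) (.leaf (nat_lit 77870253635420343697438))) (.leaf (nat_lit
    1458917670296917208549127348296220771))) (.node (.leaf (nat_lit 17745915312785890410527))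
    (.leaf (nat_lit 892331111315800066)))) (.node (.node (.leaf (nat_lit
    7541848072029581848200712880338)) (.leaf (nat_lit 39605740819493459001531))) (.node (.leaf
    (nat_lit 0)) (.leaf (nat_lit 1130173552858901491111389741942440041))))) (.node (.node (.node
    (.leaf (nat_lit 255868592145432587)) (.leaf (nat_lit 42681825320650129211546))) (.node (.leaf
    (nat_lit 0)) (.leaf (nat_lit 1818248201166258178)))) (.node (.node (.leaf (nat_lit 0)) (.leaf
    (nat_lit 1789847812595475622079496194))) (.node (.leaf (nat_lit 0)) (.leaf (nat_lit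
    2274387072464846859)))))))) (.node (.node (.node (.node (.node (.node (.node (.leaf (nat_lit
    742498056510126620721)) (.leaf (nat_lit 0))) (.leaf (nat_lit 0))) (.node (.leaf (nat_lit
    21030642522444692390417388601525)) (.leaf (nat_lit 1098366336091947010)))) (.node (.node (.leaf
    (nat_lit 229546431810647461963497579)) (.leaf (nat_lit 0))) (.node (.leaf (nat_lit
    687157120309749896811104204359704872013529338)) (.leaf (nat_lit
    64706624810821589481076759527717))))) (.node (.node (.node (.node (.leaf (nat_lit
    123464768450073733080809553)) (.leaf (nat_lit 78382547805561111642145))) (.leaf (nat_lit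
    16504713939438007336031188484350))) (.node (.leaf (nat_lit 19521419498105052790974)) (.leaf
    (nat_lit 1334670909822337026)))) (.node (.node (.leaf (nat_lit 0)) (.leaf (nat_lit
    14039566239212568248322))) (.node (.leaf (nat_lit 26568749594161029775515)) (.leaf (nat_lit
    1585052256045236235)))))) (.node (.node (.node (.node (.node (.leaf (nat_lit 0)) (.leaf
    (nat_lit 72871300832660027539495))) (.leaf (nat_lit 43898045622009695838515069518078))) (.node
    (.leaf (nat_lit 21984577743720582152386)) (.leaf (nat_lit 269565964406882306)))) (.node (.node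
    (.leaf (nat_lit 12548734030282964009049)) (.leaf (nat_lit 38429741181004939460660))) (.node
    (.leaf (nat_lit 30917686178725469814991)) (.leaf (nat_lit 32071575007274155049066))))) (.node
    (.node (.node (.leaf (nat_lit 183388235886624827)) (.leaf (nat_lit 1390810332859072523)))
    (.node (.leaf (nat_lit 501425171950965465882558479)) (.leaf (nat_lit
    62398016489800408956952)))) (.node (.node (.leaf (nat_lit 491893606454525954)) (.leaf (nat_lit
    1153393242339934210))) (.node (.leaf (nat_lit 0)) (.leaf (nat_lit
    42373424754963651952831))))))) (.node (.node (.node (.node (.node (.node (.leaf (nat_lit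
    1890806468969203171415)) (.leaf (nat_lit 71464867341092614504540))) (.leaf (nat_lit
    38356107739414292267105))) (.node (.leaf (nat_lit 0)) (.leaf (nat_lit 1071626917679071234))))
    (.node (.node (.leaf (nat_lit 11358804190940721512628)) (.leaf (nat_lit
    40652696141647629713446))) (.node (.leaf (nat_lit 30258087847011423551572)) (.leaf (nat_lit
    67299841692103549845684))))) (.node (.node (.node (.node (.leaf (nat_lit
    6557863967695231451223)) (.leaf (nat_lit 82187309382207111626874))) (.leaf (nat_lit 0))) (.node
    (.leaf (nat_lit 0)) (.leaf (nat_lit 1336219632079601666)))) (.node (.node (.leaf (nat_lit 0))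
    (.leaf (nat_lit 28658626279587239362562))) (.node (.leaf (nat_lit 312365104859448546909487130))
    (.leaf (nat_lit 46072552150599667302076493660391)))))) (.node (.node (.node (.node (.node
    (.leaf (nat_lit 3108359978469577392278)) (.leaf (nat_lit 77893633088255995085012))) (.leaf
    (nat_lit 1378065520692219470340685937))) (.node (.leaf (nat_lit 23132368101304634114066))
    (.leaf (nat_lit 42469960808239414313049)))) (.node (.node (.leaf (nat_lit
    2970010954816630751263)) (.leaf (nat_lit 1302291881522233346))) (.node (.leaf (nat_lit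
    9380423141533935665364)) (.leaf (nat_lit 23784357922548582907995))))) (.node (.node (.node
    (.leaf (nat_lit 8970001219031073489094)) (.leaf (nat_lit 45597106972463399632972))) (.node
    (.leaf (nat_lit 7641767546388987707434)) (.leaf (nat_lit 1994486219498569863065239577))))
    (.node (.node (.leaf (nat_lit 11667922413338436501588)) (.leaf (nat_lit 797468726994796546)))
    (.node (.leaf (nat_lit 40095619692596157701488720019483)) (.leaf (nat_lit
    70643963442977984151705))))))))) (.node (.node (.node (.node (.node (.node (.node (.node (.leaf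
    (nat_lit 0)) (.leaf (nat_lit 42646579865179931213946))) (.leaf (nat_lit
    26955992878889635610671))) (.node (.leaf (nat_lit 633027818110402935600185585)) (.leaf (nat_lit
    1059663312045867010)))) (.node (.node (.leaf (nat_lit 0)) (.leaf (nat_lit 0))) (.node (.leaf
    (nat_lit 732916014549961477995102412)) (.leaf (nat_lit 1856530017769619458))))) (.node (.node
    (.node (.node (.leaf (nat_lit 153549414454132738)) (.leaf (nat_lit
    2774088254349721614310756019829220430175535383))) (.leaf (nat_lit 42096751008823237607457)))
    (.node (.leaf (nat_lit 843429094013798577657561495074373877)) (.leaf (nat_lit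
    1329604171262984194)))) (.node (.node (.leaf (nat_lit 14614601325921502953642)) (.leaf (nat_lit
    9423263049444975902722))) (.node (.leaf (nat_lit 0)) (.leaf (nat_lit
    1700224568344937231647244494)))))) (.node (.node (.node (.node (.node (.leaf (nat_lit
    91578805698706897881006085)) (.leaf (nat_lit 78350163798182731120761))) (.leaf (nat_lit
    38139040571352284332222))) (.node (.leaf (nat_lit 21624843152982968303623)) (.leaf (nat_lit
    1029969978335559682)))) (.node (.node (.leaf (nat_lit 12235174283785279832120)) (.leaf (nat_lit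
    50033644340579859103871))) (.node (.leaf (nat_lit 0)) (.leaf (nat_lit
    64758022044064432718003))))) (.node (.node (.node (.leaf (nat_lit 0)) (.leaf (nat_lit
    1382084333703135243))) (.node (.leaf (nat_lit 0)) (.leaf (nat_lit 26694393269520571760642))))
    (.node (.node (.leaf (nat_lit 280927802172243970)) (.leaf (nat_lit 26255947863361925087234)))
    (.node (.leaf (nat_lit 684571710341223379259097313)) (.leaf (nat_lit 1926342589452255243)))))))
    (.node (.node (.node (.node (.node (.node (.leaf (nat_lit 0)) (.leaf (nat_lit
    74739441574888295941923919954081))) (.leaf (nat_lit 39163426948974343553067))) (.node (.leaf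
    (nat_lit 18336230543036793421994)) (.leaf (nat_lit 1776440126218567682)))) (.node (.node (.leaf
    (nat_lit 11686514997362969287869681959140)) (.leaf (nat_lit 0))) (.node (.leaf (nat_lit 0))
    (.leaf (nat_lit 68083387051605045528042555113706))))) (.node (.node (.node (.node (.leaf
    (nat_lit 57115730911605040054949104950051004)) (.leaf (nat_lit 2614835216238918313286303825)))
    (.leaf (nat_lit 44130164932575586615299))) (.node (.leaf (nat_lit 0)) (.leaf (nat_lit
    1201252277667627010)))) (.node (.node (.leaf (nat_lit 477075441491756740591747107)) (.leaf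
    (nat_lit 1556042646768713730))) (.node (.leaf (nat_lit 0)) (.leaf (nat_lit
    72465559430418149867686)))))) (.node (.node (.node (.node (.node (.leaf (nat_lit 0)) (.leaf
    (nat_lit 76287642705435587444775))) (.leaf (nat_lit 44794989690518914302530629730331))) (.node
    (.leaf (nat_lit 802385038189985507847590442804052067)) (.leaf (nat_lit
    51758312572683190206598)))) (.node (.node (.leaf (nat_lit 2970005325059398500382)) (.leaf
    (nat_lit 51204982191710982570046))) (.node (.leaf (nat_lit 32323830573428554006771)) (.leaf
    (nat_lit 69961410545154739339422))))) (.node (.node (.node (.leaf (nat_lit 0)) (.leaf (nat_lit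
    0))) (.node (.leaf (nat_lit 0)) (.leaf (nat_lit 1994170336488325122)))) (.node (.node (.leaf
    (nat_lit 18156657374123702550592)) (.leaf (nat_lit 27312044220298287054850))) (.node (.leaf
    (nat_lit 0)) (.leaf (nat_lit 2451578855847421128724447538)))))))) (.node (.node (.node (.node
    (.node (.node (.node (.leaf (nat_lit 1074565049430935645064417050681)) (.leaf (nat_lit
    2434834741113259487842795627))) (.leaf (nat_lit 31050877329801362997286))) (.node (.leaf
    (nat_lit 21347676521262553647014530580605)) (.leaf (nat_lit 1161135436287049730)))) (.node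
    (.node (.leaf (nat_lit 167087542720277346341870989909581450074128607)) (.leaf (nat_lit
    39605752779706068041808))) (.node (.leaf (nat_lit 0)) (.leaf (nat_lit
    32168559287047779713189))))) (.node (.node (.node (.node (.leaf (nat_lit
    188142516412744325117771790)) (.leaf (nat_lit 81223493886040697143384))) (.leaf (nat_lit
    22001277277503743361418784997495))) (.node (.leaf (nat_lit 22200828778334612816042)) (.leaf
    (nat_lit 1455283066191872002)))) (.node (.node (.leaf (nat_lit 0)) (.leaf (nat_lit
    34824437406142275190786))) (.node (.leaf (nat_lit 34085764160078164983962)) (.leaf (nat_lit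
    71875283746486646669396)))))) (.node (.node (.node (.node (.node (.leaf (nat_lit 0)) (.leaf
    (nat_lit 78958857402516391526497))) (.leaf (nat_lit 13503420194649909952702))) (.node (.leaf
    (nat_lit 5995333989542060556327)) (.leaf (nat_lit 1204485864055504898)))) (.node (.node (.leaf
    (nat_lit 12843850127797811085482)) (.leaf (nat_lit 23119926651439871623304))) (.node (.leaf
    (nat_lit 0)) (.leaf (nat_lit 69495466015454956552287))))) (.node (.node (.node (.leaf (nat_lit
    1540349158868287422540)) (.leaf (nat_lit 1295560945330718536267727052))) (.node (.leaf (nat_lit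
    25355843654641214750870)) (.leaf (nat_lit 707847739265545602622292035)))) (.node (.node (.leaf
    (nat_lit 7748143816734312431640)) (.leaf (nat_lit 33689991073791511560194))) (.node (.leaf
    (nat_lit 35643748870898696870372435099764)) (.leaf (nat_lit 72239652544187172323351)))))))
    (.node (.node (.node (.node (.node (.node (.leaf (nat_lit 2167559984686802599986)) (.leaf
    (nat_lit 0))) (.leaf (nat_lit 38411469223262450548816))) (.node (.leaf (nat_lit
    18921878357637651955788)) (.leaf (nat_lit 258305273121341442)))) (.node (.node (.leaf (nat_lit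
    3855435950361772490911)) (.leaf (nat_lit 1508470446536917051))) (.node (.leaf (nat_lit 0))
    (.leaf (nat_lit 68245813523566720909396))))) (.node (.node (.node (.leaf (nat_lit 0)) (.leaf
    (nat_lit 15149845868247574053047))) (.node (.leaf (nat_lit 24825461762292107640942)) (.leaf
    (nat_lit 1850333848840306690)))) (.node (.node (.leaf (nat_lit 283179026460311554)) (.leaf
    (nat_lit 881347350931570690))) (.node (.leaf (nat_lit 0)) (.leaf (nat_lit
    64948041864049003266154)))))) (.node (.node (.node (.node (.node (.leaf (nat_lit
    4574820541305054232631)) (.leaf (nat_lit 46071648780717053494914992898191))) (.leaf (nat_lit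
    42345754890924718227526))) (.node (.leaf (nat_lit
    7541969409969937049468630584191048923676325333948480279365001689268453572868)) (.leaf (nat_lit
    59907667602469300666370)))) (.node (.node (.leaf (nat_lit
    17361569024650418380043665644269201493377935802591)) (.leaf (nat_lit 1424733805629014018)))
    (.node (.leaf (nat_lit 0)) (.leaf (nat_lit 75868004939472668157101058883611))))) (.node (.node
    (.node (.leaf (nat_lit 1641808785656581914655)) (.leaf (nat_lit 0))) (.node (.leaf (nat_lit
    859087884056133691)) (.leaf (nat_lit 40142128415542285107272)))) (.node (.node (.leaf (nat_lit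
    707892273930506686168748711438423878277791867)) (.leaf (nat_lit 803942831847768066))) (.node
    (.leaf (nat_lit 40392698127863894590470448545927)) (.leaf (nat_lit
    75411123150228799291654))))))))))) (.node (.node (.node (.node (.node (.node (.node (.node
    (.node (.node (.leaf (nat_lit 1813407177151235724935173)) (.leaf (nat_lit 0))) (.leaf (nat_lit
    0))) (.node (.leaf (nat_lit 18747074373070633500695)) (.leaf (nat_lit 1475826143876743170))))
    (.node (.node (.leaf (nat_lit 272614285005239167033278680)) (.leaf (nat_lit
    727493197991762671880634394))) (.node (.leaf (nat_lit 0)) (.leaf (nat_lit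
    2020066403712893036))))) (.node (.node (.node (.node (.leaf (nat_lit 1369701714182843596812))
    (.leaf (nat_lit 0))) (.leaf (nat_lit 42566296164883209846815))) (.node (.leaf (nat_lit
    19941080673355066179743)) (.leaf (nat_lit 24503755177623843700738)))) (.node (.node (.leaf
    (nat_lit 0)) (.leaf (nat_lit 51527949956984135155714))) (.node (.leaf (nat_lit
    32918465906064671047771)) (.leaf (nat_lit 70527161738291600097462)))))) (.node (.node (.node
    (.node (.node (.leaf (nat_lit 74452021125709932)) (.leaf (nat_lit 77998418899668643807415)))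
    (.leaf (nat_lit 896287404070155442156994720))) (.node (.leaf (nat_lit
    525433959273021966595129605)) (.leaf (nat_lit 955943244871630850)))) (.node (.node (.leaf
    (nat_lit 389130400169850064129491026)) (.leaf (nat_lit 40615802935464813592618))) (.node (.leaf
    (nat_lit 0)) (.leaf (nat_lit 2006698953659252747))))) (.node (.node (.node (.leaf (nat_lit
    7125271922330262765762)) (.leaf (nat_lit 21578637790625283637382))) (.node (.leaf (nat_lit
    7071662684949700984027112748674114322537)) (.leaf (nat_lit 1176484051675119618)))) (.node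
    (.node (.leaf (nat_lit 10496362619218241454210)) (.leaf (nat_lit 964945504913981442))) (.node
    (.leaf (nat_lit 17054420514156938246303196184772)) (.leaf (nat_lit
    2337331357630786913022771313))))))) (.node (.node (.node (.node (.node (.node (.leaf (nat_lit
    1307278584224533948639295635517)) (.leaf (nat_lit 0))) (.leaf (nat_lit
    39039083106438568149113))) (.node (.leaf (nat_lit 17888893480425580855470)) (.leaf (nat_lit
    1731122345730506754)))) (.node (.node (.leaf (nat_lit 2107599067167911510049)) (.leaf (nat_lit
    48331943743462538674228))) (.node (.leaf (nat_lit 31751655866656387660641525366965)) (.leaf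
    (nat_lit 2032312016898752514))))) (.node (.node (.node (.node (.leaf (nat_lit
    1466553454864896294945)) (.leaf (nat_lit 87534854791352123606140224602237))) (.leaf (nat_lit
    43742330143580881092703))) (.node (.leaf (nat_lit 252841377535485822193893536)) (.leaf (nat_lit
    1524666751030263810)))) (.node (.node (.leaf (nat_lit 15269424292380566290473)) (.leaf (nat_lit
    35696049873510151159810))) (.node (.leaf (nat_lit 0)) (.leaf (nat_lit 0)))))) (.node (.node
    (.node (.node (.node (.leaf (nat_lit 27050370094265167427928093)) (.leaf (nat_lit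
    84791575119875518596989720002826))) (.leaf (nat_lit 32024388485667467822334826840318))) (.node
    (.leaf (nat_lit 0)) (.leaf (nat_lit 1159450383177875458)))) (.node (.node (.leaf (nat_lit 0))
    (.leaf (nat_lit 22533278475527697662082))) (.node (.leaf (nat_lit
    1046494425958448729818398915)) (.leaf (nat_lit 68230524085608149876915))))) (.node (.node
    (.node (.leaf (nat_lit 8107390471518921359436)) (.leaf (nat_lit 0))) (.node (.leaf (nat_lit
    22501102204507560018090)) (.leaf (nat_lit 65012464000377838305330)))) (.node (.node (.leaf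
    (nat_lit 16602176924861822337058)) (.leaf (nat_lit 31421045347307367890946))) (.node (.leaf
    (nat_lit 34541818794354975899835)) (.leaf (nat_lit 43499694236234493919404)))))))) (.node
    (.node (.node (.node (.node (.node (.node (.leaf (nat_lit 654863074405566840862)) (.leaf
    (nat_lit 76019898497217555791915))) (.leaf (nat_lit 1172942035095781387))) (.node (.leaf
    (nat_lit 0)) (.leaf (nat_lit 1011953415162560514)))) (.node (.node (.leaf (nat_lit
    9638625886965382447107)) (.leaf (nat_lit 45946904934234598867136))) (.node (.leaf (nat_lit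
    7969201195377798348970)) (.leaf (nat_lit 34737257156461843382534))))) (.node (.node (.node
    (.node (.leaf (nat_lit 2739505599586049916930)) (.leaf (nat_lit 0))) (.leaf (nat_lit
    822699020636520707778674782))) (.node (.leaf (nat_lit
    29705139819992103338031920507865837673915292899176857516127254492196893557005)) (.leaf (nat_lit
    22096464643001449381890)))) (.node (.node (.leaf (nat_lit 14808276657713468080284)) (.leaf
    (nat_lit 1431067379152060418))) (.node (.leaf (nat_lit 909877387551678123619909893)) (.leaf
    (nat_lit 71158977641539673718825)))))) (.node (.node (.node (.node (.node (.leaf (nat_lit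
    3020744979834233618487)) (.leaf (nat_lit 84385517206737378770262023274639))) (.leaf (nat_lit
    0))) (.node (.leaf (nat_lit 17607582605318564282414)) (.leaf (nat_lit 1049392327254212610))))
    (.node (.node (.leaf (nat_lit 12239492532355234725929)) (.leaf (nat_lit
    47972220554462936367234))) (.node (.leaf (nat_lit 30853120885548906643548)) (.leaf (nat_lit
    20697872633935429828632))))) (.node (.node (.node (.leaf (nat_lit 236164725300396043)) (.leaf
    (nat_lit 1492010559980254900647100594))) (.node (.leaf (nat_lit 0)) (.leaf (nat_lit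
    1998113232115117499393245362)))) (.node (.node (.leaf (nat_lit 319067867674968066)) (.leaf
    (nat_lit 32407939963140643684354))) (.node (.leaf (nat_lit 1082601285166666908250144971))
    (.leaf (nat_lit 79314736588084831671340623003696))))))) (.node (.node (.node (.node (.node
    (.node (.leaf (nat_lit 571863001018625359927)) (.leaf (nat_lit 0))) (.leaf (nat_lit
    676564638047800607537103043))) (.node (.leaf (nat_lit 18797362975534003454149)) (.leaf (nat_lit
    254786518084878338)))) (.node (.node (.leaf (nat_lit 10330491803014971719772)) (.leaf (nat_lit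
    0))) (.node (.leaf (nat_lit 8447922275855221048548595663107)) (.leaf (nat_lit
    1464436861270360066))))) (.node (.node (.node (.node (.leaf (nat_lit 1568172391275918721027))
    (.leaf (nat_lit 77196474742186619109429))) (.leaf (nat_lit 21827667286949644927156))) (.node
    (.leaf (nat_lit 0)) (.leaf (nat_lit 62250070425135447474178)))) (.node (.node (.leaf (nat_lit
    16002649155830204792966)) (.leaf (nat_lit 22257605102522643709954))) (.node (.leaf (nat_lit
    1077615632903807318049947663)) (.leaf (nat_lit 1304281997568507906)))))) (.node (.node (.node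
    (.node (.node (.leaf (nat_lit 4317959943091452968622946058385)) (.leaf (nat_lit
    79761522136011809947820))) (.leaf (nat_lit 1375345520612084225612710001))) (.node (.leaf
    (nat_lit 21038679678114561458219)) (.leaf (nat_lit 65370076763628851731556343283769)))) (.node
    (.node (.leaf (nat_lit 2997675722842508034235)) (.leaf (nat_lit 41096301968291073818626)))
    (.node (.leaf (nat_lit 31803043060264005206106)) (.leaf (nat_lit 70310398843339386585144)))))
    (.node (.node (.node (.leaf (nat_lit 272614285157375833599639766)) (.leaf (nat_lit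
    1464962519766123026336448712))) (.node (.leaf (nat_lit 423223539022299138)) (.leaf (nat_lit
    693521603350445337230738235234582792)))) (.node (.node (.leaf (nat_lit
    10819133495073057210386)) (.leaf (nat_lit 804646313131114498))) (.node (.leaf (nat_lit 0))
    (.leaf (nat_lit 2374856122618178357210382550))))))))) (.node (.node (.node (.node (.node (.node
    (.node (.node (.leaf (nat_lit 4835763232488106343268378)) (.leaf (nat_lit
    72880791459973178785985))) (.leaf (nat_lit 38135194495028537000032))) (.node (.leaf (nat_lit
    19263573074035339362483)) (.leaf (nat_lit 972687432573124610)))) (.node (.node (.leaf (nat_lit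
    0)) (.leaf (nat_lit 47543249731994739998907))) (.node (.leaf (nat_lit
    728986936460923588047012043)) (.leaf (nat_lit 1834715698484609026))))) (.node (.node (.node
    (.node (.leaf (nat_lit 4003013556001522778268)) (.leaf (nat_lit
    2976194925550527087018328739109654567961755680))) (.leaf (nat_lit 0))) (.node (.leaf (nat_lit
    805804783258148513420598377737224380)) (.leaf (nat_lit 43559245605068110757890)))) (.node
    (.node (.leaf (nat_lit 0)) (.leaf (nat_lit 1304825697478508546))) (.node (.leaf (nat_lit 0))
    (.leaf (nat_lit 48265512436990016613948636594233)))))) (.node (.node (.node (.node (.node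
    (.leaf (nat_lit 82333969013669890)) (.leaf (nat_lit 76837690124186824147137))) (.leaf (nat_lit
    0))) (.node (.leaf (nat_lit 24123589388613148597255642525610623303779)) (.leaf (nat_lit
    1131441630130339842)))) (.node (.node (.leaf (nat_lit 5137493530418799116322)) (.leaf (nat_lit
    1523952051292340235))) (.node (.leaf (nat_lit 30532774065551725862279729971396)) (.leaf
    (nat_lit 45425707731711711969293))))) (.node (.node (.node (.leaf (nat_lit
    7240566747069514186841)) (.leaf (nat_lit 1482309615565241765647876190))) (.node (.leaf (nat_lit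
    0)) (.leaf (nat_lit 1540853615185494018)))) (.node (.node (.leaf (nat_lit
    321280454304170602078214326185230455)) (.leaf (nat_lit 1401091067226488834))) (.node (.leaf
    (nat_lit 954304982807904267257774240)) (.leaf (nat_lit 50794658691527624294621))))))) (.node
    (.node (.node (.node (.node (.node (.leaf (nat_lit 0)) (.leaf (nat_lit
    2525345223245348667513897014))) (.leaf (nat_lit 38130409280769299251239))) (.node (.leaf
    (nat_lit 20420670261296078454918)) (.leaf (nat_lit 832098389569149314246377474)))) (.node
    (.node (.leaf (nat_lit 360413062289430316558057674)) (.leaf (nat_lit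
    40892217675328785363729679450237))) (.node (.leaf (nat_lit 974854567767458248768356430)) (.leaf
    (nat_lit 950463278918795266))))) (.node (.node (.node (.node (.leaf (nat_lit
    1485001184367312306212)) (.leaf (nat_lit 77534032622560986988716))) (.leaf (nat_lit
    31157001985912922636341))) (.node (.leaf (nat_lit 13493970361090754936991)) (.leaf (nat_lit
    1414891750631276546)))) (.node (.node (.leaf (nat_lit 0)) (.leaf (nat_lit
    1562235079076478978))) (.node (.leaf (nat_lit 0)) (.leaf (nat_lit
    2376684064275177655140821763524788323)))))) (.node (.node (.node (.node (.node (.leaf (nat_lit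
    3901510159862939713663)) (.leaf (nat_lit 2067167008194797084610920502))) (.leaf (nat_lit
    41694678487707118927981))) (.node (.leaf (nat_lit 12317962276712256569499)) (.leaf (nat_lit
    811408026174095362)))) (.node (.node (.leaf (nat_lit 199183810843283289475907813)) (.leaf
    (nat_lit 1026267194043251925702672544))) (.node (.leaf (nat_lit 10722415328303406841919))
    (.leaf (nat_lit 41658867590386424152208))))) (.node (.node (.node (.leaf (nat_lit 0)) (.leaf
    (nat_lit 0))) (.node (.leaf (nat_lit 0)) (.leaf (nat_lit 24084216423643439366146)))) (.node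
    (.node (.leaf (nat_lit 15583030766056551677989)) (.leaf (nat_lit 9068212344350100881410)))
    (.node (.leaf (nat_lit 0)) (.leaf (nat_lit 69421634008674287681548)))))))) (.node (.node (.node
    (.node (.node (.node (.node (.leaf (nat_lit 654866733837962117158)) (.leaf (nat_lit
    81997640384054281764927686639826))) (.leaf (nat_lit 1362532594135104268840300928762773603)))
    (.node (.leaf (nat_lit 4067627698761721118800)) (.leaf (nat_lit 6656337145989943197698))))
    (.node (.node (.leaf (nat_lit 10385572795966506074125)) (.leaf (nat_lit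
    1298283403421617749814935752))) (.node (.leaf (nat_lit 6973079126743275733022)) (.leaf (nat_lit
    2068974222300670904592761110))))) (.node (.node (.node (.node (.leaf (nat_lit
    3671011991933711220833)) (.leaf (nat_lit 2660624682943260844343165009))) (.leaf (nat_lit
    43466390511615979225128))) (.node (.leaf (nat_lit 526945144259458429916282885)) (.leaf (nat_lit
    833786291844939778)))) (.node (.node (.leaf (nat_lit 3182156957219261972666)) (.leaf (nat_lit
    29225849446930852282370))) (.node (.leaf (nat_lit 0)) (.leaf (nat_lit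
    71801496905556292731107)))))) (.node (.node (.node (.node (.node (.leaf (nat_lit 0)) (.leaf
    (nat_lit 84692012080620423661120420905103))) (.leaf (nat_lit 41077541797604549132523))) (.node
    (.leaf (nat_lit 0)) (.leaf (nat_lit 1055585489706418178)))) (.node (.node (.leaf (nat_lit
    197817792368459131528675561)) (.leaf (nat_lit 43710133494242299019454))) (.node (.leaf (nat_lit
    26425195946679436771372)) (.leaf (nat_lit 74550979999300981911881766994151))))) (.node (.node
    (.node (.leaf (nat_lit 8028999966216134262827)) (.leaf (nat_lit 25539989246231548461095)))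
    (.node (.leaf (nat_lit 22657453390995357106345)) (.leaf (nat_lit 47857400732482189590613))))
    (.node (.node (.leaf (nat_lit 10113961265162111614978)) (.leaf (nat_lit
    26606502993481900949506))) (.node (.leaf (nat_lit 343956832754447087135096946)) (.leaf (nat_lit
    74134991599028400226395))))))) (.node (.node (.node (.node (.node (.node (.leaf (nat_lit
    2093720794740834893864)) (.leaf (nat_lit 67207050396946036621368))) (.leaf (nat_lit
    19692275104960387153953))) (.node (.leaf (nat_lit 0)) (.leaf (nat_lit 1545490238539956226))))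
    (.node (.node (.leaf (nat_lit 11344813199785610903564)) (.leaf (nat_lit
    18013793243505012965447))) (.node (.leaf (nat_lit 30215986653061315756244)) (.leaf (nat_lit
    62342673727817773154354))))) (.node (.node (.node (.leaf (nat_lit 0)) (.leaf (nat_lit
    1416573199605357945326665852))) (.node (.leaf (nat_lit 24756286471938387411034)) (.leaf
    (nat_lit 1387166740303183874)))) (.node (.node (.leaf (nat_lit 1605362983433851305986)) (.leaf
    (nat_lit 982256104312537090))) (.node (.leaf (nat_lit 28583746481578699849781)) (.leaf (nat_lit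
    78324369190781216634318899970307)))))) (.node (.node (.node (.node (.node (.leaf (nat_lit
    135675134957715467)) (.leaf (nat_lit 2355816855190836835533455669))) (.leaf (nat_lit
    1372144216457523700517044338))) (.node (.leaf (nat_lit 23390809699436598591490)) (.leaf
    (nat_lit 19869008172838568525826)))) (.node (.node (.leaf (nat_lit 0)) (.leaf (nat_lit
    1682396311422203524890755078))) (.node (.leaf (nat_lit 0)) (.leaf (nat_lit
    2006137927851180140))))) (.node (.node (.node (.leaf (nat_lit 0)) (.leaf (nat_lit
    1426094375910347611067121722))) (.node (.leaf (nat_lit 907002946662322136219385970)) (.leaf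
    (nat_lit 59552567374172414738601)))) (.node (.node (.leaf (nat_lit 18557987505495553015917))
    (.leaf (nat_lit 979160970490413058))) (.node (.leaf (nat_lit 37562996388974871904278)) (.leaf
    (nat_lit 2127177970992950161157914706)))))))))) (.node (.node (.node (.node (.node (.node
    (.node (.node (.node (.leaf (nat_lit 4382466778397245048094735)) (.leaf (nat_lit
    74854256575076653793324))) (.leaf (nat_lit 1139723722130831351759503633))) (.node (.leaf
    (nat_lit 7420354677193652240481)) (.leaf (nat_lit 1164512543302090754)))) (.node (.node (.leaf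
    (nat_lit 0)) (.leaf (nat_lit 50508758919027130843750172262417))) (.node (.leaf (nat_lit 0))
    (.leaf (nat_lit 59257576797708153454594))))) (.node (.node (.node (.node (.leaf (nat_lit
    4888537210295528128599)) (.leaf (nat_lit 2629947255235576861659758712))) (.leaf (nat_lit 0)))
    (.node (.leaf (nat_lit 25353770175334439937619039420531)) (.leaf (nat_lit
    15778448008052583104514)))) (.node (.node (.leaf (nat_lit 14199818254043863777452)) (.leaf
    (nat_lit 19707319948942382399490))) (.node (.leaf (nat_lit 896435757036402623379669233)) (.leaf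
    (nat_lit 67789289542853010325576)))))) (.node (.node (.node (.node (.node (.leaf (nat_lit
    53797632488931317380284530)) (.leaf (nat_lit 83910094886858994242034902302930))) (.leaf
    (nat_lit 860011411237540621657047202))) (.node (.leaf (nat_lit 21472143118726076760326)) (.leaf
    (nat_lit 806618836991344642)))) (.node (.node (.leaf (nat_lit 4189262386569152507439139324113))
    (.leaf (nat_lit 45863898809805673005094))) (.node (.leaf (nat_lit 0)) (.leaf (nat_lit
    3028238336907761855846063651375220098739572487292682305099763790256144685))))) (.node (.node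
    (.node (.leaf (nat_lit 7259013068810499588152)) (.leaf (nat_lit
    41882364764716201464580488364286))) (.node (.leaf (nat_lit 857909750425930146376843406)) (.leaf
    (nat_lit 23632226730815688736770)))) (.node (.node (.leaf (nat_lit 241380353196032002)) (.leaf
    (nat_lit 32965947783628154142722))) (.node (.leaf (nat_lit 0)) (.leaf (nat_lit
    42539491050109408575594))))))) (.node (.node (.node (.node (.node (.node (.leaf (nat_lit
    1490524085185459769313765687313)) (.leaf (nat_lit 76939104290365493149934))) (.leaf (nat_lit
    21426437228491884920888))) (.node (.leaf (nat_lit 0)) (.leaf (nat_lit 1103151745703477250))))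
    (.node (.node (.leaf (nat_lit 3800090369351582154786)) (.leaf (nat_lit
    48556990024328795062359))) (.node (.leaf (nat_lit 7009973741202918539344)) (.leaf (nat_lit
    46063580551561779281922))))) (.node (.node (.node (.node (.leaf (nat_lit 0)) (.leaf (nat_lit
    77703614259000120639526))) (.leaf (nat_lit 1327441101729849959728283755))) (.node (.leaf
    (nat_lit 13576981272226372452383)) (.leaf (nat_lit 1438113350310559746)))) (.node (.node (.leaf
    (nat_lit 4736367062680978260120)) (.leaf (nat_lit 28063711174336239042562))) (.node (.leaf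
    (nat_lit 34399614677773048807487)) (.leaf (nat_lit 1663352120058103947757617368)))))) (.node
    (.node (.node (.node (.node (.leaf (nat_lit 3753933673861033951276)) (.leaf (nat_lit 0)))
    (.leaf (nat_lit 41542475409191036190750))) (.node (.leaf (nat_lit 22644069810118294962266))
    (.leaf (nat_lit 1658506006512140290)))) (.node (.node (.leaf (nat_lit 0)) (.leaf (nat_lit
    50965295697518393491552))) (.node (.leaf (nat_lit 0)) (.leaf (nat_lit
    69873726725818870333612))))) (.node (.node (.node (.leaf (nat_lit 0)) (.leaf (nat_lit 0)))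
    (.node (.leaf (nat_lit 27380271359182185365508)) (.leaf (nat_lit 23678384123353659277314))))
    (.node (.node (.leaf (nat_lit 0)) (.leaf (nat_lit 1558998924298158082))) (.node (.leaf (nat_lit
    1091031305044492396)) (.leaf (nat_lit 2286954451597973316714630483949256991)))))))) (.node
    (.node (.node (.node (.node (.node (.node (.leaf (nat_lit 654864763384276123679)) (.leaf
    (nat_lit 82007703064698641252382568415351))) (.leaf (nat_lit 0))) (.node (.leaf (nat_lit
    19351003283884616122439)) (.leaf (nat_lit 1794082571691117026298036226)))) (.node (.node (.leaf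
    (nat_lit 0)) (.leaf (nat_lit 48009116993394621743231))) (.node (.leaf (nat_lit
    13927717252226498101338)) (.leaf (nat_lit 1510597795378233346))))) (.node (.node (.node (.node
    (.leaf (nat_lit 3053097573727321915528)) (.leaf (nat_lit 0))) (.leaf (nat_lit
    1418262216609542381987168460))) (.node (.leaf (nat_lit 0)) (.leaf (nat_lit
    1388291918655520770)))) (.node (.node (.leaf (nat_lit 14591468307425848918092)) (.leaf (nat_lit
    22557350756658922586114))) (.node (.leaf (nat_lit 8712010004286597693533)) (.leaf (nat_lit
    0)))))) (.node (.node (.node (.node (.node (.leaf (nat_lit 0)) (.leaf (nat_lit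
    76966478720805479055415))) (.leaf (nat_lit 761709396223983618))) (.node (.leaf (nat_lit
    696799189600998995108561102)) (.leaf (nat_lit 997319843109797890)))) (.node (.node (.leaf
    (nat_lit 5128272973509668569271)) (.leaf (nat_lit 0))) (.node (.leaf (nat_lit
    1032302073739684742118506590)) (.leaf (nat_lit 68255040274192354443462))))) (.node (.node
    (.node (.leaf (nat_lit 0)) (.leaf (nat_lit 45679309318214127910962))) (.node (.leaf (nat_lit
    7295877301685102772265)) (.leaf (nat_lit 63454158447048797651118)))) (.node (.node (.leaf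
    (nat_lit 288387267012198402)) (.leaf (nat_lit 1500592651882332162))) (.node (.leaf (nat_lit
    33740127535512391188616)) (.leaf (nat_lit 79463200129115391432704336920807))))))) (.node (.node
    (.node (.node (.node (.node (.leaf (nat_lit 24330093310866112737706044)) (.leaf (nat_lit
    74933013838168106139698))) (.leaf (nat_lit 38471399608442949926943))) (.node (.leaf (nat_lit
    20868107373834716512277)) (.leaf (nat_lit 13080531901026608021506)))) (.node (.node (.leaf
    (nat_lit 236800120480178779975843947)) (.leaf (nat_lit 38236310872265372925995))) (.node (.leaf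
    (nat_lit 14817566052241000038555)) (.leaf (nat_lit 678708561242074437449416950))))) (.node
    (.node (.node (.node (.leaf (nat_lit 6719417091964897788096)) (.leaf (nat_lit
    74744147159980022321008334929977))) (.leaf (nat_lit 43728462998336031621190))) (.node (.leaf
    (nat_lit 25577190086250168778878)) (.leaf (nat_lit 1404899560756740098)))) (.node (.node (.leaf
    (nat_lit 18625711413030195950701198062302676844644)) (.leaf (nat_lit
    1761433697745501431752032258))) (.node (.leaf (nat_lit 32992278779844073029844)) (.leaf
    (nat_lit 1332107504846999821851295798)))))) (.node (.node (.node (.node (.node (.leaf (nat_lit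
    0)) (.leaf (nat_lit 71188258506029895188573))) (.leaf (nat_lit 25171351598905379979355)))
    (.node (.leaf (nat_lit 23243228146885112037397)) (.leaf (nat_lit
    1953079278713763019599642722)))) (.node (.node (.leaf (nat_lit 0)) (.leaf (nat_lit
    21215325512428117229570))) (.node (.leaf (nat_lit 8799344933043781697715)) (.leaf (nat_lit
    0))))) (.node (.node (.node (.leaf (nat_lit 273528362900926747235320008)) (.leaf (nat_lit
    46846128256304044769406))) (.node (.leaf (nat_lit 545081088397592648514535453)) (.leaf (nat_lit
    65713920350572855361586)))) (.node (.node (.leaf (nat_lit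
    145133805876764357106767328837061678272610541)) (.leaf (nat_lit 1306375510657466370))) (.node
    (.leaf (nat_lit 346216517413221442840166613)) (.leaf (nat_lit 75177115828044022612038)))))))))
    (.node (.node (.node (.node (.node (.node (.node (.node (.leaf (nat_lit 0)) (.leaf (nat_lit
    74840723962167315071028))) (.leaf (nat_lit 38138966822786672295975))) (.node (.leaf (nat_lit
    592378807340630124)) (.leaf (nat_lit 1710856662803415042)))) (.node (.node (.leaf (nat_lit
    9929013057433853165759)) (.leaf (nat_lit 0))) (.node (.leaf (nat_lit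
    735487024894111738407157966)) (.leaf (nat_lit 1492019948699123714))))) (.node (.node (.node
    (.node (.leaf (nat_lit 3989266599077080137730)) (.leaf (nat_lit 80757696005521040146471)))
    (.leaf (nat_lit 42668085679657014460457))) (.node (.leaf (nat_lit 23414266135180164137215))
    (.leaf (nat_lit 1406728323471638530)))) (.node (.node (.leaf (nat_lit
    245569827209692107459788995)) (.leaf (nat_lit 5240463987489051443202))) (.node (.leaf (nat_lit
    9454212792742995755195)) (.leaf (nat_lit 71329692918438919602346)))))) (.node (.node (.node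
    (.node (.node (.leaf (nat_lit 3094943942168643433109200896027)) (.leaf (nat_lit
    72101136741722851835974))) (.leaf (nat_lit 39527918749109387985083))) (.node (.leaf (nat_lit
    707394409620026264719196284)) (.leaf (nat_lit 1181826011738800130)))) (.node (.node (.leaf
    (nat_lit 403634037341610059418042403)) (.leaf (nat_lit 50106713958685161488388))) (.node (.leaf
    (nat_lit 31216865912732283764875)) (.leaf (nat_lit 1887213238362439691))))) (.node (.node
    (.node (.leaf (nat_lit 0)) (.leaf (nat_lit 1285581773283431115957469398))) (.node (.leaf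
    (nat_lit 25304506418311750418614)) (.leaf (nat_lit 44200356378063730311170)))) (.node (.node
    (.leaf (nat_lit 352141039999516674)) (.leaf (nat_lit 1514254030170226884610))) (.node (.leaf
    (nat_lit 0)) (.leaf (nat_lit 79154745079252693646773217198107))))))) (.node (.node (.node
    (.node (.node (.node (.leaf (nat_lit 0)) (.leaf (nat_lit 77053324727227468939303))) (.leaf
    (nat_lit 42392895182706076094964118651160))) (.node (.leaf (nat_lit
    673678114853782532561043697)) (.leaf (nat_lit 1099070616239210498)))) (.node (.node (.leaf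
    (nat_lit 338765498227490818)) (.leaf (nat_lit 1509687259829785599225701836393939231))) (.node
    (.leaf (nat_lit 29958425649230781808668)) (.leaf (nat_lit
    2384790158896628718448002069531328757))))) (.node (.node (.node (.node (.leaf (nat_lit
    1554334096374368501762)) (.leaf (nat_lit 76218750721999568568563))) (.leaf (nat_lit 0))) (.node
    (.leaf (nat_lit 0)) (.leaf (nat_lit 1687922520990285826)))) (.node (.node (.leaf (nat_lit
    15864362469968247455775)) (.leaf (nat_lit 8975947666913845510146))) (.node (.leaf (nat_lit 0))
    (.leaf (nat_lit 26625319345149565927636)))))) (.node (.node (.node (.node (.node (.leaf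
    (nat_lit 0)) (.leaf (nat_lit 42345755629315495755962))) (.leaf (nat_lit
    41843103210225063362734))) (.node (.leaf (nat_lit 5552618747079229112353)) (.leaf (nat_lit
    1088098082899492866)))) (.node (.node (.leaf (nat_lit 13484979758027732353077)) (.leaf (nat_lit
    51288123429905460559967))) (.node (.leaf (nat_lit 11547907407231504809993)) (.leaf (nat_lit
    47989836684408861687851))))) (.node (.node (.node (.leaf (nat_lit 275485566835201222394511573))
    (.leaf (nat_lit 1525861627575606565734187022))) (.node (.leaf (nat_lit 0)) (.leaf (nat_lit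
    46547744514500368465922)))) (.node (.node (.leaf (nat_lit 0)) (.leaf (nat_lit
    30079056114633582772226))) (.node (.leaf (nat_lit 37227648576382804226560890306608)) (.leaf
    (nat_lit 1950014942436844166715801724)))))))) (.node (.node (.node (.node (.node (.node (.node
    (.leaf (nat_lit 931571272780764872743)) (.leaf (nat_lit 2339549568955449452))) (.leaf (nat_lit
    11714031551970376089842))) (.node (.leaf (nat_lit 0)) (.leaf (nat_lit
    9381846583598085505026)))) (.node (.node (.leaf (nat_lit 10385573781274953449684)) (.leaf
    (nat_lit 48327027493878563537134))) (.node (.leaf (nat_lit 0)) (.leaf (nat_lit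
    49770600928957257941034))))) (.node (.node (.node (.node (.leaf (nat_lit 0)) (.leaf (nat_lit
    77617044237109168373836))) (.leaf (nat_lit 43604183472626276171959))) (.node (.leaf (nat_lit
    0)) (.leaf (nat_lit 1472593794439446530)))) (.node (.node (.leaf (nat_lit 368183498764320779))
    (.leaf (nat_lit 6176645265547281498114))) (.node (.leaf (nat_lit 1108914270240672661926838385))
    (.leaf (nat_lit 71939849181513094725799)))))) (.node (.node (.node (.node (.node (.leaf
    (nat_lit 0)) (.leaf (nat_lit 73946030700168346796122))) (.leaf (nat_lit 0))) (.node (.leaf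
    (nat_lit 0)) (.leaf (nat_lit 1767435869016424450)))) (.node (.node (.leaf (nat_lit
    12908424005188069818547)) (.leaf (nat_lit 44678591780374140092606))) (.node (.leaf (nat_lit
    34142767862352030259348806893669)) (.leaf (nat_lit 1687061116965518295023604424593768693)))))
    (.node (.node (.node (.leaf (nat_lit 0)) (.leaf (nat_lit 22348705899351315251252))) (.node
    (.leaf (nat_lit 8853962205193444135431949320308)) (.leaf (nat_lit 41833857482372331798625))))
    (.node (.node (.leaf (nat_lit 0)) (.leaf (nat_lit 1689745343765413890))) (.node (.leaf (nat_lit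
    0)) (.leaf (nat_lit 35594766896205595345002))))))) (.node (.node (.node (.node (.node (.node
    (.leaf (nat_lit 68400545349632002)) (.leaf (nat_lit 0))) (.leaf (nat_lit 0))) (.node (.leaf
    (nat_lit 460935001148620802)) (.leaf (nat_lit 1376326208488341506)))) (.node (.node (.leaf
    (nat_lit 0)) (.leaf (nat_lit 0))) (.node (.leaf (nat_lit 0)) (.leaf (nat_lit
    2084667384769150978))))) (.node (.node (.node (.leaf (nat_lit 1660405835237551177799)) (.leaf
    (nat_lit 15929225449793407615188))) (.node (.leaf (nat_lit
    6561938313362373673888033079675803074660)) (.leaf (nat_lit 1896777331666714626)))) (.node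
    (.node (.leaf (nat_lit 8241583244345887359143)) (.leaf (nat_lit 974515593992601602))) (.node
    (.leaf (nat_lit 35345040004201473835058)) (.leaf (nat_lit 51637749570603745214573)))))) (.node
    (.node (.node (.node (.node (.leaf (nat_lit 120291720815172786986418181)) (.leaf (nat_lit
    80070539166364396093512))) (.leaf (nat_lit 0))) (.node (.leaf (nat_lit 4989994179263570575571))
    (.leaf (nat_lit 57445027550902916153346)))) (.node (.node (.leaf (nat_lit
    13673741100049945002128)) (.leaf (nat_lit 1542249642765451266))) (.node (.leaf (nat_lit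
    32988294765839546253451)) (.leaf (nat_lit 61229999065829849890853))))) (.node (.node (.node
    (.leaf (nat_lit 9366597208785213915258)) (.leaf (nat_lit 47137479768009890529478))) (.node
    (.leaf (nat_lit 28261273542047519932511)) (.leaf (nat_lit 2163849258522780110694908064))))
    (.node (.node (.leaf (nat_lit 0)) (.leaf (nat_lit 1478919834589855746))) (.node (.leaf (nat_lit
    29958425937861174034453)) (.leaf (nat_lit 0)))))))))))) (.node (.node (.node (.node (.node
    (.node (.node (.node (.node (.node (.node (.leaf (nat_lit 1)) (.leaf (nat_lit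
    75494895029256011841578))) (.leaf (nat_lit 37803142264605924065491))) (.node (.leaf (nat_lit
    18931545191361420656724)) (.leaf (nat_lit 1518185662560468994)))) (.node (.node (.leaf (nat_lit
    8665615446326011691206)) (.leaf (nat_lit 47045243514469631590412))) (.node (.leaf (nat_lit
    926957712292474627798859781)) (.leaf (nat_lit 50781259046699780997256))))) (.node (.node (.node
    (.node (.leaf (nat_lit 4736346927169919975590)) (.leaf (nat_lit 71551605405881125240981)))
    (.leaf (nat_lit 0))) (.node (.leaf (nat_lit 0)) (.leaf (nat_lit 1129756808949399554)))) (.node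
    (.node (.leaf (nat_lit 13817033677643802935386)) (.leaf (nat_lit 671506836670775298))) (.node
    (.leaf (nat_lit 1084263641161105414795034649)) (.leaf (nat_lit 21232849465048656183367))))))
    (.node (.node (.node (.node (.node (.leaf (nat_lit 2024583222351821471841)) (.leaf (nat_lit
    75462759455576444567742))) (.leaf (nat_lit 40182838239963381956792))) (.node (.leaf (nat_lit
    21287674270442298998837)) (.leaf (nat_lit 937082325487976450)))) (.node (.node (.leaf (nat_lit
    10593361987985071079499)) (.leaf (nat_lit 40339173831893078704167))) (.node (.leaf (nat_lit 0))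
    (.leaf (nat_lit 1534179079221886887945044143))))) (.node (.node (.node (.leaf (nat_lit
    7106771697968028516522)) (.leaf (nat_lit 44886900004531703316550))) (.node (.leaf (nat_lit
    25448076951345598496838)) (.leaf (nat_lit 31112378909740675301378)))) (.node (.node (.leaf
    (nat_lit 9523637306567000522926)) (.leaf (nat_lit 897110026936778754))) (.node (.leaf (nat_lit
    35422890622571736399876)) (.leaf (nat_lit 24663999456282736263347))))))) (.node (.node (.node
    (.node (.node (.node (.leaf (nat_lit 28863994033464125822337082)) (.leaf (nat_lit 0))) (.leaf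
    (nat_lit 0))) (.node (.leaf (nat_lit 7056038941752484364438)) (.leaf (nat_lit
    1503549805585104898)))) (.node (.node (.leaf (nat_lit 349540445444735814475186336)) (.leaf
    (nat_lit 48446737104858444398626))) (.node (.leaf (nat_lit 880340516108107787)) (.leaf (nat_lit
    2031186116991909890))))) (.node (.node (.node (.node (.leaf (nat_lit 0)) (.leaf (nat_lit
    2669237501095927741331800241))) (.leaf (nat_lit 0))) (.node (.leaf (nat_lit
    6687118982858695442465)) (.leaf (nat_lit 893036894701617154)))) (.node (.node (.leaf (nat_lit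
    0)) (.leaf (nat_lit 8215011893311883640834))) (.node (.leaf (nat_lit 0)) (.leaf (nat_lit
    72059089014128394829863)))))) (.node (.node (.node (.node (.node (.leaf (nat_lit
    3578690027210049519753)) (.leaf (nat_lit 69356882242491771977834))) (.leaf (nat_lit
    31914690226594305765602587115802))) (.node (.leaf (nat_lit 6299709066842252443691)) (.leaf
    (nat_lit 1149598501294964738)))) (.node (.node (.leaf (nat_lit 393214869153261988914397198))
    (.leaf (nat_lit 0))) (.node (.leaf (nat_lit 589678352474895804386246869)) (.leaf (nat_lit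
    2267862903878600754586714317))))) (.node (.node (.node (.leaf (nat_lit 8088943727410852069574))
    (.leaf (nat_lit 40693995132549767299198))) (.node (.leaf (nat_lit 27195320327354016006314))
    (.leaf (nat_lit 64966640451374293385352)))) (.node (.node (.leaf (nat_lit
    16602176784098564178106)) (.leaf (nat_lit 20140860646205847437314))) (.node (.leaf (nat_lit
    9574150549808659759184)) (.leaf (nat_lit 79889091846793216015857489346679)))))))) (.node (.node
    (.node (.node (.node (.node (.node (.leaf (nat_lit 627197602606348435500)) (.leaf (nat_lit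
    75283458767888352215096))) (.leaf (nat_lit 0))) (.node (.leaf (nat_lit 0)) (.leaf (nat_lit
    1296383836179005442)))) (.node (.node (.leaf (nat_lit 0)) (.leaf (nat_lit
    726156759774033523408896120))) (.node (.leaf (nat_lit 28939198424305073586341)) (.leaf (nat_lit
    57902994914609935659111333298393))))) (.node (.node (.node (.node (.leaf (nat_lit
    4418158606743616290987)) (.leaf (nat_lit 2518720075224010157866614944))) (.leaf (nat_lit
    42003673989596263415917))) (.node (.leaf (nat_lit 22925431076607716687874)) (.leaf (nat_lit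
    1805437731061497858)))) (.node (.node (.leaf (nat_lit 169320981041643531)) (.leaf (nat_lit
    51629416905536323125250))) (.node (.leaf (nat_lit 0)) (.leaf (nat_lit
    71094413052059142258719)))))) (.node (.node (.node (.node (.node (.leaf (nat_lit 0)) (.leaf
    (nat_lit 71984787230632412643366))) (.leaf (nat_lit 1028524337357056279792844913))) (.node
    (.leaf (nat_lit 12124285396056300257416)) (.leaf (nat_lit 33805413142876846751746)))) (.node
    (.node (.leaf (nat_lit 12438087342601688776708)) (.leaf (nat_lit
    1435498236537188353596194893))) (.node (.leaf (nat_lit 0)) (.leaf (nat_lit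
    1943226861807075339))))) (.node (.node (.node (.leaf (nat_lit 0)) (.leaf (nat_lit
    1490801515162731589019107334))) (.node (.leaf (nat_lit 0)) (.leaf (nat_lit
    1957296118106816514)))) (.node (.node (.leaf (nat_lit 317379017814704130)) (.leaf (nat_lit
    33537802620300496666626))) (.node (.leaf (nat_lit 9472691768012231082040)) (.leaf (nat_lit
    73829781248462851080231))))))) (.node (.node (.node (.node (.node (.node (.leaf (nat_lit
    1812409636157386850341)) (.leaf (nat_lit 2531567974324592717280313442))) (.leaf (nat_lit
    12110654705352554250310))) (.node (.leaf (nat_lit 16085727484741050105869)) (.leaf (nat_lit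
    1132284740800479234)))) (.node (.node (.leaf (nat_lit 367675079857142055720714338)) (.leaf
    (nat_lit 17746308980219702345800))) (.node (.leaf (nat_lit 0)) (.leaf (nat_lit
    67908509087949769605358))))) (.node (.node (.node (.node (.leaf (nat_lit
    1512832159029020262475)) (.leaf (nat_lit 1613973866262206525808574545))) (.leaf (nat_lit 0)))
    (.node (.leaf (nat_lit 775487238992691211)) (.leaf (nat_lit 62222272519333916901378)))) (.node
    (.node (.leaf (nat_lit 498987221973960924632187079)) (.leaf (nat_lit 513318698623303682)))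
    (.node (.leaf (nat_lit 0)) (.leaf (nat_lit 72567096605190320750664)))))) (.node (.node (.node
    (.node (.node (.leaf (nat_lit 0)) (.leaf (nat_lit 79023532191464644870235))) (.leaf (nat_lit
    473486748496598707879542789))) (.node (.leaf (nat_lit 0)) (.leaf (nat_lit
    60816158769493072609471)))) (.node (.node (.leaf (nat_lit 3025346542614744334377)) (.leaf
    (nat_lit 1565611653515575298))) (.node (.leaf (nat_lit 0)) (.leaf (nat_lit
    2302307669463618654954586358))))) (.node (.node (.node (.leaf (nat_lit
    281990548474561235970687154)) (.leaf (nat_lit 1529185305642587396327604366))) (.node (.leaf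
    (nat_lit 508369685117534219)) (.leaf (nat_lit 1540151396622532610)))) (.node (.node (.leaf
    (nat_lit 0)) (.leaf (nat_lit 785506006124855298))) (.node (.leaf (nat_lit
    9896979549181014376471)) (.leaf (nat_lit 2426841514667808040155349060))))))))) (.node (.node
    (.node (.node (.node (.node (.node (.node (.leaf (nat_lit 147575782464788037656)) (.leaf
    (nat_lit 69256005126196390199361))) (.leaf (nat_lit 1023978072324389177764610208))) (.node
    (.leaf (nat_lit 4385882587873987985501)) (.leaf (nat_lit 32195838443022807400450)))) (.node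
    (.node (.leaf (nat_lit 230306880387497235862257746)) (.leaf (nat_lit 47483370713824236863550)))
    (.node (.leaf (nat_lit 684996057637191881)) (.leaf (nat_lit 34935546003348483407874))))) (.node
    (.node (.node (.node (.leaf (nat_lit 0)) (.leaf (nat_lit 86014702214821003992367062384775)))
    (.leaf (nat_lit 42630861036019106644155))) (.node (.leaf (nat_lit 21794995763723051925547))
    (.leaf (nat_lit 1444445935991128066)))) (.node (.node (.leaf (nat_lit 14241320332062275862552))
    (.leaf (nat_lit 849962135114088450))) (.node (.leaf (nat_lit 0)) (.leaf (nat_lit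
    46847076990356115619881)))))) (.node (.node (.node (.node (.node (.leaf (nat_lit
    2891915883789661435335056621685)) (.leaf (nat_lit 82479035447974223925141395800298))) (.leaf
    (nat_lit 13069913264024189075495))) (.node (.leaf (nat_lit
    736012640745963433263603024600105224)) (.leaf (nat_lit 1056709989453922306)))) (.node (.node
    (.leaf (nat_lit 10892876414727244415007)) (.leaf (nat_lit 596004169702629003734810748))) (.node
    (.leaf (nat_lit 0)) (.leaf (nat_lit 64653146437963800051724))))) (.node (.node (.node (.leaf
    (nat_lit 0)) (.leaf (nat_lit 43544867567755390550028))) (.node (.leaf (nat_lit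
    22583618000454768853157)) (.leaf (nat_lit 31116996923220887273474)))) (.node (.node (.leaf
    (nat_lit 546602248728555744548618360)) (.leaf (nat_lit 1399120733799579650))) (.node (.leaf
    (nat_lit 35737036402556502474771)) (.leaf (nat_lit 70732428172502540677692415868989)))))))
    (.node (.node (.node (.node (.node (.node (.leaf (nat_lit 45881834248208443)) (.leaf (nat_lit
    50264903507577850233059))) (.leaf (nat_lit 0))) (.node (.leaf (nat_lit
    20398089489566495080479)) (.leaf (nat_lit 51103777280913114857474)))) (.node (.node (.leaf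
    (nat_lit 10837524359474762154171)) (.leaf (nat_lit 0))) (.node (.leaf (nat_lit
    29883968534663440450175472304253)) (.leaf (nat_lit 1403215736008212482))))) (.node (.node
    (.node (.node (.leaf (nat_lit 203710231150928650542776378)) (.leaf (nat_lit
    2877427388682876190550332940157845692))) (.leaf (nat_lit 47166953834409801899689111781642)))
    (.node (.leaf (nat_lit 0)) (.leaf (nat_lit 1217437037288882178)))) (.node (.node (.leaf
    (nat_lit 513657922236827349234745519)) (.leaf (nat_lit 1237535443394421260290))) (.node (.leaf
    (nat_lit 0)) (.leaf (nat_lit 72345096139732513128541)))))) (.node (.node (.node (.node (.node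
    (.leaf (nat_lit 3887159528940503799670730195001)) (.leaf (nat_lit 79157395779147433967843)))
    (.leaf (nat_lit 41648946122353916706824))) (.node (.leaf (nat_lit
    798340089583587739217346334724325481)) (.leaf (nat_lit 1020543246675345410)))) (.node (.node
    (.leaf (nat_lit 5898523618474629202029)) (.leaf (nat_lit 40270471139511314350238))) (.node
    (.leaf (nat_lit 32213595260811561074918)) (.leaf (nat_lit 2281615246553575031054794894)))))
    (.node (.node (.node (.leaf (nat_lit 267332009315536191145377886)) (.leaf (nat_lit
    29100219860206502477930))) (.node (.leaf (nat_lit 9482153119144665612416)) (.leaf (nat_lit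
    80766062011500635064987868250883515056450408349819)))) (.node (.node (.leaf (nat_lit 0)) (.leaf
    (nat_lit 6024493960022978658306))) (.node (.leaf (nat_lit 32559038689901455540334)) (.leaf
    (nat_lit 67249682875610470482104)))))))) (.node (.node (.node (.node (.node (.node (.node
    (.leaf (nat_lit 0)) (.leaf (nat_lit 2363677432644243357876617432))) (.leaf (nat_lit
    38706840470963148226563))) (.node (.leaf (nat_lit 0)) (.leaf (nat_lit 1227563994647232514))))
    (.node (.node (.leaf (nat_lit 339105514073763187402211333)) (.leaf (nat_lit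
    1456652556757632668083159182))) (.node (.leaf (nat_lit 9071674180358393065141549990142)) (.leaf
    (nat_lit 2348394389400063439796957460834943108))))) (.node (.node (.node (.node (.leaf (nat_lit
    137368263830872997698470050)) (.leaf (nat_lit 75379312964800585334971))) (.leaf (nat_lit
    19619471268367039557387684217063))) (.node (.leaf (nat_lit 0)) (.leaf (nat_lit
    1356203840029982722)))) (.node (.node (.leaf (nat_lit 0)) (.leaf (nat_lit 513599778463023106)))
    (.node (.leaf (nat_lit 32831594284792735268901)) (.leaf (nat_lit 45019944667024887840777))))))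
    (.node (.node (.node (.node (.node (.leaf (nat_lit 3279000522770369151046)) (.leaf (nat_lit
    69679929665595650539553))) (.leaf (nat_lit 1251475958779740162))) (.node (.leaf (nat_lit
    16085701027467628838921)) (.leaf (nat_lit 1028000830319624194)))) (.node (.node (.leaf (nat_lit
    12700969771741864984652)) (.leaf (nat_lit 46467918355544976588838))) (.node (.leaf (nat_lit
    27255299148478440210444)) (.leaf (nat_lit 2071693391400239108379115525))))) (.node (.node
    (.node (.leaf (nat_lit 2005523165126548756723640107217)) (.leaf (nat_lit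
    22247245992024346918965))) (.node (.leaf (nat_lit 6682525594629309661349)) (.leaf (nat_lit
    60557070218676375060652)))) (.node (.node (.leaf (nat_lit 288105895114702850)) (.leaf (nat_lit
    1514948915076661250))) (.node (.leaf (nat_lit 1189619351971260298357375089)) (.leaf (nat_lit
    1055754830495127910496862368))))))) (.node (.node (.node (.node (.node (.node (.leaf (nat_lit
    1798573030264610684964)) (.leaf (nat_lit 74029135200608439173211))) (.leaf (nat_lit
    19664604988815463088158))) (.node (.leaf (nat_lit 20992524957613184712757)) (.leaf (nat_lit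
    12706893157299524927490)))) (.node (.node (.leaf (nat_lit 11326366455686131548372)) (.leaf
    (nat_lit 17986123127368678834246))) (.node (.leaf (nat_lit 30409675354729991045159)) (.leaf
    (nat_lit 2007261594375028844))))) (.node (.node (.node (.leaf (nat_lit 6816115429471837945912))
    (.leaf (nat_lit 15320478673055953125562))) (.node (.leaf (nat_lit 7646358119748347297974))
    (.leaf (nat_lit 1544651964002992130)))) (.node (.node (.leaf (nat_lit 1503905890019131457538))
    (.leaf (nat_lit 52786197855931310735362))) (.node (.leaf (nat_lit 0)) (.leaf (nat_lit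
    28588550107730617212724220067857)))))) (.node (.node (.node (.node (.node (.leaf (nat_lit
    146132062934718589587161103)) (.leaf (nat_lit 56199290406117165957190))) (.leaf (nat_lit
    1353283523711627101187866722))) (.node (.leaf (nat_lit 24576333252539222911229284909157))
    (.leaf (nat_lit 1210821507752787970)))) (.node (.node (.leaf (nat_lit 13899707944569835552801))
    (.leaf (nat_lit 1383638347360108546))) (.node (.leaf (nat_lit 287581613635428795392720911))
    (.leaf (nat_lit 58957455201946491493181114613895))))) (.node (.node (.node (.leaf (nat_lit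
    1604914734438950305816)) (.leaf (nat_lit 21165308575645131391994855489679))) (.node (.leaf
    (nat_lit 0)) (.leaf (nat_lit 23101144262664186429605)))) (.node (.node (.leaf (nat_lit
    247232907585904100533075982)) (.leaf (nat_lit 40506159409722768424962))) (.node (.leaf (nat_lit
    26665579663640697700393)) (.leaf (nat_lit 75297275349410938814636)))))))))) (.node (.node
    (.node (.node (.node (.node (.node (.node (.node (.leaf (nat_lit 0)) (.leaf (nat_lit
    75729356929598281154599))) (.leaf (nat_lit 37968957337493810905214))) (.node (.leaf (nat_lit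
    624882109451220344665014297)) (.leaf (nat_lit 34455560225702575013890)))) (.node (.node (.leaf
    (nat_lit 0)) (.leaf (nat_lit 1455111620847690093177339964))) (.node (.leaf (nat_lit 0)) (.leaf
    (nat_lit 43951390902710861758466))))) (.node (.node (.node (.node (.leaf (nat_lit
    148623361843527739)) (.leaf (nat_lit 76920646433437567352839))) (.leaf (nat_lit
    42681824455261463707824))) (.node (.leaf (nat_lit 21287710442270318854183)) (.leaf (nat_lit
    1530717990583140354)))) (.node (.node (.leaf (nat_lit 14356596859506406916114)) (.leaf (nat_lit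
    486577888641024002))) (.node (.leaf (nat_lit 9592558306445588889782)) (.leaf (nat_lit
    798397894542802658393325666)))))) (.node (.node (.node (.node (.node (.leaf (nat_lit
    83265356139643665719230577)) (.leaf (nat_lit 74734485737688701010087))) (.leaf (nat_lit
    40307364195404634849406))) (.node (.leaf (nat_lit 21435249630544297918685)) (.leaf (nat_lit
    921742076696199170)))) (.node (.node (.leaf (nat_lit 364660560429711371)) (.leaf (nat_lit 0)))
    (.node (.leaf (nat_lit 11372645463452903735342)) (.leaf (nat_lit
    52979471290613814903161261195474))))) (.node (.node (.node (.leaf (nat_lit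
    7245164216226500772033)) (.leaf (nat_lit 1373921318860357643))) (.node (.leaf (nat_lit
    737316098439291211882954865)) (.leaf (nat_lit 1951243955135971330)))) (.node (.node (.leaf
    (nat_lit 11986281297335655006210)) (.leaf (nat_lit 11715298180462106836994))) (.node (.leaf
    (nat_lit 0)) (.leaf (nat_lit 70614841477279688884237))))))) (.node (.node (.node (.node (.node
    (.node (.leaf (nat_lit 0)) (.leaf (nat_lit 76920647687941679939820))) (.leaf (nat_lit
    718119766173223813938151697))) (.node (.leaf (nat_lit 148864934625868964503486696)) (.leaf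
    (nat_lit 34414122326938085425154)))) (.node (.node (.leaf (nat_lit
    11592195501391283027202657288401)) (.leaf (nat_lit 0))) (.node (.leaf (nat_lit
    956871657848139598927233038)) (.leaf (nat_lit 66424173040076390072322))))) (.node (.node (.node
    (.node (.leaf (nat_lit 189202567928713103800533018)) (.leaf (nat_lit 0))) (.leaf (nat_lit
    39956093983054127890471))) (.node (.leaf (nat_lit 13706107636317409181882)) (.leaf (nat_lit
    1446557522302468098)))) (.node (.node (.leaf (nat_lit 471485055735300155)) (.leaf (nat_lit
    9483227236314447544322))) (.node (.leaf (nat_lit 25411163064620374229204)) (.leaf (nat_lit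
    2540408695517618609951005266745360489)))))) (.node (.node (.node (.node (.node (.leaf (nat_lit
    3721719566425286443136)) (.leaf (nat_lit 79249280188906675044422))) (.leaf (nat_lit
    30498276433531393027408432602515423821929))) (.node (.leaf (nat_lit 0)) (.leaf (nat_lit
    1660898535224246274)))) (.node (.node (.leaf (nat_lit 0)) (.leaf (nat_lit
    1669725791552949958146785482))) (.node (.leaf (nat_lit 0)) (.leaf (nat_lit
    74630253804637245299106064433418))))) (.node (.node (.node (.leaf (nat_lit 0)) (.leaf (nat_lit
    42681825461421977305163))) (.node (.leaf (nat_lit 7947816994690090164868048290002)) (.leaf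
    (nat_lit 44318930386848596557995)))) (.node (.node (.leaf (nat_lit 7563306528039711735850))
    (.leaf (nat_lit 1116238751572557826))) (.node (.leaf (nat_lit 1205482412998753763522248817))
    (.leaf (nat_lit 72613210933963820040298)))))))) (.node (.node (.node (.node (.node (.node
    (.node (.leaf (nat_lit 0)) (.leaf (nat_lit 2883623685047370455086220896566697573885673595)))
    (.leaf (nat_lit 41402927924192969779221574779076))) (.node (.leaf (nat_lit
    15320189715782356369439)) (.leaf (nat_lit 1126654579841302530)))) (.node (.node (.leaf (nat_lit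
    0)) (.leaf (nat_lit 46971397569862957203654))) (.node (.leaf (nat_lit
    554752587191608849692098674)) (.leaf (nat_lit 1791241606264119335145701420))))) (.node (.node
    (.node (.node (.leaf (nat_lit 4233692291580010102951)) (.leaf (nat_lit
    2560879707527554227325108384))) (.leaf (nat_lit 43281928559628044665015))) (.node (.leaf
    (nat_lit 5617186011851939578040)) (.leaf (nat_lit 59377335532226158460930)))) (.node (.node
    (.leaf (nat_lit 14928196115645765714094)) (.leaf (nat_lit 28566377217612690161666))) (.node
    (.leaf (nat_lit 0)) (.leaf (nat_lit 66090802120622206025741)))))) (.node (.node (.node (.node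
    (.node (.leaf (nat_lit 3372236619235263477683954450551)) (.leaf (nat_lit
    84504276336378903516195345203343))) (.leaf (nat_lit 40915292021075306807298))) (.node (.leaf
    (nat_lit 641361251494133819)) (.leaf (nat_lit 1137212597297348610)))) (.node (.node (.leaf
    (nat_lit 12558002719958572925024)) (.leaf (nat_lit 39860015883526749749407))) (.node (.leaf
    (nat_lit 29825026603830526049388182438147)) (.leaf (nat_lit
    2615887520375370920623492826697124783235530870))))) (.node (.node (.node (.leaf (nat_lit 0))
    (.leaf (nat_lit 45642621895257471778853))) (.node (.leaf (nat_lit 0)) (.leaf (nat_lit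
    50177112992621464322199)))) (.node (.node (.leaf (nat_lit 495412043663409154)) (.leaf (nat_lit
    34335625865071278882818))) (.node (.leaf (nat_lit 0)) (.leaf (nat_lit 0))))))) (.node (.node
    (.node (.node (.node (.node (.leaf (nat_lit 0)) (.leaf (nat_lit 77496840063222133489735)))
    (.leaf (nat_lit 0))) (.node (.leaf (nat_lit 584368917734040100627808433)) (.leaf (nat_lit
    327688571412676610)))) (.node (.node (.leaf (nat_lit 373719764037476225042874480)) (.leaf
    (nat_lit 0))) (.node (.leaf (nat_lit 27344453620896620300057165758683)) (.leaf (nat_lit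
    1179667513402384658530042140))))) (.node (.node (.node (.node (.leaf (nat_lit 0)) (.leaf
    (nat_lit 50268838814037605285930))) (.leaf (nat_lit 43507101647239051935774))) (.node (.leaf
    (nat_lit 383836332151172914707955953)) (.leaf (nat_lit 1338049219428220930)))) (.node (.node
    (.leaf (nat_lit 493445459940088361463560815455371364)) (.leaf (nat_lit 875154824134524930)))
    (.node (.leaf (nat_lit 0)) (.leaf (nat_lit 43913814296888277663840)))))) (.node (.node (.node
    (.node (.node (.leaf (nat_lit 0)) (.leaf (nat_lit 79871253586228394786886))) (.leaf (nat_lit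
    0))) (.node (.leaf (nat_lit 24902803206130328330546205491248)) (.leaf (nat_lit
    1861285345430208620)))) (.node (.node (.leaf (nat_lit 14781101390450593925505820721200)) (.leaf
    (nat_lit 1313269405613948930))) (.node (.leaf (nat_lit 0)) (.leaf (nat_lit
    46819413347482820870177))))) (.node (.node (.node (.leaf (nat_lit 8909978228420027547723))
    (.leaf (nat_lit 46818458421642687348894))) (.node (.leaf (nat_lit 6811664626064960979082))
    (.leaf (nat_lit 1452998787636194720843301078)))) (.node (.node (.leaf (nat_lit
    12548732206334907449599)) (.leaf (nat_lit 848266411353948455119880194))) (.node (.leaf (nat_lit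
    32392786198998475276296)) (.leaf (nat_lit 1089754951488493888974618659))))))))) (.node (.node
    (.node (.node (.node (.node (.node (.node (.leaf (nat_lit 0)) (.leaf (nat_lit
    42824978314297948176426))) (.leaf (nat_lit 0))) (.node (.leaf (nat_lit 0)) (.leaf (nat_lit
    1062196595426197506)))) (.node (.node (.leaf (nat_lit 9929013901811538657376)) (.leaf (nat_lit
    727475710294578030570635289))) (.node (.leaf (nat_lit 27998398573145277792406)) (.leaf (nat_lit
    1858218867629883394))))) (.node (.node (.node (.node (.leaf (nat_lit 3970819854956125945858))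
    (.leaf (nat_lit 73438729195682569322549))) (.leaf (nat_lit 31983016621975642767373))) (.node
    (.leaf (nat_lit 24087568071733027209353)) (.leaf (nat_lit 1868910226640601090)))) (.node (.node
    (.leaf (nat_lit 247681804109990237237936305)) (.leaf (nat_lit 21916320356176587063298))) (.node
    (.leaf (nat_lit 0)) (.leaf (nat_lit 1332287486440898668)))))) (.node (.node (.node (.node
    (.node (.leaf (nat_lit 41660946548129803)) (.leaf (nat_lit 76089938480675416113338))) (.leaf
    (nat_lit 40615999254335399854127))) (.node (.leaf (nat_lit 21472673417582199636040)) (.leaf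
    (nat_lit 41511525816654958362626)))) (.node (.node (.leaf (nat_lit 10998945193271333421099))
    (.leaf (nat_lit 1526203954185240587))) (.node (.leaf (nat_lit 11967555774846091853860)) (.leaf
    (nat_lit 68959853309060553310336))))) (.node (.node (.node (.leaf (nat_lit
    6770097649175150919713)) (.leaf (nat_lit 0))) (.node (.leaf (nat_lit 26452817784986772111412))
    (.leaf (nat_lit 1035746855377567746)))) (.node (.node (.leaf (nat_lit
    557325161208330656290177026)) (.leaf (nat_lit 1156911585059536898))) (.node (.leaf (nat_lit
    1164204917076819282332221639)) (.leaf (nat_lit 42608120982824600928280))))))) (.node (.node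
    (.node (.node (.node (.node (.leaf (nat_lit 0)) (.leaf (nat_lit 63139864772669807460534)))
    (.leaf (nat_lit 25641756095930356138028))) (.node (.leaf (nat_lit 0)) (.leaf (nat_lit
    1821285620930264002707324930)))) (.node (.node (.leaf (nat_lit
    11929019921437345278342505758937)) (.leaf (nat_lit 0))) (.node (.leaf (nat_lit 0)) (.leaf
    (nat_lit 2221011305227194940378054880))))) (.node (.node (.node (.node (.leaf (nat_lit
    277198872374727103495441857744995087402023976889166538214211688)) (.leaf (nat_lit
    76786432410516875051083))) (.leaf (nat_lit 0))) (.node (.leaf (nat_lit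
    18216338814388316340262)) (.leaf (nat_lit 1476394075992227842)))) (.node (.node (.leaf (nat_lit
    490826945019757071249440984)) (.leaf (nat_lit 1557450021652267010))) (.node (.leaf (nat_lit
    1078545842251585421119324175)) (.leaf (nat_lit 1500752536775744645855707190)))))) (.node (.node
    (.node (.node (.node (.leaf (nat_lit 4021413996453720948866)) (.leaf (nat_lit
    75610908040868674076763))) (.leaf (nat_lit 1369451707473312158612455429))) (.node (.leaf
    (nat_lit 0)) (.leaf (nat_lit 2111346496638558556640403559486455907)))) (.node (.node (.leaf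
    (nat_lit 99588262067603648882671811)) (.leaf (nat_lit 1678795825807821732338467030))) (.node
    (.leaf (nat_lit 558072244845386529985789958)) (.leaf (nat_lit 0))))) (.node (.node (.node
    (.leaf (nat_lit 8748618473628250603685)) (.leaf (nat_lit 0))) (.node (.leaf (nat_lit
    253891176570168633660276762)) (.leaf (nat_lit 1170433860094263298)))) (.node (.node (.leaf
    (nat_lit 18188603530249343533277)) (.leaf (nat_lit 29355021409654583525378))) (.node (.leaf
    (nat_lit 0)) (.leaf (nat_lit 32199592083739015053342)))))))) (.node (.node (.node (.node (.node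
    (.node (.node (.leaf (nat_lit 0)) (.leaf (nat_lit 76615702192723486507192))) (.leaf (nat_lit
    0))) (.node (.leaf (nat_lit 19941051255758256275582)) (.leaf (nat_lit 1522267839996755970))))
    (.node (.node (.leaf (nat_lit 10335092651542421110874)) (.leaf (nat_lit
    17644817547179946344503))) (.node (.leaf (nat_lit 7969505470188399820823)) (.leaf (nat_lit
    2201344898541374921582575912))))) (.node (.node (.node (.node (.leaf (nat_lit
    5750945577471223988247)) (.leaf (nat_lit 87312101004204755188627034931319))) (.leaf (nat_lit
    43567925551188108574809))) (.node (.leaf (nat_lit 0)) (.leaf (nat_lit 1471327157044248578))))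
    (.node (.node (.leaf (nat_lit 14896190724907431297095)) (.leaf (nat_lit
    17678189924303771992066))) (.node (.leaf (nat_lit 0)) (.leaf (nat_lit
    71906081895173037686890)))))) (.node (.node (.node (.node (.node (.leaf (nat_lit
    3403445958346600022103)) (.leaf (nat_lit 69209681947796240007355))) (.leaf (nat_lit
    1556221303207652598737827093689772965643157536))) (.node (.leaf (nat_lit
    6023004105704164491307)) (.leaf (nat_lit 1085140525469794306)))) (.node (.node (.leaf (nat_lit
    12862383004648913174625)) (.leaf (nat_lit 50660164695563104878782))) (.node (.leaf (nat_lit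
    8061464473204471037996)) (.leaf (nat_lit 69495263634542974664946))))) (.node (.node (.node
    (.leaf (nat_lit 0)) (.leaf (nat_lit 49098197114904136451999224103178))) (.node (.leaf (nat_lit
    25978401282439925399788)) (.leaf (nat_lit 1339843438806696624872751246)))) (.node (.node (.leaf
    (nat_lit 0)) (.leaf (nat_lit 616057614878507010))) (.node (.leaf (nat_lit 0)) (.leaf (nat_lit
    74272067222920270905414))))))) (.node (.node (.node (.node (.node (.node (.leaf (nat_lit
    36995476619581704856452586627530854)) (.leaf (nat_lit 2510550284180699893236760736))) (.leaf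
    (nat_lit 12360035764867719954506))) (.node (.leaf (nat_lit 22639587374377185269012752564458))
    (.leaf (nat_lit 361043673980469250)))) (.node (.node (.leaf (nat_lit
    2396784903048063896421314920573)) (.leaf (nat_lit 1509596380803497995))) (.node (.leaf (nat_lit
    563515782154315845960204496)) (.leaf (nat_lit 2018365114582707743200903409))))) (.node (.node
    (.node (.leaf (nat_lit 1448113185643364024392)) (.leaf (nat_lit
    47394742067386898938432655261813))) (.node (.leaf (nat_lit 25858409762154766073992)) (.leaf
    (nat_lit 1362115613404823554)))) (.node (.node (.leaf (nat_lit 10275337484079657582762)) (.leaf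
    (nat_lit 37439279703722641522690))) (.node (.leaf (nat_lit 37915929756255552815235491758199))
    (.leaf (nat_lit 68052552589943461564943608119506)))))) (.node (.node (.node (.node (.node
    (.leaf (nat_lit 0)) (.leaf (nat_lit 42936083246870555721758))) (.leaf (nat_lit
    13697959796367182463194))) (.node (.leaf (nat_lit 0)) (.leaf (nat_lit
    48064858338877881122818)))) (.node (.node (.leaf (nat_lit 13475757653143668850885)) (.leaf
    (nat_lit 5604778454222649884674))) (.node (.leaf (nat_lit 0)) (.leaf (nat_lit
    70731578832090279641129))))) (.node (.node (.node (.leaf (nat_lit 1687925645875215532075))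
    (.leaf (nat_lit 1423404555647734681620971662))) (.node (.leaf (nat_lit 0)) (.leaf (nat_lit
    1018584267905177566061002976)))) (.node (.node (.leaf (nat_lit 508069808931377591804493839))
    (.leaf (nat_lit 691352849753440258))) (.node (.leaf (nat_lit 0)) (.leaf (nat_lit
    1950933064560353741990264956))))))))))) (.node (.node (.node (.node (.node (.node (.node (.node
    (.node (.node (.leaf (nat_lit 110680605287120044040)) (.leaf (nat_lit
    75664791917905284628519))) (.leaf (nat_lit 516215743291146837998960800))) (.node (.leaf
    (nat_lit 616872749917606923110449265)) (.leaf (nat_lit 1515512526455046146)))) (.node (.node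
    (.leaf (nat_lit 0)) (.leaf (nat_lit 0))) (.node (.leaf (nat_lit 0)) (.leaf (nat_lit
    64542566739145138569409))))) (.node (.node (.node (.node (.leaf (nat_lit
    44882385655506084510826510)) (.leaf (nat_lit 77676887082858946166793))) (.leaf (nat_lit
    1396180790140063783894384665))) (.node (.leaf (nat_lit 777513495320485385359065356)) (.leaf
    (nat_lit 60115196569488917200898)))) (.node (.node (.leaf (nat_lit 14282818891381486059687))
    (.leaf (nat_lit 5281962977718035480578))) (.node (.leaf (nat_lit 32955359394255039823965))
    (.leaf (nat_lit 698024833289693849660424246)))))) (.node (.node (.node (.node (.node (.leaf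
    (nat_lit 2010713402214224953453)) (.leaf (nat_lit 73829781956063008063671))) (.leaf (nat_lit
    20079893592010427400245))) (.node (.leaf (nat_lit 12290524657583835512923)) (.leaf (nat_lit
    961570674231607298)))) (.node (.node (.leaf (nat_lit 10413506233335122428072)) (.leaf (nat_lit
    1628013838959829975065428200))) (.node (.leaf (nat_lit 0)) (.leaf (nat_lit
    62886870129724228829208))))) (.node (.node (.node (.leaf (nat_lit 7069896646517483307195))
    (.leaf (nat_lit 0))) (.node (.leaf (nat_lit 30062738119134551819105789339876052107364)) (.leaf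
    (nat_lit 1171698985660973058)))) (.node (.node (.leaf (nat_lit 545081102264161057781317878))
    (.leaf (nat_lit 967760271860957186))) (.node (.leaf (nat_lit 17354060076798856855586)) (.leaf
    (nat_lit 72089926167203304202921495036114))))))) (.node (.node (.node (.node (.node (.node
    (.leaf (nat_lit 1111441945870767161408)) (.leaf (nat_lit 74262924797045417115792))) (.leaf
    (nat_lit 0))) (.node (.leaf (nat_lit 4810148413728299876479)) (.leaf (nat_lit
    56946207457957346738178)))) (.node (.node (.leaf (nat_lit 10648707004198472056903)) (.leaf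
    (nat_lit 41713975163507573981419))) (.node (.leaf (nat_lit 27421921777524096041119)) (.leaf
    (nat_lit 1396460138998661122))))) (.node (.node (.node (.node (.leaf (nat_lit 0)) (.leaf
    (nat_lit 68988289496119515480116))) (.leaf (nat_lit 597979829718200398771388611))) (.node
    (.leaf (nat_lit 26745136348062771206684068348135)) (.leaf (nat_lit 1526074125913817090))))
    (.node (.node (.leaf (nat_lit 5963073713918005412007)) (.leaf (nat_lit 1097379034779746306)))
    (.node (.leaf (nat_lit 33591789235871110332599)) (.leaf (nat_lit 0)))))) (.node (.node (.node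
    (.node (.node (.leaf (nat_lit 1189924771401092497500)) (.leaf (nat_lit 2417519988635205740)))
    (.leaf (nat_lit 0))) (.node (.leaf (nat_lit 6659421280061519757498)) (.leaf (nat_lit
    33957657893403313242114)))) (.node (.node (.leaf (nat_lit 13060693103454640603354)) (.leaf
    (nat_lit 1875225564024725890468368087217332023634427936))) (.node (.leaf (nat_lit
    962623966033838207255445530)) (.leaf (nat_lit 832975906238491049049980953))))) (.node (.node
    (.node (.leaf (nat_lit 0)) (.leaf (nat_lit 1407699346857787451))) (.node (.leaf (nat_lit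
    7747825065229633650700)) (.leaf (nat_lit 800525039398450360154849346)))) (.node (.node (.leaf
    (nat_lit 5414226644191339020324)) (.leaf (nat_lit 1552384210805850114))) (.node (.leaf (nat_lit
    0)) (.leaf (nat_lit 2310482850901921065804759117)))))))) (.node (.node (.node (.node (.node
    (.node (.node (.leaf (nat_lit 682533190541900972065)) (.leaf (nat_lit
    81889736237993346472786220351607))) (.leaf (nat_lit 38471400170207492374598))) (.node (.leaf
    (nat_lit 12161165089816736628745)) (.leaf (nat_lit 1341701358969028610)))) (.node (.node (.leaf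
    (nat_lit 9657073334760893513884)) (.leaf (nat_lit 20555747288131748167853))) (.node (.leaf
    (nat_lit 19529863409417782889133042368782)) (.leaf (nat_lit 1508908842438754306))))) (.node
    (.node (.node (.node (.leaf (nat_lit 3062324604947463864494)) (.leaf (nat_lit
    76062837650093250904153))) (.leaf (nat_lit 46265219098125888082914736144618))) (.node (.leaf
    (nat_lit 20647260432439657562186)) (.leaf (nat_lit 58367375307907155558402)))) (.node (.node
    (.leaf (nat_lit 477679918584665060170530940)) (.leaf (nat_lit 521621772349603842))) (.node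
    (.leaf (nat_lit 35811399652890278851225881739503)) (.leaf (nat_lit
    1388492422281896898353955020)))))) (.node (.node (.node (.node (.node (.leaf (nat_lit
    93171073444610107)) (.leaf (nat_lit 0))) (.leaf (nat_lit 30022477119836043542549))) (.node
    (.leaf (nat_lit 618843184637804652)) (.leaf (nat_lit 893314495617826818)))) (.node (.node
    (.leaf (nat_lit 12165704289457361059873)) (.leaf (nat_lit 47990667298571005657214))) (.node
    (.leaf (nat_lit 0)) (.leaf (nat_lit 69182010554804783480877))))) (.node (.node (.node (.leaf
    (nat_lit 7715534378488343756841)) (.leaf (nat_lit 0))) (.node (.leaf (nat_lit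
    232100964683874412)) (.leaf (nat_lit 63707639054574572208298)))) (.node (.node (.leaf (nat_lit
    394080948968357890)) (.leaf (nat_lit 1772928053033321180518678530))) (.node (.leaf (nat_lit
    28565311560295825735722)) (.leaf (nat_lit 72954512571046157287498))))))) (.node (.node (.node
    (.node (.node (.node (.leaf (nat_lit 0)) (.leaf (nat_lit 2223887018757392957574480143))) (.leaf
    (nat_lit 39647873390902673342560))) (.node (.leaf (nat_lit 634033981452583020)) (.leaf (nat_lit
    1067123309461766146)))) (.node (.node (.leaf (nat_lit 10551602359959241818268)) (.leaf (nat_lit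
    17746309261763398533194))) (.node (.leaf (nat_lit 231682050753691756)) (.leaf (nat_lit
    50250465099474673008902))))) (.node (.node (.node (.node (.leaf (nat_lit
    1595842507412252852233)) (.leaf (nat_lit 77035710590713304645671))) (.leaf (nat_lit 0))) (.node
    (.leaf (nat_lit 0)) (.leaf (nat_lit 1369715145718235138)))) (.node (.node (.leaf (nat_lit
    4602602976617204744282)) (.leaf (nat_lit 31836077394015339872258))) (.node (.leaf (nat_lit
    37481009804547569120220843147291)) (.leaf (nat_lit 922438062855716552531247345)))))) (.node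
    (.node (.node (.node (.node (.leaf (nat_lit 3108360259910194364564)) (.leaf (nat_lit
    52355541652556504305570138095826))) (.leaf (nat_lit 473761350493467093001044062))) (.node
    (.leaf (nat_lit 12317963965879944413337)) (.leaf (nat_lit 42465700402991921823828)))) (.node
    (.node (.leaf (nat_lit 13692507870555015413889)) (.leaf (nat_lit 1427548228978606082))) (.node
    (.leaf (nat_lit 0)) (.leaf (nat_lit 1473297455825500573354164428))))) (.node (.node (.node
    (.leaf (nat_lit 0)) (.leaf (nat_lit 0))) (.node (.leaf (nat_lit 27841176350973271146566))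
    (.leaf (nat_lit 65611048264196600037547)))) (.node (.node (.leaf (nat_lit
    18405625094932718092319)) (.leaf (nat_lit 1413476696346198018))) (.node (.leaf (nat_lit
    33763197225600028967155)) (.leaf (nat_lit 74471385223770541541045207105746))))))))) (.node
    (.node (.node (.node (.node (.node (.node (.node (.leaf (nat_lit
    232743003651732924698041057307)) (.leaf (nat_lit 75970526094308730404868))) (.leaf (nat_lit
    0))) (.node (.leaf (nat_lit 0)) (.leaf (nat_lit 894578238205067266)))) (.node (.node (.leaf
    (nat_lit 9698578227176885387354)) (.leaf (nat_lit 1435193653046977607984480456))) (.node (.leaf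
    (nat_lit 6797832242777871810686)) (.leaf (nat_lit 1895514293454110722))))) (.node (.node (.node
    (.node (.leaf (nat_lit 5123699839886489223337)) (.leaf (nat_lit 80614730361172761182376)))
    (.leaf (nat_lit 0))) (.node (.leaf (nat_lit 176388807686684082342325685882060905)) (.leaf
    (nat_lit 1327915321402720258)))) (.node (.node (.leaf (nat_lit
    4694412354604637678163137462407)) (.leaf (nat_lit 15755106991282990546946))) (.node (.leaf
    (nat_lit 0)) (.leaf (nat_lit 43442740448417313652887)))))) (.node (.node (.node (.node (.node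
    (.leaf (nat_lit 19846567133577218)) (.leaf (nat_lit 73899770568550912295082))) (.leaf (nat_lit
    15643316816044313739394))) (.node (.leaf (nat_lit
    815376042261902305079115237221308611389030637)) (.leaf (nat_lit 1052487959292542978)))) (.node
    (.node (.leaf (nat_lit 12216692346195496075437)) (.leaf (nat_lit 49996036027620773789700)))
    (.node (.leaf (nat_lit 0)) (.leaf (nat_lit 73956724484279033290612418085009))))) (.node (.node
    (.node (.leaf (nat_lit 139031975799494624846020675)) (.leaf (nat_lit
    1449093260781948458227728478))) (.node (.leaf (nat_lit 416033325427626040143118443)) (.leaf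
    (nat_lit 39833086031280491134978)))) (.node (.node (.leaf (nat_lit 279942639753756674)) (.leaf
    (nat_lit 7334199561504409452546))) (.node (.leaf (nat_lit 35206686191707236794406)) (.leaf
    (nat_lit 1496207954751188891565424723416711271))))))) (.node (.node (.node (.node (.node (.node
    (.leaf (nat_lit 0)) (.leaf (nat_lit 49318641493890639790114))) (.leaf (nat_lit
    39370896094452510818460))) (.node (.leaf (nat_lit 5654099199614186094682)) (.leaf (nat_lit
    55784073134091240931330)))) (.node (.node (.leaf (nat_lit 11008430195156579451107)) (.leaf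
    (nat_lit 52004971752069080035455542821150))) (.node (.leaf (nat_lit 10298141619826897125423))
    (.leaf (nat_lit 66783891313180979429378))))) (.node (.node (.node (.node (.leaf (nat_lit
    1494224556438526820393)) (.leaf (nat_lit 77077214920196522967227))) (.leaf (nat_lit
    1333460831574282900114506006))) (.node (.leaf (nat_lit 825257385711262848906428493)) (.leaf
    (nat_lit 1238125491026788354)))) (.node (.node (.leaf (nat_lit 6797790713124179083319)) (.leaf
    (nat_lit 1564768362456809474))) (.node (.leaf (nat_lit 0)) (.leaf (nat_lit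
    77739895864116720929690859405413)))))) (.node (.node (.node (.node (.node (.leaf (nat_lit
    3947627020090163265665)) (.leaf (nat_lit 72110523651751967654115))) (.leaf (nat_lit
    44780133352274289786271910134043))) (.node (.leaf (nat_lit 22842067193033805463722)) (.leaf
    (nat_lit 1833865879075553282)))) (.node (.node (.leaf (nat_lit 13392425296820143587457)) (.leaf
    (nat_lit 0))) (.node (.leaf (nat_lit 11464897058796732612611)) (.leaf (nat_lit
    1648136152105190075157184760))))) (.node (.node (.node (.leaf (nat_lit 0)) (.leaf (nat_lit 0)))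
    (.node (.leaf (nat_lit 9509823235323949416577)) (.leaf (nat_lit 39722445002618060341250))))
    (.node (.node (.leaf (nat_lit 17865780723807512887337)) (.leaf (nat_lit
    25721012262749329358850))) (.node (.leaf (nat_lit 0)) (.leaf (nat_lit
    74217717943519523569677)))))))) (.node (.node (.node (.node (.node (.node (.node (.leaf
    (nat_lit 986908830903715430456)) (.leaf (nat_lit 82165950193188273207189327642833))) (.leaf
    (nat_lit 0))) (.node (.leaf (nat_lit 19664380493898558144546)) (.leaf (nat_lit
    638154886608977922)))) (.node (.node (.leaf (nat_lit 10395056673137256235031)) (.leaf (nat_lit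
    1462673776099551972679745765))) (.node (.leaf (nat_lit 0)) (.leaf (nat_lit
    1510035017223503874))))) (.node (.node (.node (.node (.leaf (nat_lit
    115909014230792597510815749)) (.leaf (nat_lit 78663728500424134819925))) (.leaf (nat_lit 0)))
    (.node (.leaf (nat_lit 725679850265483167532318949)) (.leaf (nat_lit 1375062680649465858))))
    (.node (.node (.leaf (nat_lit 3219050445409630748859)) (.leaf (nat_lit
    13038832790133656453122))) (.node (.leaf (nat_lit 812722947973666458520780894)) (.leaf (nat_lit
    22173658746466280341716)))))) (.node (.node (.node (.node (.node (.leaf (nat_lit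
    1102218434994799575131)) (.leaf (nat_lit 49863282346168301060202))) (.leaf (nat_lit
    13706335646098110218270))) (.node (.leaf (nat_lit 6797767778960891117750)) (.leaf (nat_lit
    1040104374577266690)))) (.node (.node (.leaf (nat_lit 11395822799895019061455)) (.leaf (nat_lit
    47325842121924085481511))) (.node (.leaf (nat_lit 0)) (.leaf (nat_lit
    53539024601957566556032819593470))))) (.node (.node (.node (.leaf (nat_lit 0)) (.leaf (nat_lit
    45841556307657487483006))) (.node (.leaf (nat_lit 26973961508552574173260)) (.leaf (nat_lit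
    43420999734361971687515)))) (.node (.node (.leaf (nat_lit 8509095655111689175216)) (.leaf
    (nat_lit 932716920728322050))) (.node (.leaf (nat_lit 1091536418154281832756281621)) (.leaf
    (nat_lit 0))))))) (.node (.node (.node (.node (.node (.node (.leaf (nat_lit
    742498339488341885025)) (.leaf (nat_lit 49247318159879353723086442922041))) (.leaf (nat_lit
    0))) (.node (.leaf (nat_lit 523933454992220853046083746)) (.leaf (nat_lit
    1053615302308397058)))) (.node (.node (.leaf (nat_lit 328376560300076246300360818)) (.leaf
    (nat_lit 48792185871278427799592))) (.node (.leaf (nat_lit 0)) (.leaf (nat_lit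
    49088220352822454135368056111321))))) (.node (.node (.node (.leaf (nat_lit 0)) (.leaf (nat_lit
    44651704722065327325237))) (.node (.leaf (nat_lit 869736241323778882149093481115943015)) (.leaf
    (nat_lit 1781513217034551298)))) (.node (.node (.leaf (nat_lit 249824207360360450)) (.leaf
    (nat_lit 37074955388079277539330))) (.node (.leaf (nat_lit 10196956718646006317095)) (.leaf
    (nat_lit 46538019281800816867314122424574)))))) (.node (.node (.node (.node (.node (.leaf
    (nat_lit 4519536604027728101447)) (.leaf (nat_lit 80073992015698932727845))) (.leaf (nat_lit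
    0))) (.node (.leaf (nat_lit 23391185187055530606594)) (.leaf (nat_lit 1804592988303785986))))
    (.node (.node (.leaf (nat_lit 13715574333206658482267)) (.leaf (nat_lit
    21510483270919577075714))) (.node (.leaf (nat_lit 306924680398890064163373256)) (.leaf (nat_lit
    2286450682432092058285244431))))) (.node (.node (.node (.leaf (nat_lit 0)) (.leaf (nat_lit
    807587074655100154432192527))) (.node (.leaf (nat_lit 28150152428529222090919)) (.leaf (nat_lit
    57970625369298012668096)))) (.node (.node (.leaf (nat_lit 233484655153135337859186782)) (.leaf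
    (nat_lit 802816931940925442))) (.node (.leaf (nat_lit 37309677786670609661989)) (.leaf (nat_lit
    72013443491377535189033)))))))))) (.node (.node (.node (.node (.node (.node (.node (.node
    (.node (.leaf (nat_lit 239815273010228822035)) (.leaf (nat_lit 75795342121400780652735)))
    (.leaf (nat_lit 18046069546323519144080))) (.node (.leaf (nat_lit 411049614914821069465714786))
    (.leaf (nat_lit 1231949713844912693803483138)))) (.node (.node (.leaf (nat_lit
    2248115130066114711851496702169)) (.leaf (nat_lit 47377298840657426841749))) (.node (.leaf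
    (nat_lit 7028637923622395248679)) (.leaf (nat_lit 64482617056603563819010))))) (.node (.node
    (.node (.node (.leaf (nat_lit 0)) (.leaf (nat_lit 2639009628567714076572254383))) (.leaf
    (nat_lit 42096751290109235757136))) (.node (.leaf (nat_lit 0)) (.leaf (nat_lit
    55319043954822378356738)))) (.node (.node (.leaf (nat_lit 0)) (.leaf (nat_lit
    620700723633586178))) (.node (.leaf (nat_lit 33057067984672392413227)) (.leaf (nat_lit
    71094406296350463557894)))))) (.node (.node (.node (.node (.node (.leaf (nat_lit
    2792812978259830969704814805053)) (.leaf (nat_lit 81592621869566783063290296991792))) (.leaf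
    (nat_lit 16855969444895911177841921032402))) (.node (.leaf (nat_lit 21513654750847699189888))
    (.leaf (nat_lit 1048124547397713922)))) (.node (.node (.leaf (nat_lit
    12939343402881474084742172573757)) (.leaf (nat_lit 1616805154133620241958436971))) (.node
    (.leaf (nat_lit 1014153364034691942179930287)) (.leaf (nat_lit 40186828192584829173958)))))
    (.node (.node (.node (.leaf (nat_lit 7217471443678118740165)) (.leaf (nat_lit
    1478682727427059490392113246))) (.node (.leaf (nat_lit 25586413881092194107498)) (.leaf
    (nat_lit 8552015983708366635010)))) (.node (.node (.leaf (nat_lit 212106972797992962)) (.leaf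
    (nat_lit 1787132562473004863752241154))) (.node (.leaf (nat_lit 0)) (.leaf (nat_lit
    1986437325181288507))))))) (.node (.node (.node (.node (.node (.node (.leaf (nat_lit 0)) (.leaf
    (nat_lit 77003532784547301359871))) (.leaf (nat_lit 30866405948801140588624))) (.node (.leaf
    (nat_lit 15928929878270175019021)) (.leaf (nat_lit 1657375974846758914)))) (.node (.node (.leaf
    (nat_lit 0)) (.leaf (nat_lit 1710394299557909730413118788418797667))) (.node (.leaf (nat_lit
    0)) (.leaf (nat_lit 2028934523336654850))))) (.node (.node (.node (.node (.leaf (nat_lit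
    1448107273904348922042)) (.leaf (nat_lit 87752717439785827824463931310223))) (.leaf (nat_lit
    22431689083457970044984))) (.node (.leaf (nat_lit 26903357821384675805762146336816)) (.leaf
    (nat_lit 1501726712227037186)))) (.node (.node (.leaf (nat_lit 0)) (.leaf (nat_lit
    20039377658124062359554))) (.node (.leaf (nat_lit 0)) (.leaf (nat_lit
    72230428325930091085879)))))) (.node (.node (.node (.node (.node (.leaf (nat_lit
    793232375973507432518)) (.leaf (nat_lit 75094199359339413831723))) (.leaf (nat_lit
    18216567668722796527647))) (.node (.leaf (nat_lit 19392288628876790399130)) (.leaf (nat_lit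
    1043342547990216706)))) (.node (.node (.leaf (nat_lit 5815417146343900250347)) (.leaf (nat_lit
    43710142361124972199975))) (.node (.leaf (nat_lit 0)) (.leaf (nat_lit
    69610251652712957673602))))) (.node (.node (.node (.leaf (nat_lit 8176719869525469888609))
    (.leaf (nat_lit 28805071954932660371608))) (.node (.leaf (nat_lit 8435300392910108950655))
    (.leaf (nat_lit 53527640812200458180232906899930208469091)))) (.node (.node (.leaf (nat_lit 0))
    (.leaf (nat_lit 1417558384156213250))) (.node (.leaf (nat_lit
    39560770534897288173878388260891)) (.leaf (nat_lit 0)))))))) (.node (.node (.node (.node (.node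
    (.node (.node (.leaf (nat_lit 848559376121951617070)) (.leaf (nat_lit
    75698523598322212733140))) (.leaf (nat_lit 38633193814131793395939))) (.node (.leaf (nat_lit
    0)) (.leaf (nat_lit 1163809336896651266)))) (.node (.node (.leaf (nat_lit 0)) (.leaf (nat_lit
    47280448368618519068762))) (.node (.leaf (nat_lit 29164511684354243756045)) (.leaf (nat_lit
    2042304026384662530))))) (.node (.node (.node (.node (.leaf (nat_lit 5552540762318653554759))
    (.leaf (nat_lit 73899973092399405793303))) (.leaf (nat_lit 0))) (.node (.leaf (nat_lit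
    521051566323825376743391237)) (.leaf (nat_lit 60327344121481389080578)))) (.node (.node (.leaf
    (nat_lit 15001946362131907805350)) (.leaf (nat_lit 27754720759135776997378))) (.node (.leaf
    (nat_lit 0)) (.leaf (nat_lit 65108514406149365366958)))))) (.node (.node (.node (.node (.node
    (.leaf (nat_lit 0)) (.leaf (nat_lit 72834407344607097716779))) (.leaf (nat_lit
    1544522656177419186891869738954677866197418221))) (.node (.leaf (nat_lit
    16016526018580295385178)) (.leaf (nat_lit 942995215554314242)))) (.node (.node (.leaf (nat_lit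
    0)) (.leaf (nat_lit 0))) (.node (.leaf (nat_lit 1003590961771203231410815070)) (.leaf (nat_lit
    69320185744939234295978))))) (.node (.node (.node (.leaf (nat_lit 7817012300196641701980))
    (.leaf (nat_lit 1393062227162038274))) (.node (.leaf (nat_lit 24783956307578997374985)) (.leaf
    (nat_lit 64602468412550868566104)))) (.node (.node (.leaf (nat_lit
    611241619453711192670023677251027195)) (.leaf (nat_lit 1520295908842012674))) (.node (.leaf
    (nat_lit 36271931194262457352314)) (.leaf (nat_lit
    2795854947177649804840946339943260358974111981))))))) (.node (.node (.node (.node (.node (.node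
    (.leaf (nat_lit 64830394960162020879761414)) (.leaf (nat_lit 77543253738846658166840))) (.leaf
    (nat_lit 1258817331706866365764993285))) (.node (.leaf (nat_lit 20918737981249627029610))
    (.leaf (nat_lit 32518743713493851242498)))) (.node (.node (.leaf (nat_lit
    367976739385433879388356614)) (.leaf (nat_lit 39126088035858919915741))) (.node (.leaf (nat_lit
    30368403096674966372522)) (.leaf (nat_lit 636563078014291956421885981))))) (.node (.node (.node
    (.leaf (nat_lit 0)) (.leaf (nat_lit 15228242700827462140091))) (.node (.leaf (nat_lit 0))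
    (.leaf (nat_lit 1414329024016154626)))) (.node (.node (.leaf (nat_lit 492174084998823938))
    (.leaf (nat_lit 31467143775703915495426))) (.node (.leaf (nat_lit
    37669184251959335661531428094211)) (.leaf (nat_lit 43387507741149116956714)))))) (.node (.node
    (.node (.node (.node (.leaf (nat_lit 0)) (.leaf (nat_lit 2585482466834070392820465733))) (.leaf
    (nat_lit 0))) (.node (.leaf (nat_lit 818947522834933821297289237373517923)) (.leaf (nat_lit
    61036628253635852304554)))) (.node (.node (.leaf (nat_lit 99588262071826099950846033)) (.leaf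
    (nat_lit 1392223153761157122))) (.node (.leaf (nat_lit 9309527163547561983409123557491)) (.leaf
    (nat_lit 70476447406180085727271))))) (.node (.node (.node (.leaf (nat_lit
    216399308179008935973617731)) (.leaf (nat_lit 0))) (.node (.leaf (nat_lit 0)) (.leaf (nat_lit
    65783096344004132012082)))) (.node (.node (.leaf (nat_lit 0)) (.leaf (nat_lit
    977753501117579266))) (.node (.leaf (nat_lit 0)) (.leaf (nat_lit
    28391627743821404766429))))))))) (.node (.node (.node (.node (.node (.node (.node (.node (.leaf
    (nat_lit 525734880606922407975)) (.leaf (nat_lit 76099696791593362325694))) (.leaf (nat_lit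
    0))) (.node (.leaf (nat_lit 20491000388516243866560378503195)) (.leaf (nat_lit
    1157757375789268994)))) (.node (.node (.leaf (nat_lit 0)) (.leaf (nat_lit
    47778524951181248364639))) (.node (.leaf (nat_lit 28893054390326574383277)) (.leaf (nat_lit
    57887910695160745492482))))) (.node (.node (.node (.node (.leaf (nat_lit 122587252915306498))
    (.leaf (nat_lit 80504049615401556050011))) (.leaf (nat_lit 25069562366895042265179))) (.node
    (.leaf (nat_lit 19664963428369167482954)) (.leaf (nat_lit 58053777702389448638466)))) (.node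
    (.node (.leaf (nat_lit 0)) (.leaf (nat_lit 20099316344419782950914))) (.node (.leaf (nat_lit
    9463436164822800203816)) (.leaf (nat_lit 71219639017363539689578)))))) (.node (.node (.node
    (.node (.node (.leaf (nat_lit 2910017227479924801657)) (.leaf (nat_lit
    2876186607728632065285694912233880726134063136))) (.leaf (nat_lit 40634802910264421449783)))
    (.node (.leaf (nat_lit 15154133695993668108330)) (.leaf (nat_lit 1182248292923342850)))) (.node
    (.node (.leaf (nat_lit 12110364057098793451550)) (.leaf (nat_lit 0))) (.node (.leaf (nat_lit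
    22302344564440232558648)) (.leaf (nat_lit 20531851233481522872344))))) (.node (.node (.node
    (.leaf (nat_lit 0)) (.leaf (nat_lit 0))) (.node (.leaf (nat_lit 868186334698375224215470134))
    (.leaf (nat_lit 1073464613925945346)))) (.node (.node (.leaf (nat_lit 484293610284646402))
    (.leaf (nat_lit 1505030665997457227778))) (.node (.leaf (nat_lit 35926130180613703139420))
    (.leaf (nat_lit 1394245216253996574856970529))))))) (.node (.node (.node (.node (.node (.node
    (.leaf (nat_lit 1724784646251291541580)) (.leaf (nat_lit 2532321302225028334619984072))) (.leaf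
    (nat_lit 37968958049066812637240))) (.node (.leaf (nat_lit 15177225339033545277614)) (.leaf
    (nat_lit 354006361476038658)))) (.node (.node (.leaf (nat_lit 263102526051614777898434785))
    (.leaf (nat_lit 48742403784195289841754))) (.node (.leaf (nat_lit 0)) (.leaf (nat_lit
    61595525986266147651646))))) (.node (.node (.node (.node (.leaf (nat_lit 52360354327560194))
    (.leaf (nat_lit 3098671699787365628641208661651289744450519277))) (.leaf (nat_lit 0))) (.node
    (.leaf (nat_lit 0)) (.leaf (nat_lit 1489482670999207938)))) (.node (.node (.leaf (nat_lit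
    4538038246321875517530)) (.leaf (nat_lit 1076409363763167234))) (.node (.leaf (nat_lit
    900470856025768044)) (.leaf (nat_lit 72566956984891678588962)))))) (.node (.node (.node (.node
    (.node (.leaf (nat_lit 0)) (.leaf (nat_lit 52099464521415003406406))) (.leaf (nat_lit
    41875358131532433916166))) (.node (.leaf (nat_lit 22962203528011184275592)) (.leaf (nat_lit
    1850050844855238658)))) (.node (.node (.leaf (nat_lit 14410064688774017738048664830180)) (.leaf
    (nat_lit 1534027055934927775824347256))) (.node (.leaf (nat_lit 11547907688732251324429))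
    (.leaf (nat_lit 0))))) (.node (.node (.node (.leaf (nat_lit 0)) (.leaf (nat_lit 0))) (.node
    (.leaf (nat_lit 9574386839745141604398)) (.leaf (nat_lit
    29606862403322330884013845674304534413412)))) (.node (.node (.leaf (nat_lit
    17168251464206845747373925531705)) (.leaf (nat_lit 869666998391537666))) (.node (.leaf (nat_lit
    0)) (.leaf (nat_lit 0)))))))) (.node (.node (.node (.node (.node (.node (.node (.leaf (nat_lit
    1143710377800926167095)) (.leaf (nat_lit 75412030063806351867934))) (.leaf (nat_lit 0))) (.node
    (.leaf (nat_lit 19152908373179620327519)) (.leaf (nat_lit 1002805813426913282)))) (.node (.node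
    (.leaf (nat_lit 10551594900167984349197)) (.leaf (nat_lit 28759352961577882157209))) (.node
    (.leaf (nat_lit 27569499670626007449791)) (.leaf (nat_lit
    1510355426450411003367623644626157671))))) (.node (.node (.node (.node (.leaf (nat_lit
    5852371848426806247437)) (.leaf (nat_lit 84905513681935830112632926699754))) (.leaf (nat_lit
    799577946293061579423613005))) (.node (.leaf (nat_lit 5995365517050144555198)) (.leaf (nat_lit
    994367869137584130)))) (.node (.node (.leaf (nat_lit 0)) (.leaf (nat_lit 1408408832505413634)))
    (.node (.leaf (nat_lit 8688681217788567814215)) (.leaf (nat_lit 56246044377437981311197))))))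
    (.node (.node (.node (.node (.node (.leaf (nat_lit 109106228628135445967142972)) (.leaf
    (nat_lit 77579622981224343207977))) (.leaf (nat_lit 13457303334577305223210))) (.node (.leaf
    (nat_lit 17745911653456574349349)) (.leaf (nat_lit 1037993595719778306)))) (.node (.node (.leaf
    (nat_lit 11234410833891654041772)) (.leaf (nat_lit 50720869301435395932215))) (.node (.leaf
    (nat_lit 26213062330636069699763)) (.leaf (nat_lit 68651651042331959951546))))) (.node (.node
    (.node (.leaf (nat_lit 1604912763229350068403)) (.leaf (nat_lit 43894504947803268251754)))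
    (.node (.leaf (nat_lit 0)) (.leaf (nat_lit 49771296152590452195374)))) (.node (.node (.leaf
    (nat_lit 17676821773960668708928)) (.leaf (nat_lit 1811312342477395764401405954))) (.node
    (.leaf (nat_lit 36553338338493023322168)) (.leaf (nat_lit 74346956329926827114537))))))) (.node
    (.node (.node (.node (.node (.node (.leaf (nat_lit 69385733537923074)) (.leaf (nat_lit
    77879811113328226533515))) (.leaf (nat_lit 1263216359534596534026109132))) (.node (.leaf
    (nat_lit 0)) (.leaf (nat_lit 32846132752551438909442)))) (.node (.node (.leaf (nat_lit 0))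
    (.leaf (nat_lit 0))) (.node (.leaf (nat_lit 28612142907931678279422699700443)) (.leaf (nat_lit
    1519682328522028171326128391))))) (.node (.node (.node (.leaf (nat_lit 0)) (.leaf (nat_lit
    1366602763307450379))) (.node (.leaf (nat_lit 25793951010113041137666)) (.leaf (nat_lit
    1530015608811421698)))) (.node (.node (.leaf (nat_lit 9592807248926228021291)) (.leaf (nat_lit
    1477370639886188546))) (.node (.leaf (nat_lit 919470966709551106)) (.leaf (nat_lit
    2347304940300404971849121886)))))) (.node (.node (.node (.node (.node (.leaf (nat_lit 0))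
    (.leaf (nat_lit 86168199789780936613602573746224))) (.leaf (nat_lit
    43858976018180063869838144372793))) (.node (.leaf (nat_lit
    828029976954532401984674503456063593)) (.leaf (nat_lit 1469356342581002242)))) (.node (.node
    (.leaf (nat_lit 13817033677575083458644)) (.leaf (nat_lit 46708737508990924292098))) (.node
    (.leaf (nat_lit 9454206881261678690337)) (.leaf (nat_lit 70805199759267212755120))))) (.node
    (.node (.node (.leaf (nat_lit 0)) (.leaf (nat_lit 0))) (.node (.leaf (nat_lit
    30350070012440566943483380957423)) (.leaf (nat_lit 65483346169874335596680)))) (.node (.node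
    (.leaf (nat_lit 18747073387796545863704)) (.leaf (nat_lit 55784083547574457532418))) (.node
    (.leaf (nat_lit 10551852334331543617748)) (.leaf (nat_lit 30055974222457957711943)))))))))))))
    (.node (.node (.node (.node (.node (.node (.node (.node (.node (.node (.node (.node (.leaf
    (nat_lit 1)) (.leaf (nat_lit 75560167668980329414712))) (.leaf (nat_lit 0))) (.node (.leaf
    (nat_lit 140246200585825912388583637)) (.leaf (nat_lit 1311723767143202818)))) (.node (.node
    (.leaf (nat_lit 0)) (.leaf (nat_lit 0))) (.node (.leaf (nat_lit 929235677666308584982708249))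
    (.leaf (nat_lit 65926069589121674969179))))) (.node (.node (.node (.node (.leaf (nat_lit
    119687267191225022803083376)) (.leaf (nat_lit 74024432319128509022375))) (.leaf (nat_lit
    1392876024163560996427006034))) (.node (.leaf (nat_lit 24576332478735214188803259695219))
    (.leaf (nat_lit 59497228530076126216194)))) (.node (.node (.leaf (nat_lit
    113772574770547734402336853180817321274900717)) (.leaf (nat_lit 3188256679634286084098)))
    (.node (.leaf (nat_lit 272469745743889112836079651)) (.leaf (nat_lit
    46819411096069554241723)))))) (.node (.node (.node (.node (.node (.leaf (nat_lit 0)) (.leaf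
    (nat_lit 32199763504860280062138))) (.leaf (nat_lit 22125138074542391547604083474663))) (.node
    (.leaf (nat_lit 500348471815983153943937184)) (.leaf (nat_lit 901053511289143298)))) (.node
    (.node (.leaf (nat_lit 387623047652686449334288409)) (.leaf (nat_lit 40652696423552103153701)))
    (.node (.leaf (nat_lit 428269230616639520704299269)) (.leaf (nat_lit 1620895072390348811)))))
    (.node (.node (.node (.leaf (nat_lit 3989267868123951988745)) (.leaf (nat_lit
    44886904649671977926690))) (.node (.leaf (nat_lit 776472933987123202)) (.leaf (nat_lit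
    19809136478502133104642)))) (.node (.node (.leaf (nat_lit 9399121221244061679790)) (.leaf
    (nat_lit 1780173090157921898405822466))) (.node (.leaf (nat_lit
    17143657248625072441519568650267)) (.leaf (nat_lit 2188395397632884747))))))) (.node (.node
    (.node (.node (.node (.node (.leaf (nat_lit 1242930032865277204972320391225)) (.leaf (nat_lit
    2631371644117474418421256248005695225991790624))) (.leaf (nat_lit 38983736841055403966621)))
    (.node (.leaf (nat_lit 0)) (.leaf (nat_lit 1065574733233389570)))) (.node (.node (.leaf
    (nat_lit 0)) (.leaf (nat_lit 38813133882099318849680))) (.node (.leaf (nat_lit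
    7028419640662719397928)) (.leaf (nat_lit 1494131861427978242))))) (.node (.node (.node (.node
    (.leaf (nat_lit 0)) (.leaf (nat_lit 70002835791018589356129))) (.leaf (nat_lit
    1432138308248329408441745610))) (.node (.leaf (nat_lit 24770054397245356441690)) (.leaf
    (nat_lit 1722965854943051778)))) (.node (.node (.leaf (nat_lit 123464768379996969369862339))
    (.leaf (nat_lit 9354098315489509048322))) (.node (.leaf (nat_lit 0)) (.leaf (nat_lit
    34953858223746492596330)))))) (.node (.node (.node (.node (.node (.leaf (nat_lit
    3555718713588844789855)) (.leaf (nat_lit 73609471774288756539485))) (.leaf (nat_lit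
    1353870982906525773843398714))) (.node (.leaf (nat_lit 6797770593882456916152)) (.leaf (nat_lit
    998587159109828610)))) (.node (.node (.leaf (nat_lit 10579531575340646465560)) (.leaf (nat_lit
    46528078128104958106669850886340))) (.node (.leaf (nat_lit 7960010336406583050249)) (.leaf
    (nat_lit 69209682220586792845354))))) (.node (.node (.node (.leaf (nat_lit
    8102932752278394962073)) (.leaf (nat_lit 0))) (.node (.leaf (nat_lit
    29161141641046433222324497219765)) (.leaf (nat_lit 1997641664177363214844297504)))) (.node
    (.node (.leaf (nat_lit 0)) (.leaf (nat_lit 857985408900923394))) (.node (.leaf (nat_lit 0))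
    (.leaf (nat_lit 71529434038697713664092)))))))) (.node (.node (.node (.node (.node (.node
    (.node (.leaf (nat_lit 0)) (.leaf (nat_lit 76164083758367745703940))) (.leaf (nat_lit
    10782450568874145546312))) (.node (.leaf (nat_lit 15108049203267052437535)) (.leaf (nat_lit
    1191956611229417474)))) (.node (.node (.leaf (nat_lit 1687927898345044115512)) (.leaf (nat_lit
    45720932319288707186753))) (.node (.leaf (nat_lit 28948392370722119549101)) (.leaf (nat_lit
    23527998603974888306412364300514))))) (.node (.node (.node (.node (.leaf (nat_lit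
    155238418933219436)) (.leaf (nat_lit 78032109207619092283426))) (.leaf (nat_lit
    1351166879209322061190398012))) (.node (.leaf (nat_lit 728620538678870018)) (.leaf (nat_lit
    915836067167469570)))) (.node (.node (.leaf (nat_lit 247834478700750838805299399)) (.leaf
    (nat_lit 44310671194450972311554))) (.node (.leaf (nat_lit 33222843657712149135393)) (.leaf
    (nat_lit 70476444733052570239167)))))) (.node (.node (.node (.node (.node (.leaf (nat_lit
    654878416947871154246)) (.leaf (nat_lit 72834087025886032494774))) (.leaf (nat_lit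
    40505673872204055642282))) (.node (.leaf (nat_lit 20005657223761171251367)) (.leaf (nat_lit
    1930693117041582894345355266)))) (.node (.node (.leaf (nat_lit
    7809162568130974541098619568247)) (.leaf (nat_lit 50052155265754327089228))) (.node (.leaf
    (nat_lit 842022824174676850531107019)) (.leaf (nat_lit 69061525190959362670736))))) (.node
    (.node (.node (.leaf (nat_lit 197358357582662446050705610)) (.leaf (nat_lit 0))) (.node (.leaf
    (nat_lit 0)) (.leaf (nat_lit 927801390787592194)))) (.node (.node (.leaf (nat_lit
    11308377246446876033273)) (.leaf (nat_lit 32656970590712146100226))) (.node (.leaf (nat_lit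
    9463468395958196437088)) (.leaf (nat_lit 2416987595036062289974526005))))))) (.node (.node
    (.node (.node (.node (.node (.leaf (nat_lit 0)) (.leaf (nat_lit 2358084827131151315655458993)))
    (.leaf (nat_lit 19839841035186809798842))) (.node (.leaf (nat_lit 16094950856760725012650))
    (.leaf (nat_lit 391020346683293698)))) (.node (.node (.leaf (nat_lit
    367976757901560645798854750)) (.leaf (nat_lit 0))) (.node (.leaf (nat_lit 0)) (.leaf (nat_lit
    2072418606192394299))))) (.node (.node (.node (.node (.leaf (nat_lit 47716068751441922)) (.leaf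
    (nat_lit 79355355021636664492103))) (.leaf (nat_lit 15938440658592081313971))) (.node (.leaf
    (nat_lit 0)) (.leaf (nat_lit 1402366174297194498)))) (.node (.node (.leaf (nat_lit
    15961215325872918298628)) (.leaf (nat_lit 6873020241158466633730))) (.node (.leaf (nat_lit
    34851394255221516599333)) (.leaf (nat_lit 1400583448308086957448364195)))))) (.node (.node
    (.node (.node (.node (.leaf (nat_lit 4104426878137513738374)) (.leaf (nat_lit
    79396108092500076593155))) (.leaf (nat_lit 14333558018652732850266))) (.node (.leaf (nat_lit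
    20992562817870158037031)) (.leaf (nat_lit 60816157205429192163555)))) (.node (.node (.leaf
    (nat_lit 13429309918677594996806)) (.leaf (nat_lit 1428251864880775170))) (.node (.leaf
    (nat_lit 29307511249443693461526)) (.leaf (nat_lit 70260898627989153185964))))) (.node (.node
    (.node (.leaf (nat_lit 265511864413883926548054074)) (.leaf (nat_lit 46648625568434652119238)))
    (.node (.leaf (nat_lit 7009958539707340226602)) (.leaf (nat_lit
    2108734408720080147304415485)))) (.node (.node (.leaf (nat_lit 0)) (.leaf (nat_lit
    1818839647090907741541367810))) (.node (.leaf (nat_lit 336696092853868739741089818)) (.leaf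
    (nat_lit 2456158860017930924433080401))))))))) (.node (.node (.node (.node (.node (.node (.node
    (.node (.leaf (nat_lit 304374092253737713676)) (.leaf (nat_lit 2484569553406141287522107443)))
    (.leaf (nat_lit 0))) (.node (.leaf (nat_lit 7406520745132766199917)) (.leaf (nat_lit
    906962973971578882)))) (.node (.node (.leaf (nat_lit 9753918600032423182373)) (.leaf (nat_lit
    1475058850754471436315001047))) (.node (.leaf (nat_lit 11451037790500429168679)) (.leaf
    (nat_lit 1490893988662738946))))) (.node (.node (.node (.node (.leaf (nat_lit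
    3966120067802564067425)) (.leaf (nat_lit 75265013435269745148084))) (.leaf (nat_lit 0))) (.node
    (.leaf (nat_lit 5617185167006102650921)) (.leaf (nat_lit 1434172099341189122)))) (.node (.node
    (.leaf (nat_lit 14398096827540530462732)) (.leaf (nat_lit 27810054094988048007170))) (.node
    (.leaf (nat_lit 26568750015986947784857)) (.leaf (nat_lit 0)))))) (.node (.node (.node (.node
    (.node (.leaf (nat_lit 22067509250532650133787020452298854)) (.leaf (nat_lit
    2497114404758490177876525133))) (.leaf (nat_lit 28754258397858153824352))) (.node (.leaf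
    (nat_lit 599793476389159227520975010)) (.leaf (nat_lit 1029125347246997506)))) (.node (.node
    (.leaf (nat_lit 10865205454191749955775)) (.leaf (nat_lit 0))) (.node (.leaf (nat_lit
    28638798760998823198773)) (.leaf (nat_lit 0))))) (.node (.node (.node (.leaf (nat_lit
    241036862674827209278226632)) (.leaf (nat_lit 0))) (.node (.leaf (nat_lit 0)) (.leaf (nat_lit
    45108856243770666188802)))) (.node (.node (.leaf (nat_lit 6493449695326961336412)) (.leaf
    (nat_lit 34898245070727642546178))) (.node (.leaf (nat_lit 35718598820786201624580)) (.leaf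
    (nat_lit 65621683963502063190168))))))) (.node (.node (.node (.node (.node (.node (.leaf
    (nat_lit 0)) (.leaf (nat_lit 50301797417937734402101))) (.leaf (nat_lit
    39223570269970429575344))) (.node (.leaf (nat_lit 645268085500086212402348231)) (.leaf (nat_lit
    1683271750013550594)))) (.node (.node (.leaf (nat_lit 0)) (.leaf (nat_lit
    632167124725585118405581600199147622))) (.node (.leaf (nat_lit 29828900434917357453470)) (.leaf
    (nat_lit 66673205630267558133762))))) (.node (.node (.node (.node (.leaf (nat_lit
    1448107696159763660834)) (.leaf (nat_lit 87812160020778346708905580888318))) (.leaf (nat_lit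
    0))) (.node (.leaf (nat_lit 469379834076891764956069902)) (.leaf (nat_lit
    1433609802222796802)))) (.node (.node (.leaf (nat_lit 509720838302669342425481449)) (.leaf
    (nat_lit 36812080976504876630018))) (.node (.leaf (nat_lit 33241301943084537544887)) (.leaf
    (nat_lit 2253506485295155585350893730)))))) (.node (.node (.node (.node (.node (.leaf (nat_lit
    3850873796672161513527)) (.leaf (nat_lit 0))) (.leaf (nat_lit 26504630001929889710216))) (.node
    (.leaf (nat_lit 744861111803983658792255513)) (.leaf (nat_lit 1043061176092721154)))) (.node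
    (.node (.leaf (nat_lit 13304889668149637742731)) (.leaf (nat_lit
    36143467113371410183940372496593))) (.node (.leaf (nat_lit 0)) (.leaf (nat_lit
    2629769385829509591134748423290884115384500503))))) (.node (.node (.node (.leaf (nat_lit
    8158273125503299944558)) (.leaf (nat_lit 1331067897351994912926859278))) (.node (.leaf (nat_lit
    6880833864191285854362)) (.leaf (nat_lit 65251479903704252088394)))) (.node (.node (.leaf
    (nat_lit 17773546018190647296187)) (.leaf (nat_lit 587315561190853378050))) (.node (.leaf
    (nat_lit 32540591945801976184929)) (.leaf (nat_lit 0)))))))) (.node (.node (.node (.node (.node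
    (.node (.node (.leaf (nat_lit 903898201019736326196)) (.leaf (nat_lit
    76459378185617667194917))) (.leaf (nat_lit 31572561925642496704521))) (.node (.leaf (nat_lit
    407722693668246393987530767)) (.leaf (nat_lit 1179996725037891586)))) (.node (.node (.leaf
    (nat_lit 10348678885563672231939)) (.leaf (nat_lit 48105824593449507291164))) (.node (.leaf
    (nat_lit 917884741250271124578893849)) (.leaf (nat_lit 71677866532937821476811497078947)))))
    (.node (.node (.node (.node (.leaf (nat_lit 4067578427395117613098)) (.leaf (nat_lit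
    42825420938509189054622))) (.leaf (nat_lit 31134257681293499367466))) (.node (.leaf (nat_lit
    22025584709505523056814)) (.leaf (nat_lit 46321654950549944205314)))) (.node (.node (.leaf
    (nat_lit 493398158558578787072868552)) (.leaf (nat_lit 36101872752973851066370))) (.node (.leaf
    (nat_lit 0)) (.leaf (nat_lit 1332006406601179244)))))) (.node (.node (.node (.node (.node
    (.leaf (nat_lit 23728434382438901806792783)) (.leaf (nat_lit 68896079417089210908830))) (.leaf
    (nat_lit 1248379734035922946))) (.node (.leaf (nat_lit 726127086958512381515530245)) (.leaf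
    (nat_lit 55503417375615808110594)))) (.node (.node (.leaf (nat_lit 0)) (.leaf (nat_lit
    50406299059681126187195))) (.node (.leaf (nat_lit 0)) (.leaf (nat_lit
    69066716857515922096225))))) (.node (.node (.node (.leaf (nat_lit 0)) (.leaf (nat_lit
    22238022619970312274172))) (.node (.leaf (nat_lit 0)) (.leaf (nat_lit
    57744892429156623777823)))) (.node (.node (.leaf (nat_lit 10496729522541873528906)) (.leaf
    (nat_lit 1514104490146529282))) (.node (.leaf (nat_lit 36281240137432421302296)) (.leaf
    (nat_lit 29830226926968202526753))))))) (.node (.node (.node (.node (.node (.node (.leaf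
    (nat_lit 0)) (.leaf (nat_lit 2069587632344953038890598605))) (.leaf (nat_lit
    38559521401725889216671))) (.node (.leaf (nat_lit 504428550338914701963165856)) (.leaf (nat_lit
    1207297950942887938)))) (.node (.node (.leaf (nat_lit 377346518687557465778946226)) (.leaf
    (nat_lit 0))) (.node (.leaf (nat_lit 17095737960267610521637)) (.leaf (nat_lit
    68199693838934643769439))))) (.node (.node (.node (.leaf (nat_lit 0)) (.leaf (nat_lit
    44586238568208621830189))) (.node (.leaf (nat_lit 11875307412693513863221)) (.leaf (nat_lit
    62489889216492690669570)))) (.node (.node (.leaf (nat_lit 6516808311596927614978)) (.leaf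
    (nat_lit 1749064284199542753302151170))) (.node (.leaf (nat_lit 0)) (.leaf (nat_lit
    26611489916946005295274)))))) (.node (.node (.node (.node (.node (.leaf (nat_lit
    3154477120292036739081)) (.leaf (nat_lit 78755075995643098103998))) (.leaf (nat_lit
    1376375498330363820157173854))) (.node (.leaf (nat_lit 710183077300797442)) (.leaf (nat_lit
    1208428970450747394)))) (.node (.node (.leaf (nat_lit 0)) (.leaf (nat_lit
    1351831623452196866))) (.node (.leaf (nat_lit 0)) (.leaf (nat_lit 45176718065161707126940)))))
    (.node (.node (.node (.leaf (nat_lit 278668769633632267)) (.leaf (nat_lit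
    1432469883542700043))) (.node (.leaf (nat_lit 918944312995074836762198097)) (.leaf (nat_lit
    1789427171347505472105349262)))) (.node (.node (.leaf (nat_lit
    19970576107967208472956281094263)) (.leaf (nat_lit 1719300456838201346))) (.node (.leaf
    (nat_lit 37152764775751340982296)) (.leaf (nat_lit
    2818515903101183165978326560514790618200277110)))))))))) (.node (.node (.node (.node (.node
    (.node (.node (.node (.node (.leaf (nat_lit 110681449746409914381)) (.leaf (nat_lit
    75729356786069064056872))) (.leaf (nat_lit 37950706623896518590548))) (.node (.leaf (nat_lit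
    518341758347189247864471768)) (.leaf (nat_lit 1103995303050215426)))) (.node (.node (.leaf
    (nat_lit 289992741237278036902281294)) (.leaf (nat_lit 47076766600910568882327))) (.node (.leaf
    (nat_lit 28496428714922420142236)) (.leaf (nat_lit 57758778274156504088578))))) (.node (.node
    (.node (.node (.leaf (nat_lit 4869972950358912336021)) (.leaf (nat_lit
    2635988669653818220879282230))) (.leaf (nat_lit 22007400176303380561960))) (.node (.leaf
    (nat_lit 19839623581035562991654)) (.leaf (nat_lit 59686310051662463696898)))) (.node (.node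
    (.leaf (nat_lit 14301273235318221504536)) (.leaf (nat_lit 1547316304015392770))) (.node (.leaf
    (nat_lit 9574111562354699468833)) (.leaf (nat_lit 1371114787519377506065186994)))))) (.node
    (.node (.node (.node (.node (.leaf (nat_lit 78431465296574832257007685)) (.leaf (nat_lit 0)))
    (.leaf (nat_lit 0))) (.node (.leaf (nat_lit 21394197065864669495317)) (.leaf (nat_lit
    893876019642105858)))) (.node (.node (.leaf (nat_lit 8304161937953291402481225760887)) (.leaf
    (nat_lit 29566398860490325557257))) (.node (.leaf (nat_lit 0)) (.leaf (nat_lit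
    67388013465796358635626))))) (.node (.node (.node (.leaf (nat_lit
    2753197386149820896846293565565)) (.leaf (nat_lit 16086023900543183945940))) (.node (.leaf
    (nat_lit 24783956588409728991388)) (.leaf (nat_lit 2090575064904271174952026114)))) (.node
    (.node (.leaf (nat_lit 6871921363072726532098)) (.leaf (nat_lit 517963267667263490))) (.node
    (.leaf (nat_lit 0)) (.leaf (nat_lit 72529990463419551252503))))))) (.node (.node (.node (.node
    (.node (.node (.leaf (nat_lit 44277881234469490463604805)) (.leaf (nat_lit
    2508143602292422937325862927))) (.leaf (nat_lit 0))) (.node (.leaf (nat_lit 0)) (.leaf (nat_lit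
    34427957383215251128322)))) (.node (.node (.leaf (nat_lit 10796118117544116814000)) (.leaf
    (nat_lit 1510011753620714148320501764987420774))) (.node (.leaf (nat_lit 0)) (.leaf (nat_lit
    20434602853987311120005797706234677624931))))) (.node (.node (.node (.node (.leaf (nat_lit
    3694072251956794163224)) (.leaf (nat_lit 87603064199322337546891147149569))) (.leaf (nat_lit
    43710006683528998354980))) (.node (.leaf (nat_lit 26804580135278571912330112991293)) (.leaf
    (nat_lit 1435157777155751938)))) (.node (.node (.leaf (nat_lit 506705708753412025120719062))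
    (.leaf (nat_lit 9593907695237671878658))) (.node (.leaf (nat_lit 34408838331641362579505))
    (.leaf (nat_lit 1918785274487165758818175163625539857279352950)))))) (.node (.node (.node
    (.node (.node (.leaf (nat_lit 96412553649738253410238474)) (.leaf (nat_lit
    79161565408551728513214))) (.leaf (nat_lit 1265550137112002562))) (.node (.leaf (nat_lit
    739280741118103905024344115)) (.leaf (nat_lit 59529303320708505600002)))) (.node (.node (.leaf
    (nat_lit 430842399353817402022559969)) (.leaf (nat_lit 1431109602994318157537345617))) (.node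
    (.leaf (nat_lit 22473436174276693786817)) (.leaf (nat_lit 38219579953840501823407151972606)))))
    (.node (.node (.node (.leaf (nat_lit 8218070936047078015155)) (.leaf (nat_lit
    28233221199720494596114))) (.node (.leaf (nat_lit 14088095241443010189224759853287)) (.leaf
    (nat_lit 1799530140984803330)))) (.node (.node (.leaf (nat_lit 5414226503505390272552)) (.leaf
    (nat_lit 1768998398553053751616471042))) (.node (.leaf (nat_lit 24862124873358751498368))
    (.leaf (nat_lit 2246107427440353248245186792)))))))) (.node (.node (.node (.node (.node (.node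
    (.node (.leaf (nat_lit 0)) (.leaf (nat_lit 43369835909067686991148995641601))) (.leaf (nat_lit
    38484855800045708181548))) (.node (.leaf (nat_lit 0)) (.leaf (nat_lit 993798390833872898))))
    (.node (.node (.leaf (nat_lit 8180543527317697155981105234140)) (.leaf (nat_lit 0))) (.node
    (.leaf (nat_lit 0)) (.leaf (nat_lit 1974837453333272683694260518))))) (.node (.node (.node
    (.node (.leaf (nat_lit 4976175428937118318680)) (.leaf (nat_lit 80674682701934019936415)))
    (.leaf (nat_lit 0))) (.node (.leaf (nat_lit 0)) (.leaf (nat_lit 33468883199827411927042))))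
    (.node (.node (.leaf (nat_lit 14545351447181445497030)) (.leaf (nat_lit
    22400553151605386706946))) (.node (.leaf (nat_lit 33818492693756443295910)) (.leaf (nat_lit
    53520201577580858638359)))))) (.node (.node (.node (.node (.node (.leaf (nat_lit 0)) (.leaf
    (nat_lit 2375001976170951339036377349))) (.leaf (nat_lit
    1438448821495410963037779079668826212))) (.node (.leaf (nat_lit
    23600808678713317857157309595675)) (.leaf (nat_lit 824493880991940610)))) (.node (.node (.leaf
    (nat_lit 0)) (.leaf (nat_lit 54059623994560193605978737148184))) (.node (.leaf (nat_lit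
    7867770282421562572921)) (.leaf (nat_lit 73505447447152739769667589308682))))) (.node (.node
    (.node (.leaf (nat_lit 7803210174610555469951)) (.leaf (nat_lit 0))) (.node (.leaf (nat_lit
    28685905041087879343476031422491)) (.leaf (nat_lit 64510232440339557449935)))) (.node (.node
    (.leaf (nat_lit 494849093709987842)) (.leaf (nat_lit 35613062465174311731202))) (.node (.leaf
    (nat_lit 36147497161390605664383)) (.leaf (nat_lit 42345754357378110914591))))))) (.node (.node
    (.node (.node (.node (.node (.leaf (nat_lit 1734048128626946408537)) (.leaf (nat_lit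
    77451017485126010601630))) (.leaf (nat_lit 38360716329225155706889))) (.node (.leaf (nat_lit
    7503342649862424559713)) (.leaf (nat_lit 1072189867632492546)))) (.node (.node (.leaf (nat_lit
    12196269287988218406446825799797)) (.leaf (nat_lit 1598822115079774228539768914))) (.node
    (.leaf (nat_lit 32489374435616929462617825935619)) (.leaf (nat_lit
    1191311546134123803530494223))))) (.node (.node (.node (.node (.leaf (nat_lit
    1485003155061516468415)) (.leaf (nat_lit 69568745927056130506807))) (.leaf (nat_lit
    16095239109255958298803))) (.node (.leaf (nat_lit 11875307271809996619872)) (.leaf (nat_lit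
    1336782582033022978)))) (.node (.node (.leaf (nat_lit 0)) (.leaf (nat_lit
    1241494497733509122))) (.node (.leaf (nat_lit 0)) (.leaf (nat_lit
    2384824733650738109250535716)))))) (.node (.node (.node (.node (.node (.leaf (nat_lit
    4270449263805378789528)) (.leaf (nat_lit 72896420716279566656943025356817))) (.leaf (nat_lit
    45092105301753119601723298873578))) (.node (.leaf (nat_lit 707788242191253612)) (.leaf (nat_lit
    26625085710164297973768)))) (.node (.node (.leaf (nat_lit 88101110210694649674465404)) (.leaf
    (nat_lit 1303136306452365314))) (.node (.leaf (nat_lit 9380422578583982243996)) (.leaf (nat_lit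
    0))))) (.node (.node (.node (.leaf (nat_lit 295439815884039006084923534)) (.leaf (nat_lit
    1533720235714109579758665968))) (.node (.leaf (nat_lit 909442132601709480500265043)) (.leaf
    (nat_lit 1811935842805095349340078147)))) (.node (.node (.leaf (nat_lit
    12650188172840403140694)) (.leaf (nat_lit 28617154321465804521474))) (.node (.leaf (nat_lit 0))
    (.leaf (nat_lit 74618940819924381270213))))))))) (.node (.node (.node (.node (.node (.node
    (.node (.node (.leaf (nat_lit 451947904243364724767)) (.leaf (nat_lit
    70689333973103323316280))) (.leaf (nat_lit 914110412732472454870728899))) (.node (.leaf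
    (nat_lit 4067626009456594321441)) (.leaf (nat_lit 900207746329214978)))) (.node (.node (.leaf
    (nat_lit 9712506453500998385716)) (.leaf (nat_lit 16095274718864169173015))) (.node (.leaf
    (nat_lit 0)) (.leaf (nat_lit 1857374442699751426))))) (.node (.node (.node (.node (.leaf
    (nat_lit 154253101895909378)) (.leaf (nat_lit 2645957976491920811341643883))) (.leaf (nat_lit
    1407987840724463416445763635))) (.node (.leaf (nat_lit
    905625093587400575660993023060032206364213485)) (.leaf (nat_lit 53253010026087821017090))))
    (.node (.node (.leaf (nat_lit 0)) (.leaf (nat_lit 17834978229649305436162))) (.node (.leaf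
    (nat_lit 0)) (.leaf (nat_lit 2335865340957645864222064752)))))) (.node (.node (.node (.node
    (.node (.leaf (nat_lit 3015642185340408575044970938487)) (.leaf (nat_lit 0))) (.leaf (nat_lit
    733698023504867487058755855))) (.node (.leaf (nat_lit 21458837796568374116354)) (.leaf (nat_lit
    1018007300415291394)))) (.node (.node (.leaf (nat_lit 11709146106746546356265)) (.leaf (nat_lit
    50052155402055114227942))) (.node (.leaf (nat_lit 22247004332133204557920)) (.leaf (nat_lit
    45683985511269791891469))))) (.node (.node (.node (.leaf (nat_lit 103067152088133908180500593))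
    (.leaf (nat_lit 1485059555563848872331837680))) (.node (.leaf (nat_lit
    866372434066860370445992161)) (.leaf (nat_lit 19583173710563336454146)))) (.node (.node (.leaf
    (nat_lit 502870821308596226)) (.leaf (nat_lit 1156348635106115586))) (.node (.leaf (nat_lit 0))
    (.leaf (nat_lit 31969932145507292086451))))))) (.node (.node (.node (.node (.node (.node (.leaf
    (nat_lit 451958601400581292104)) (.leaf (nat_lit 0))) (.leaf (nat_lit 0))) (.node (.leaf
    (nat_lit 626019473693999115)) (.leaf (nat_lit 1777285040774971394)))) (.node (.node (.leaf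
    (nat_lit 10224413735745111654506)) (.leaf (nat_lit 0))) (.node (.leaf (nat_lit 0)) (.leaf
    (nat_lit 69371328565030815783856080486535))))) (.node (.node (.node (.node (.leaf (nat_lit
    50625349934765075509495644140470375)) (.leaf (nat_lit
    3094843071346595879335743263278426850750627872))) (.leaf (nat_lit 44130164929375835979825)))
    (.node (.leaf (nat_lit 6816250695360836731062)) (.leaf (nat_lit 1852444636287729666)))) (.node
    (.node (.leaf (nat_lit 0)) (.leaf (nat_lit 1556605596722135042))) (.node (.leaf (nat_lit
    9131409268462351220744)) (.leaf (nat_lit 42935562088787170492453)))))) (.node (.node (.node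
    (.node (.node (.leaf (nat_lit 0)) (.leaf (nat_lit 2505420959418551612259696694))) (.leaf
    (nat_lit 0))) (.node (.leaf (nat_lit 0)) (.leaf (nat_lit 21109024672677856739462)))) (.node
    (.node (.leaf (nat_lit 0)) (.leaf (nat_lit 51204981063590577635464))) (.node (.leaf (nat_lit
    1059806901808021779171770394)) (.leaf (nat_lit 69191235758391786930335))))) (.node (.node
    (.node (.leaf (nat_lit 0)) (.leaf (nat_lit 1524040841493373338039615688))) (.node (.leaf
    (nat_lit 27619915777869393100813)) (.leaf (nat_lit 1173107846603210754)))) (.node (.node (.leaf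
    (nat_lit 383385844746158091)) (.leaf (nat_lit 232970592482099202))) (.node (.leaf (nat_lit
    29949202846689410613340)) (.leaf (nat_lit 2365494576994209209124085436103655529)))))))) (.node
    (.node (.node (.node (.node (.node (.node (.leaf (nat_lit 1051476657346479063092)) (.leaf
    (nat_lit 75262857726387531220991793758256))) (.leaf (nat_lit 38836188643988737294475))) (.node
    (.leaf (nat_lit 19936924128912236281911)) (.leaf (nat_lit 1489757480186675202)))) (.node (.node
    (.leaf (nat_lit 5709554312581961608004293165083)) (.leaf (nat_lit 20614838481537772748863)))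
    (.node (.leaf (nat_lit 6954632664221852303372)) (.leaf (nat_lit 56679351877905921802414)))))
    (.node (.node (.node (.node (.leaf (nat_lit 106825135255846923)) (.leaf (nat_lit
    78211863350249124987014))) (.leaf (nat_lit 1427006290839703759104507920))) (.node (.leaf
    (nat_lit 751561161597648907)) (.leaf (nat_lit 1465697648920100866)))) (.node (.node (.leaf
    (nat_lit 0)) (.leaf (nat_lit 29124393487756865765378))) (.node (.leaf (nat_lit
    34095234527974746423461)) (.leaf (nat_lit 77164683069011174655134508843242)))))) (.node (.node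
    (.node (.node (.node (.leaf (nat_lit 3246727165238571106389)) (.leaf (nat_lit
    2587329843780637874152800376))) (.leaf (nat_lit 464090751009749974613491985))) (.node (.leaf
    (nat_lit 6797768341962384146473)) (.leaf (nat_lit 1116806451759808514)))) (.node (.node (.leaf
    (nat_lit 0)) (.leaf (nat_lit 0))) (.node (.leaf (nat_lit 26351411503736698372308)) (.leaf
    (nat_lit 69495544545126622888174))))) (.node (.node (.node (.leaf (nat_lit 0)) (.leaf (nat_lit
    0))) (.node (.leaf (nat_lit 9309524290761591382827552014437)) (.leaf (nat_lit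
    1442430753338644722943787203)))) (.node (.node (.leaf (nat_lit 7992588368679157301377)) (.leaf
    (nat_lit 1089144286275726269877583874))) (.node (.leaf (nat_lit 36437790040890089341081))
    (.leaf (nat_lit 1998569092641889255319404657))))))) (.node (.node (.node (.node (.node (.node
    (.leaf (nat_lit 78698091468599435398372683709546596)) (.leaf (nat_lit
    77077214634933385101345))) (.leaf (nat_lit 38499069443301875843262))) (.node (.leaf (nat_lit
    362834142122814973008937037)) (.leaf (nat_lit 896268325015912450)))) (.node (.node (.leaf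
    (nat_lit 126186751550549798510919840)) (.leaf (nat_lit 0))) (.node (.leaf (nat_lit
    21947495253106351079595)) (.leaf (nat_lit 2390963825825859171512548456038531317))))) (.node
    (.node (.node (.leaf (nat_lit 211957138568904715)) (.leaf (nat_lit
    1352349015438330856319746102))) (.node (.leaf (nat_lit 742739837306000178021662814)) (.leaf
    (nat_lit 1360848976009625602)))) (.node (.node (.leaf (nat_lit 284586418523734018)) (.leaf
    (nat_lit 1182382289183220235948523522))) (.node (.leaf (nat_lit 0)) (.leaf (nat_lit
    45863670594873855552751885680871)))))) (.node (.node (.node (.node (.node (.leaf (nat_lit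
    123464768368587199769477282)) (.leaf (nat_lit 69687635398657734968685439025369))) (.leaf
    (nat_lit 42373423881161145516259))) (.node (.leaf (nat_lit
    26915030164682544376177185208318890016868)) (.leaf (nat_lit 31605750510120610234370)))) (.node
    (.node (.leaf (nat_lit 491490589098750431049915525998444649)) (.leaf (nat_lit
    15907285156209912643586))) (.node (.leaf (nat_lit 32817021057631776866369)) (.leaf (nat_lit
    70707012567017787162730))))) (.node (.node (.node (.leaf (nat_lit 1669478901784326111271))
    (.leaf (nat_lit 1473997983113774318670315580))) (.node (.leaf (nat_lit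
    28187046057448489287856)) (.leaf (nat_lit 65962958971224524521544)))) (.node (.node (.leaf
    (nat_lit 12502615346442691346644)) (.leaf (nat_lit 1479201300976631810))) (.node (.leaf
    (nat_lit 0)) (.leaf (nat_lit 49931612363825474633918))))))))))) (.node (.node (.node (.node
    (.node (.node (.node (.node (.node (.node (.leaf (nat_lit 64566559809663598599)) (.leaf
    (nat_lit 77928227471566900003998676615387))) (.leaf (nat_lit 27979606186235483324462))) (.node
    (.leaf (nat_lit 17856805332006824247309)) (.leaf (nat_lit 1347752598521905154)))) (.node (.node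
    (.leaf (nat_lit 0)) (.leaf (nat_lit 47321235055048495661185))) (.node (.leaf (nat_lit 0))
    (.leaf (nat_lit 2169029892884290758296993817))))) (.node (.node (.node (.node (.leaf (nat_lit
    4750179874205826482200)) (.leaf (nat_lit 79134166213145630277640))) (.leaf (nat_lit
    853546637240177405730698788824549541049532448))) (.node (.leaf (nat_lit
    696211388740784539274838097)) (.leaf (nat_lit 1813178060992806914)))) (.node (.node (.leaf
    (nat_lit 465903853805325061986713606)) (.leaf (nat_lit 4433412749288014020610))) (.node (.leaf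
    (nat_lit 281536744731231104314638434)) (.leaf (nat_lit 70900721957320588984359)))))) (.node
    (.node (.node (.node (.node (.leaf (nat_lit 79942142911555386120339470)) (.leaf (nat_lit 0)))
    (.leaf (nat_lit 1317919104523353780356644915))) (.node (.leaf (nat_lit
    14637623735608987025411)) (.leaf (nat_lit 1346065483828428802)))) (.node (.node (.leaf (nat_lit
    390040221347471613558521882)) (.leaf (nat_lit 1624512047008320969456746721))) (.node (.leaf
    (nat_lit 450434505676341303723224144359587939)) (.leaf (nat_lit 20531817033859535667379)))))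
    (.node (.node (.node (.leaf (nat_lit 0)) (.leaf (nat_lit 704365513999015652536614932))) (.node
    (.leaf (nat_lit 794628130114502658)) (.leaf (nat_lit 26722054664347854241794)))) (.node (.node
    (.leaf (nat_lit 6659377645916801663007)) (.leaf (nat_lit 965789929844113410))) (.node (.leaf
    (nat_lit 0)) (.leaf (nat_lit 78699309814707940295641930203163))))))) (.node (.node (.node
    (.node (.node (.node (.leaf (nat_lit 1235970134699308941375)) (.leaf (nat_lit
    74674698762600086438085))) (.leaf (nat_lit 41937735221359883277820278145281))) (.node (.leaf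
    (nat_lit 10796078725787705081978)) (.leaf (nat_lit 1107939466007412738)))) (.node (.node (.leaf
    (nat_lit 10344070718291691372578)) (.leaf (nat_lit 1589319944097353864799584416))) (.node
    (.leaf (nat_lit 0)) (.leaf (nat_lit 2032874966852173826))))) (.node (.node (.node (.node (.leaf
    (nat_lit 1494223570992640491702)) (.leaf (nat_lit
    3079997975268801702010108598007426974870929687))) (.leaf (nat_lit 15348136684986604650529)))
    (.node (.leaf (nat_lit 0)) (.leaf (nat_lit 59677102444397558169602)))) (.node (.node (.leaf
    (nat_lit 0)) (.leaf (nat_lit 35788283865440891109378))) (.node (.leaf (nat_lit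
    34311989688605687873607)) (.leaf (nat_lit 71045192367933745201197)))))) (.node (.node (.node
    (.node (.node (.leaf (nat_lit 118928870720214608675864717)) (.leaf (nat_lit
    79198565716070557220905))) (.leaf (nat_lit 41409238372660237500538))) (.node (.leaf (nat_lit
    0)) (.leaf (nat_lit 1057275138430599170)))) (.node (.node (.leaf (nat_lit
    12022888812610452652128)) (.leaf (nat_lit 25540096211429982666943))) (.node (.leaf (nat_lit
    973370246473842699)) (.leaf (nat_lit 63707775574834539593752))))) (.node (.node (.node (.leaf
    (nat_lit 0)) (.leaf (nat_lit 46140781516795211350050))) (.node (.leaf (nat_lit 0)) (.leaf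
    (nat_lit 24405787956556888998095)))) (.node (.node (.leaf (nat_lit 0)) (.leaf (nat_lit
    32587801775777538834434))) (.node (.leaf (nat_lit 1176773698602461066038607953)) (.leaf
    (nat_lit 1418566658040483016354300120)))))))) (.node (.node (.node (.node (.node (.node (.node
    (.leaf (nat_lit 682537834879016697902)) (.leaf (nat_lit 0))) (.leaf (nat_lit 0))) (.node (.leaf
    (nat_lit 19406566584904528887816)) (.leaf (nat_lit 1189282659080208386)))) (.node (.node (.leaf
    (nat_lit 10113736648096336773124)) (.leaf (nat_lit 51395043740272280078789617451025))) (.node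
    (.leaf (nat_lit 29003721213183900450840)) (.leaf (nat_lit 1512286524979412994))))) (.node
    (.node (.node (.node (.leaf (nat_lit 5354327489062373621933)) (.leaf (nat_lit
    78493215744315365720210))) (.leaf (nat_lit 927260234287411110688849989))) (.node (.leaf
    (nat_lit 594075568530653186)) (.leaf (nat_lit 47354668965954022735874)))) (.node (.node (.leaf
    (nat_lit 0)) (.leaf (nat_lit 1431911812672126978))) (.node (.leaf (nat_lit 893292264867102921))
    (.leaf (nat_lit 70836156946237477814314)))))) (.node (.node (.node (.node (.node (.leaf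
    (nat_lit 0)) (.leaf (nat_lit 69246855503176119025755))) (.leaf (nat_lit 0))) (.node (.leaf
    (nat_lit 15753654004400804528287)) (.leaf (nat_lit 258025473181876226)))) (.node (.node (.leaf
    (nat_lit 12295136188085792080044)) (.leaf (nat_lit 47981443926516971012142))) (.node (.leaf
    (nat_lit 0)) (.leaf (nat_lit 808172551130022635811110937))))) (.node (.node (.node (.leaf
    (nat_lit 1494231735416232542334)) (.leaf (nat_lit 0))) (.node (.leaf (nat_lit 0)) (.leaf
    (nat_lit 38217992572649160200803443867763)))) (.node (.node (.leaf (nat_lit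
    319771555116744706)) (.leaf (nat_lit 35548498006814836850690))) (.node (.leaf (nat_lit
    9472692049538747400318)) (.leaf (nat_lit 73876852167341951352882))))))) (.node (.node (.node
    (.node (.node (.node (.leaf (nat_lit 1844688905054537842731)) (.leaf (nat_lit
    68001382914064971399198))) (.leaf (nat_lit 0))) (.node (.leaf (nat_lit
    20715823796249843400722)) (.leaf (nat_lit 290956052592197634)))) (.node (.node (.leaf (nat_lit
    367524678922868565796454629)) (.leaf (nat_lit 45781701360553885368358))) (.node (.leaf (nat_lit
    0)) (.leaf (nat_lit 1646604897031506905312526390))))) (.node (.node (.node (.node (.leaf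
    (nat_lit 48279096014274562)) (.leaf (nat_lit 47972217628662494855205))) (.leaf (nat_lit 0)))
    (.node (.leaf (nat_lit 0)) (.leaf (nat_lit 1369152195764813826)))) (.node (.node (.leaf
    (nat_lit 161776059422189154489077383844724925)) (.leaf (nat_lit 935459069988228499845152770)))
    (.node (.leaf (nat_lit 34916079178621846225053)) (.leaf (nat_lit 72677778449339282292809))))))
    (.node (.node (.node (.node (.node (.leaf (nat_lit 0)) (.leaf (nat_lit
    2613625497211120685857112360))) (.leaf (nat_lit 14508806872496297148508))) (.node (.leaf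
    (nat_lit 668404554567658540313608354)) (.leaf (nat_lit 1995509750739133374319034583)))) (.node
    (.node (.leaf (nat_lit 13456980034848288866375)) (.leaf (nat_lit 1426985279025184770))) (.node
    (.leaf (nat_lit 31811945691582078058588)) (.leaf (nat_lit 63314469886747643936810))))) (.node
    (.node (.node (.leaf (nat_lit 278967731269903816216281148)) (.leaf (nat_lit
    46713148781037772538022))) (.node (.leaf (nat_lit 27841242496458926784586)) (.leaf (nat_lit
    59013136601474327052441)))) (.node (.node (.leaf (nat_lit 355123965712185278482088135)) (.leaf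
    (nat_lit 879659403014438914))) (.node (.leaf (nat_lit 37208218160706948890721)) (.leaf (nat_lit
    35511759926277997527146))))))))) (.node (.node (.node (.node (.node (.node (.node (.node (.leaf
    (nat_lit 355107423569697767452)) (.leaf (nat_lit 75841493316588705874112))) (.leaf (nat_lit
    12751671742258896633931))) (.node (.leaf (nat_lit 5764812314037050343568)) (.leaf (nat_lit
    1518748887391797250)))) (.node (.node (.leaf (nat_lit 9818578468809751068757)) (.leaf (nat_lit
    0))) (.node (.leaf (nat_lit 514403364407520001595277419)) (.leaf (nat_lit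
    1835560123414740994))))) (.node (.node (.node (.node (.leaf (nat_lit 5114515595577226625181))
    (.leaf (nat_lit 0))) (.leaf (nat_lit 42879892784753166975019))) (.node (.leaf (nat_lit
    25739413262367260022643626410100)) (.leaf (nat_lit 57504983974584640536578)))) (.node (.node
    (.leaf (nat_lit 15632808066317580028283873198261)) (.leaf (nat_lit 7523247447724383207426)))
    (.node (.leaf (nat_lit 0)) (.leaf (nat_lit 2143357545933307963)))))) (.node (.node (.node
    (.node (.node (.leaf (nat_lit 82896918967091202)) (.leaf (nat_lit 2383180823160553580))) (.leaf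
    (nat_lit 24006643726420413500150534963420))) (.node (.leaf (nat_lit 639109090903195650)) (.leaf
    (nat_lit 34289621575550336434178)))) (.node (.node (.leaf (nat_lit
    361783189846866260255834272)) (.leaf (nat_lit 1492736536298698122633412721))) (.node (.leaf
    (nat_lit 0)) (.leaf (nat_lit 2307118219568891300766324740392670739447677150))))) (.node (.node
    (.node (.leaf (nat_lit 0)) (.leaf (nat_lit 0))) (.node (.leaf (nat_lit 804198562790506507))
    (.leaf (nat_lit 1953777427494862850)))) (.node (.node (.leaf (nat_lit 480212059913584642))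
    (.leaf (nat_lit 1479763340396986370))) (.node (.leaf (nat_lit 0)) (.leaf (nat_lit
    77239911149556452402868640874705))))))) (.node (.node (.node (.node (.node (.node (.leaf
    (nat_lit 0)) (.leaf (nat_lit 48765239453154329952289))) (.leaf (nat_lit
    1288904728065271385968345165))) (.node (.leaf (nat_lit 198447487900638438393688671018942653))
    (.leaf (nat_lit 1084152296444657666)))) (.node (.node (.leaf (nat_lit 11003815272175919890485))
    (.leaf (nat_lit 0))) (.node (.leaf (nat_lit 0)) (.leaf (nat_lit 44066725415928635523074)))))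
    (.node (.node (.node (.node (.leaf (nat_lit 0)) (.leaf (nat_lit 78990931480179904807070)))
    (.leaf (nat_lit 38153130508263153139750))) (.node (.leaf (nat_lit 462288024822365429629714592))
    (.leaf (nat_lit 953976502037381122)))) (.node (.node (.leaf (nat_lit 15740112933043002605599))
    (.leaf (nat_lit 1571383015819575298))) (.node (.leaf (nat_lit 0)) (.leaf (nat_lit
    77739897672980774440760416469107)))))) (.node (.node (.node (.node (.node (.leaf (nat_lit
    3929180275999273844864)) (.leaf (nat_lit 0))) (.leaf (nat_lit 41694678755000113627140))) (.node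
    (.leaf (nat_lit 586346943675150888660631629)) (.leaf (nat_lit 1832599241680355330)))) (.node
    (.node (.leaf (nat_lit 438390317952349311187812366)) (.leaf (nat_lit 51130960604601421856860)))
    (.node (.leaf (nat_lit 11474202480772118675460)) (.leaf (nat_lit 70048362929945191841847)))))
    (.node (.node (.node (.leaf (nat_lit 275643374325386835440959601)) (.leaf (nat_lit
    48706998993535552851034371326161))) (.node (.leaf (nat_lit 6871610492223150555291)) (.leaf
    (nat_lit 1171137461636694018)))) (.node (.node (.leaf (nat_lit 0)) (.leaf (nat_lit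
    986760519983693826))) (.node (.leaf (nat_lit 897946914352441947836383438)) (.leaf (nat_lit
    73503296312768534347799)))))))) (.node (.node (.node (.node (.node (.node (.node (.leaf
    (nat_lit 0)) (.leaf (nat_lit 76542468331624221311026))) (.leaf (nat_lit
    38734732536801587822641))) (.node (.leaf (nat_lit 19470906979763678806086)) (.leaf (nat_lit
    270249790924426027961942018)))) (.node (.node (.leaf (nat_lit
    202106649892695487976807498795448712290631902)) (.leaf (nat_lit 47308118484866522349678)))
    (.node (.leaf (nat_lit 27569499951937775403198)) (.leaf (nat_lit 1509753525066924034)))))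
    (.node (.node (.node (.node (.leaf (nat_lit 158676379279134859257446577)) (.leaf (nat_lit 0)))
    (.leaf (nat_lit 43466394171190108422334))) (.node (.leaf (nat_lit 20494504670007142842477))
    (.leaf (nat_lit 1802060211729596418)))) (.node (.node (.leaf (nat_lit 0)) (.leaf (nat_lit
    29829980315409264607234))) (.node (.leaf (nat_lit 32060946479382960209963)) (.leaf (nat_lit
    1331443525367234668)))))) (.node (.node (.node (.node (.node (.leaf (nat_lit
    1342030048602697695329)) (.leaf (nat_lit 2344786025135532365815480418))) (.leaf (nat_lit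
    40985308358710978084871))) (.node (.leaf (nat_lit 0)) (.leaf (nat_lit 1056148439659839490))))
    (.node (.node (.leaf (nat_lit 13731648762633742686321180475626)) (.leaf (nat_lit
    43507219309465853689893))) (.node (.leaf (nat_lit 0)) (.leaf (nat_lit
    2442886527530725012495094023920681205))))) (.node (.node (.node (.leaf (nat_lit
    7323580473693633183796)) (.leaf (nat_lit 0))) (.node (.leaf (nat_lit 0)) (.leaf (nat_lit
    2015000903503207694103478341)))) (.node (.node (.leaf (nat_lit 10150855034797392330754)) (.leaf
    (nat_lit 1412915112192376834))) (.node (.leaf (nat_lit 36391338788008281440299)) (.leaf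
    (nat_lit 79651311704904169790448345612336))))))) (.node (.node (.node (.node (.node (.node
    (.leaf (nat_lit 0)) (.leaf (nat_lit 75186611814789164498987))) (.leaf (nat_lit
    13211704907197860056627740475517))) (.node (.leaf (nat_lit 15347820848888546525226)) (.leaf
    (nat_lit 1017724700157149186)))) (.node (.node (.leaf (nat_lit 11192806438550976528436)) (.leaf
    (nat_lit 48792186293473712996388))) (.node (.leaf (nat_lit 648450015211587772789030927)) (.leaf
    (nat_lit 73282712197118266884835078635637))))) (.node (.node (.node (.leaf (nat_lit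
    209705270035742779)) (.leaf (nat_lit 527409062615700137656451086))) (.node (.leaf (nat_lit
    29717126993822026961141372981056914260240)) (.leaf (nat_lit 1470764808386248706)))) (.node
    (.node (.leaf (nat_lit 1669926587734784409602)) (.leaf (nat_lit 1650337558535733250))) (.node
    (.leaf (nat_lit 17354053743302643220517)) (.leaf (nat_lit 72842821330005481685098)))))) (.node
    (.node (.node (.node (.node (.leaf (nat_lit 4519480309032385970334)) (.leaf (nat_lit
    80073993424972191826106))) (.leaf (nat_lit 45413965178288420406660952293572))) (.node (.leaf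
    (nat_lit 711168317028696066)) (.leaf (nat_lit 23793552975301959680002)))) (.node (.node (.leaf
    (nat_lit 13775525125546307682401)) (.leaf (nat_lit 51477206075596408553495))) (.node (.leaf
    (nat_lit 9389643276849076437068)) (.leaf (nat_lit 66196791522209250345172))))) (.node (.node
    (.node (.leaf (nat_lit 0)) (.leaf (nat_lit 47017468405748917796868))) (.node (.leaf (nat_lit
    989956079214369628103671483780694290)) (.leaf (nat_lit 65630913520931774333012)))) (.node
    (.node (.leaf (nat_lit 18456530413090150482012)) (.leaf (nat_lit 1151001452362203138))) (.node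
    (.leaf (nat_lit 37526433784936137949366)) (.leaf (nat_lit 72968322580070485131319))))))))))
    (.node (.node (.node (.node (.node (.node (.node (.node (.node (.leaf (nat_lit
    207976495608817993420393218065)) (.leaf (nat_lit 75795341556814444691496))) (.leaf (nat_lit
    11566430858476228116677))) (.node (.leaf (nat_lit 4339765727595224825947)) (.leaf (nat_lit
    1345360215838687234)))) (.node (.node (.leaf (nat_lit 55314881833337657976160416)) (.leaf
    (nat_lit 1445558950996082690))) (.node (.leaf (nat_lit 0)) (.leaf (nat_lit
    48964293474973290528770))))) (.node (.node (.node (.node (.leaf (nat_lit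
    3892334358084991516825)) (.leaf (nat_lit 2479128783084056163492561104))) (.leaf (nat_lit
    27841184256320140935198))) (.node (.leaf (nat_lit 0)) (.leaf (nat_lit
    44675272746449426907138)))) (.node (.node (.leaf (nat_lit 13664862675897696845946)) (.leaf
    (nat_lit 619715561215098882))) (.node (.leaf (nat_lit 33288164147838910136446)) (.leaf (nat_lit
    71081311773171923484798)))))) (.node (.node (.node (.node (.node (.leaf (nat_lit 0)) (.leaf
    (nat_lit 78128899158917349834908))) (.leaf (nat_lit 31074488015283864928362))) (.node (.leaf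
    (nat_lit 14882043094705897668798)) (.leaf (nat_lit 1046717172514160642)))) (.node (.node (.leaf
    (nat_lit 12041231832188876685542)) (.leaf (nat_lit 0))) (.node (.leaf (nat_lit
    15698408637639193460957)) (.leaf (nat_lit 0))))) (.node (.node (.node (.leaf (nat_lit
    2287761556826616797733086101700)) (.leaf (nat_lit 0))) (.node (.leaf (nat_lit
    7969176704469254209715)) (.leaf (nat_lit 39796187487303729610754)))) (.node (.node (.leaf
    (nat_lit 242224786716098562)) (.leaf (nat_lit 13001958864686097301506))) (.node (.leaf (nat_lit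
    9472689797318026920120)) (.leaf (nat_lit 40400609567677345890384))))))) (.node (.node (.node
    (.node (.node (.node (.leaf (nat_lit 0)) (.leaf (nat_lit 68042296568163533520929))) (.leaf
    (nat_lit 38282191565641287401734))) (.node (.leaf (nat_lit 15947697503817334718487)) (.leaf
    (nat_lit 1105262808028807170)))) (.node (.node (.leaf (nat_lit 0)) (.leaf (nat_lit
    48534866091159337500818))) (.node (.leaf (nat_lit 0)) (.leaf (nat_lit 1495820917446672386)))))
    (.node (.node (.node (.node (.leaf (nat_lit 0)) (.leaf (nat_lit 2654121541586173223474823429)))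
    (.leaf (nat_lit 0))) (.node (.leaf (nat_lit 15266384615699048745545830301815)) (.leaf (nat_lit
    1355078240770850818)))) (.node (.node (.leaf (nat_lit 490826945018771642542981334)) (.leaf
    (nat_lit 36696787429346597076994))) (.node (.leaf (nat_lit 1101214779106261678965391395))
    (.leaf (nat_lit 2367597097994859676329836570)))))) (.node (.node (.node (.node (.node (.leaf
    (nat_lit 3416735060853838928729526829201)) (.leaf (nat_lit 50038869111039234080824))) (.leaf
    (nat_lit 25244776034906228850879))) (.node (.leaf (nat_lit 0)) (.leaf (nat_lit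
    1659068956465561602)))) (.node (.node (.leaf (nat_lit 2665634047645622403079)) (.leaf (nat_lit
    19337380346361343574199))) (.node (.leaf (nat_lit 29248204893711035990113)) (.leaf (nat_lit
    69850728530491281178716))))) (.node (.node (.node (.leaf (nat_lit 0)) (.leaf (nat_lit
    39158495795274030710935))) (.node (.leaf (nat_lit 0)) (.leaf (nat_lit
    1007376677893123578813735264906984934988151142707521413224071433)))) (.node (.node (.leaf
    (nat_lit 19277782881918695375864095637713)) (.leaf (nat_lit 40363127618733487620098))) (.node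
    (.leaf (nat_lit 1156675182910898873328467983)) (.leaf (nat_lit 74614451135144941256795))))))))
    (.node (.node (.node (.node (.node (.node (.node (.leaf (nat_lit
    896290046986595773123855188016)) (.leaf (nat_lit 2329417315902423148))) (.leaf (nat_lit 0)))
    (.node (.leaf (nat_lit 504892993276391427777232977)) (.leaf (nat_lit 1120321410045181954))))
    (.node (.node (.leaf (nat_lit 0)) (.leaf (nat_lit 47713959239249668800515))) (.node (.leaf
    (nat_lit 0)) (.leaf (nat_lit 2040192964059332610))))) (.node (.node (.node (.node (.leaf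
    (nat_lit 5552502481721820905630)) (.leaf (nat_lit 80720651647103931711500))) (.leaf (nat_lit
    0))) (.node (.leaf (nat_lit 15965827029440582058081)) (.leaf (nat_lit 994649180905537538))))
    (.node (.node (.leaf (nat_lit 14978850355186214568166)) (.leaf (nat_lit
    24863193765924156145666))) (.node (.leaf (nat_lit 0)) (.leaf (nat_lit
    63342173499634567282838)))))) (.node (.node (.node (.node (.node (.leaf (nat_lit
    654878698620416360520)) (.leaf (nat_lit 78022553411650467332136))) (.leaf (nat_lit
    1248098155979997186))) (.node (.leaf (nat_lit 16048807539234310389763)) (.leaf (nat_lit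
    997882793063219202)))) (.node (.node (.leaf (nat_lit 10892878104006601408550)) (.leaf (nat_lit
    1019143129997356846136164547))) (.node (.leaf (nat_lit 30917686178811369160796)) (.leaf
    (nat_lit 1316389486111849342013014051))))) (.node (.node (.node (.leaf (nat_lit
    259473511811051379182796806)) (.leaf (nat_lit 727063458749302582290939953))) (.node (.leaf
    (nat_lit 0)) (.leaf (nat_lit 64579376061494222586029)))) (.node (.node (.leaf (nat_lit
    384358328654335078230429938137939473987010810)) (.leaf (nat_lit 1519732958888591362))) (.node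
    (.leaf (nat_lit 36161146727513544917084)) (.leaf (nat_lit
    79462975715527165494796562530405))))))) (.node (.node (.node (.node (.node (.node (.leaf
    (nat_lit 1900072343839210405980)) (.leaf (nat_lit 0))) (.leaf (nat_lit
    38471399889960876310566))) (.node (.leaf (nat_lit 22397395565756483281881926009013)) (.leaf
    (nat_lit 31541111032722722324482)))) (.node (.node (.leaf (nat_lit 0)) (.leaf (nat_lit 0)))
    (.node (.leaf (nat_lit 242106142452776104211251277)) (.leaf (nat_lit
    41856913660656065118221))))) (.node (.node (.node (.node (.leaf (nat_lit 0)) (.leaf (nat_lit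
    78862239150915272769627))) (.leaf (nat_lit 0))) (.node (.leaf (nat_lit
    393984269433631495621443788)) (.leaf (nat_lit 1532126275999760386)))) (.node (.node (.leaf
    (nat_lit 493285523347363965294843371190616309)) (.leaf (nat_lit 1736963690515046652426059778)))
    (.node (.leaf (nat_lit 1069455415905040433489903631)) (.leaf (nat_lit
    67249533551408748625975)))))) (.node (.node (.node (.node (.node (.leaf (nat_lit
    3053019746334348083355)) (.leaf (nat_lit 2443159144647798209835696222))) (.leaf (nat_lit
    825587352719043373719355490))) (.node (.leaf (nat_lit 24952678206704534488344965742693)) (.leaf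
    (nat_lit 61037502375906899066903)))) (.node (.node (.leaf (nat_lit 3219038762943966806087))
    (.leaf (nat_lit 1368438509639172098))) (.node (.leaf (nat_lit 0)) (.leaf (nat_lit
    46847083463644924805302))))) (.node (.node (.node (.leaf (nat_lit 9080670987445690630310))
    (.leaf (nat_lit 45329630590855394033862))) (.node (.leaf (nat_lit 916835720628717597900406925))
    (.leaf (nat_lit 65031391664369316331613)))) (.node (.node (.leaf (nat_lit
    606143362629106704025124915)) (.leaf (nat_lit 977331280062578690))) (.node (.leaf (nat_lit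
    37433451613623739940985)) (.leaf (nat_lit 0))))))))) (.node (.node (.node (.node (.node (.node
    (.node (.node (.leaf (nat_lit 451947341362130780197)) (.leaf (nat_lit
    76099697349634168127671))) (.leaf (nat_lit 1164192643635443002846013647243678422795813143)))
    (.node (.leaf (nat_lit 636061947692758144815202417)) (.leaf (nat_lit 912029712530931714))))
    (.node (.node (.leaf (nat_lit 325359383323790261426061394)) (.leaf (nat_lit 0))) (.node (.leaf
    (nat_lit 28510295721250847391841)) (.leaf (nat_lit 1494412494591098882))))) (.node (.node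
    (.node (.node (.leaf (nat_lit 3177610844528126918658)) (.leaf (nat_lit
    2416987595035224341855076406))) (.leaf (nat_lit 41929887013215525863427))) (.node (.leaf
    (nat_lit 23986115765042178883750)) (.leaf (nat_lit 45159503445861171658754)))) (.node (.node
    (.leaf (nat_lit 481922706339251723169956080)) (.leaf (nat_lit 7477131709312552599554))) (.node
    (.leaf (nat_lit 33056821553605160140982)) (.leaf (nat_lit 2337972377906363952554836174))))))
    (.node (.node (.node (.node (.node (.leaf (nat_lit 2882385110392432164961)) (.leaf (nat_lit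
    1420231319661629904324395132))) (.leaf (nat_lit 860011411242044521932128337))) (.node (.leaf
    (nat_lit 0)) (.leaf (nat_lit 1419390892082593794)))) (.node (.node (.leaf (nat_lit 0)) (.leaf
    (nat_lit 50125146065647765225521))) (.node (.leaf (nat_lit 419812325579855858847973474)) (.leaf
    (nat_lit 61982971367012964696243))))) (.node (.node (.node (.leaf (nat_lit 0)) (.leaf (nat_lit
    0))) (.node (.leaf (nat_lit 26480487056698176110631)) (.leaf (nat_lit 1034621041370071042))))
    (.node (.node (.leaf (nat_lit 17054535773951185059968)) (.leaf (nat_lit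
    1661827990280391032834))) (.node (.leaf (nat_lit 1067362186035610641286561797)) (.leaf (nat_lit
    2594118185250171889654342741272166645))))))) (.node (.node (.node (.node (.node (.node (.leaf
    (nat_lit 0)) (.leaf (nat_lit 2530358950575752191636930614))) (.leaf (nat_lit 0))) (.node (.leaf
    (nat_lit 0)) (.leaf (nat_lit 346547274593206274)))) (.node (.node (.leaf (nat_lit 0)) (.leaf
    (nat_lit 1597039948414252623019114703))) (.node (.leaf (nat_lit
    32271175696678483770048455704795)) (.leaf (nat_lit 2221461728601862195130925114))))) (.node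
    (.node (.node (.node (.leaf (nat_lit 1641956412212350484482)) (.leaf (nat_lit
    2664251567567510369336557784))) (.leaf (nat_lit 0))) (.node (.leaf (nat_lit
    772672403326238779)) (.leaf (nat_lit 1725921642846224386)))) (.node (.node (.leaf (nat_lit
    15882809214059136876587)) (.leaf (nat_lit 8874490588711899824130))) (.node (.leaf (nat_lit 0))
    (.leaf (nat_lit 27310993264204253656245202124817)))))) (.node (.node (.node (.node (.node
    (.leaf (nat_lit 3887159528949775726338636054660)) (.leaf (nat_lit 42373424197313688174782)))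
    (.leaf (nat_lit 0))) (.node (.leaf (nat_lit 653429294038511919544139936)) (.leaf (nat_lit
    1088942507829624834)))) (.node (.node (.leaf (nat_lit 3025345557349246632118)) (.leaf (nat_lit
    51287951864052387610760))) (.node (.leaf (nat_lit 0)) (.leaf (nat_lit
    75318560103460874189691395834052))))) (.node (.node (.node (.leaf (nat_lit 267409426967822347))
    (.leaf (nat_lit 1420647590923468859))) (.node (.leaf (nat_lit 6659468291175813939272)) (.leaf
    (nat_lit 33375738445939780310112766591207)))) (.node (.node (.leaf (nat_lit
    14909696460040280670230)) (.leaf (nat_lit 759328807520960514))) (.node (.leaf (nat_lit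
    39877740734935102218578400968970)) (.leaf (nat_lit 2291588917183724936564572195)))))))) (.node
    (.node (.node (.node (.node (.node (.node (.leaf (nat_lit 843972037929527869489)) (.leaf
    (nat_lit 71935418885063227670650))) (.leaf (nat_lit 0))) (.node (.leaf (nat_lit
    7056039223141561729172)) (.leaf (nat_lit 1010124145641521154)))) (.node (.node (.leaf (nat_lit
    322017221717131275)) (.leaf (nat_lit 48354757843778718072881))) (.node (.leaf (nat_lit 0))
    (.leaf (nat_lit 48936649115992053710969))))) (.node (.node (.node (.node (.leaf (nat_lit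
    1374319734367499518131)) (.leaf (nat_lit 2317890072832459785938141261))) (.leaf (nat_lit
    808190846393790357668364401))) (.node (.leaf (nat_lit 22532873690193082908858)) (.leaf (nat_lit
    1473578956857933826)))) (.node (.node (.leaf (nat_lit 501265930184897265634902230)) (.leaf
    (nat_lit 1407845882551992322))) (.node (.leaf (nat_lit 8679457845734533169222)) (.leaf (nat_lit
    0)))))) (.node (.node (.node (.node (.node (.leaf (nat_lit 1194453985088134905947)) (.leaf
    (nat_lit 0))) (.leaf (nat_lit 14536438848051732480040))) (.node (.leaf (nat_lit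
    22246919037029053562916)) (.leaf (nat_lit 1546337334939746306)))) (.node (.node (.leaf (nat_lit
    0)) (.leaf (nat_lit 1432620801853949288489681027))) (.node (.leaf (nat_lit 871616904953987083))
    (.leaf (nat_lit 0))))) (.node (.node (.node (.leaf (nat_lit 0)) (.leaf (nat_lit
    22357929271405349896444))) (.node (.leaf (nat_lit 26010682240195526590719)) (.leaf (nat_lit
    1606015905517666412)))) (.node (.node (.leaf (nat_lit 6705494507071738150955)) (.leaf (nat_lit
    1690869903642460162))) (.node (.leaf (nat_lit 35643860854298265626011186299005)) (.leaf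
    (nat_lit 75313694632676038634375485915367))))))) (.node (.node (.node (.node (.node (.node
    (.leaf (nat_lit 68963495303053314)) (.leaf (nat_lit 74346854021400654708779))) (.leaf (nat_lit
    40034429591476506918956))) (.node (.leaf (nat_lit 21195440549987851894890)) (.leaf (nat_lit
    363295490974023682)))) (.node (.node (.leaf (nat_lit 6313470509235390578840)) (.leaf (nat_lit
    18050687576240570957897))) (.node (.leaf (nat_lit 0)) (.leaf (nat_lit
    68416329375706960298023))))) (.node (.node (.node (.leaf (nat_lit 1485006673842322735177))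
    (.leaf (nat_lit 47503702717096404573668398923803))) (.node (.leaf (nat_lit
    25438851046085492932610)) (.leaf (nat_lit 1390544757851291650)))) (.node (.node (.leaf (nat_lit
    9565137132789893890079)) (.leaf (nat_lit 975219281434378242))) (.node (.leaf (nat_lit
    30452041846825697869963)) (.leaf (nat_lit 64842396001846400581725)))))) (.node (.node (.node
    (.node (.node (.leaf (nat_lit 1217526630774697296008)) (.leaf (nat_lit
    84306164338877913471301848465527))) (.leaf (nat_lit 42437162200847542845483))) (.node (.leaf
    (nat_lit 605835320275591898585104600)) (.leaf (nat_lit 1468652655139225602)))) (.node (.node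
    (.leaf (nat_lit 14116788483118439006278)) (.leaf (nat_lit 1542812592718872578))) (.node (.leaf
    (nat_lit 0)) (.leaf (nat_lit 66007770238690290499623))))) (.node (.node (.node (.leaf (nat_lit
    8794741810331149074508)) (.leaf (nat_lit 1545505693524668587985600654))) (.node (.leaf (nat_lit
    926817849086635331561979929)) (.leaf (nat_lit 51813926722263301947538)))) (.node (.node (.leaf
    (nat_lit 12451883422600399093939)) (.leaf (nat_lit 1039537413124390914))) (.node (.leaf
    (nat_lit 0)) (.leaf (nat_lit 28418053459317629321262)))))))))))) (.node (.node (.node (.node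
    (.node (.node (.node (.node (.node (.node (.node (.leaf (nat_lit 55340935964405202947)) (.leaf
    (nat_lit 2474142184736508599536451746))) (.leaf (nat_lit 1224981848361613451348672712))) (.node
    (.leaf (nat_lit 576759875300884491)) (.leaf (nat_lit 1731121495326982146)))) (.node (.node
    (.leaf (nat_lit 0)) (.leaf (nat_lit 16095274155519078760472))) (.node (.leaf (nat_lit
    30488916663642270430982947799183)) (.leaf (nat_lit 43014504414142437458117))))) (.node (.node
    (.node (.node (.leaf (nat_lit 0)) (.leaf (nat_lit 54520543913189505752826833600751))) (.leaf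
    (nat_lit 0))) (.node (.leaf (nat_lit 22938676303857891606561)) (.leaf (nat_lit
    1732253996598558722)))) (.node (.node (.leaf (nat_lit 465903411069534028207226974)) (.leaf
    (nat_lit 27676309852626664751106))) (.node (.leaf (nat_lit 0)) (.leaf (nat_lit 0)))))) (.node
    (.node (.node (.node (.node (.leaf (nat_lit 66341542975702038126788613)) (.leaf (nat_lit
    41543785568357427904582))) (.leaf (nat_lit 30599062987173909430305))) (.node (.leaf (nat_lit
    15209471675942536675365)) (.leaf (nat_lit 1239245712986865666)))) (.node (.node (.leaf (nat_lit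
    7055952239771666022529)) (.leaf (nat_lit 0))) (.node (.leaf (nat_lit
    32860882773619958152451328377042)) (.leaf (nat_lit 1534627031703111721728344226))))) (.node
    (.node (.node (.leaf (nat_lit 7615977431428334206355218169873)) (.leaf (nat_lit
    21823164110093085245524))) (.node (.leaf (nat_lit 27676231223205779903235792109669)) (.leaf
    (nat_lit 23844362317269792129026)))) (.node (.node (.leaf (nat_lit 9002515660322805842087))
    (.leaf (nat_lit 897954451866910722))) (.node (.leaf (nat_lit 15883168253636952391735)) (.leaf
    (nat_lit 37089053933204119158808))))))) (.node (.node (.node (.node (.node (.node (.leaf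
    (nat_lit 37155852272140347)) (.leaf (nat_lit 64970665700256022462713))) (.leaf (nat_lit
    13009916730669384532180))) (.node (.leaf (nat_lit 18843925410030884683942)) (.leaf (nat_lit
    1196038402118647810)))) (.node (.node (.leaf (nat_lit 2144493399740260745262)) (.leaf (nat_lit
    52018981398706757290450342969601))) (.node (.leaf (nat_lit 29068255827658176397491)) (.leaf
    (nat_lit 2031749066945331202))))) (.node (.node (.node (.node (.leaf (nat_lit
    1466555143688986755152)) (.leaf (nat_lit 81523186737221973770346))) (.leaf (nat_lit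
    14896191314400282607696))) (.node (.leaf (nat_lit 6659450696335479734306)) (.leaf (nat_lit
    1823311692730335234)))) (.node (.node (.leaf (nat_lit 15385052946175908577336)) (.leaf (nat_lit
    17894941124236132155394))) (.node (.leaf (nat_lit 33564119119709006397520)) (.leaf (nat_lit
    72050420288503083630626)))))) (.node (.node (.node (.node (.node (.leaf (nat_lit
    3301994495603940458635)) (.leaf (nat_lit 75313611955212002000961767014654))) (.leaf (nat_lit
    31231347317387114972640782385269))) (.node (.leaf (nat_lit 22445588564768561758330)) (.leaf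
    (nat_lit 1792065187176644610)))) (.node (.node (.leaf (nat_lit 0)) (.leaf (nat_lit
    50826184407064072356031))) (.node (.leaf (nat_lit 31936475414993844764934)) (.leaf (nat_lit
    2005996348549234699))))) (.node (.node (.node (.leaf (nat_lit 8305846937123559768139)) (.leaf
    (nat_lit 15753996159732035027128))) (.node (.leaf (nat_lit 16819011463433355985108)) (.leaf
    (nat_lit 69756768560323393193868282626109)))) (.node (.node (.leaf (nat_lit 0)) (.leaf (nat_lit
    10299523224077745717250))) (.node (.leaf (nat_lit 35519711699313304469535)) (.leaf (nat_lit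
    71552580286293934801134)))))))) (.node (.node (.node (.node (.node (.node (.node (.leaf
    (nat_lit 0)) (.leaf (nat_lit 28436520329496418779320))) (.leaf (nat_lit 0))) (.node (.leaf
    (nat_lit 4067626291094779789499)) (.leaf (nat_lit 33916005628813875806210)))) (.node (.node
    (.leaf (nat_lit 9601732398792193540244)) (.leaf (nat_lit 47852313619542877339732))) (.node
    (.leaf (nat_lit 0)) (.leaf (nat_lit 1222370806037068117840823888485155107))))) (.node (.node
    (.node (.node (.leaf (nat_lit 4441217599639677763586)) (.leaf (nat_lit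
    80923640840293040980160))) (.leaf (nat_lit 25101844169109933326429))) (.node (.leaf (nat_lit
    755905130945082531686645985)) (.leaf (nat_lit 1840340628173619202)))) (.node (.node (.leaf
    (nat_lit 14808290029926640451597)) (.leaf (nat_lit 1368157713267294210))) (.node (.leaf
    (nat_lit 29981475357017434685477)) (.leaf (nat_lit 0)))))) (.node (.node (.node (.node (.node
    (.leaf (nat_lit 3203810736430284472235342495869)) (.leaf (nat_lit
    2491056562527515542169059606))) (.leaf (nat_lit 0))) (.node (.leaf (nat_lit
    591470513021764416728989899)) (.leaf (nat_lit 1048547902324080642)))) (.node (.node (.leaf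
    (nat_lit 12447170254235708358802)) (.leaf (nat_lit 0))) (.node (.leaf (nat_lit
    1027159873067558495597101150)) (.leaf (nat_lit 33455074057299851149491))))) (.node (.node
    (.node (.leaf (nat_lit 0)) (.leaf (nat_lit 22053755448438628221020))) (.node (.leaf (nat_lit
    0)) (.leaf (nat_lit 61317940283745474117811)))) (.node (.node (.leaf (nat_lit
    317801230279770114)) (.leaf (nat_lit 11590789276161278148610))) (.node (.leaf (nat_lit 0))
    (.leaf (nat_lit 2789420436766928267123591353136180587794006048))))))) (.node (.node (.node
    (.node (.node (.node (.leaf (nat_lit 48659688528537210281263186)) (.leaf (nat_lit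
    77390133040181237973098))) (.leaf (nat_lit 19885957895405443416251))) (.node (.leaf (nat_lit
    14605339399621089362073)) (.leaf (nat_lit 26592674125513874407426)))) (.node (.node (.leaf
    (nat_lit 10528794301807349399661)) (.leaf (nat_lit 49055999692316151578783))) (.node (.leaf
    (nat_lit 0)) (.leaf (nat_lit 53713962213385323942082672656445))))) (.node (.node (.node (.node
    (.leaf (nat_lit 1540502275105224851604)) (.leaf (nat_lit 82104149427679029035180))) (.leaf
    (nat_lit 16003005388784331325527))) (.node (.leaf (nat_lit 0)) (.leaf (nat_lit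
    1458801958667288578)))) (.node (.node (.leaf (nat_lit 0)) (.leaf (nat_lit
    29055230288668091678722))) (.node (.leaf (nat_lit 32950771635207360675848)) (.leaf (nat_lit
    42723967215840637681708)))))) (.node (.node (.node (.node (.node (.leaf (nat_lit
    4178213854501071421484)) (.leaf (nat_lit 2589598742639734771226509317))) (.leaf (nat_lit
    41971393286540812812467))) (.node (.leaf (nat_lit 23063741827910167887928)) (.leaf (nat_lit
    26554900065355905040560)))) (.node (.node (.leaf (nat_lit 0)) (.leaf (nat_lit
    45578860915899146371074))) (.node (.leaf (nat_lit 0)) (.leaf (nat_lit 0))))) (.node (.node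
    (.node (.leaf (nat_lit 270787229767565371)) (.leaf (nat_lit 46597897022309260263500))) (.node
    (.leaf (nat_lit 227889015372030936181112857)) (.leaf (nat_lit 50403117955697661378562))))
    (.node (.node (.leaf (nat_lit 10985370645993533669573)) (.leaf (nat_lit
    25813247809604259348482))) (.node (.leaf (nat_lit 336692477280208378006863897)) (.leaf (nat_lit
    74965219632303810216072))))))))) (.node (.node (.node (.node (.node (.node (.node (.node (.leaf
    (nat_lit 9973730248778309234327566)) (.leaf (nat_lit 75896832145549529645106))) (.leaf (nat_lit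
    0))) (.node (.leaf (nat_lit 594957348869080364477579493)) (.leaf (nat_lit
    902740900860526594)))) (.node (.node (.leaf (nat_lit 284703561649818648638128327)) (.leaf
    (nat_lit 1558502002104646046243356886))) (.node (.leaf (nat_lit 6871924760091209957512)) (.leaf
    (nat_lit 811694895629729794))))) (.node (.node (.node (.node (.leaf (nat_lit 0)) (.leaf
    (nat_lit 86554154829663301081271124689186))) (.leaf (nat_lit 42437170504745902866614))) (.node
    (.leaf (nat_lit 0)) (.leaf (nat_lit 18342546430537349922818)))) (.node (.node (.leaf (nat_lit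
    469077279470549863766425713)) (.leaf (nat_lit 27870006013240488951810))) (.node (.leaf (nat_lit
    27085258850085174968412)) (.leaf (nat_lit 1424290644218526149971804364)))))) (.node (.node
    (.node (.node (.node (.leaf (nat_lit
    118314405786995274474875800111697165106043682217501182091067496)) (.leaf (nat_lit
    78248797928821111324681))) (.leaf (nat_lit 40496407003693364478074))) (.node (.leaf (nat_lit
    23174380948592533069561340428404)) (.leaf (nat_lit 1017444264562524162)))) (.node (.node (.leaf
    (nat_lit 0)) (.leaf (nat_lit 18327396900507085897736))) (.node (.leaf (nat_lit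
    15753748869963401330744)) (.leaf (nat_lit 30079308632528466935831))))) (.node (.node (.node
    (.leaf (nat_lit 4879354513712090382529)) (.leaf (nat_lit 0))) (.node (.leaf (nat_lit
    22321241945338860994731)) (.leaf (nat_lit 1418834204191490050)))) (.node (.node (.leaf (nat_lit
    18064573095644127644840746090513)) (.leaf (nat_lit 1206451120831070210))) (.node (.leaf
    (nat_lit 9454485825523399458974)) (.leaf (nat_lit 0))))))) (.node (.node (.node (.node (.node
    (.node (.leaf (nat_lit 0)) (.leaf (nat_lit 70158852018470169804838))) (.leaf (nat_lit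
    20204382373500416098400))) (.node (.leaf (nat_lit 5654099199562646487124)) (.leaf (nat_lit
    830587232294208342866526210)))) (.node (.node (.leaf (nat_lit 126789923094399387271692483))
    (.leaf (nat_lit 0))) (.node (.leaf (nat_lit 8435291669479343456331)) (.leaf (nat_lit
    33017124725150997217282))))) (.node (.node (.node (.node (.leaf (nat_lit 0)) (.leaf (nat_lit
    3089615254863733304804433706815355343476359405))) (.leaf (nat_lit 31138555241822033215540)))
    (.node (.leaf (nat_lit 14361194905073774428193)) (.leaf (nat_lit 1225459074125135874)))) (.node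
    (.node (.leaf (nat_lit 6742450480851510820970)) (.leaf (nat_lit 1495789860980405764098)))
    (.node (.leaf (nat_lit 34108854264703706398870)) (.leaf (nat_lit 0)))))) (.node (.node (.node
    (.node (.node (.leaf (nat_lit 0)) (.leaf (nat_lit 77510576043880909832229))) (.leaf (nat_lit
    41648945570987490082972))) (.node (.leaf (nat_lit 0)) (.leaf (nat_lit
    60502538236752744873986)))) (.node (.node (.leaf (nat_lit 3412753500635670970461)) (.leaf
    (nat_lit 26411712187502671626399))) (.node (.leaf (nat_lit 8033802661035216404631)) (.leaf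
    (nat_lit 2281614914721618199560060986))))) (.node (.node (.node (.leaf (nat_lit
    8199777596024654331913)) (.leaf (nat_lit 30527846788241000187982134968530))) (.node (.leaf
    (nat_lit 29518179746280754255239584219375)) (.leaf (nat_lit 1173529973168930818)))) (.node
    (.node (.leaf (nat_lit 17810440491534844624932)) (.leaf (nat_lit 9003648458634320609282)))
    (.node (.leaf (nat_lit 0)) (.leaf (nat_lit 0)))))))) (.node (.node (.node (.node (.node (.node
    (.node (.leaf (nat_lit 931567331993651970084)) (.leaf (nat_lit 68978048024367434236010)))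
    (.leaf (nat_lit 38706840470387622608945))) (.node (.leaf (nat_lit 0)) (.leaf (nat_lit
    8671643375493645008898)))) (.node (.node (.leaf (nat_lit 0)) (.leaf (nat_lit
    668584102657018822488490198))) (.node (.leaf (nat_lit 0)) (.leaf (nat_lit
    59313992226779095581429785231570))))) (.node (.node (.node (.node (.leaf (nat_lit 0)) (.leaf
    (nat_lit 80988008683485020749895))) (.leaf (nat_lit 0))) (.node (.leaf (nat_lit
    20508340290969428754529)) (.leaf (nat_lit 1469778993132732418)))) (.node (.node (.leaf (nat_lit
    15107977563822440513581)) (.leaf (nat_lit 537243676506718210))) (.node (.leaf (nat_lit 0))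
    (.leaf (nat_lit 42714740465305198461034)))))) (.node (.node (.node (.node (.node (.leaf
    (nat_lit 3520723837122846888491802230916)) (.leaf (nat_lit 33020679223558132662343))) (.leaf
    (nat_lit 41077047650166761521159))) (.node (.leaf (nat_lit 0)) (.leaf (nat_lit
    1072896114874777602)))) (.node (.node (.leaf (nat_lit 7212898606214409289958)) (.leaf (nat_lit
    21472582950435481125050))) (.node (.leaf (nat_lit 29215906484094561878029)) (.leaf (nat_lit
    73143127492714861328502201057307))))) (.node (.node (.node (.leaf (nat_lit
    8028999684741157552312)) (.leaf (nat_lit 15753991092916166262966))) (.node (.leaf (nat_lit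
    26296026793950943838444)) (.leaf (nat_lit 57749506787868774957207)))) (.node (.node (.leaf
    (nat_lit 339616183732325170984577229235028111)) (.leaf (nat_lit 1684958783102648322))) (.node
    (.leaf (nat_lit 0)) (.leaf (nat_lit 27076418445950238947332954849441))))))) (.node (.node
    (.node (.node (.node (.node (.leaf (nat_lit 0)) (.leaf (nat_lit 0))) (.leaf (nat_lit
    39896297558066799509599))) (.node (.leaf (nat_lit 15320150732735032524837)) (.leaf (nat_lit
    1055022247695220738)))) (.node (.node (.leaf (nat_lit 0)) (.leaf (nat_lit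
    48764515755116323864763))) (.node (.leaf (nat_lit 478113616202170476)) (.leaf (nat_lit
    1860391874069921966443784896539691357112369402))))) (.node (.node (.node (.leaf (nat_lit
    6816114585046907813931)) (.leaf (nat_lit 43581010643056553296063))) (.node (.leaf (nat_lit
    24705490934691229007875)) (.leaf (nat_lit 1888332910566703106)))) (.node (.node (.leaf (nat_lit
    1531576006657976762370)) (.leaf (nat_lit 1091561681361979065099354114))) (.node (.leaf (nat_lit
    0)) (.leaf (nat_lit 42631997660038380585007)))))) (.node (.node (.node (.node (.node (.leaf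
    (nat_lit 4487214688708078010387)) (.leaf (nat_lit 85949107949233841931382914613296))) (.leaf
    (nat_lit 0))) (.node (.leaf (nat_lit
    31061548089877386502106531787135369194297798485358349582440)) (.leaf (nat_lit
    31555019991677516578818)))) (.node (.node (.leaf (nat_lit 223351950626220028643770528)) (.leaf
    (nat_lit 1562797170036441090))) (.node (.leaf (nat_lit 1075220466850239430676185364)) (.leaf
    (nat_lit 70602416463812386554109))))) (.node (.node (.node (.leaf (nat_lit
    52589845939009591412260890)) (.leaf (nat_lit 1394189321069789195))) (.node (.leaf (nat_lit 0))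
    (.leaf (nat_lit 65861219716076413321282)))) (.node (.node (.leaf (nat_lit
    18641004046250963828754)) (.leaf (nat_lit 830260690630606850))) (.node (.leaf (nat_lit 0))
    (.leaf (nat_lit 72760536626328412291108)))))))))) (.node (.node (.node (.node (.node (.node
    (.node (.node (.node (.leaf (nat_lit 193692924020959412233)) (.leaf (nat_lit 0))) (.leaf
    (nat_lit 1153030110163474877100851478))) (.node (.leaf (nat_lit 0)) (.leaf (nat_lit
    1798315781282912603717500930)))) (.node (.node (.leaf (nat_lit 0)) (.leaf (nat_lit
    47432553765009761697938))) (.node (.leaf (nat_lit 28524146400849509417171)) (.leaf (nat_lit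
    53908021016272253943810))))) (.node (.node (.node (.node (.leaf (nat_lit
    3929227846180871012503)) (.leaf (nat_lit 80015195415980936462400))) (.leaf (nat_lit 0))) (.node
    (.leaf (nat_lit 0)) (.leaf (nat_lit 16101266179352823005186)))) (.node (.node (.leaf (nat_lit
    13858521259778223833270)) (.leaf (nat_lit 19319938320993595097090))) (.node (.leaf (nat_lit
    29981475919546481311782)) (.leaf (nat_lit 69435566875839413027078)))))) (.node (.node (.node
    (.node (.node (.leaf (nat_lit 0)) (.leaf (nat_lit 74734484611788794167445))) (.leaf (nat_lit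
    39384192136938233462968))) (.node (.leaf (nat_lit 0)) (.leaf (nat_lit 817033402539704322))))
    (.node (.node (.leaf (nat_lit 7295759912884509016190)) (.leaf (nat_lit
    18050688983855972679776))) (.node (.leaf (nat_lit 30774718985818142343239)) (.leaf (nat_lit
    1234993026236084488348128920474091765))))) (.node (.node (.node (.leaf (nat_lit 0)) (.leaf
    (nat_lit 44429445888348703097011))) (.node (.leaf (nat_lit 857910156574618252828999738)) (.leaf
    (nat_lit 1538601660752986114)))) (.node (.node (.leaf (nat_lit 211262522098057218)) (.leaf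
    (nat_lit 11779861785020737978370))) (.node (.leaf (nat_lit 9454243053218547564624)) (.leaf
    (nat_lit 2053423191968377781270872090))))))) (.node (.node (.node (.node (.node (.node (.leaf
    (nat_lit 1388158025227485511693)) (.leaf (nat_lit 76920646141641784229907))) (.leaf (nat_lit
    0))) (.node (.leaf (nat_lit 20245471650667137532060)) (.leaf (nat_lit 1102588795750055938))))
    (.node (.node (.leaf (nat_lit 0)) (.leaf (nat_lit 48556990165066283417685))) (.node (.leaf
    (nat_lit 0)) (.leaf (nat_lit 49305595240509509664770))))) (.node (.node (.node (.node (.leaf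
    (nat_lit 6082927861332059553961)) (.leaf (nat_lit 72847510007495988019382))) (.leaf (nat_lit
    0))) (.node (.leaf (nat_lit 13503193732981580824767)) (.leaf (nat_lit 1773490776471371778))))
    (.node (.node (.leaf (nat_lit 6175211270842974666926)) (.leaf (nat_lit
    6706992808126639702018))) (.node (.leaf (nat_lit 1113455116100060246073147608)) (.leaf (nat_lit
    22862138517841665786086)))))) (.node (.node (.node (.node (.node (.leaf (nat_lit 0)) (.leaf
    (nat_lit 85083736200389754673824792903799))) (.leaf (nat_lit 1265972375346872322))) (.node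
    (.leaf (nat_lit 6023008891079416283295)) (.leaf (nat_lit 832658424843075586)))) (.node (.node
    (.leaf (nat_lit 13157540761744508649543)) (.leaf (nat_lit 0))) (.node (.leaf (nat_lit 0))
    (.leaf (nat_lit 2626167066384199418872785320968936088454824054))))) (.node (.node (.node (.leaf
    (nat_lit 0)) (.leaf (nat_lit 46242678415990617997400))) (.node (.leaf (nat_lit
    6908501446932570505364)) (.leaf (nat_lit 27983721519663942772791268185988890296425)))) (.node
    (.node (.leaf (nat_lit 17916878273607213711453)) (.leaf (nat_lit 36420114697011738116098)))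
    (.node (.leaf (nat_lit 1200944725966673977253560553)) (.leaf (nat_lit
    2281445192652474967003244651113480297)))))))) (.node (.node (.node (.node (.node (.node (.node
    (.leaf (nat_lit 793218862374306644013)) (.leaf (nat_lit 44066814105173641855046))) (.leaf
    (nat_lit 33863964986972878078104))) (.node (.leaf (nat_lit 0)) (.leaf (nat_lit
    991546599610122242)))) (.node (.node (.leaf (nat_lit 0)) (.leaf (nat_lit
    1423375012240501135204679715))) (.node (.leaf (nat_lit 29123315972275815252011)) (.leaf
    (nat_lit 53158923079225877706624238682273))))) (.node (.node (.node (.node (.leaf (nat_lit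
    4879331992759016030296)) (.leaf (nat_lit 81080440559372429623435))) (.leaf (nat_lit
    43281923915265159135422))) (.node (.leaf (nat_lit 21536741065637048287275)) (.leaf (nat_lit
    1440083297190412290)))) (.node (.node (.leaf (nat_lit 246930528309768676318642201)) (.leaf
    (nat_lit 28612494077887158353922))) (.node (.leaf (nat_lit 380972802640568698313900293)) (.leaf
    (nat_lit 863132487664710843388734883887677367539728606)))))) (.node (.node (.node (.node (.node
    (.leaf (nat_lit 0)) (.leaf (nat_lit 2393295718635005906818170978))) (.leaf (nat_lit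
    761005708782206978))) (.node (.leaf (nat_lit 15975020562887932575895)) (.leaf (nat_lit
    1752094812770795522)))) (.node (.node (.leaf (nat_lit 12239491265812328808630)) (.leaf (nat_lit
    0))) (.node (.leaf (nat_lit 31443434569688892506202)) (.leaf (nat_lit
    69122060185867305287833))))) (.node (.node (.node (.leaf (nat_lit 7812433546690359918761))
    (.leaf (nat_lit 49008499363098134323306548232449))) (.node (.leaf (nat_lit
    6299752418017345208376)) (.leaf (nat_lit 57906299586892561318064)))) (.node (.node (.leaf
    (nat_lit 514833817056444418)) (.leaf (nat_lit 1499748226952200194))) (.node (.leaf (nat_lit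
    982572012472368449504673797)) (.leaf (nat_lit 2235187927390657382159170580714487907)))))))
    (.node (.node (.node (.node (.node (.node (.leaf (nat_lit 604146773584123199579)) (.leaf
    (nat_lit 52263414915676300398201307201661))) (.leaf (nat_lit 38416056561472054165694))) (.node
    (.leaf (nat_lit 20868466408116837351561)) (.leaf (nat_lit 1026450226866683906)))) (.node (.node
    (.leaf (nat_lit 9993826338908236087402)) (.leaf (nat_lit 21929109747191743971368))) (.node
    (.leaf (nat_lit 0)) (.leaf (nat_lit 43181144076057726615701))))) (.node (.node (.node (.node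
    (.leaf (nat_lit 0)) (.leaf (nat_lit 2460392296059447808216006860))) (.leaf (nat_lit
    43244238358938457931856))) (.node (.leaf (nat_lit 0)) (.leaf (nat_lit 1404195873314963458))))
    (.node (.node (.leaf (nat_lit 17326668346743809826428031402101)) (.leaf (nat_lit
    876280724041367554))) (.node (.leaf (nat_lit 0)) (.leaf (nat_lit 42935562792766670045222))))))
    (.node (.node (.node (.node (.node (.leaf (nat_lit 3062243118336843120794)) (.leaf (nat_lit
    79701588240558834516077))) (.leaf (nat_lit 41335802126590246322273))) (.node (.leaf (nat_lit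
    814392521783676812938185632144293987)) (.leaf (nat_lit 42470877852455112212573)))) (.node
    (.node (.leaf (nat_lit 451396407307018091534483461)) (.leaf (nat_lit 1411222697509257218)))
    (.node (.leaf (nat_lit 287275643576647691)) (.leaf (nat_lit 1372171735225691403911954627)))))
    (.node (.node (.node (.leaf (nat_lit 8928496044925356539980)) (.leaf (nat_lit 0))) (.node
    (.leaf (nat_lit 17639939848341951807516)) (.leaf (nat_lit 65049837141788450816091)))) (.node
    (.node (.leaf (nat_lit 11672295690051589963910)) (.leaf (nat_lit 1262324676802248706))) (.node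
    (.leaf (nat_lit 11345052336795783725226)) (.leaf (nat_lit 75176406625666669412397)))))))))
    (.node (.node (.node (.node (.node (.node (.node (.node (.leaf (nat_lit 451948326490189529122))
    (.leaf (nat_lit 80211054490152512675292396191940))) (.leaf (nat_lit 30691130354035924860965)))
    (.node (.leaf (nat_lit 12322544404679853539526)) (.leaf (nat_lit 904429879569809410)))) (.node
    (.node (.leaf (nat_lit 9929014324298881630391)) (.leaf (nat_lit 0))) (.node (.leaf (nat_lit
    27154437232299952242864)) (.leaf (nat_lit 1492582881472675842))))) (.node (.node (.node (.node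
    (.leaf (nat_lit 136801670519717890)) (.leaf (nat_lit 80647012163379062308901))) (.leaf (nat_lit
    42649638935566125039652))) (.node (.leaf (nat_lit 735657052319383611)) (.leaf (nat_lit
    1243191362002747394)))) (.node (.node (.leaf (nat_lit 14669997707667431424137)) (.leaf (nat_lit
    9570837289754511474690))) (.node (.leaf (nat_lit 0)) (.leaf (nat_lit
    70279626592446796988628)))))) (.node (.node (.node (.node (.node (.leaf (nat_lit
    93843968975307437651525657)) (.leaf (nat_lit 72870231227525188747454))) (.leaf (nat_lit
    40611744480120744902814))) (.node (.leaf (nat_lit 14882044502338479259839)) (.leaf (nat_lit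
    1265001669788303362)))) (.node (.node (.leaf (nat_lit 12978690915778640155539589628135)) (.leaf
    (nat_lit 49954341163114743136435))) (.node (.leaf (nat_lit 17875441520112933470246)) (.leaf
    (nat_lit 2425525734658293128893198760189231209))))) (.node (.node (.node (.leaf (nat_lit
    7480384834747905540268)) (.leaf (nat_lit 41165174359141232016415661555760))) (.node (.leaf
    (nat_lit 0)) (.leaf (nat_lit 1036028347534147586)))) (.node (.node (.leaf (nat_lit
    318645517770948610)) (.leaf (nat_lit 36046557563044873043970))) (.node (.leaf (nat_lit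
    35801407492481765015636)) (.leaf (nat_lit 904632739870934321493966862))))))) (.node (.node
    (.node (.node (.node (.node (.leaf (nat_lit 0)) (.leaf (nat_lit 70057395066948284514341)))
    (.leaf (nat_lit 30714765527463443497012))) (.node (.leaf (nat_lit 19364597400167287816341))
    (.leaf (nat_lit 1502426989464780802)))) (.node (.node (.leaf (nat_lit 232649432007573506))
    (.leaf (nat_lit 0))) (.node (.leaf (nat_lit 0)) (.leaf (nat_lit
    65513946388916549568950761226288))))) (.node (.node (.node (.node (.leaf (nat_lit
    194645903515189250)) (.leaf (nat_lit 80900664887853753499724))) (.leaf (nat_lit 0))) (.node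
    (.leaf (nat_lit 192071055084144184099340529)) (.leaf (nat_lit 1478364400829202434)))) (.node
    (.node (.leaf (nat_lit 518795608136323410101010632)) (.leaf (nat_lit 281946224817471490)))
    (.node (.leaf (nat_lit 34740712101877859418149)) (.leaf (nat_lit 2056242243232202860))))))
    (.node (.node (.node (.node (.node (.leaf (nat_lit 793280930613148450890)) (.leaf (nat_lit 0)))
    (.leaf (nat_lit 41059091254331618558044))) (.node (.leaf (nat_lit 0)) (.leaf (nat_lit
    57308009678690895532752537714919)))) (.node (.node (.leaf (nat_lit 13480050558125222330598))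
    (.leaf (nat_lit 24359668831756619022428))) (.node (.leaf (nat_lit 32379634113478528270485))
    (.leaf (nat_lit 69665591885148834693246))))) (.node (.node (.node (.leaf (nat_lit
    8384244755424212090889)) (.leaf (nat_lit 0))) (.node (.leaf (nat_lit
    220936617242429953998585963)) (.leaf (nat_lit 23632276104655916957872)))) (.node (.node (.leaf
    (nat_lit 0)) (.leaf (nat_lit 30005269138312974761986))) (.node (.leaf (nat_lit
    36285249327001933905933)) (.leaf (nat_lit 49908553511005476552735)))))))) (.node (.node (.node
    (.node (.node (.node (.node (.leaf (nat_lit 793220410752966524965)) (.leaf (nat_lit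
    71414297239106795798650))) (.leaf (nat_lit 26292023667981899989087))) (.node (.leaf (nat_lit
    4063016012837783011512)) (.leaf (nat_lit 1497357313147797506)))) (.node (.node (.leaf (nat_lit
    10325629885055053791324)) (.leaf (nat_lit 1249737631906272540746842316))) (.node (.leaf
    (nat_lit 917904451923247231892979738)) (.leaf (nat_lit 2201974407549613803516985642))))) (.node
    (.node (.node (.node (.leaf (nat_lit 2933068904848385310733)) (.leaf (nat_lit
    72410292674105224396875))) (.leaf (nat_lit 22746165575851513675949))) (.node (.leaf (nat_lit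
    0)) (.leaf (nat_lit 57417373478986283417602)))) (.node (.node (.leaf (nat_lit
    15648050064470176656658824233085)) (.leaf (nat_lit 7297284962720852148226))) (.node (.leaf
    (nat_lit 0)) (.leaf (nat_lit 75921077193097256932163075768551)))))) (.node (.node (.node (.node
    (.node (.leaf (nat_lit 3654432846940276176410984644743)) (.leaf (nat_lit
    2460686682653765883207614624))) (.leaf (nat_lit 25079114218546091196508))) (.node (.leaf
    (nat_lit 0)) (.leaf (nat_lit 1086125687888281602)))) (.node (.node (.leaf (nat_lit
    338661570407009783644422242)) (.leaf (nat_lit 21749288333803214012446))) (.node (.leaf (nat_lit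
    464075709529415608445054813028614243)) (.leaf (nat_lit
    80101724649309371299265212483049154347107))))) (.node (.node (.node (.leaf (nat_lit 0)) (.leaf
    (nat_lit 1505588179914910772777713762))) (.node (.leaf (nat_lit 25328172271944794832971))
    (.leaf (nat_lit 52122687459869952507997)))) (.node (.node (.leaf (nat_lit
    17607520958287165194311)) (.leaf (nat_lit 8823781727710115725314))) (.node (.leaf (nat_lit
    35621167947173517787167)) (.leaf (nat_lit
    3471898249084646057981914040870385602884442705583021652151631060252098861))))))) (.node (.node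
    (.node (.node (.node (.node (.leaf (nat_lit
    98427952862873821499198586754269255223416729650887660642500712)) (.leaf (nat_lit
    77833688483070138843308))) (.leaf (nat_lit 38471399327251441057829))) (.node (.leaf (nat_lit
    4714630624383894023557361323928195896315664653939622246572620767899755151620)) (.leaf (nat_lit
    599312241766039554)))) (.node (.node (.leaf (nat_lit 7683141256682554982549)) (.leaf (nat_lit
    17986123971956817723464))) (.node (.leaf (nat_lit 0)) (.leaf (nat_lit
    68351325359261857546377))))) (.node (.node (.node (.leaf (nat_lit 1641959091129481887814))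
    (.leaf (nat_lit 0))) (.node (.leaf (nat_lit
    1127502252594867599112084472429350703953081138726900350094934120)) (.leaf (nat_lit
    1362960038334955522)))) (.node (.node (.leaf (nat_lit 9666594366130353275050)) (.leaf (nat_lit
    973671169062469634))) (.node (.leaf (nat_lit 0)) (.leaf (nat_lit
    2760268354243748452044800023493408037525782807)))))) (.node (.node (.node (.node (.node (.leaf
    (nat_lit 3537262400370949423201)) (.leaf (nat_lit 75729781398007804264639))) (.leaf (nat_lit
    28436082182238828167327))) (.node (.leaf (nat_lit 19041801899624286584987)) (.leaf (nat_lit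
    57435804178848881508354)))) (.node (.node (.leaf (nat_lit 13627624943553112899602)) (.leaf
    (nat_lit 20970916288191304761346))) (.node (.leaf (nat_lit 9163670662040623710295)) (.leaf
    (nat_lit 0))))) (.node (.node (.node (.leaf (nat_lit 282745739676996490202710231)) (.leaf
    (nat_lit 0))) (.node (.leaf (nat_lit 14232089654492209021082)) (.leaf (nat_lit
    66004463044044792201443)))) (.node (.node (.leaf (nat_lit 18793096936019563053213)) (.leaf
    (nat_lit 758484631698931714))) (.node (.leaf (nat_lit 908666939932539069554491412)) (.leaf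
    (nat_lit 76655403420022932417086174331023))))))))))) (.node (.node (.node (.node (.node (.node
    (.node (.node (.node (.node (.leaf (nat_lit 3626791297420495979544586)) (.leaf (nat_lit
    73079030770107186086010))) (.leaf (nat_lit 0))) (.node (.leaf (nat_lit 0)) (.leaf (nat_lit
    1516075476408467458)))) (.node (.node (.leaf (nat_lit 0)) (.leaf (nat_lit 0))) (.node (.leaf
    (nat_lit 26826997110091051892831)) (.leaf (nat_lit 71124246494638672723173120999451))))) (.node
    (.node (.node (.node (.leaf (nat_lit 136158793793745349188517914)) (.leaf (nat_lit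
    77201883985910878634154))) (.leaf (nat_lit 42409499121791784911035))) (.node (.leaf (nat_lit
    0)) (.leaf (nat_lit 34414270388810264281090)))) (.node (.node (.leaf (nat_lit 0)) (.leaf
    (nat_lit 1423889475188162562))) (.node (.leaf (nat_lit 0)) (.leaf (nat_lit
    66104567231578839908355)))))) (.node (.node (.node (.node (.node (.leaf (nat_lit
    72082783085118028788269062)) (.leaf (nat_lit 2496505551388625905874370838))) (.leaf (nat_lit
    30838870660183673209014))) (.node (.leaf (nat_lit 625926351563706284917391365)) (.leaf (nat_lit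
    1415167599200829442)))) (.node (.node (.leaf (nat_lit 10381224008993665646764)) (.leaf (nat_lit
    0))) (.node (.leaf (nat_lit 17197205186150131761197)) (.leaf (nat_lit
    2117906783359939673002868849))))) (.node (.node (.node (.leaf (nat_lit 1766320224799864062023))
    (.leaf (nat_lit 0))) (.node (.leaf (nat_lit 26070654845256732967004)) (.leaf (nat_lit
    1536209089091207170)))) (.node (.node (.leaf (nat_lit 7738612942322012454921)) (.leaf (nat_lit
    212985130401267714))) (.node (.leaf (nat_lit 33969964941947403698216)) (.leaf (nat_lit 0)))))))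
    (.node (.node (.node (.node (.node (.node (.leaf (nat_lit 1295923601107071467586)) (.leaf
    (nat_lit 76874519858389457240098))) (.leaf (nat_lit 22473289250901560852649))) (.node (.leaf
    (nat_lit 0)) (.leaf (nat_lit 1512557082149257218)))) (.node (.node (.leaf (nat_lit 0)) (.leaf
    (nat_lit 41580233032010947559489))) (.node (.leaf (nat_lit 8218273195591874052120)) (.leaf
    (nat_lit 1486250673749229570))))) (.node (.node (.node (.node (.leaf (nat_lit 0)) (.leaf
    (nat_lit 81587305770235486994469))) (.leaf (nat_lit 43816854584615348928685))) (.node (.leaf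
    (nat_lit 24926923213651228950615)) (.leaf (nat_lit 1528185196829081602)))) (.node (.node (.leaf
    (nat_lit 4667191772327258030229)) (.leaf (nat_lit 291516193637007362))) (.node (.leaf (nat_lit
    1126298943218696556879544552)) (.leaf (nat_lit 36415539540868524641416827437310)))))) (.node
    (.node (.node (.node (.node (.leaf (nat_lit 0)) (.leaf (nat_lit 71128214404116991115356)))
    (.leaf (nat_lit 44512727904242976425301397274725))) (.node (.leaf (nat_lit
    5995338774882952609983)) (.leaf (nat_lit 891768161362378754)))) (.node (.node (.leaf (nat_lit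
    0)) (.leaf (nat_lit 0))) (.node (.leaf (nat_lit 28883859883850087989484)) (.leaf (nat_lit
    74935858455760611777482110337051))))) (.node (.node (.node (.leaf (nat_lit
    1595689672822090825940)) (.leaf (nat_lit 47250206206135819277375707086963))) (.node (.leaf
    (nat_lit 27278638205080793448600)) (.leaf (nat_lit 1701999035784757250)))) (.node (.node (.leaf
    (nat_lit 15583031047308190089254)) (.leaf (nat_lit 1686649110431662082))) (.node (.leaf
    (nat_lit 9592597293968268656824)) (.leaf (nat_lit 74416438122070346498098)))))))) (.node (.node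
    (.node (.node (.node (.node (.node (.leaf (nat_lit 0)) (.leaf (nat_lit
    76283238592201573466242))) (.leaf (nat_lit 11013038247598314684489))) (.node (.leaf (nat_lit
    642710504648230417125867778)) (.leaf (nat_lit 1818839619450229401248333826)))) (.node (.node
    (.leaf (nat_lit 0)) (.leaf (nat_lit 0))) (.node (.leaf (nat_lit 798290096540483692)) (.leaf
    (nat_lit 1508627384641912834))))) (.node (.node (.node (.node (.leaf (nat_lit
    3182228441538245099551)) (.leaf (nat_lit 0))) (.leaf (nat_lit 0))) (.node (.leaf (nat_lit
    5552622407551006474320)) (.leaf (nat_lit 1373092226963472386)))) (.node (.node (.leaf (nat_lit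
    0)) (.leaf (nat_lit 15058748594344352219138))) (.node (.leaf (nat_lit 0)) (.leaf (nat_lit
    47617579275050713015329556332601)))))) (.node (.node (.node (.node (.node (.leaf (nat_lit 0))
    (.leaf (nat_lit 71984788638110375411749))) (.leaf (nat_lit 0))) (.node (.leaf (nat_lit
    15928902013785078956188)) (.leaf (nat_lit 1720428723272024066)))) (.node (.node (.leaf (nat_lit
    12110365323873627602978)) (.leaf (nat_lit 1417634920508741427143114968))) (.node (.leaf
    (nat_lit 8249692567720655347607516020797)) (.leaf (nat_lit
    74283617899970999577290574463278))))) (.node (.node (.node (.leaf (nat_lit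
    219124468895384023138042061)) (.leaf (nat_lit 1468105221429254510407319765))) (.node (.leaf
    (nat_lit 7526461321054186045652)) (.leaf (nat_lit 1967710851158900747)))) (.node (.node (.leaf
    (nat_lit 292609305763512322)) (.leaf (nat_lit 1152689554898157570))) (.node (.leaf (nat_lit
    1100735366151699145590833356)) (.leaf (nat_lit 41875359005798796820510))))))) (.node (.node
    (.node (.node (.node (.node (.leaf (nat_lit 1734048269364434763861)) (.leaf (nat_lit
    77437094038280159297774))) (.leaf (nat_lit 401526709174678586770325558))) (.node (.leaf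
    (nat_lit 22288014216604256695403063607477)) (.leaf (nat_lit 1070360271693938690)))) (.node
    (.node (.leaf (nat_lit 11266690664209750097943)) (.leaf (nat_lit 17810873147513538543669)))
    (.node (.leaf (nat_lit 609910168984173999554822357)) (.leaf (nat_lit
    53995640134016942036825982435614))))) (.node (.node (.node (.node (.leaf (nat_lit
    1660406111756135628842)) (.leaf (nat_lit 2691599418119965902897414198))) (.leaf (nat_lit 0)))
    (.node (.leaf (nat_lit 0)) (.leaf (nat_lit 1370700308136722434)))) (.node (.node (.leaf
    (nat_lit 16012262230032445014108)) (.leaf (nat_lit 27229003334323917750274))) (.node (.leaf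
    (nat_lit 1064570922066903051)) (.leaf (nat_lit 72510936999475196133482)))))) (.node (.node
    (.node (.node (.node (.leaf (nat_lit 0)) (.leaf (nat_lit 2292265814432284780))) (.leaf (nat_lit
    929541178803106579759759429))) (.node (.leaf (nat_lit 4962324062800818929861)) (.leaf (nat_lit
    60917580127036133015643)))) (.node (.node (.leaf (nat_lit 2993065866471558807743)) (.leaf
    (nat_lit 1291877298794004482))) (.node (.leaf (nat_lit 290090324624277612)) (.leaf (nat_lit
    75506743612363681534579608715321))))) (.node (.node (.node (.leaf (nat_lit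
    8909978087622409650330)) (.leaf (nat_lit 46768489996488584396922))) (.node (.leaf (nat_lit 0))
    (.leaf (nat_lit 2151197992678249279342772470)))) (.node (.node (.leaf (nat_lit
    5492901574761181806731)) (.leaf (nat_lit 968886979221651458))) (.node (.leaf (nat_lit
    37217441532786753339502)) (.leaf (nat_lit 2330275673280378731174821923))))))))) (.node (.node
    (.node (.node (.node (.node (.node (.node (.leaf (nat_lit 0)) (.leaf (nat_lit
    75550956259612804972716))) (.leaf (nat_lit 38208611460663918919839))) (.node (.leaf (nat_lit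
    14859018439592331378719)) (.leaf (nat_lit 895281925646843906)))) (.node (.node (.leaf (nat_lit
    9832414371332913037404)) (.leaf (nat_lit 1560919475559164679039484104))) (.node (.leaf (nat_lit
    28717648484849143709880)) (.leaf (nat_lit 775384632223989762))))) (.node (.node (.node (.node
    (.leaf (nat_lit 3800096556492490211359)) (.leaf (nat_lit 75758497194129295081611))) (.leaf
    (nat_lit 0))) (.node (.leaf (nat_lit 19660351179383606804482)) (.leaf (nat_lit
    1328337533867786242)))) (.node (.node (.leaf (nat_lit 3108369698968410718284)) (.leaf (nat_lit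
    41843415088532233060354))) (.node (.leaf (nat_lit 10242854167488206405722)) (.leaf (nat_lit
    63499676622361473515672)))))) (.node (.node (.node (.node (.node (.leaf (nat_lit 0)) (.leaf
    (nat_lit 78350282043691861475412))) (.leaf (nat_lit 40459479324745820995770))) (.node (.leaf
    (nat_lit 21666358038087050920109)) (.leaf (nat_lit 57324440582884484644866)))) (.node (.node
    (.leaf (nat_lit 0)) (.leaf (nat_lit 49935894418989493977096))) (.node (.leaf (nat_lit
    22219334215988280492253)) (.leaf (nat_lit 0))))) (.node (.node (.node (.leaf (nat_lit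
    175597923413336903343407133)) (.leaf (nat_lit 42704862076327245840540))) (.node (.leaf (nat_lit
    7942855109557839997247714296018)) (.leaf (nat_lit 1002251298789261314)))) (.node (.node (.leaf
    (nat_lit 280364852218822658)) (.leaf (nat_lit 30613990583243123130370))) (.node (.leaf (nat_lit
    0)) (.leaf (nat_lit 2411094745739331817013772463))))))) (.node (.node (.node (.node (.node
    (.node (.leaf (nat_lit 48696669914660875)) (.leaf (nat_lit 77127111984919974445127))) (.leaf
    (nat_lit 19185199763505272782904))) (.node (.leaf (nat_lit 20430392266322895634524)) (.leaf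
    (nat_lit 1100621185332412418)))) (.node (.node (.leaf (nat_lit 10865195460807874510884)) (.leaf
    (nat_lit 0))) (.node (.leaf (nat_lit 909420941271982423769612448)) (.leaf (nat_lit
    2269883153255800460242373885387211033))))) (.node (.node (.node (.node (.leaf (nat_lit 0))
    (.leaf (nat_lit 78991026055772079587399))) (.leaf (nat_lit 0))) (.node (.leaf (nat_lit
    25216879456972716572724)) (.leaf (nat_lit 1748439623803207682)))) (.node (.node (.leaf (nat_lit
    0)) (.leaf (nat_lit 1568849749619113986))) (.node (.leaf (nat_lit 0)) (.leaf (nat_lit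
    70002835360379398455345)))))) (.node (.node (.node (.node (.node (.leaf (nat_lit
    2296690854043914010714)) (.leaf (nat_lit 76344004269609710714917))) (.leaf (nat_lit
    890625700061642754))) (.node (.leaf (nat_lit 24526480465704629073645278658608)) (.leaf (nat_lit
    51758537500245035778114)))) (.node (.node (.leaf (nat_lit 0)) (.leaf (nat_lit
    1535956220066838433155514545))) (.node (.leaf (nat_lit 561427201045804015558066353)) (.leaf
    (nat_lit 2138852778074833004))))) (.node (.node (.node (.leaf (nat_lit 1641807096239785967650))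
    (.leaf (nat_lit 45102771188660367982622))) (.node (.leaf (nat_lit 27582734603861776072753))
    (.leaf (nat_lit 39971476304031276793858)))) (.node (.node (.leaf (nat_lit
    14683751992514750644266)) (.leaf (nat_lit 210171110778601474))) (.node (.leaf (nat_lit
    29985718173171259211873)) (.leaf (nat_lit
    1072402040413596333058778607173950364250013918)))))))) (.node (.node (.node (.node (.node
    (.node (.node (.leaf (nat_lit 986907564266320232489)) (.leaf (nat_lit 0))) (.leaf (nat_lit
    21924624855960878514403))) (.node (.leaf (nat_lit 137368263881411044646846659)) (.leaf (nat_lit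
    1142980291699277826)))) (.node (.node (.leaf (nat_lit 340616671608786650715652121)) (.leaf
    (nat_lit 48234984734864166813724))) (.node (.leaf (nat_lit 0)) (.leaf (nat_lit
    49028875543944516873108848967815))))) (.node (.node (.node (.node (.leaf (nat_lit
    175221402817921132)) (.leaf (nat_lit 80954843894431397118207))) (.leaf (nat_lit
    24977336106051464003654))) (.node (.leaf (nat_lit 20512951414115212132361)) (.leaf (nat_lit
    1442194471184891906)))) (.node (.node (.leaf (nat_lit 376346187189583883)) (.leaf (nat_lit
    30055954055580753264642))) (.node (.leaf (nat_lit 825597842205835465)) (.leaf (nat_lit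
    1404540883613081679494906069)))))) (.node (.node (.node (.node (.node (.leaf (nat_lit
    87347694462049784556683362)) (.leaf (nat_lit 80596805022362551879596931088638))) (.leaf
    (nat_lit 25134093036811224023120))) (.node (.leaf (nat_lit 17985717074503315685413)) (.leaf
    (nat_lit 1040808062019043330)))) (.node (.node (.leaf (nat_lit 11792404998006660857920)) (.leaf
    (nat_lit 50596241160733532029067))) (.node (.leaf (nat_lit 977899701241782784758120529)) (.leaf
    (nat_lit 69495465310929996152985))))) (.node (.node (.node (.leaf (nat_lit 0)) (.leaf (nat_lit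
    31037120528369496293417))) (.node (.leaf (nat_lit 28963070630297862008286549967082)) (.leaf
    (nat_lit 64772541487424412516489)))) (.node (.node (.leaf (nat_lit
    229702883725789056295239885)) (.leaf (nat_lit 933420608170098690))) (.node (.leaf (nat_lit
    36108518870704087656260060905587)) (.leaf (nat_lit 36959881689611001593868))))))) (.node (.node
    (.node (.node (.node (.node (.leaf (nat_lit 24330185539379357425074181)) (.leaf (nat_lit
    2547433797516690769756553358))) (.leaf (nat_lit 0))) (.node (.leaf (nat_lit
    14928158828629487452235)) (.leaf (nat_lit 1117929826225881090)))) (.node (.node (.leaf (nat_lit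
    381275020080388894982668448)) (.leaf (nat_lit 0))) (.node (.leaf (nat_lit
    27329685806197548187711)) (.leaf (nat_lit 68287218348823878500418))))) (.node (.node (.node
    (.leaf (nat_lit 6498061231519749570650)) (.leaf (nat_lit 43889873275824543826102))) (.node
    (.leaf (nat_lit 0)) (.leaf (nat_lit 1796290653311860738)))) (.node (.node (.leaf (nat_lit
    266712723142868994)) (.leaf (nat_lit 1026025480370913282))) (.node (.leaf (nat_lit 0)) (.leaf
    (nat_lit 77348523022598970098500638146770)))))) (.node (.node (.node (.node (.node (.leaf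
    (nat_lit 970553605304733046357524545697)) (.leaf (nat_lit 85978795115141502224043274993921)))
    (.leaf (nat_lit 0))) (.node (.leaf (nat_lit 27010737501135184412831890404715553816676)) (.leaf
    (nat_lit 1357047818283515906)))) (.node (.node (.leaf (nat_lit 449885503683253031502348386))
    (.leaf (nat_lit 1422904218280394754))) (.node (.leaf (nat_lit 311608866728146599451820248))
    (.leaf (nat_lit 70666959379577977372829))))) (.node (.node (.node (.leaf (nat_lit 0)) (.leaf
    (nat_lit 1480072598265926493264937138))) (.node (.leaf (nat_lit 824350649848991206430998586))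
    (.leaf (nat_lit 65925972474160151199913)))) (.node (.node (.leaf (nat_lit
    16633115751533170257521921032449)) (.leaf (nat_lit 803379881894346754))) (.node (.leaf (nat_lit
    37539625672669636263975)) (.leaf (nat_lit 72968322017120531709995)))))))))) (.node (.node
    (.node (.node (.node (.node (.node (.node (.node (.leaf (nat_lit 179864199131178401813)) (.leaf
    (nat_lit 2483661742832417710952153376))) (.leaf (nat_lit 1247194891680838398075207793))) (.node
    (.leaf (nat_lit 627896837547348567179657329)) (.leaf (nat_lit 33270360015157120401410))))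
    (.node (.node (.leaf (nat_lit 9707662684088598462682)) (.leaf (nat_lit
    20523452538140942860461))) (.node (.leaf (nat_lit 7047084667721874604075)) (.leaf (nat_lit
    65677043735341897547778))))) (.node (.node (.node (.node (.leaf (nat_lit
    3892333091473366122651)) (.leaf (nat_lit 0))) (.leaf (nat_lit
    28810719869423708343815364739191))) (.node (.leaf (nat_lit 19336951212522120347838)) (.leaf
    (nat_lit 26800377617533131489282)))) (.node (.node (.leaf (nat_lit 14402727090873061015708))
    (.leaf (nat_lit 14025724164705437810690))) (.node (.leaf (nat_lit 970192592005150073386434722))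
    (.leaf (nat_lit 70900720127913628991679)))))) (.node (.node (.node (.node (.node (.leaf
    (nat_lit 2601071418667337711678)) (.leaf (nat_lit 74734485174833236869275))) (.leaf (nat_lit
    1324560942125636702848680056))) (.node (.leaf (nat_lit 0)) (.leaf (nat_lit
    1020117864524414978)))) (.node (.node (.leaf (nat_lit 0)) (.leaf (nat_lit
    42011112041232019861276285272318))) (.node (.leaf (nat_lit 30671757024974835334599999291611))
    (.leaf (nat_lit 2177027068453365864009564195))))) (.node (.node (.node (.leaf (nat_lit
    7231343374955349999634)) (.leaf (nat_lit 0))) (.node (.leaf (nat_lit 26254516692770414067752))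
    (.leaf (nat_lit 63896860015272061501442)))) (.node (.node (.leaf (nat_lit 236313829385043970))
    (.leaf (nat_lit 1398557758076354562))) (.node (.leaf (nat_lit 35700148558202268745886)) (.leaf
    (nat_lit 68724089897807845195927))))))) (.node (.node (.node (.node (.node (.node (.leaf
    (nat_lit 0)) (.leaf (nat_lit 77003456930992447750237))) (.leaf (nat_lit
    26393066992489365438654))) (.node (.leaf (nat_lit
    768522951215943369914219438655331616944554206)) (.leaf (nat_lit 1087248486828736514)))) (.node
    (.node (.leaf (nat_lit 10782184127202093891770)) (.leaf (nat_lit 0))) (.node (.leaf (nat_lit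
    942840234883080851600703565)) (.leaf (nat_lit 2029497473290076162))))) (.node (.node (.node
    (.node (.leaf (nat_lit 5949113531576921292870)) (.leaf (nat_lit 2647628381047188191646580834)))
    (.leaf (nat_lit 28639018182786257453096))) (.node (.leaf (nat_lit 25065277024479018680417))
    (.leaf (nat_lit 1781090626612363266)))) (.node (.node (.leaf (nat_lit 15518794937141205074131))
    (.leaf (nat_lit 20090106485823215173634))) (.node (.leaf (nat_lit 33222855198976468254800))
    (.leaf (nat_lit 23059761395354315194409)))))) (.node (.node (.node (.node (.node (.leaf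
    (nat_lit 0)) (.leaf (nat_lit 2583392256867583854427504802))) (.leaf (nat_lit
    688202467741577214492602217029038020418339095))) (.node (.leaf (nat_lit
    22680421463702959751186)) (.leaf (nat_lit 1113992792914395138)))) (.node (.node (.leaf (nat_lit
    5870789607449862275137)) (.leaf (nat_lit 0))) (.node (.leaf (nat_lit 31992158074709691531374))
    (.leaf (nat_lit 63159120750506921885776))))) (.node (.node (.node (.leaf (nat_lit
    280018983317397402418413662)) (.leaf (nat_lit 0))) (.node (.leaf (nat_lit
    862440012838323260789883094)) (.leaf (nat_lit 1417990930312593410)))) (.node (.node (.leaf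
    (nat_lit 16602178050959297675294)) (.leaf (nat_lit 39403876663794644221954))) (.node (.leaf
    (nat_lit 0)) (.leaf (nat_lit 30955498300703227707574)))))))) (.node (.node (.node (.node (.node
    (.node (.node (.leaf (nat_lit 848555435472277667873)) (.leaf (nat_lit
    76328883571703494672554))) (.leaf (nat_lit 37876446793572364255277))) (.node (.leaf (nat_lit
    15288106775801720143880)) (.leaf (nat_lit 1478216885882454018)))) (.node (.node (.leaf (nat_lit
    2116819483365323505811)) (.leaf (nat_lit 1540520779307921108612939781))) (.node (.leaf (nat_lit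
    875836590063222795)) (.leaf (nat_lit 66986191594341659770945))))) (.node (.node (.node (.node
    (.leaf (nat_lit 148551279701972918005399633)) (.leaf (nat_lit 76546983898847249629197))) (.leaf
    (nat_lit 42824557760274374000720))) (.node (.leaf (nat_lit 0)) (.leaf (nat_lit
    935539470156038146)))) (.node (.node (.leaf (nat_lit 169039729403232267)) (.leaf (nat_lit
    17798091068512699351042))) (.node (.leaf (nat_lit 0)) (.leaf (nat_lit
    70804568980080696688792)))))) (.node (.node (.node (.node (.node (.leaf (nat_lit 0)) (.leaf
    (nat_lit 84603389060114515561836209045774))) (.leaf (nat_lit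
    1442998493914621450593215796040040729))) (.node (.leaf (nat_lit 0)) (.leaf (nat_lit
    1051222352689496066)))) (.node (.node (.leaf (nat_lit 11488053564647462338682)) (.leaf (nat_lit
    0))) (.node (.leaf (nat_lit 0)) (.leaf (nat_lit 22917373197598087212470133653531))))) (.node
    (.node (.node (.leaf (nat_lit 0)) (.leaf (nat_lit 42853067940651954536484))) (.node (.leaf
    (nat_lit 551125339951589651732758538)) (.leaf (nat_lit 19873133918753818607755)))) (.node
    (.node (.leaf (nat_lit 563376827511977157836669180)) (.leaf (nat_lit 1683832866015936514)))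
    (.node (.leaf (nat_lit 0)) (.leaf (nat_lit 74042877650011949301925))))))) (.node (.node (.node
    (.node (.node (.node (.leaf (nat_lit 2052261360125559898174)) (.leaf (nat_lit
    47991140764899449438249))) (.leaf (nat_lit 39813059232948344258612))) (.node (.leaf (nat_lit
    0)) (.leaf (nat_lit 1907723830784736245861056514)))) (.node (.node (.leaf (nat_lit
    376440474321752252129476786)) (.leaf (nat_lit 0))) (.node (.leaf (nat_lit
    30382006645968540467271)) (.leaf (nat_lit 68147604224046880981210))))) (.node (.node (.node
    (.leaf (nat_lit 0)) (.leaf (nat_lit 43774579858580435042375))) (.node (.leaf (nat_lit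
    7526454283226285539336)) (.leaf (nat_lit 1458098391484596226)))) (.node (.node (.leaf (nat_lit
    492737034952245250)) (.leaf (nat_lit 27431918921192436858882))) (.node (.leaf (nat_lit
    1069356134109937675)) (.leaf (nat_lit 0)))))) (.node (.node (.node (.node (.node (.leaf
    (nat_lit 3126806722663546028129)) (.leaf (nat_lit 2548780100051300493191020743))) (.leaf
    (nat_lit 41354248870732675350638))) (.node (.leaf (nat_lit
    1014610943983929200752589313408183703553271863186610867583844596)) (.leaf (nat_lit
    2147404851600966584614052047756853367)))) (.node (.node (.leaf (nat_lit 0)) (.leaf (nat_lit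
    41857232975819366924290))) (.node (.leaf (nat_lit 0)) (.leaf (nat_lit
    688353131576426992471638070))))) (.node (.node (.node (.leaf (nat_lit 9131339157390441512969))
    (.leaf (nat_lit 1465686581207057724155887832))) (.node (.leaf (nat_lit 0)) (.leaf (nat_lit
    55231237149394341134426)))) (.node (.node (.leaf (nat_lit 15809216457997899989089)) (.leaf
    (nat_lit 981975625768239106))) (.node (.leaf (nat_lit 0)) (.leaf (nat_lit
    33414725851959481393994069770471))))))))) (.node (.node (.node (.node (.node (.node (.node
    (.node (.leaf (nat_lit 525735021387360436264)) (.leaf (nat_lit 2493634845997315033915457740)))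
    (.leaf (nat_lit 0))) (.node (.leaf (nat_lit 0)) (.leaf (nat_lit 33888333542369884569602))))
    (.node (.node (.leaf (nat_lit 1669481154228384890976)) (.leaf (nat_lit
    45440316967131155726412))) (.node (.leaf (nat_lit 0)) (.leaf (nat_lit 1397022204188819458)))))
    (.node (.node (.node (.node (.leaf (nat_lit 155519833780387842)) (.leaf (nat_lit 0))) (.leaf
    (nat_lit 923949957170744906532257970))) (.node (.leaf (nat_lit 19826376379818418831362)) (.leaf
    (nat_lit 1379143853063405570)))) (.node (.node (.leaf (nat_lit 246170628388727962959347806))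
    (.leaf (nat_lit 19006346760985954680834))) (.node (.leaf (nat_lit 0)) (.leaf (nat_lit
    2487781847537850596249524768866697503)))))) (.node (.node (.node (.node (.node (.leaf (nat_lit
    2794768844578527313970)) (.leaf (nat_lit 1421588497709713603055321302))) (.leaf (nat_lit
    38102147083342304182314))) (.node (.leaf (nat_lit 0)) (.leaf (nat_lit
    58025416576571248148482)))) (.node (.node (.leaf (nat_lit 11658420375405281345616)) (.leaf
    (nat_lit 1480344922134940606208934172))) (.node (.leaf (nat_lit 0)) (.leaf (nat_lit
    2054897941188178287834431601))))) (.node (.node (.node (.leaf (nat_lit 1494231172354609971256))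
    (.leaf (nat_lit 0))) (.node (.leaf (nat_lit 0)) (.leaf (nat_lit 1068398090114957314)))) (.node
    (.node (.leaf (nat_lit 9103989362010987102336)) (.leaf (nat_lit 397351429125308418))) (.node
    (.leaf (nat_lit 0)) (.leaf (nat_lit
    3360995967755007332292381406206068738733561792467643705283523676761620747))))))) (.node (.node
    (.node (.node (.node (.node (.leaf (nat_lit 16623218872353726415503438)) (.leaf (nat_lit
    2358973047450501228))) (.leaf (nat_lit 0))) (.node (.leaf (nat_lit 19502948825196579193081))
    (.leaf (nat_lit 629606311984841820951805954)))) (.node (.node (.leaf (nat_lit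
    10547241045812339474435)) (.leaf (nat_lit 48982204138640910778539))) (.node (.leaf (nat_lit 0))
    (.leaf (nat_lit 60031359407585870676206))))) (.node (.node (.node (.node (.leaf (nat_lit
    1628122906603062231042)) (.leaf (nat_lit 79351091097951963119774))) (.leaf (nat_lit
    44258972538285701922965))) (.node (.leaf (nat_lit 0)) (.leaf (nat_lit 1761950448455122946))))
    (.node (.node (.leaf (nat_lit 0)) (.leaf (nat_lit 1082883305407381506))) (.node (.leaf (nat_lit
    9131410394456747344084)) (.leaf (nat_lit 2377874032883925727647629507)))))) (.node (.node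
    (.node (.node (.node (.leaf (nat_lit 3597226280815979331669)) (.leaf (nat_lit
    2998665662624389235510176212703258754064842784))) (.leaf (nat_lit 0))) (.node (.leaf (nat_lit
    23003239485293524615221)) (.leaf (nat_lit 60779259511138695708840)))) (.node (.node (.leaf
    (nat_lit 0)) (.leaf (nat_lit 43923264490082224242752))) (.node (.leaf (nat_lit
    418471741324807168067895321)) (.leaf (nat_lit 62143101637981188063269))))) (.node (.node (.node
    (.leaf (nat_lit 1660254121925911183440)) (.leaf (nat_lit 1514225780200493566562402339))) (.node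
    (.leaf (nat_lit 6687138266574659715143)) (.leaf (nat_lit 1348185410966257666)))) (.node (.node
    (.leaf (nat_lit 556493058502426683)) (.leaf (nat_lit 29276623029151302090754))) (.node (.leaf
    (nat_lit 33508810978315282350092)) (.leaf (nat_lit 74093190599261940809761)))))))) (.node
    (.node (.node (.node (.node (.node (.node (.leaf (nat_lit 1079144381005640695848)) (.leaf
    (nat_lit 75010917525944552063167))) (.leaf (nat_lit 0))) (.node (.leaf (nat_lit
    4233686535439070199944)) (.leaf (nat_lit 1003228025891979266)))) (.node (.node (.leaf (nat_lit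
    0)) (.leaf (nat_lit 27993484319746137718981))) (.node (.leaf (nat_lit 29501245528180032471131))
    (.leaf (nat_lit 2116000157909122243789431441024266451722773535585847470621196392))))) (.node
    (.node (.node (.node (.leaf (nat_lit 189198085233809852161327129)) (.leaf (nat_lit
    80443989329862902087714))) (.leaf (nat_lit 43535643772088731500702))) (.node (.leaf (nat_lit
    935962909534902931316422624810424740866424864)) (.leaf (nat_lit 889377711414444034)))) (.node
    (.node (.leaf (nat_lit 15108328422578478841926)) (.leaf (nat_lit 1601854117409263386626)))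
    (.node (.leaf (nat_lit 9615631092672071139418)) (.leaf (nat_lit
    48993222600056418623294395449554)))))) (.node (.node (.node (.node (.node (.leaf (nat_lit
    3412751521188323459164)) (.leaf (nat_lit 57721835701327529967659))) (.leaf (nat_lit
    464393010135051329117356236))) (.node (.leaf (nat_lit 6262815578634703798311)) (.leaf (nat_lit
    1018712594174836738)))) (.node (.node (.leaf (nat_lit 223205234580366550355935261)) (.leaf
    (nat_lit 21039088968491912593592))) (.node (.leaf (nat_lit 29552483706131106168856)) (.leaf
    (nat_lit 50249558047865461473311))))) (.node (.node (.node (.leaf (nat_lit 0)) (.leaf (nat_lit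
    46621841626319378023938152268042))) (.node (.leaf (nat_lit 844289845971154830876737542)) (.leaf
    (nat_lit 1498505729261613094002753739)))) (.node (.node (.leaf (nat_lit
    497477218062301606220922905)) (.leaf (nat_lit 32458673296376454119426))) (.node (.leaf (nat_lit
    36576294871534034681927)) (.leaf (nat_lit 2322115147296677441034256419))))))) (.node (.node
    (.node (.node (.node (.node (.leaf (nat_lit 76749420329505700467885522429542505)) (.leaf
    (nat_lit 74453315738926332444828))) (.leaf (nat_lit 0))) (.node (.leaf (nat_lit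
    21232334038169630736542)) (.leaf (nat_lit 1417421563678031874)))) (.node (.node (.leaf (nat_lit
    11737098401091766386885)) (.leaf (nat_lit 0))) (.node (.leaf (nat_lit 11819976473785181339701))
    (.leaf (nat_lit 2408773400915248031729181069976928361))))) (.node (.node (.node (.leaf (nat_lit
    7069896223179736809630)) (.leaf (nat_lit 0))) (.node (.leaf (nat_lit 779146894726266882))
    (.leaf (nat_lit 1182534981990350850)))) (.node (.node (.leaf (nat_lit 8873383807280744693927))
    (.leaf (nat_lit 1771729134563079110084788226))) (.node (.leaf (nat_lit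
    35335260301507420160013)) (.leaf (nat_lit 1482315154448297001176268869)))))) (.node (.node
    (.node (.node (.node (.leaf (nat_lit 3491145540255395020910)) (.leaf (nat_lit 0))) (.leaf
    (nat_lit 42395660263686878199860))) (.node (.leaf (nat_lit 772370962417392153258098702)) (.leaf
    (nat_lit 1473437729743306754)))) (.node (.node (.leaf (nat_lit 13719857960302938357940)) (.leaf
    (nat_lit 1426000494563819522))) (.node (.leaf (nat_lit 9472653625352568111286)) (.leaf (nat_lit
    2320145550669077354975068360))))) (.node (.node (.node (.leaf (nat_lit 0)) (.leaf (nat_lit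
    47119030490712930189523))) (.node (.leaf (nat_lit 14232089373094541721675)) (.leaf (nat_lit
    2165403299633781147252817945)))) (.node (.node (.leaf (nat_lit 130574844758440175391211633))
    (.leaf (nat_lit 1384907243908104194))) (.node (.leaf (nat_lit
    23506647727429351899779037462545)) (.leaf (nat_lit 2474142183984688868022812753)))))))))))))))

/-- Certificate data. -/
def pt1_rel : Trie :=
    (.node (.node (.node (.node (.node (.node (.node (.node (.node (.leaf (nat_lit 0)) (.leaf
    (nat_lit 30216292613))) (.leaf (nat_lit 252776209))) (.node (.leaf (nat_lit 117900806)) (.leaf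
    (nat_lit 84412421)))) (.node (.node (.node (.leaf (nat_lit 268701443)) (.leaf (nat_lit
    15462101487631))) (.leaf (nat_lit 77394349830))) (.node (.leaf (nat_lit 34527970571)) (.leaf
    (nat_lit 56087416338))))) (.node (.node (.node (.node (.leaf (nat_lit 68092688)) (.leaf
    (nat_lit 3383249053486085))) (.leaf (nat_lit 84543499))) (.node (.leaf (nat_lit 73266893068))
    (.leaf (nat_lit 13271718366226)))) (.node (.node (.node (.leaf (nat_lit 101320459)) (.leaf
    (nat_lit 17448505104))) (.leaf (nat_lit 34376974852))) (.node (.leaf (nat_lit 60432387858))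
    (.leaf (nat_lit 34603280)))))) (.node (.node (.node (.node (.node (.leaf (nat_lit 4479781379))
    (.leaf (nat_lit 13220010788101))) (.leaf (nat_lit 151324933))) (.node (.leaf (nat_lit
    252514062)) (.leaf (nat_lit 8875217425)))) (.node (.node (.node (.leaf (nat_lit 302387205))
    (.leaf (nat_lit 51825610513))) (.leaf (nat_lit 185142025))) (.node (.leaf (nat_lit 202312719))
    (.leaf (nat_lit 3303031309324))))) (.node (.node (.node (.node (.leaf (nat_lit 43050863367))
    (.leaf (nat_lit 13202797363969))) (.leaf (nat_lit 67437062))) (.node (.leaf (nat_lit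
    134546696)) (.leaf (nat_lit 286069006)))) (.node (.node (.leaf (nat_lit 8707571976)) (.leaf
    (nat_lit 251727618))) (.node (.leaf (nat_lit 17433099)) (.leaf (nat_lit
    166887086588946877446))))))) (.node (.node (.node (.node (.node (.node (.leaf (nat_lit
    30115170306)) (.leaf (nat_lit 252710672))) (.leaf (nat_lit 85001743))) (.node (.leaf (nat_lit
    252448524)) (.leaf (nat_lit 67240705)))) (.node (.node (.node (.leaf (nat_lit 285544198))
    (.leaf (nat_lit 64693538825))) (.leaf (nat_lit 16974340))) (.node (.leaf (nat_lit
    1702069971324172)) (.leaf (nat_lit 51512338))))) (.node (.node (.node (.node (.leaf (nat_lit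
    34734353)) (.leaf (nat_lit 73032339970))) (.leaf (nat_lit 17105926))) (.node (.leaf (nat_lit
    84149761)) (.leaf (nat_lit 4412539912)))) (.node (.node (.node (.leaf (nat_lit 73216888588))
    (.leaf (nat_lit 26072125455))) (.leaf (nat_lit 285348353))) (.node (.leaf (nat_lit
    221795820943593702921)) (.leaf (nat_lit 38789318919)))))) (.node (.node (.node (.node (.node
    (.leaf (nat_lit 43000072964)) (.leaf (nat_lit 4449636518914))) (.leaf (nat_lit 8657568007)))
    (.node (.leaf (nat_lit 13137609744)) (.leaf (nat_lit 4598071825)))) (.node (.node (.node (.leaf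
    (nat_lit 269553681)) (.leaf (nat_lit 19843051687696))) (.leaf (nat_lit 17367561))) (.node
    (.leaf (nat_lit 117770245)) (.leaf (nat_lit 34210059))))) (.node (.node (.node (.node (.leaf
    (nat_lit 251793153)) (.leaf (nat_lit 19843001618956))) (.leaf (nat_lit 269422607))) (.node
    (.leaf (nat_lit 30098589697)) (.leaf (nat_lit 185120192242110826767)))) (.node (.node (.leaf
    (nat_lit 33816835)) (.leaf (nat_lit 252055813))) (.node (.leaf (nat_lit 303108625)) (.leaf
    (nat_lit 13202930928642)))))))) (.node (.node (.node (.node (.node (.node (.node (.leaf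
    (nat_lit 84215816)) (.leaf (nat_lit 67560789644863095973460060037513985))) (.leaf (nat_lit
    17648306884366))) (.node (.leaf (nat_lit 38739052808)) (.leaf (nat_lit 19860181225996))))
    (.node (.node (.node (.leaf (nat_lit 285479171)) (.leaf (nat_lit 64693342725))) (.leaf (nat_lit
    151062786))) (.node (.leaf (nat_lit 3672394808298502)) (.leaf (nat_lit 14358345223696)))))
    (.node (.node (.node (.node (.leaf (nat_lit 21744256530)) (.leaf (nat_lit 68821320975))) (.leaf
    (nat_lit 33948677))) (.node (.leaf (nat_lit 84215045)) (.leaf (nat_lit 184617474)))) (.node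
    (.node (.node (.leaf (nat_lit 235867407)) (.leaf (nat_lit 111332367124245383436))) (.leaf
    (nat_lit 85067280))) (.node (.leaf (nat_lit 6648693591046)) (.leaf (nat_lit
    1871445724759001977489982988)))))) (.node (.node (.node (.node (.node (.leaf (nat_lit
    167840514)) (.leaf (nat_lit 56137551378))) (.leaf (nat_lit 68971401219))) (.node (.leaf
    (nat_lit 50463745)) (.leaf (nat_lit 77594759425)))) (.node (.node (.node (.leaf (nat_lit
    235998481)) (.leaf (nat_lit 16561680027661))) (.leaf (nat_lit 151652618))) (.node (.leaf
    (nat_lit 723723)) (.leaf (nat_lit 100861185))))) (.node (.node (.node (.node (.leaf (nat_lit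
    151980303)) (.leaf (nat_lit 17364617730))) (.leaf (nat_lit 184879624))) (.node (.leaf (nat_lit
    117835271)) (.leaf (nat_lit 14366935027216)))) (.node (.node (.leaf (nat_lit 4429317891))
    (.leaf (nat_lit 3384348431420422))) (.node (.leaf (nat_lit 64626953233)) (.leaf (nat_lit
    219090447))))))) (.node (.node (.node (.node (.node (.node (.leaf (nat_lit 184683009)) (.leaf
    (nat_lit 3384352826592262))) (.leaf (nat_lit 34275594))) (.node (.leaf (nat_lit 252579597))
    (.leaf (nat_lit 12902203911)))) (.node (.node (.node (.leaf (nat_lit 302059778)) (.leaf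
    (nat_lit 68871522575))) (.leaf (nat_lit 151390470))) (.node (.leaf (nat_lit
    1561955992499115345553655052)) (.leaf (nat_lit 47362737672))))) (.node (.node (.node (.node
    (.leaf (nat_lit 168299269)) (.leaf (nat_lit 16553073250576))) (.leaf (nat_lit 17760783)))
    (.node (.leaf (nat_lit 84477193)) (.leaf (nat_lit 13052806155)))) (.node (.node (.leaf (nat_lit
    303043088)) (.leaf (nat_lit 302191108))) (.node (.leaf (nat_lit 25904744202)) (.leaf (nat_lit
    64710512908)))))) (.node (.node (.node (.node (.node (.leaf (nat_lit 34544749062)) (.leaf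
    (nat_lit 1703195152483852))) (.leaf (nat_lit 68289298))) (.node (.leaf (nat_lit 251858948))
    (.leaf (nat_lit 26072125200)))) (.node (.node (.node (.leaf (nat_lit 13228668029703)) (.leaf
    (nat_lit 222010867838618437893))) (.leaf (nat_lit 17498634))) (.node (.leaf (nat_lit
    30149380106)) (.leaf (nat_lit 21659912711))))) (.node (.node (.node (.node (.leaf (nat_lit
    277352792208243099915)) (.leaf (nat_lit 73316569345))) (.leaf (nat_lit 68971532805))) (.node
    (.leaf (nat_lit 286265616)) (.leaf (nat_lit 73216887823)))) (.node (.node (.leaf (nat_lit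
    101189127)) (.leaf (nat_lit 84346120))) (.node (.leaf (nat_lit 68223761)) (.leaf (nat_lit
    34460993289))))))))) (.node (.node (.node (.node (.node (.node (.node (.node (.leaf (nat_lit
    134612742)) (.leaf (nat_lit 6623041225996))) (.leaf (nat_lit 64660573458))) (.node (.leaf
    (nat_lit 38789514503)) (.leaf (nat_lit 68770860804)))) (.node (.node (.node (.leaf (nat_lit
    17347838219)) (.leaf (nat_lit 17665436421391))) (.leaf (nat_lit 77528698638))) (.node (.leaf
    (nat_lit 3946198856369420)) (.leaf (nat_lit 286396690))))) (.node (.node (.node (.node (.leaf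
    (nat_lit 101647633)) (.leaf (nat_lit 13258833660946))) (.leaf (nat_lit 33882886))) (.node
    (.leaf (nat_lit 77528502798)) (.leaf (nat_lit 50398210)))) (.node (.node (.node (.leaf (nat_lit
    8657765130)) (.leaf (nat_lit 25921259784))) (.leaf (nat_lit 167906049))) (.node (.leaf (nat_lit
    1151085054979)) (.leaf (nat_lit 51381263)))))) (.node (.node (.node (.node (.node (.leaf
    (nat_lit 657930)) (.leaf (nat_lit 10466833173631334877053310143169550))) (.leaf (nat_lit
    151718155))) (.node (.leaf (nat_lit 50725381)) (.leaf (nat_lit 8875217170)))) (.node (.node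
    (.node (.leaf (nat_lit 302584329)) (.leaf (nat_lit 64727421453))) (.leaf (nat_lit 101254665)))
    (.node (.leaf (nat_lit 51825806353)) (.leaf (nat_lit 100926722))))) (.node (.node (.node (.node
    (.leaf (nat_lit 8839295076108)) (.leaf (nat_lit 38772738054))) (.leaf (nat_lit 50659590)))
    (.node (.leaf (nat_lit 134939914)) (.leaf (nat_lit 15462101356561)))) (.node (.node (.leaf
    (nat_lit 65793)) (.leaf (nat_lit 268505090))) (.node (.leaf (nat_lit 166817562265555372815))
    (.leaf (nat_lit 1702069988492812))))))) (.node (.node (.node (.node (.node (.node (.leaf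
    (nat_lit 100795651)) (.leaf (nat_lit 51792382993))) (.leaf (nat_lit 5519234696716))) (.node
    (.leaf (nat_lit 269225996)) (.leaf (nat_lit 17448505359)))) (.node (.node (.node (.leaf
    (nat_lit 285806857)) (.leaf (nat_lit 64576555280))) (.leaf (nat_lit 34144521))) (.node (.leaf
    (nat_lit 3383248902950405)) (.leaf (nat_lit 13198635895809))))) (.node (.node (.node (.node
    (.leaf (nat_lit 168233734)) (.leaf (nat_lit 167104385283919515402))) (.leaf (nat_lit
    17171205))) (.node (.leaf (nat_lit 84018692)) (.leaf (nat_lit 17314154242)))) (.node (.node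
    (.leaf (nat_lit 302977551)) (.leaf (nat_lit 285413636))) (.node (.leaf (nat_lit
    16540037285898)) (.leaf (nat_lit 203997594155368517385)))))) (.node (.node (.node (.node (.node
    (.leaf (nat_lit 47379515141)) (.leaf (nat_lit 64492667664))) (.leaf (nat_lit 11059725798408)))
    (.node (.leaf (nat_lit 68787634959)) (.leaf (nat_lit 101058054)))) (.node (.node (.node (.leaf
    (nat_lit 269619218)) (.leaf (nat_lit 73216758028))) (.leaf (nat_lit 68971728905))) (.node
    (.leaf (nat_lit 21592868873)) (.leaf (nat_lit 2250597204492))))) (.node (.node (.node (.node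
    (.leaf (nat_lit 252251913)) (.leaf (nat_lit 3393114559810565))) (.leaf (nat_lit 268767750)))
    (.node (.leaf (nat_lit 33751300)) (.leaf (nat_lit 166384372250577536268)))) (.node (.node
    (.leaf (nat_lit 17039875)) (.leaf (nat_lit 251990278))) (.node (.leaf (nat_lit 17891858))
    (.leaf (nat_lit 83953155)))))))) (.node (.node (.node (.node (.node (.node (.node (.leaf
    (nat_lit 34511062793)) (.leaf (nat_lit 73032405250))) (.leaf (nat_lit 18760669728781))) (.node
    (.leaf (nat_lit 30232938507)) (.leaf (nat_lit 67175170)))) (.node (.node (.node (.leaf (nat_lit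
    285609733)) (.leaf (nat_lit 38923735055))) (.leaf (nat_lit 100730116))) (.node (.leaf (nat_lit
    5549198806021)) (.leaf (nat_lit 30216291849))))) (.node (.node (.node (.node (.leaf (nat_lit
    152176914)) (.leaf (nat_lit 51825611023))) (.leaf (nat_lit 34537743))) (.node (.leaf (nat_lit
    84084226)) (.leaf (nat_lit 47295627780)))) (.node (.node (.node (.leaf (nat_lit 286200079))
    (.leaf (nat_lit 60432388623))) (.leaf (nat_lit 2216404648204))) (.node (.leaf (nat_lit
    13215699043846)) (.leaf (nat_lit 1420590699580430)))))) (.node (.node (.node (.node (.node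
    (.leaf (nat_lit 168364553)) (.leaf (nat_lit 72733042086572084201290438101828100))) (.leaf
    (nat_lit 68770795524))) (.node (.leaf (nat_lit 12902401034)) (.leaf (nat_lit 77394284550))))
    (.node (.node (.node (.leaf (nat_lit 252841746)) (.leaf (nat_lit
    15598203881046221456283585959100685))) (.leaf (nat_lit 152111377))) (.node (.leaf (nat_lit
    117835782)) (.leaf (nat_lit 93100950321042361353))))) (.node (.node (.node (.node (.leaf
    (nat_lit 38924126480)) (.leaf (nat_lit 101123846))) (.leaf (nat_lit 134743301))) (.node (.leaf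
    (nat_lit 118162954)) (.leaf (nat_lit 202378256)))) (.node (.node (.leaf (nat_lit
    1151068799244)) (.leaf (nat_lit 1420590700168460))) (.node (.leaf (nat_lit 17656813063186))
    (.leaf (nat_lit 219221521))))))) (.node (.node (.node (.node (.node (.node (.leaf (nat_lit
    184945159)) (.leaf (nat_lit 3721130452718480676171942918))) (.leaf (nat_lit 151128321))) (.node
    (.leaf (nat_lit 286134541)) (.leaf (nat_lit 131586)))) (.node (.node (.node (.leaf (nat_lit
    302256643)) (.leaf (nat_lit 21727544850))) (.leaf (nat_lit 101778703))) (.node (.leaf (nat_lit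
    3384348431353357)) (.leaf (nat_lit 13154321424))))) (.node (.node (.node (.node (.leaf (nat_lit
    43067443976)) (.leaf (nat_lit 1420629237302540))) (.leaf (nat_lit 67502341))) (.node (.leaf
    (nat_lit 84870673)) (.leaf (nat_lit 17648273330446)))) (.node (.node (.leaf (nat_lit
    19843051949836)) (.leaf (nat_lit 64526353680))) (.node (.leaf (nat_lit 101713170)) (.leaf
    (nat_lit 17826320)))))) (.node (.node (.node (.node (.node (.leaf (nat_lit 12124894530063))
    (.leaf (nat_lit 64693211139))) (.leaf (nat_lit 18752096505616))) (.node (.leaf (nat_lit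
    68871524105)) (.leaf (nat_lit 13207041999364)))) (.node (.node (.node (.leaf (nat_lit
    101058311)) (.leaf (nat_lit 5456206193085074097176824688741635))) (.leaf (nat_lit
    34393752321))) (.node (.leaf (nat_lit 42983492355)) (.leaf (nat_lit 73049112850))))) (.node
    (.node (.node (.node (.leaf (nat_lit 268570625)) (.leaf (nat_lit 77545475343))) (.leaf (nat_lit
    17656846486801))) (.node (.leaf (nat_lit 134547205)) (.leaf (nat_lit 77561991693)))) (.node
    (.node (.leaf (nat_lit 101123592)) (.leaf (nat_lit 84411655))) (.node (.leaf (nat_lit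
    51446801)) (.leaf (nat_lit 7748255878923))))))))))

/-- Certificate data. -/
def pt1_rc : Trie :=
    (.node (.node (.node (.node (.node (.node (.node (.node (.node (.leaf (nat_lit 124)) (.leaf
    (nat_lit 131095))) (.leaf (nat_lit 131136))) (.node (.leaf (nat_lit 262158)) (.leaf (nat_lit
    131087)))) (.node (.node (.node (.leaf (nat_lit 82)) (.leaf (nat_lit 101))) (.leaf (nat_lit
    524385))) (.node (.leaf (nat_lit 524321)) (.leaf (nat_lit 131176))))) (.node (.node (.node
    (.node (.leaf (nat_lit 393298)) (.leaf (nat_lit 393264))) (.leaf (nat_lit 262174))) (.node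
    (.leaf (nat_lit 262263)) (.leaf (nat_lit 524409)))) (.node (.node (.node (.leaf (nat_lit
    393247)) (.leaf (nat_lit 393300))) (.leaf (nat_lit 393226))) (.node (.leaf (nat_lit 393320))
    (.leaf (nat_lit 393292)))))) (.node (.node (.node (.node (.node (.leaf (nat_lit 131101)) (.leaf
    (nat_lit 131118))) (.leaf (nat_lit 131092))) (.node (.leaf (nat_lit 262242)) (.leaf (nat_lit
    79)))) (.node (.node (.node (.leaf (nat_lit 92)) (.leaf (nat_lit 393334))) (.leaf (nat_lit
    131107))) (.node (.leaf (nat_lit 131186)) (.leaf (nat_lit 393260))))) (.node (.node (.node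
    (.node (.leaf (nat_lit 131104)) (.leaf (nat_lit 131116))) (.leaf (nat_lit 393223))) (.node
    (.leaf (nat_lit 393231)) (.leaf (nat_lit 262246)))) (.node (.node (.leaf (nat_lit 524299))
    (.leaf (nat_lit 262218))) (.node (.leaf (nat_lit 262170)) (.leaf (nat_lit 131115))))))) (.node
    (.node (.node (.node (.node (.node (.leaf (nat_lit 393227)) (.leaf (nat_lit 131134))) (.leaf
    (nat_lit 131162))) (.node (.leaf (nat_lit 114)) (.leaf (nat_lit 8)))) (.node (.node (.node
    (.leaf (nat_lit 262238)) (.leaf (nat_lit 108))) (.leaf (nat_lit 262153))) (.node (.leaf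
    (nat_lit 786481)) (.leaf (nat_lit 131160))))) (.node (.node (.node (.node (.leaf (nat_lit
    393296)) (.leaf (nat_lit 262222))) (.leaf (nat_lit 262148))) (.node (.leaf (nat_lit 131076))
    (.leaf (nat_lit 262154)))) (.node (.node (.node (.leaf (nat_lit 524407)) (.leaf (nat_lit 97)))
    (.leaf (nat_lit 80))) (.node (.leaf (nat_lit 43)) (.leaf (nat_lit 131094)))))) (.node (.node
    (.node (.node (.node (.leaf (nat_lit 393245)) (.leaf (nat_lit 655404))) (.leaf (nat_lit 10)))
    (.node (.leaf (nat_lit 131156)) (.leaf (nat_lit 393295)))) (.node (.node (.node (.leaf (nat_lit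
    131140)) (.leaf (nat_lit 524408))) (.leaf (nat_lit 262162))) (.node (.leaf (nat_lit 131084))
    (.leaf (nat_lit 393243))))) (.node (.node (.node (.node (.leaf (nat_lit 74)) (.leaf (nat_lit
    262264))) (.leaf (nat_lit 62))) (.node (.leaf (nat_lit 131082)) (.leaf (nat_lit 36)))) (.node
    (.node (.leaf (nat_lit 9)) (.leaf (nat_lit 94))) (.node (.leaf (nat_lit 72)) (.leaf (nat_lit
    41)))))))) (.node (.node (.node (.node (.node (.node (.node (.leaf (nat_lit 262159)) (.leaf
    (nat_lit 131122))) (.leaf (nat_lit 655461))) (.node (.leaf (nat_lit 393239)) (.leaf (nat_lit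
    393337)))) (.node (.node (.node (.leaf (nat_lit 86)) (.leaf (nat_lit 96))) (.leaf (nat_lit
    393234))) (.node (.leaf (nat_lit 131121)) (.leaf (nat_lit 131172))))) (.node (.node (.node
    (.node (.leaf (nat_lit 393313)) (.leaf (nat_lit 524384))) (.leaf (nat_lit 131079))) (.node
    (.leaf (nat_lit 2)) (.leaf (nat_lit 393242)))) (.node (.node (.node (.leaf (nat_lit 393314))
    (.leaf (nat_lit 262187))) (.leaf (nat_lit 131164))) (.node (.leaf (nat_lit 655406)) (.leaf
    (nat_lit 53)))))) (.node (.node (.node (.node (.node (.leaf (nat_lit 262171)) (.leaf (nat_lit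
    393321))) (.leaf (nat_lit 262229))) (.node (.leaf (nat_lit 131081)) (.leaf (nat_lit 262223))))
    (.node (.node (.node (.leaf (nat_lit 393318)) (.leaf (nat_lit 100))) (.leaf (nat_lit 131106)))
    (.node (.leaf (nat_lit 25)) (.leaf (nat_lit 393222))))) (.node (.node (.node (.node (.leaf
    (nat_lit 131178)) (.leaf (nat_lit 524316))) (.leaf (nat_lit 393246))) (.node (.leaf (nat_lit
    131086)) (.leaf (nat_lit 524389)))) (.node (.node (.leaf (nat_lit 131083)) (.leaf (nat_lit
    655409))) (.node (.leaf (nat_lit 131191)) (.leaf (nat_lit 131170))))))) (.node (.node (.node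
    (.node (.node (.node (.leaf (nat_lit 27)) (.leaf (nat_lit 393265))) (.leaf (nat_lit 26)))
    (.node (.leaf (nat_lit 98)) (.leaf (nat_lit 262155)))) (.node (.node (.node (.leaf (nat_lit
    262224)) (.leaf (nat_lit 524396))) (.leaf (nat_lit 21))) (.node (.leaf (nat_lit 131124)) (.leaf
    (nat_lit 393248))))) (.node (.node (.node (.node (.leaf (nat_lit 131102)) (.leaf (nat_lit
    131173))) (.leaf (nat_lit 131146))) (.node (.leaf (nat_lit 20)) (.leaf (nat_lit 262172))))
    (.node (.node (.leaf (nat_lit 70)) (.leaf (nat_lit 262232))) (.node (.leaf (nat_lit 32)) (.leaf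
    (nat_lit 118)))))) (.node (.node (.node (.node (.node (.leaf (nat_lit 524320)) (.leaf (nat_lit
    262193))) (.leaf (nat_lit 393304))) (.node (.leaf (nat_lit 262226)) (.leaf (nat_lit 393312))))
    (.node (.node (.node (.leaf (nat_lit 122)) (.leaf (nat_lit 131114))) (.leaf (nat_lit 131099)))
    (.node (.leaf (nat_lit 262177)) (.leaf (nat_lit 131105))))) (.node (.node (.node (.node (.leaf
    (nat_lit 37)) (.leaf (nat_lit 78))) (.leaf (nat_lit 262241))) (.node (.leaf (nat_lit 68))
    (.leaf (nat_lit 524406)))) (.node (.node (.leaf (nat_lit 131085)) (.leaf (nat_lit 262156)))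
    (.node (.leaf (nat_lit 393302)) (.leaf (nat_lit 22))))))))) (.node (.node (.node (.node (.node
    (.node (.node (.node (.leaf (nat_lit 13)) (.leaf (nat_lit 46))) (.leaf (nat_lit 131177)))
    (.node (.leaf (nat_lit 23)) (.leaf (nat_lit 524373)))) (.node (.node (.node (.leaf (nat_lit
    524317)) (.leaf (nat_lit 655460))) (.leaf (nat_lit 524393))) (.node (.leaf (nat_lit 48)) (.leaf
    (nat_lit 131144))))) (.node (.node (.node (.node (.leaf (nat_lit 393306)) (.leaf (nat_lit
    131192))) (.leaf (nat_lit 393221))) (.node (.leaf (nat_lit 262248)) (.leaf (nat_lit 262152))))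
    (.node (.node (.node (.leaf (nat_lit 28)) (.leaf (nat_lit 524310))) (.leaf (nat_lit 131098)))
    (.node (.leaf (nat_lit 262188)) (.leaf (nat_lit 131154)))))) (.node (.node (.node (.node (.node
    (.leaf (nat_lit 24)) (.leaf (nat_lit 262195))) (.leaf (nat_lit 35))) (.node (.leaf (nat_lit
    131077)) (.leaf (nat_lit 393294)))) (.node (.node (.node (.leaf (nat_lit 112)) (.leaf (nat_lit
    104))) (.leaf (nat_lit 131093))) (.node (.leaf (nat_lit 393335)) (.leaf (nat_lit 7))))) (.node
    (.node (.node (.node (.leaf (nat_lit 655482)) (.leaf (nat_lit 393238))) (.leaf (nat_lit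
    262150))) (.node (.leaf (nat_lit 30)) (.leaf (nat_lit 393316)))) (.node (.node (.leaf (nat_lit
    0)) (.leaf (nat_lit 262220))) (.node (.leaf (nat_lit 262181)) (.leaf (nat_lit 524337)))))))
    (.node (.node (.node (.node (.node (.node (.leaf (nat_lit 5)) (.leaf (nat_lit 131190))) (.leaf
    (nat_lit 393262))) (.node (.leaf (nat_lit 116)) (.leaf (nat_lit 85)))) (.node (.node (.node
    (.leaf (nat_lit 110)) (.leaf (nat_lit 131181))) (.leaf (nat_lit 18))) (.node (.leaf (nat_lit
    655408)) (.leaf (nat_lit 131112))))) (.node (.node (.node (.node (.leaf (nat_lit 262175))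
    (.leaf (nat_lit 262180))) (.leaf (nat_lit 6))) (.node (.leaf (nat_lit 262151)) (.leaf (nat_lit
    524298)))) (.node (.node (.leaf (nat_lit 66)) (.leaf (nat_lit 262230))) (.node (.leaf (nat_lit
    393338)) (.leaf (nat_lit 131109)))))) (.node (.node (.node (.node (.node (.leaf (nat_lit 33))
    (.leaf (nat_lit 131157))) (.leaf (nat_lit 524410))) (.node (.leaf (nat_lit 524372)) (.leaf
    (nat_lit 3)))) (.node (.node (.node (.leaf (nat_lit 131142)) (.leaf (nat_lit 262262))) (.leaf
    (nat_lit 262253))) (.node (.leaf (nat_lit 262167)) (.leaf (nat_lit 131113))))) (.node (.node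
    (.node (.node (.leaf (nat_lit 106)) (.leaf (nat_lit 131120))) (.leaf (nat_lit 262236))) (.node
    (.leaf (nat_lit 393224)) (.leaf (nat_lit 42)))) (.node (.node (.leaf (nat_lit 131080)) (.leaf
    (nat_lit 262234))) (.node (.leaf (nat_lit 131152)) (.leaf (nat_lit 131078)))))))) (.node (.node
    (.node (.node (.node (.node (.node (.leaf (nat_lit 524311)) (.leaf (nat_lit 524367))) (.leaf
    (nat_lit 393317))) (.node (.leaf (nat_lit 262176)) (.leaf (nat_lit 393225)))) (.node (.node
    (.node (.leaf (nat_lit 90)) (.leaf (nat_lit 109))) (.leaf (nat_lit 393220))) (.node (.leaf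
    (nat_lit 262190)) (.leaf (nat_lit 262166))))) (.node (.node (.node (.node (.leaf (nat_lit
    131184)) (.leaf (nat_lit 119))) (.leaf (nat_lit 393290))) (.node (.leaf (nat_lit 262149))
    (.leaf (nat_lit 393244)))) (.node (.node (.node (.leaf (nat_lit 64)) (.leaf (nat_lit 105)))
    (.leaf (nat_lit 44))) (.node (.leaf (nat_lit 524334)) (.leaf (nat_lit 786480)))))) (.node
    (.node (.node (.node (.node (.leaf (nat_lit 34)) (.leaf (nat_lit 51))) (.leaf (nat_lit
    262228))) (.node (.leaf (nat_lit 262173)) (.leaf (nat_lit 262240)))) (.node (.node (.node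
    (.leaf (nat_lit 131138)) (.leaf (nat_lit 50))) (.leaf (nat_lit 131182))) (.node (.leaf (nat_lit
    262157)) (.leaf (nat_lit 262186))))) (.node (.node (.node (.node (.leaf (nat_lit 393325))
    (.leaf (nat_lit 393230))) (.leaf (nat_lit 15))) (.node (.leaf (nat_lit 131103)) (.leaf (nat_lit
    131188)))) (.node (.node (.leaf (nat_lit 40)) (.leaf (nat_lit 524336))) (.node (.leaf (nat_lit
    262265)) (.leaf (nat_lit 131174))))))) (.node (.node (.node (.node (.node (.node (.leaf
    (nat_lit 31)) (.leaf (nat_lit 131125))) (.leaf (nat_lit 131090))) (.node (.leaf (nat_lit 102))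
    (.leaf (nat_lit 1)))) (.node (.node (.node (.leaf (nat_lit 88)) (.leaf (nat_lit 131168)))
    (.leaf (nat_lit 393310))) (.node (.leaf (nat_lit 49)) (.leaf (nat_lit 393301))))) (.node (.node
    (.node (.node (.leaf (nat_lit 393249)) (.leaf (nat_lit 262192))) (.leaf (nat_lit 4))) (.node
    (.leaf (nat_lit 131166)) (.leaf (nat_lit 262244)))) (.node (.node (.leaf (nat_lit 655481))
    (.leaf (nat_lit 131169))) (.node (.leaf (nat_lit 393308)) (.leaf (nat_lit 131148)))))) (.node
    (.node (.node (.node (.node (.leaf (nat_lit 262266)) (.leaf (nat_lit 84))) (.leaf (nat_lit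
    524388))) (.node (.leaf (nat_lit 524397)) (.leaf (nat_lit 524332)))) (.node (.node (.node
    (.leaf (nat_lit 14)) (.leaf (nat_lit 262194))) (.leaf (nat_lit 11))) (.node (.leaf (nat_lit
    131100)) (.leaf (nat_lit 131151))))) (.node (.node (.node (.node (.leaf (nat_lit 76)) (.leaf
    (nat_lit 524392))) (.leaf (nat_lit 262245))) (.node (.leaf (nat_lit 393228)) (.leaf (nat_lit
    262249)))) (.node (.node (.leaf (nat_lit 393229)) (.leaf (nat_lit 12))) (.node (.leaf (nat_lit
    131158)) (.leaf (nat_lit 131194))))))))))

/-- Certificate data. -/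
def pt1_lv : Trie :=
    (.node (.node (.node (.node (.node (.node (.node (.node (.node (.node (.leaf (nat_lit 0))
    (.leaf (nat_lit 1078))) (.leaf (nat_lit 416))) (.node (.node (.leaf (nat_lit 173)) (.leaf
    (nat_lit 1363))) (.leaf (nat_lit 582)))) (.node (.node (.node (.leaf (nat_lit 89)) (.leaf
    (nat_lit 1230))) (.leaf (nat_lit 499))) (.node (.node (.leaf (nat_lit 335)) (.leaf (nat_lit
    1427))) (.leaf (nat_lit 775))))) (.node (.node (.node (.node (.leaf (nat_lit 38)) (.leaf
    (nat_lit 1127))) (.leaf (nat_lit 457))) (.node (.node (.leaf (nat_lit 230)) (.leaf (nat_lit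
    1395))) (.leaf (nat_lit 663)))) (.node (.node (.node (.leaf (nat_lit 127)) (.leaf (nat_lit
    1331))) (.leaf (nat_lit 540))) (.node (.node (.leaf (nat_lit 378)) (.leaf (nat_lit 1459)))
    (.leaf (nat_lit 939)))))) (.node (.node (.node (.node (.node (.leaf (nat_lit 18)) (.leaf
    (nat_lit 1099))) (.leaf (nat_lit 438))) (.node (.node (.leaf (nat_lit 200)) (.leaf (nat_lit
    1379))) (.leaf (nat_lit 619)))) (.node (.node (.node (.leaf (nat_lit 105)) (.leaf (nat_lit
    1272))) (.leaf (nat_lit 518))) (.node (.node (.leaf (nat_lit 359)) (.leaf (nat_lit 1443)))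
    (.leaf (nat_lit 847))))) (.node (.node (.node (.node (.leaf (nat_lit 71)) (.leaf (nat_lit
    1173))) (.leaf (nat_lit 480))) (.node (.node (.leaf (nat_lit 301)) (.leaf (nat_lit 1411)))
    (.leaf (nat_lit 727)))) (.node (.node (.node (.leaf (nat_lit 146)) (.leaf (nat_lit 1347)))
    (.leaf (nat_lit 560))) (.node (.node (.leaf (nat_lit 396)) (.leaf (nat_lit 1475))) (.leaf
    (nat_lit 1060))))))) (.node (.node (.node (.node (.node (.node (.leaf (nat_lit 9)) (.leaf
    (nat_lit 1089))) (.leaf (nat_lit 429))) (.node (.node (.leaf (nat_lit 182)) (.leaf (nat_lit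
    1371))) (.leaf (nat_lit 600)))) (.node (.node (.node (.leaf (nat_lit 97)) (.leaf (nat_lit
    1247))) (.leaf (nat_lit 509))) (.node (.node (.leaf (nat_lit 344)) (.leaf (nat_lit 1435)))
    (.leaf (nat_lit 809))))) (.node (.node (.node (.node (.leaf (nat_lit 51)) (.leaf (nat_lit
    1149))) (.leaf (nat_lit 468))) (.node (.node (.leaf (nat_lit 252)) (.leaf (nat_lit 1403)))
    (.leaf (nat_lit 699)))) (.node (.node (.node (.leaf (nat_lit 137)) (.leaf (nat_lit 1339)))
    (.leaf (nat_lit 551))) (.node (.node (.leaf (nat_lit 387)) (.leaf (nat_lit 1467))) (.leaf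
    (nat_lit 1041)))))) (.node (.node (.node (.node (.node (.leaf (nat_lit 29)) (.leaf (nat_lit
    1109))) (.leaf (nat_lit 448))) (.node (.node (.leaf (nat_lit 209)) (.leaf (nat_lit 1387)))
    (.leaf (nat_lit 645)))) (.node (.node (.node (.leaf (nat_lit 116)) (.leaf (nat_lit 1296)))
    (.leaf (nat_lit 528))) (.node (.node (.leaf (nat_lit 370)) (.leaf (nat_lit 1451))) (.leaf
    (nat_lit 888))))) (.node (.node (.node (.node (.leaf (nat_lit 80)) (.leaf (nat_lit 1191)))
    (.leaf (nat_lit 489))) (.node (.node (.leaf (nat_lit 323)) (.leaf (nat_lit 1419))) (.leaf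
    (nat_lit 752)))) (.node (.node (.node (.leaf (nat_lit 156)) (.leaf (nat_lit 1355))) (.leaf
    (nat_lit 569))) (.node (.leaf (nat_lit 405)) (.leaf (nat_lit 1069)))))))) (.node (.node (.node
    (.node (.node (.node (.node (.leaf (nat_lit 4)) (.leaf (nat_lit 1083))) (.leaf (nat_lit 424)))
    (.node (.node (.leaf (nat_lit 178)) (.leaf (nat_lit 1367))) (.leaf (nat_lit 593)))) (.node
    (.node (.node (.leaf (nat_lit 93)) (.leaf (nat_lit 1236))) (.leaf (nat_lit 505))) (.node (.node
    (.leaf (nat_lit 339)) (.leaf (nat_lit 1431))) (.leaf (nat_lit 798))))) (.node (.node (.node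
    (.node (.leaf (nat_lit 43)) (.leaf (nat_lit 1137))) (.leaf (nat_lit 462))) (.node (.node (.leaf
    (nat_lit 237)) (.leaf (nat_lit 1399))) (.leaf (nat_lit 668)))) (.node (.node (.node (.leaf
    (nat_lit 131)) (.leaf (nat_lit 1335))) (.leaf (nat_lit 545))) (.node (.node (.leaf (nat_lit
    382)) (.leaf (nat_lit 1463))) (.leaf (nat_lit 1024)))))) (.node (.node (.node (.node (.node
    (.leaf (nat_lit 23)) (.leaf (nat_lit 1103))) (.leaf (nat_lit 443))) (.node (.node (.leaf
    (nat_lit 204)) (.leaf (nat_lit 1383))) (.leaf (nat_lit 624)))) (.node (.node (.node (.leaf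
    (nat_lit 112)) (.leaf (nat_lit 1290))) (.leaf (nat_lit 523))) (.node (.node (.leaf (nat_lit
    364)) (.leaf (nat_lit 1447))) (.leaf (nat_lit 864))))) (.node (.node (.node (.node (.leaf
    (nat_lit 76)) (.leaf (nat_lit 1184))) (.leaf (nat_lit 484))) (.node (.node (.leaf (nat_lit
    308)) (.leaf (nat_lit 1415))) (.leaf (nat_lit 738)))) (.node (.node (.node (.leaf (nat_lit
    151)) (.leaf (nat_lit 1351))) (.leaf (nat_lit 565))) (.node (.node (.leaf (nat_lit 400)) (.leaf
    (nat_lit 1479))) (.leaf (nat_lit 1065))))))) (.node (.node (.node (.node (.node (.node (.leaf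
    (nat_lit 13)) (.leaf (nat_lit 1093))) (.leaf (nat_lit 434))) (.node (.node (.leaf (nat_lit
    194)) (.leaf (nat_lit 1375))) (.leaf (nat_lit 610)))) (.node (.node (.node (.leaf (nat_lit
    101)) (.leaf (nat_lit 1260))) (.leaf (nat_lit 514))) (.node (.node (.leaf (nat_lit 354)) (.leaf
    (nat_lit 1439))) (.leaf (nat_lit 822))))) (.node (.node (.node (.node (.leaf (nat_lit 65))
    (.leaf (nat_lit 1159))) (.leaf (nat_lit 474))) (.node (.node (.leaf (nat_lit 260)) (.leaf
    (nat_lit 1407))) (.leaf (nat_lit 714)))) (.node (.node (.node (.leaf (nat_lit 142)) (.leaf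
    (nat_lit 1343))) (.leaf (nat_lit 556))) (.node (.node (.leaf (nat_lit 392)) (.leaf (nat_lit
    1471))) (.leaf (nat_lit 1054)))))) (.node (.node (.node (.node (.node (.leaf (nat_lit 33))
    (.leaf (nat_lit 1116))) (.leaf (nat_lit 452))) (.node (.node (.leaf (nat_lit 222)) (.leaf
    (nat_lit 1391))) (.leaf (nat_lit 649)))) (.node (.node (.node (.leaf (nat_lit 123)) (.leaf
    (nat_lit 1303))) (.leaf (nat_lit 534))) (.node (.node (.leaf (nat_lit 374)) (.leaf (nat_lit
    1455))) (.leaf (nat_lit 919))))) (.node (.node (.node (.node (.leaf (nat_lit 84)) (.leaf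
    (nat_lit 1216))) (.leaf (nat_lit 494))) (.node (.node (.leaf (nat_lit 328)) (.leaf (nat_lit
    1423))) (.leaf (nat_lit 766)))) (.node (.node (.node (.leaf (nat_lit 162)) (.leaf (nat_lit
    1359))) (.leaf (nat_lit 574))) (.node (.leaf (nat_lit 411)) (.leaf (nat_lit 1074)))))))))
    (.node (.node (.node (.node (.node (.node (.node (.node (.leaf (nat_lit 2)) (.leaf (nat_lit
    1081))) (.leaf (nat_lit 422))) (.node (.node (.leaf (nat_lit 176)) (.leaf (nat_lit 1365)))
    (.leaf (nat_lit 586)))) (.node (.node (.node (.leaf (nat_lit 91)) (.leaf (nat_lit 1232)))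
    (.leaf (nat_lit 501))) (.node (.node (.leaf (nat_lit 337)) (.leaf (nat_lit 1429))) (.leaf
    (nat_lit 785))))) (.node (.node (.node (.node (.leaf (nat_lit 41)) (.leaf (nat_lit 1131)))
    (.leaf (nat_lit 459))) (.node (.node (.leaf (nat_lit 235)) (.leaf (nat_lit 1397))) (.leaf
    (nat_lit 665)))) (.node (.node (.node (.leaf (nat_lit 129)) (.leaf (nat_lit 1333))) (.leaf
    (nat_lit 542))) (.node (.node (.leaf (nat_lit 380)) (.leaf (nat_lit 1461))) (.leaf (nat_lit
    948)))))) (.node (.node (.node (.node (.node (.leaf (nat_lit 21)) (.leaf (nat_lit 1101)))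
    (.leaf (nat_lit 441))) (.node (.node (.leaf (nat_lit 202)) (.leaf (nat_lit 1381))) (.leaf
    (nat_lit 622)))) (.node (.node (.node (.leaf (nat_lit 107)) (.leaf (nat_lit 1274))) (.leaf
    (nat_lit 521))) (.node (.node (.leaf (nat_lit 361)) (.leaf (nat_lit 1445))) (.leaf (nat_lit
    855))))) (.node (.node (.node (.node (.leaf (nat_lit 73)) (.leaf (nat_lit 1180))) (.leaf
    (nat_lit 482))) (.node (.node (.leaf (nat_lit 306)) (.leaf (nat_lit 1413))) (.leaf (nat_lit
    731)))) (.node (.node (.node (.leaf (nat_lit 149)) (.leaf (nat_lit 1349))) (.leaf (nat_lit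
    562))) (.node (.node (.leaf (nat_lit 398)) (.leaf (nat_lit 1477))) (.leaf (nat_lit 1062)))))))
    (.node (.node (.node (.node (.node (.node (.leaf (nat_lit 11)) (.leaf (nat_lit 1091))) (.leaf
    (nat_lit 431))) (.node (.node (.leaf (nat_lit 184)) (.leaf (nat_lit 1373))) (.leaf (nat_lit
    608)))) (.node (.node (.node (.leaf (nat_lit 99)) (.leaf (nat_lit 1249))) (.leaf (nat_lit
    511))) (.node (.node (.leaf (nat_lit 348)) (.leaf (nat_lit 1437))) (.leaf (nat_lit 816)))))
    (.node (.node (.node (.node (.leaf (nat_lit 61)) (.leaf (nat_lit 1155))) (.leaf (nat_lit 472)))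
    (.node (.node (.leaf (nat_lit 258)) (.leaf (nat_lit 1405))) (.leaf (nat_lit 709)))) (.node
    (.node (.node (.leaf (nat_lit 139)) (.leaf (nat_lit 1341))) (.leaf (nat_lit 553))) (.node
    (.node (.leaf (nat_lit 389)) (.leaf (nat_lit 1469))) (.leaf (nat_lit 1046)))))) (.node (.node
    (.node (.node (.node (.leaf (nat_lit 31)) (.leaf (nat_lit 1111))) (.leaf (nat_lit 450))) (.node
    (.node (.leaf (nat_lit 216)) (.leaf (nat_lit 1389))) (.leaf (nat_lit 647)))) (.node (.node
    (.node (.leaf (nat_lit 118)) (.leaf (nat_lit 1301))) (.leaf (nat_lit 531))) (.node (.node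
    (.leaf (nat_lit 372)) (.leaf (nat_lit 1453))) (.leaf (nat_lit 906))))) (.node (.node (.node
    (.node (.leaf (nat_lit 82)) (.leaf (nat_lit 1205))) (.leaf (nat_lit 491))) (.node (.node (.leaf
    (nat_lit 326)) (.leaf (nat_lit 1421))) (.leaf (nat_lit 761)))) (.node (.node (.node (.leaf
    (nat_lit 158)) (.leaf (nat_lit 1357))) (.leaf (nat_lit 572))) (.node (.leaf (nat_lit 407))
    (.leaf (nat_lit 1071)))))))) (.node (.node (.node (.node (.node (.node (.node (.leaf (nat_lit
    6)) (.leaf (nat_lit 1086))) (.leaf (nat_lit 427))) (.node (.node (.leaf (nat_lit 180)) (.leaf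
    (nat_lit 1369))) (.leaf (nat_lit 595)))) (.node (.node (.node (.leaf (nat_lit 95)) (.leaf
    (nat_lit 1244))) (.leaf (nat_lit 507))) (.node (.node (.leaf (nat_lit 342)) (.leaf (nat_lit
    1433))) (.leaf (nat_lit 801))))) (.node (.node (.node (.node (.leaf (nat_lit 45)) (.leaf
    (nat_lit 1144))) (.leaf (nat_lit 466))) (.node (.node (.leaf (nat_lit 240)) (.leaf (nat_lit
    1401))) (.leaf (nat_lit 695)))) (.node (.node (.node (.leaf (nat_lit 135)) (.leaf (nat_lit
    1337))) (.leaf (nat_lit 547))) (.node (.node (.leaf (nat_lit 385)) (.leaf (nat_lit 1465)))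
    (.leaf (nat_lit 1032)))))) (.node (.node (.node (.node (.node (.leaf (nat_lit 26)) (.leaf
    (nat_lit 1106))) (.leaf (nat_lit 446))) (.node (.node (.leaf (nat_lit 207)) (.leaf (nat_lit
    1385))) (.leaf (nat_lit 640)))) (.node (.node (.node (.leaf (nat_lit 114)) (.leaf (nat_lit
    1293))) (.leaf (nat_lit 526))) (.node (.node (.leaf (nat_lit 366)) (.leaf (nat_lit 1449)))
    (.leaf (nat_lit 880))))) (.node (.node (.node (.node (.leaf (nat_lit 78)) (.leaf (nat_lit
    1186))) (.leaf (nat_lit 486))) (.node (.node (.leaf (nat_lit 311)) (.leaf (nat_lit 1417)))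
    (.leaf (nat_lit 750)))) (.node (.node (.node (.leaf (nat_lit 153)) (.leaf (nat_lit 1353)))
    (.leaf (nat_lit 567))) (.node (.node (.leaf (nat_lit 402)) (.leaf (nat_lit 1481))) (.leaf
    (nat_lit 1067))))))) (.node (.node (.node (.node (.node (.node (.leaf (nat_lit 16)) (.leaf
    (nat_lit 1097))) (.leaf (nat_lit 436))) (.node (.node (.leaf (nat_lit 198)) (.leaf (nat_lit
    1377))) (.leaf (nat_lit 615)))) (.node (.node (.node (.leaf (nat_lit 103)) (.leaf (nat_lit
    1269))) (.leaf (nat_lit 516))) (.node (.node (.leaf (nat_lit 356)) (.leaf (nat_lit 1441)))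
    (.leaf (nat_lit 839))))) (.node (.node (.node (.node (.leaf (nat_lit 69)) (.leaf (nat_lit
    1166))) (.leaf (nat_lit 476))) (.node (.node (.leaf (nat_lit 265)) (.leaf (nat_lit 1409)))
    (.leaf (nat_lit 717)))) (.node (.node (.node (.leaf (nat_lit 144)) (.leaf (nat_lit 1345)))
    (.leaf (nat_lit 558))) (.node (.node (.leaf (nat_lit 394)) (.leaf (nat_lit 1473))) (.leaf
    (nat_lit 1056)))))) (.node (.node (.node (.node (.node (.leaf (nat_lit 35)) (.leaf (nat_lit
    1120))) (.leaf (nat_lit 454))) (.node (.node (.leaf (nat_lit 224)) (.leaf (nat_lit 1393)))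
    (.leaf (nat_lit 651)))) (.node (.node (.node (.leaf (nat_lit 125)) (.leaf (nat_lit 1323)))
    (.leaf (nat_lit 538))) (.node (.node (.leaf (nat_lit 376)) (.leaf (nat_lit 1457))) (.leaf
    (nat_lit 921))))) (.node (.node (.node (.node (.leaf (nat_lit 86)) (.leaf (nat_lit 1218)))
    (.leaf (nat_lit 496))) (.node (.node (.leaf (nat_lit 332)) (.leaf (nat_lit 1425))) (.leaf
    (nat_lit 769)))) (.node (.node (.node (.leaf (nat_lit 164)) (.leaf (nat_lit 1361))) (.leaf
    (nat_lit 578))) (.node (.leaf (nat_lit 414)) (.leaf (nat_lit 1076)))))))))) (.node (.node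
    (.node (.node (.node (.node (.node (.node (.node (.leaf (nat_lit 1)) (.leaf (nat_lit 1079)))
    (.leaf (nat_lit 417))) (.node (.node (.leaf (nat_lit 175)) (.leaf (nat_lit 1364))) (.leaf
    (nat_lit 584)))) (.node (.node (.node (.leaf (nat_lit 90)) (.leaf (nat_lit 1231))) (.leaf
    (nat_lit 500))) (.node (.node (.leaf (nat_lit 336)) (.leaf (nat_lit 1428))) (.leaf (nat_lit
    780))))) (.node (.node (.node (.node (.leaf (nat_lit 39)) (.leaf (nat_lit 1128))) (.leaf
    (nat_lit 458))) (.node (.node (.leaf (nat_lit 231)) (.leaf (nat_lit 1396))) (.leaf (nat_lit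
    664)))) (.node (.node (.node (.leaf (nat_lit 128)) (.leaf (nat_lit 1332))) (.leaf (nat_lit
    541))) (.node (.node (.leaf (nat_lit 379)) (.leaf (nat_lit 1460))) (.leaf (nat_lit 945))))))
    (.node (.node (.node (.node (.node (.leaf (nat_lit 19)) (.leaf (nat_lit 1100))) (.leaf (nat_lit
    440))) (.node (.node (.leaf (nat_lit 201)) (.leaf (nat_lit 1380))) (.leaf (nat_lit 621))))
    (.node (.node (.node (.leaf (nat_lit 106)) (.leaf (nat_lit 1273))) (.leaf (nat_lit 519)))
    (.node (.node (.leaf (nat_lit 360)) (.leaf (nat_lit 1444))) (.leaf (nat_lit 848))))) (.node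
    (.node (.node (.node (.leaf (nat_lit 72)) (.leaf (nat_lit 1174))) (.leaf (nat_lit 481))) (.node
    (.node (.leaf (nat_lit 304)) (.leaf (nat_lit 1412))) (.leaf (nat_lit 730)))) (.node (.node
    (.node (.leaf (nat_lit 147)) (.leaf (nat_lit 1348))) (.leaf (nat_lit 561))) (.node (.node
    (.leaf (nat_lit 397)) (.leaf (nat_lit 1476))) (.leaf (nat_lit 1061))))))) (.node (.node (.node
    (.node (.node (.node (.leaf (nat_lit 10)) (.leaf (nat_lit 1090))) (.leaf (nat_lit 430))) (.node
    (.node (.leaf (nat_lit 183)) (.leaf (nat_lit 1372))) (.leaf (nat_lit 606)))) (.node (.node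
    (.node (.leaf (nat_lit 98)) (.leaf (nat_lit 1248))) (.leaf (nat_lit 510))) (.node (.node (.leaf
    (nat_lit 345)) (.leaf (nat_lit 1436))) (.leaf (nat_lit 810))))) (.node (.node (.node (.node
    (.leaf (nat_lit 52)) (.leaf (nat_lit 1153))) (.leaf (nat_lit 471))) (.node (.node (.leaf
    (nat_lit 257)) (.leaf (nat_lit 1404))) (.leaf (nat_lit 700)))) (.node (.node (.node (.leaf
    (nat_lit 138)) (.leaf (nat_lit 1340))) (.leaf (nat_lit 552))) (.node (.node (.leaf (nat_lit
    388)) (.leaf (nat_lit 1468))) (.leaf (nat_lit 1043)))))) (.node (.node (.node (.node (.node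
    (.leaf (nat_lit 30)) (.leaf (nat_lit 1110))) (.leaf (nat_lit 449))) (.node (.node (.leaf
    (nat_lit 215)) (.leaf (nat_lit 1388))) (.leaf (nat_lit 646)))) (.node (.node (.node (.leaf
    (nat_lit 117)) (.leaf (nat_lit 1300))) (.leaf (nat_lit 529))) (.node (.node (.leaf (nat_lit
    371)) (.leaf (nat_lit 1452))) (.leaf (nat_lit 902))))) (.node (.node (.node (.node (.leaf
    (nat_lit 81)) (.leaf (nat_lit 1204))) (.leaf (nat_lit 490))) (.node (.node (.leaf (nat_lit
    325)) (.leaf (nat_lit 1420))) (.leaf (nat_lit 759)))) (.node (.node (.node (.leaf (nat_lit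
    157)) (.leaf (nat_lit 1356))) (.leaf (nat_lit 571))) (.node (.leaf (nat_lit 406)) (.leaf
    (nat_lit 1070)))))))) (.node (.node (.node (.node (.node (.node (.node (.leaf (nat_lit 5))
    (.leaf (nat_lit 1085))) (.leaf (nat_lit 425))) (.node (.node (.leaf (nat_lit 179)) (.leaf
    (nat_lit 1368))) (.leaf (nat_lit 594)))) (.node (.node (.node (.leaf (nat_lit 94)) (.leaf
    (nat_lit 1243))) (.leaf (nat_lit 506))) (.node (.node (.leaf (nat_lit 341)) (.leaf (nat_lit
    1432))) (.leaf (nat_lit 800))))) (.node (.node (.node (.node (.leaf (nat_lit 44)) (.leaf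
    (nat_lit 1139))) (.leaf (nat_lit 463))) (.node (.node (.leaf (nat_lit 238)) (.leaf (nat_lit
    1400))) (.leaf (nat_lit 692)))) (.node (.node (.node (.leaf (nat_lit 134)) (.leaf (nat_lit
    1336))) (.leaf (nat_lit 546))) (.node (.node (.leaf (nat_lit 383)) (.leaf (nat_lit 1464)))
    (.leaf (nat_lit 1025)))))) (.node (.node (.node (.node (.node (.leaf (nat_lit 25)) (.leaf
    (nat_lit 1104))) (.leaf (nat_lit 445))) (.node (.node (.leaf (nat_lit 205)) (.leaf (nat_lit
    1384))) (.leaf (nat_lit 634)))) (.node (.node (.node (.leaf (nat_lit 113)) (.leaf (nat_lit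
    1291))) (.leaf (nat_lit 524))) (.node (.node (.leaf (nat_lit 365)) (.leaf (nat_lit 1448)))
    (.leaf (nat_lit 875))))) (.node (.node (.node (.node (.leaf (nat_lit 77)) (.leaf (nat_lit
    1185))) (.leaf (nat_lit 485))) (.node (.node (.leaf (nat_lit 310)) (.leaf (nat_lit 1416)))
    (.leaf (nat_lit 749)))) (.node (.node (.node (.leaf (nat_lit 152)) (.leaf (nat_lit 1352)))
    (.leaf (nat_lit 566))) (.node (.node (.leaf (nat_lit 401)) (.leaf (nat_lit 1480))) (.leaf
    (nat_lit 1066))))))) (.node (.node (.node (.node (.node (.node (.leaf (nat_lit 14)) (.leaf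
    (nat_lit 1095))) (.leaf (nat_lit 435))) (.node (.node (.leaf (nat_lit 195)) (.leaf (nat_lit
    1376))) (.leaf (nat_lit 614)))) (.node (.node (.node (.leaf (nat_lit 102)) (.leaf (nat_lit
    1268))) (.leaf (nat_lit 515))) (.node (.node (.leaf (nat_lit 355)) (.leaf (nat_lit 1440)))
    (.leaf (nat_lit 826))))) (.node (.node (.node (.node (.leaf (nat_lit 66)) (.leaf (nat_lit
    1162))) (.leaf (nat_lit 475))) (.node (.node (.leaf (nat_lit 261)) (.leaf (nat_lit 1408)))
    (.leaf (nat_lit 715)))) (.node (.node (.node (.leaf (nat_lit 143)) (.leaf (nat_lit 1344)))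
    (.leaf (nat_lit 557))) (.node (.node (.leaf (nat_lit 393)) (.leaf (nat_lit 1472))) (.leaf
    (nat_lit 1055)))))) (.node (.node (.node (.node (.node (.leaf (nat_lit 34)) (.leaf (nat_lit
    1117))) (.leaf (nat_lit 453))) (.node (.node (.leaf (nat_lit 223)) (.leaf (nat_lit 1392)))
    (.leaf (nat_lit 650)))) (.node (.node (.node (.leaf (nat_lit 124)) (.leaf (nat_lit 1319)))
    (.leaf (nat_lit 535))) (.node (.node (.leaf (nat_lit 375)) (.leaf (nat_lit 1456))) (.leaf
    (nat_lit 920))))) (.node (.node (.node (.node (.leaf (nat_lit 85)) (.leaf (nat_lit 1217)))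
    (.leaf (nat_lit 495))) (.node (.node (.leaf (nat_lit 329)) (.leaf (nat_lit 1424))) (.leaf
    (nat_lit 768)))) (.node (.node (.node (.leaf (nat_lit 163)) (.leaf (nat_lit 1360))) (.leaf
    (nat_lit 575))) (.node (.leaf (nat_lit 413)) (.leaf (nat_lit 1075))))))))) (.node (.node (.node
    (.node (.node (.node (.node (.node (.leaf (nat_lit 3)) (.leaf (nat_lit 1082))) (.leaf (nat_lit
    423))) (.node (.node (.leaf (nat_lit 177)) (.leaf (nat_lit 1366))) (.leaf (nat_lit 592))))
    (.node (.node (.node (.leaf (nat_lit 92)) (.leaf (nat_lit 1234))) (.leaf (nat_lit 502))) (.node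
    (.node (.leaf (nat_lit 338)) (.leaf (nat_lit 1430))) (.leaf (nat_lit 792))))) (.node (.node
    (.node (.node (.leaf (nat_lit 42)) (.leaf (nat_lit 1134))) (.leaf (nat_lit 461))) (.node (.node
    (.leaf (nat_lit 236)) (.leaf (nat_lit 1398))) (.leaf (nat_lit 667)))) (.node (.node (.node
    (.leaf (nat_lit 130)) (.leaf (nat_lit 1334))) (.leaf (nat_lit 543))) (.node (.node (.leaf
    (nat_lit 381)) (.leaf (nat_lit 1462))) (.leaf (nat_lit 953)))))) (.node (.node (.node (.node
    (.node (.leaf (nat_lit 22)) (.leaf (nat_lit 1102))) (.leaf (nat_lit 442))) (.node (.node (.leaf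
    (nat_lit 203)) (.leaf (nat_lit 1382))) (.leaf (nat_lit 623)))) (.node (.node (.node (.leaf
    (nat_lit 111)) (.leaf (nat_lit 1288))) (.leaf (nat_lit 522))) (.node (.node (.leaf (nat_lit
    363)) (.leaf (nat_lit 1446))) (.leaf (nat_lit 856))))) (.node (.node (.node (.node (.leaf
    (nat_lit 74)) (.leaf (nat_lit 1183))) (.leaf (nat_lit 483))) (.node (.node (.leaf (nat_lit
    307)) (.leaf (nat_lit 1414))) (.leaf (nat_lit 735)))) (.node (.node (.node (.leaf (nat_lit
    150)) (.leaf (nat_lit 1350))) (.leaf (nat_lit 564))) (.node (.node (.leaf (nat_lit 399)) (.leaf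
    (nat_lit 1478))) (.leaf (nat_lit 1064))))))) (.node (.node (.node (.node (.node (.node (.leaf
    (nat_lit 12)) (.leaf (nat_lit 1092))) (.leaf (nat_lit 432))) (.node (.node (.leaf (nat_lit
    188)) (.leaf (nat_lit 1374))) (.leaf (nat_lit 609)))) (.node (.node (.node (.leaf (nat_lit
    100)) (.leaf (nat_lit 1252))) (.leaf (nat_lit 513))) (.node (.node (.leaf (nat_lit 349)) (.leaf
    (nat_lit 1438))) (.leaf (nat_lit 817))))) (.node (.node (.node (.node (.leaf (nat_lit 64))
    (.leaf (nat_lit 1156))) (.leaf (nat_lit 473))) (.node (.node (.leaf (nat_lit 259)) (.leaf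
    (nat_lit 1406))) (.leaf (nat_lit 711)))) (.node (.node (.node (.leaf (nat_lit 140)) (.leaf
    (nat_lit 1342))) (.leaf (nat_lit 554))) (.node (.node (.leaf (nat_lit 391)) (.leaf (nat_lit
    1470))) (.leaf (nat_lit 1047)))))) (.node (.node (.node (.node (.node (.leaf (nat_lit 32))
    (.leaf (nat_lit 1113))) (.leaf (nat_lit 451))) (.node (.node (.leaf (nat_lit 221)) (.leaf
    (nat_lit 1390))) (.leaf (nat_lit 648)))) (.node (.node (.node (.leaf (nat_lit 119)) (.leaf
    (nat_lit 1302))) (.leaf (nat_lit 533))) (.node (.node (.leaf (nat_lit 373)) (.leaf (nat_lit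
    1454))) (.leaf (nat_lit 917))))) (.node (.node (.node (.node (.leaf (nat_lit 83)) (.leaf
    (nat_lit 1208))) (.leaf (nat_lit 493))) (.node (.node (.leaf (nat_lit 327)) (.leaf (nat_lit
    1422))) (.leaf (nat_lit 764)))) (.node (.node (.node (.leaf (nat_lit 160)) (.leaf (nat_lit
    1358))) (.leaf (nat_lit 573))) (.node (.leaf (nat_lit 409)) (.leaf (nat_lit 1073)))))))) (.node
    (.node (.node (.node (.node (.node (.node (.leaf (nat_lit 7)) (.leaf (nat_lit 1088))) (.leaf
    (nat_lit 428))) (.node (.node (.leaf (nat_lit 181)) (.leaf (nat_lit 1370))) (.leaf (nat_lit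
    599)))) (.node (.node (.node (.leaf (nat_lit 96)) (.leaf (nat_lit 1245))) (.leaf (nat_lit
    508))) (.node (.node (.leaf (nat_lit 343)) (.leaf (nat_lit 1434))) (.leaf (nat_lit 802)))))
    (.node (.node (.node (.node (.leaf (nat_lit 48)) (.leaf (nat_lit 1147))) (.leaf (nat_lit 467)))
    (.node (.node (.leaf (nat_lit 251)) (.leaf (nat_lit 1402))) (.leaf (nat_lit 698)))) (.node
    (.node (.node (.leaf (nat_lit 136)) (.leaf (nat_lit 1338))) (.leaf (nat_lit 550))) (.node
    (.node (.leaf (nat_lit 386)) (.leaf (nat_lit 1466))) (.leaf (nat_lit 1037)))))) (.node (.node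
    (.node (.node (.node (.leaf (nat_lit 27)) (.leaf (nat_lit 1107))) (.leaf (nat_lit 447))) (.node
    (.node (.leaf (nat_lit 208)) (.leaf (nat_lit 1386))) (.leaf (nat_lit 641)))) (.node (.node
    (.node (.leaf (nat_lit 115)) (.leaf (nat_lit 1294))) (.leaf (nat_lit 527))) (.node (.node
    (.leaf (nat_lit 369)) (.leaf (nat_lit 1450))) (.leaf (nat_lit 883))))) (.node (.node (.node
    (.node (.leaf (nat_lit 79)) (.leaf (nat_lit 1190))) (.leaf (nat_lit 488))) (.node (.node (.leaf
    (nat_lit 312)) (.leaf (nat_lit 1418))) (.leaf (nat_lit 751)))) (.node (.node (.node (.leaf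
    (nat_lit 155)) (.leaf (nat_lit 1354))) (.leaf (nat_lit 568))) (.node (.leaf (nat_lit 403))
    (.leaf (nat_lit 1068))))))) (.node (.node (.node (.node (.node (.node (.leaf (nat_lit 17))
    (.leaf (nat_lit 1098))) (.leaf (nat_lit 437))) (.node (.node (.leaf (nat_lit 199)) (.leaf
    (nat_lit 1378))) (.leaf (nat_lit 617)))) (.node (.node (.node (.leaf (nat_lit 104)) (.leaf
    (nat_lit 1271))) (.leaf (nat_lit 517))) (.node (.node (.leaf (nat_lit 358)) (.leaf (nat_lit
    1442))) (.leaf (nat_lit 842))))) (.node (.node (.node (.node (.leaf (nat_lit 70)) (.leaf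
    (nat_lit 1170))) (.leaf (nat_lit 479))) (.node (.node (.leaf (nat_lit 267)) (.leaf (nat_lit
    1410))) (.leaf (nat_lit 718)))) (.node (.node (.node (.leaf (nat_lit 145)) (.leaf (nat_lit
    1346))) (.leaf (nat_lit 559))) (.node (.node (.leaf (nat_lit 395)) (.leaf (nat_lit 1474)))
    (.leaf (nat_lit 1059)))))) (.node (.node (.node (.node (.node (.leaf (nat_lit 36)) (.leaf
    (nat_lit 1122))) (.leaf (nat_lit 455))) (.node (.node (.leaf (nat_lit 225)) (.leaf (nat_lit
    1394))) (.leaf (nat_lit 653)))) (.node (.node (.node (.leaf (nat_lit 126)) (.leaf (nat_lit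
    1330))) (.leaf (nat_lit 539))) (.node (.node (.leaf (nat_lit 377)) (.leaf (nat_lit 1458)))
    (.leaf (nat_lit 930))))) (.node (.node (.node (.node (.leaf (nat_lit 87)) (.leaf (nat_lit
    1224))) (.leaf (nat_lit 497))) (.node (.node (.leaf (nat_lit 333)) (.leaf (nat_lit 1426)))
    (.leaf (nat_lit 771)))) (.node (.node (.node (.leaf (nat_lit 171)) (.leaf (nat_lit 1362)))
    (.leaf (nat_lit 581))) (.node (.leaf (nat_lit 415)) (.leaf (nat_lit 1077)))))))))))

/-- Certificate data. -/
def pt1_tb : Trie :=
    (.node (.node (.node (.node (.node (.node (.node (.node (.node (.node (.node (.node (.node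
    (.leaf (nat_lit 0)) (.leaf (nat_lit 8687890))) (.leaf (nat_lit 18954625))) (.node (.leaf
    (nat_lit 8064812)) (.leaf (nat_lit 373219)))) (.node (.node (.leaf (nat_lit 23905117)) (.leaf
    (nat_lit 16130721))) (.node (.leaf (nat_lit 458932)) (.leaf (nat_lit 13907355))))) (.node
    (.node (.node (.node (.leaf (nat_lit 18786359)) (.leaf (nat_lit 19970643))) (.leaf (nat_lit
    852242))) (.node (.leaf (nat_lit 21970661)) (.leaf (nat_lit 10162557)))) (.node (.node (.leaf
    (nat_lit 360579)) (.leaf (nat_lit 12297474))) (.node (.leaf (nat_lit 19638860)) (.leaf (nat_lit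
    1606159)))))) (.node (.node (.node (.node (.node (.leaf (nat_lit 12137124)) (.leaf (nat_lit
    18523961))) (.leaf (nat_lit 12402112))) (.node (.leaf (nat_lit 4698934)) (.leaf (nat_lit
    8173183)))) (.node (.node (.leaf (nat_lit 23937905)) (.leaf (nat_lit 13408269))) (.node (.leaf
    (nat_lit 14752668)) (.leaf (nat_lit 12828521))))) (.node (.node (.node (.node (.leaf (nat_lit
    21577155)) (.leaf (nat_lit 22462477))) (.leaf (nat_lit 15146164))) (.node (.leaf (nat_lit
    21609949)) (.leaf (nat_lit 20429677)))) (.node (.node (.leaf (nat_lit 9703623)) (.leaf (nat_lit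
    18202280))) (.node (.leaf (nat_lit 13211333)) (.leaf (nat_lit 5475851))))))) (.node (.node
    (.node (.node (.node (.node (.leaf (nat_lit 7507085)) (.leaf (nat_lit 8393938))) (.leaf
    (nat_lit 24692051))) (.node (.leaf (nat_lit 4526722)) (.leaf (nat_lit 11867292)))) (.node
    (.node (.leaf (nat_lit 14825103)) (.leaf (nat_lit 11375433))) (.node (.leaf (nat_lit 2458465))
    (.leaf (nat_lit 20036248))))) (.node (.node (.node (.node (.leaf (nat_lit 3019266)) (.leaf
    (nat_lit 18987840))) (.leaf (nat_lit 1322241))) (.node (.leaf (nat_lit 24724833)) (.leaf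
    (nat_lit 11670541)))) (.node (.node (.leaf (nat_lit 3671335)) (.leaf (nat_lit 19741078)))
    (.node (.leaf (nat_lit 8919196)) (.leaf (nat_lit 7474306)))))) (.node (.node (.node (.node
    (.node (.leaf (nat_lit 6457979)) (.leaf (nat_lit 6791908))) (.leaf (nat_lit 20824807))) (.node
    (.leaf (nat_lit 12857815)) (.leaf (nat_lit 4525190)))) (.node (.node (.leaf (nat_lit 18858356))
    (.leaf (nat_lit 19214002))) (.node (.leaf (nat_lit 16589784)) (.leaf (nat_lit 22332495)))))
    (.node (.node (.node (.node (.leaf (nat_lit 5255422)) (.leaf (nat_lit 19383552))) (.leaf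
    (nat_lit 16786440))) (.node (.leaf (nat_lit 17547804)) (.leaf (nat_lit 15901081)))) (.node
    (.node (.leaf (nat_lit 12628726)) (.leaf (nat_lit 18793369))) (.node (.leaf (nat_lit 15310065))
    (.leaf (nat_lit 9703621)))))))) (.node (.node (.node (.node (.node (.node (.node (.leaf
    (nat_lit 3540237)) (.leaf (nat_lit 9999047))) (.leaf (nat_lit 20200166))) (.node (.leaf
    (nat_lit 11506563)) (.leaf (nat_lit 5582108)))) (.node (.node (.leaf (nat_lit 18196059)) (.leaf
    (nat_lit 20528045))) (.node (.leaf (nat_lit 360998)) (.leaf (nat_lit 13744982))))) (.node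
    (.node (.node (.node (.leaf (nat_lit 9539715)) (.leaf (nat_lit 19675620))) (.leaf (nat_lit
    2002008))) (.node (.leaf (nat_lit 19576491)) (.leaf (nat_lit 2921009)))) (.node (.node (.leaf
    (nat_lit 1584679)) (.leaf (nat_lit 19675534))) (.node (.leaf (nat_lit 15644143)) (.leaf
    (nat_lit 6064617)))))) (.node (.node (.node (.node (.node (.leaf (nat_lit 5507063)) (.leaf
    (nat_lit 13087303))) (.leaf (nat_lit 21250180))) (.node (.leaf (nat_lit 19347128)) (.leaf
    (nat_lit 4503052)))) (.node (.node (.leaf (nat_lit 15843116)) (.leaf (nat_lit 4660011))) (.node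
    (.leaf (nat_lit 2885927)) (.leaf (nat_lit 17482168))))) (.node (.node (.node (.node (.leaf
    (nat_lit 18822513)) (.leaf (nat_lit 21217904))) (.leaf (nat_lit 6589143))) (.node (.leaf
    (nat_lit 24331375)) (.leaf (nat_lit 19970647)))) (.node (.node (.leaf (nat_lit 10073382))
    (.leaf (nat_lit 23413297))) (.node (.leaf (nat_lit 10631158)) (.leaf (nat_lit 2394962)))))))
    (.node (.node (.node (.node (.node (.node (.leaf (nat_lit 918546)) (.leaf (nat_lit 12398938)))
    (.leaf (nat_lit 24036275))) (.node (.leaf (nat_lit 11441234)) (.leaf (nat_lit 1082904))))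
    (.node (.node (.leaf (nat_lit 9943608)) (.leaf (nat_lit 5747388))) (.node (.leaf (nat_lit
    9146313)) (.leaf (nat_lit 16956622))))) (.node (.node (.node (.node (.leaf (nat_lit 11703331))
    (.leaf (nat_lit 24659253))) (.leaf (nat_lit 13506581))) (.node (.leaf (nat_lit 22987068))
    (.leaf (nat_lit 3642800)))) (.node (.node (.leaf (nat_lit 1705194)) (.leaf (nat_lit 10632258)))
    (.node (.leaf (nat_lit 8303938)) (.leaf (nat_lit 8457969)))))) (.node (.node (.node (.node
    (.node (.leaf (nat_lit 7146566)) (.leaf (nat_lit 23249367))) (.leaf (nat_lit 22201701))) (.node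
    (.leaf (nat_lit 22265763)) (.leaf (nat_lit 19147082)))) (.node (.node (.leaf (nat_lit
    24069100)) (.leaf (nat_lit 16622563))) (.node (.leaf (nat_lit 18294420)) (.leaf (nat_lit
    558228))))) (.node (.node (.node (.leaf (nat_lit 5747149)) (.leaf (nat_lit 8238733))) (.node
    (.leaf (nat_lit 22889638)) (.leaf (nat_lit 16825978)))) (.node (.node (.leaf (nat_lit 9277449))
    (.leaf (nat_lit 131127))) (.node (.leaf (nat_lit 7842760)) (.leaf (nat_lit 12103649)))))))))
    (.node (.node (.node (.node (.node (.node (.node (.node (.leaf (nat_lit 1475005)) (.leaf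
    (nat_lit 11539347))) (.leaf (nat_lit 17118994))) (.node (.leaf (nat_lit 7639023)) (.leaf
    (nat_lit 6785888)))) (.node (.node (.leaf (nat_lit 11019397)) (.leaf (nat_lit 10162562)))
    (.node (.leaf (nat_lit 4654782)) (.leaf (nat_lit 22298553))))) (.node (.node (.node (.node
    (.leaf (nat_lit 13217871)) (.leaf (nat_lit 12465470))) (.leaf (nat_lit 5769470))) (.node (.leaf
    (nat_lit 20888667)) (.leaf (nat_lit 20232950)))) (.node (.node (.leaf (nat_lit 2360077)) (.leaf
    (nat_lit 21872297))) (.node (.leaf (nat_lit 8163440)) (.leaf (nat_lit 2655404)))))) (.node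
    (.node (.node (.node (.node (.leaf (nat_lit 1257876)) (.leaf (nat_lit 14495752))) (.leaf
    (nat_lit 22594105))) (.node (.leaf (nat_lit 16524223)) (.leaf (nat_lit 13121041)))) (.node
    (.node (.leaf (nat_lit 23544455)) (.leaf (nat_lit 11876217))) (.node (.leaf (nat_lit 15375714))
    (.leaf (nat_lit 16040092))))) (.node (.node (.node (.node (.leaf (nat_lit 4495006)) (.leaf
    (nat_lit 24823195))) (.leaf (nat_lit 15216991))) (.node (.leaf (nat_lit 16563800)) (.leaf
    (nat_lit 17802579)))) (.node (.node (.leaf (nat_lit 6663806)) (.leaf (nat_lit 22855941)))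
    (.node (.leaf (nat_lit 22954272)) (.leaf (nat_lit 14293617))))))) (.node (.node (.node (.node
    (.node (.node (.leaf (nat_lit 6392431)) (.leaf (nat_lit 15348017))) (.leaf (nat_lit 9976415)))
    (.node (.leaf (nat_lit 3708439)) (.leaf (nat_lit 12850747)))) (.node (.node (.leaf (nat_lit
    19179982)) (.leaf (nat_lit 8206108))) (.node (.leaf (nat_lit 6457991)) (.leaf (nat_lit
    22724778))))) (.node (.node (.node (.node (.leaf (nat_lit 13473795)) (.leaf (nat_lit
    21773889))) (.leaf (nat_lit 3511815))) (.node (.leaf (nat_lit 20331307)) (.leaf (nat_lit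
    12103651)))) (.node (.node (.leaf (nat_lit 1967022)) (.leaf (nat_lit 14695199))) (.node (.leaf
    (nat_lit 9114614)) (.leaf (nat_lit 4097487)))))) (.node (.node (.node (.node (.node (.leaf
    (nat_lit 6949777)) (.leaf (nat_lit 22429695))) (.leaf (nat_lit 22823956))) (.node (.leaf
    (nat_lit 18069157)) (.leaf (nat_lit 3083550)))) (.node (.node (.leaf (nat_lit 23380662)) (.leaf
    (nat_lit 21511603))) (.node (.leaf (nat_lit 2657376)) (.leaf (nat_lit 19678590))))) (.node
    (.node (.node (.leaf (nat_lit 11057423)) (.leaf (nat_lit 7900415))) (.node (.leaf (nat_lit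
    22692704)) (.leaf (nat_lit 16557009)))) (.node (.node (.leaf (nat_lit 12293463)) (.leaf
    (nat_lit 24397006))) (.node (.leaf (nat_lit 5709647)) (.leaf (nat_lit 9769185)))))))) (.node
    (.node (.node (.node (.node (.node (.node (.leaf (nat_lit 6097388)) (.leaf (nat_lit 11441261)))
    (.leaf (nat_lit 14727550))) (.node (.leaf (nat_lit 4034980)) (.leaf (nat_lit 2818957)))) (.node
    (.node (.leaf (nat_lit 18523957)) (.leaf (nat_lit 21183720))) (.node (.leaf (nat_lit 8424864))
    (.leaf (nat_lit 19442232))))) (.node (.node (.node (.node (.leaf (nat_lit 11539349)) (.leaf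
    (nat_lit 21314855))) (.leaf (nat_lit 590650))) (.node (.leaf (nat_lit 18692620)) (.leaf
    (nat_lit 15807875)))) (.node (.node (.leaf (nat_lit 7015353)) (.leaf (nat_lit 23380513)))
    (.node (.leaf (nat_lit 3281440)) (.leaf (nat_lit 3376329)))))) (.node (.node (.node (.node
    (.node (.leaf (nat_lit 6589131)) (.leaf (nat_lit 14135459))) (.leaf (nat_lit 23773978))) (.node
    (.leaf (nat_lit 12824649)) (.leaf (nat_lit 7113717)))) (.node (.node (.leaf (nat_lit 17547327))
    (.leaf (nat_lit 18135396))) (.node (.leaf (nat_lit 10555931)) (.leaf (nat_lit 17187576)))))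
    (.node (.node (.node (.node (.leaf (nat_lit 12596141)) (.leaf (nat_lit 23643064))) (.leaf
    (nat_lit 16032336))) (.node (.leaf (nat_lit 22200574)) (.leaf (nat_lit 8499516)))) (.node
    (.node (.leaf (nat_lit 2525666)) (.leaf (nat_lit 22889034))) (.node (.leaf (nat_lit 5643166))
    (.leaf (nat_lit 16458653))))))) (.node (.node (.node (.node (.node (.node (.leaf (nat_lit
    984354)) (.leaf (nat_lit 13539353))) (.leaf (nat_lit 10730657))) (.node (.leaf (nat_lit
    8951146)) (.leaf (nat_lit 9614949)))) (.node (.node (.leaf (nat_lit 20888663)) (.leaf (nat_lit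
    12497485))) (.node (.leaf (nat_lit 13965720)) (.leaf (nat_lit 12074466))))) (.node (.node
    (.node (.node (.leaf (nat_lit 21708299)) (.leaf (nat_lit 21937869))) (.leaf (nat_lit 1192598)))
    (.node (.leaf (nat_lit 20987017)) (.leaf (nat_lit 11284465)))) (.node (.node (.leaf (nat_lit
    7080919)) (.leaf (nat_lit 21347657))) (.node (.leaf (nat_lit 18789697)) (.leaf (nat_lit
    5279241)))))) (.node (.node (.node (.node (.node (.leaf (nat_lit 9703615)) (.leaf (nat_lit
    20790313))) (.leaf (nat_lit 1671724))) (.node (.leaf (nat_lit 21905076)) (.leaf (nat_lit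
    19737232)))) (.node (.node (.leaf (nat_lit 24397110)) (.leaf (nat_lit 7251033))) (.node (.leaf
    (nat_lit 14594055)) (.leaf (nat_lit 196897))))) (.node (.node (.node (.leaf (nat_lit 8105052))
    (.leaf (nat_lit 19118373))) (.node (.leaf (nat_lit 98339)) (.leaf (nat_lit 23544453)))) (.node
    (.node (.leaf (nat_lit 9146303)) (.leaf (nat_lit 655559))) (.node (.leaf (nat_lit 11346966))
    (.leaf (nat_lit 7376937)))))))))) (.node (.node (.node (.node (.node (.node (.node (.node
    (.node (.leaf (nat_lit 262245)) (.leaf (nat_lit 7573868))) (.leaf (nat_lit 20856595))) (.node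
    (.leaf (nat_lit 12916341)) (.leaf (nat_lit 5835042)))) (.node (.node (.leaf (nat_lit 16884810))
    (.leaf (nat_lit 9736407))) (.node (.leaf (nat_lit 3081207)) (.leaf (nat_lit 15153106)))))
    (.node (.node (.node (.node (.leaf (nat_lit 10260907)) (.leaf (nat_lit 14067512))) (.leaf
    (nat_lit 4982524))) (.node (.leaf (nat_lit 16458890)) (.leaf (nat_lit 4959985)))) (.node (.node
    (.leaf (nat_lit 754170)) (.leaf (nat_lit 18299266))) (.node (.leaf (nat_lit 2494451)) (.leaf
    (nat_lit 3441903)))))) (.node (.node (.node (.node (.node (.leaf (nat_lit 7474303)) (.leaf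
    (nat_lit 15020739))) (.leaf (nat_lit 12107361))) (.node (.leaf (nat_lit 12464852)) (.leaf
    (nat_lit 12989247)))) (.node (.node (.leaf (nat_lit 23511657)) (.leaf (nat_lit 19020634)))
    (.node (.leaf (nat_lit 1181473)) (.leaf (nat_lit 16695284))))) (.node (.node (.node (.node
    (.leaf (nat_lit 4763828)) (.leaf (nat_lit 22757567))) (.leaf (nat_lit 11941009))) (.node (.leaf
    (nat_lit 23511663)) (.leaf (nat_lit 6272564)))) (.node (.node (.leaf (nat_lit 9907984)) (.leaf
    (nat_lit 16269153))) (.node (.leaf (nat_lit 11147252)) (.leaf (nat_lit 6294091))))))) (.node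
    (.node (.node (.node (.node (.node (.leaf (nat_lit 2360075)) (.leaf (nat_lit 6890185))) (.leaf
    (nat_lit 14662494))) (.node (.leaf (nat_lit 8763652)) (.leaf (nat_lit 853259)))) (.node (.node
    (.leaf (nat_lit 20429685)) (.leaf (nat_lit 3216385))) (.node (.leaf (nat_lit 9408587)) (.leaf
    (nat_lit 20396899))))) (.node (.node (.node (.node (.leaf (nat_lit 12035309)) (.leaf (nat_lit
    21741099))) (.leaf (nat_lit 11736110))) (.node (.leaf (nat_lit 24560879)) (.leaf (nat_lit
    11932873)))) (.node (.node (.leaf (nat_lit 3179557)) (.leaf (nat_lit 20036229))) (.node (.leaf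
    (nat_lit 8590116)) (.leaf (nat_lit 11244299)))))) (.node (.node (.node (.node (.node (.leaf
    (nat_lit 1673915)) (.leaf (nat_lit 7316362))) (.leaf (nat_lit 23839614))) (.node (.leaf
    (nat_lit 14201120)) (.leaf (nat_lit 9015169)))) (.node (.node (.leaf (nat_lit 14664198)) (.leaf
    (nat_lit 8074670))) (.node (.leaf (nat_lit 6851635)) (.leaf (nat_lit 23446758))))) (.node
    (.node (.node (.node (.leaf (nat_lit 15740921)) (.leaf (nat_lit 22988186))) (.leaf (nat_lit
    17737006))) (.node (.leaf (nat_lit 23315148)) (.leaf (nat_lit 23937902)))) (.node (.node (.leaf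
    (nat_lit 16163555)) (.leaf (nat_lit 24134712))) (.node (.leaf (nat_lit 9942685)) (.leaf
    (nat_lit 3738926)))))))) (.node (.node (.node (.node (.node (.node (.node (.leaf (nat_lit
    4916981)) (.leaf (nat_lit 3717432))) (.leaf (nat_lit 18693908))) (.node (.leaf (nat_lit
    11998425)) (.leaf (nat_lit 2523975)))) (.node (.node (.leaf (nat_lit 11810599)) (.leaf (nat_lit
    2921001))) (.node (.leaf (nat_lit 7310394)) (.leaf (nat_lit 21544375))))) (.node (.node (.node
    (.node (.leaf (nat_lit 8196288)) (.leaf (nat_lit 13940402))) (.leaf (nat_lit 1901259))) (.node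
    (.leaf (nat_lit 13020885)) (.leaf (nat_lit 15480158)))) (.node (.node (.leaf (nat_lit 1442312))
    (.leaf (nat_lit 24003498))) (.node (.leaf (nat_lit 9448589)) (.leaf (nat_lit 2261890))))))
    (.node (.node (.node (.node (.node (.leaf (nat_lit 14692605)) (.leaf (nat_lit 6107235))) (.leaf
    (nat_lit 24757621))) (.node (.leaf (nat_lit 15216839)) (.leaf (nat_lit 16163544)))) (.node
    (.node (.leaf (nat_lit 15712188)) (.leaf (nat_lit 16724106))) (.node (.leaf (nat_lit 5320798))
    (.leaf (nat_lit 24659245))))) (.node (.node (.node (.node (.leaf (nat_lit 8304022)) (.leaf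
    (nat_lit 23806761))) (.leaf (nat_lit 1641069))) (.node (.leaf (nat_lit 22364268)) (.leaf
    (nat_lit 19345640)))) (.node (.node (.leaf (nat_lit 6263746)) (.leaf (nat_lit 23183787)))
    (.node (.leaf (nat_lit 4627221)) (.leaf (nat_lit 1837986))))))) (.node (.node (.node (.node
    (.node (.node (.leaf (nat_lit 3146977)) (.leaf (nat_lit 13277031))) (.leaf (nat_lit 11877418)))
    (.node (.leaf (nat_lit 4599770)) (.leaf (nat_lit 14064097)))) (.node (.node (.leaf (nat_lit
    19577562)) (.leaf (nat_lit 3806636))) (.node (.leaf (nat_lit 4173003)) (.leaf (nat_lit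
    20299088))))) (.node (.node (.node (.node (.leaf (nat_lit 10986736)) (.leaf (nat_lit
    18202108))) (.leaf (nat_lit 4294165))) (.node (.leaf (nat_lit 13908892)) (.leaf (nat_lit
    5649214)))) (.node (.node (.leaf (nat_lit 12129812)) (.leaf (nat_lit 20692162))) (.node (.leaf
    (nat_lit 11188543)) (.leaf (nat_lit 5115404)))))) (.node (.node (.node (.node (.node (.leaf
    (nat_lit 2002084)) (.leaf (nat_lit 19413495))) (.leaf (nat_lit 524446))) (.node (.leaf (nat_lit
    18462451)) (.leaf (nat_lit 2330429)))) (.node (.node (.leaf (nat_lit 21546132)) (.leaf (nat_lit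
    22659221))) (.node (.leaf (nat_lit 7638378)) (.leaf (nat_lit 786675))))) (.node (.node (.node
    (.leaf (nat_lit 17118983)) (.leaf (nat_lit 5255391))) (.node (.leaf (nat_lit 19154253)) (.leaf
    (nat_lit 23741177)))) (.node (.node (.leaf (nat_lit 10359247)) (.leaf (nat_lit 1835652)))
    (.node (.leaf (nat_lit 7973816)) (.leaf (nat_lit 6492059))))))))) (.node (.node (.node (.node
    (.node (.node (.node (.node (.leaf (nat_lit 2786177)) (.leaf (nat_lit 11900079))) (.leaf
    (nat_lit 18491184))) (.node (.leaf (nat_lit 11801673)) (.leaf (nat_lit 7703756)))) (.node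
    (.node (.leaf (nat_lit 20003427)) (.leaf (nat_lit 20101792))) (.node (.leaf (nat_lit 1376637))
    (.leaf (nat_lit 23970710))))) (.node (.node (.node (.node (.leaf (nat_lit 9146328)) (.leaf
    (nat_lit 8530210))) (.leaf (nat_lit 361005))) (.node (.leaf (nat_lit 17707877)) (.leaf (nat_lit
    10359243)))) (.node (.node (.leaf (nat_lit 3933617)) (.leaf (nat_lit 21446016))) (.node (.leaf
    (nat_lit 8763610)) (.leaf (nat_lit 2786179)))))) (.node (.node (.node (.node (.node (.leaf
    (nat_lit 10040535)) (.leaf (nat_lit 12661626))) (.leaf (nat_lit 22364252))) (.node (.leaf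
    (nat_lit 12890929)) (.leaf (nat_lit 13840905)))) (.node (.node (.leaf (nat_lit 11910713))
    (.leaf (nat_lit 4528733))) (.node (.leaf (nat_lit 13277029)) (.leaf (nat_lit 23610035)))))
    (.node (.node (.node (.node (.leaf (nat_lit 13408227)) (.leaf (nat_lit 17220054))) (.leaf
    (nat_lit 5966157))) (.node (.leaf (nat_lit 24298589)) (.leaf (nat_lit 14785486)))) (.node
    (.node (.leaf (nat_lit 5779846)) (.leaf (nat_lit 16892052))) (.node (.leaf (nat_lit 4463002))
    (.leaf (nat_lit 5835396))))))) (.node (.node (.node (.node (.node (.node (.leaf (nat_lit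
    656287)) (.leaf (nat_lit 13998522))) (.leaf (nat_lit 18661118))) (.node (.leaf (nat_lit
    6230940)) (.leaf (nat_lit 8129883)))) (.node (.node (.leaf (nat_lit 9054816)) (.leaf (nat_lit
    12201418))) (.node (.leaf (nat_lit 853235)) (.leaf (nat_lit 20954235))))) (.node (.node (.node
    (.node (.leaf (nat_lit 3911671)) (.leaf (nat_lit 21118172))) (.leaf (nat_lit 3573064))) (.node
    (.leaf (nat_lit 13941326)) (.leaf (nat_lit 12006757)))) (.node (.node (.leaf (nat_lit 2622498))
    (.leaf (nat_lit 10369982))) (.node (.leaf (nat_lit 17872892)) (.leaf (nat_lit 8129885))))))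
    (.node (.node (.node (.node (.node (.leaf (nat_lit 7212057)) (.leaf (nat_lit 24331379))) (.leaf
    (nat_lit 16991411))) (.node (.leaf (nat_lit 14102699)) (.leaf (nat_lit 8261955)))) (.node
    (.node (.leaf (nat_lit 24823189)) (.leaf (nat_lit 16360317))) (.node (.leaf (nat_lit 1969341))
    (.leaf (nat_lit 131148))))) (.node (.node (.node (.leaf (nat_lit 6664322)) (.leaf (nat_lit
    9015172))) (.node (.leaf (nat_lit 20661250)) (.leaf (nat_lit 16753663)))) (.node (.node (.leaf
    (nat_lit 9211883)) (.leaf (nat_lit 22365560))) (.node (.leaf (nat_lit 19970633)) (.leaf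
    (nat_lit 11319373)))))))) (.node (.node (.node (.node (.node (.node (.node (.leaf (nat_lit
    6785891)) (.leaf (nat_lit 10523690))) (.leaf (nat_lit 24626470))) (.node (.leaf (nat_lit
    7901712)) (.leaf (nat_lit 3015639)))) (.node (.node (.leaf (nat_lit 21314849)) (.leaf (nat_lit
    16461732))) (.node (.leaf (nat_lit 9047942)) (.leaf (nat_lit 23019847))))) (.node (.node (.node
    (.node (.leaf (nat_lit 9212306)) (.leaf (nat_lit 14531242))) (.leaf (nat_lit 3310684))) (.node
    (.leaf (nat_lit 8431757)) (.leaf (nat_lit 21052591)))) (.node (.node (.leaf (nat_lit 3015645))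
    (.leaf (nat_lit 17118990))) (.node (.leaf (nat_lit 20167369)) (.leaf (nat_lit 2458718))))))
    (.node (.node (.node (.node (.node (.leaf (nat_lit 5190011)) (.leaf (nat_lit 17966529))) (.leaf
    (nat_lit 24429742))) (.node (.leaf (nat_lit 12661591)) (.leaf (nat_lit 17015860)))) (.node
    (.node (.leaf (nat_lit 23872333)) (.leaf (nat_lit 15317347))) (.node (.leaf (nat_lit 6163201))
    (.leaf (nat_lit 18957222))))) (.node (.node (.node (.node (.leaf (nat_lit 18134060)) (.leaf
    (nat_lit 16794711))) (.leaf (nat_lit 6785926))) (.node (.leaf (nat_lit 23118210)) (.leaf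
    (nat_lit 7386202)))) (.node (.node (.leaf (nat_lit 5835348)) (.leaf (nat_lit 24724831))) (.node
    (.leaf (nat_lit 15047769)) (.leaf (nat_lit 7507087))))))) (.node (.node (.node (.node (.node
    (.node (.leaf (nat_lit 9244663)) (.leaf (nat_lit 13807133))) (.leaf (nat_lit 19840306))) (.node
    (.leaf (nat_lit 6566649)) (.leaf (nat_lit 7779947)))) (.node (.node (.leaf (nat_lit 18660358))
    (.leaf (nat_lit 13677167))) (.node (.leaf (nat_lit 1082979)) (.leaf (nat_lit 17645228)))))
    (.node (.node (.node (.node (.leaf (nat_lit 12890918)) (.leaf (nat_lit 22200199))) (.leaf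
    (nat_lit 4764423))) (.node (.leaf (nat_lit 20528284)) (.leaf (nat_lit 14162485)))) (.node
    (.node (.leaf (nat_lit 3911554)) (.leaf (nat_lit 11222485))) (.node (.leaf (nat_lit 8528711))
    (.leaf (nat_lit 5377537)))))) (.node (.node (.node (.node (.node (.leaf (nat_lit 18360015))
    (.leaf (nat_lit 16333238))) (.leaf (nat_lit 2491201))) (.node (.leaf (nat_lit 22560826)) (.leaf
    (nat_lit 15740697)))) (.node (.node (.leaf (nat_lit 32782)) (.leaf (nat_lit 19835655))) (.node
    (.leaf (nat_lit 19081528)) (.leaf (nat_lit 1248734))))) (.node (.node (.node (.leaf (nat_lit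
    7316420)) (.leaf (nat_lit 7966597))) (.node (.leaf (nat_lit 524452)) (.leaf (nat_lit
    15283627)))) (.node (.node (.leaf (nat_lit 18884738)) (.leaf (nat_lit 3878188))) (.node (.leaf
    (nat_lit 18626315)) (.leaf (nat_lit 7868572))))))))))) (.node (.node (.node (.node (.node
    (.node (.node (.node (.node (.node (.leaf (nat_lit 131117)) (.leaf (nat_lit 10916550))) (.leaf
    (nat_lit 24101854))) (.node (.leaf (nat_lit 11113193)) (.leaf (nat_lit 2993410)))) (.node
    (.node (.leaf (nat_lit 16004873)) (.leaf (nat_lit 9416499))) (.node (.leaf (nat_lit 1737340))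
    (.leaf (nat_lit 15185887))))) (.node (.node (.node (.node (.leaf (nat_lit 13771595)) (.leaf
    (nat_lit 12723936))) (.leaf (nat_lit 230789))) (.node (.leaf (nat_lit 21413223)) (.leaf
    (nat_lit 4896350)))) (.node (.node (.leaf (nat_lit 655957)) (.leaf (nat_lit 22724783))) (.node
    (.leaf (nat_lit 8851383)) (.leaf (nat_lit 1475086)))))) (.node (.node (.node (.node (.node
    (.leaf (nat_lit 4261402)) (.leaf (nat_lit 4561488))) (.leaf (nat_lit 11517445))) (.node (.leaf
    (nat_lit 18525910)) (.leaf (nat_lit 12562751)))) (.node (.node (.leaf (nat_lit 12074184))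
    (.leaf (nat_lit 16688113))) (.node (.leaf (nat_lit 4949753)) (.leaf (nat_lit 18497464)))))
    (.node (.node (.node (.node (.leaf (nat_lit 12850750)) (.leaf (nat_lit 22659219))) (.leaf
    (nat_lit 1214297))) (.node (.leaf (nat_lit 17513832)) (.leaf (nat_lit 17970586)))) (.node
    (.node (.leaf (nat_lit 4239237)) (.leaf (nat_lit 12566257))) (.node (.leaf (nat_lit 14626750))
    (.leaf (nat_lit 6427588))))))) (.node (.node (.node (.node (.node (.node (.leaf (nat_lit
    2327299)) (.leaf (nat_lit 8826848))) (.leaf (nat_lit 19480276))) (.node (.leaf (nat_lit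
    8393408)) (.leaf (nat_lit 12162290)))) (.node (.node (.leaf (nat_lit 24560883)) (.leaf (nat_lit
    7517198))) (.node (.leaf (nat_lit 8140114)) (.leaf (nat_lit 24855975))))) (.node (.node (.node
    (.node (.leaf (nat_lit 17837020)) (.leaf (nat_lit 18234264))) (.leaf (nat_lit 11145964)))
    (.node (.leaf (nat_lit 19675619)) (.leaf (nat_lit 18626349)))) (.node (.node (.leaf (nat_lit
    9113507)) (.leaf (nat_lit 14760485))) (.node (.leaf (nat_lit 14462897)) (.leaf (nat_lit
    11188537)))))) (.node (.node (.node (.node (.node (.leaf (nat_lit 11736113)) (.leaf (nat_lit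
    16294771))) (.leaf (nat_lit 23675696))) (.node (.leaf (nat_lit 16068660)) (.leaf (nat_lit
    14398429)))) (.node (.node (.leaf (nat_lit 17187260)) (.leaf (nat_lit 17283103))) (.node (.leaf
    (nat_lit 6949942)) (.leaf (nat_lit 24429729))))) (.node (.node (.node (.node (.leaf (nat_lit
    19347133)) (.leaf (nat_lit 19449167))) (.leaf (nat_lit 17441974))) (.node (.leaf (nat_lit
    23380588)) (.leaf (nat_lit 13541942)))) (.node (.node (.leaf (nat_lit 3476298)) (.leaf (nat_lit
    24265803))) (.node (.leaf (nat_lit 6140011)) (.leaf (nat_lit 9638059)))))))) (.node (.node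
    (.node (.node (.node (.node (.node (.leaf (nat_lit 229705)) (.leaf (nat_lit 3520776))) (.leaf
    (nat_lit 20003425))) (.node (.leaf (nat_lit 4264202)) (.leaf (nat_lit 623376)))) (.node (.node
    (.leaf (nat_lit 7841210)) (.leaf (nat_lit 2888181))) (.node (.leaf (nat_lit 787052)) (.leaf
    (nat_lit 8530251))))) (.node (.node (.node (.node (.leaf (nat_lit 2756750)) (.leaf (nat_lit
    24692046))) (.leaf (nat_lit 8097100))) (.node (.leaf (nat_lit 20134575)) (.leaf (nat_lit
    17900945)))) (.node (.node (.leaf (nat_lit 1606155)) (.leaf (nat_lit 8398959))) (.node (.leaf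
    (nat_lit 18528173)) (.leaf (nat_lit 2000045)))))) (.node (.node (.node (.node (.node (.leaf
    (nat_lit 4851616)) (.leaf (nat_lit 12956111))) (.leaf (nat_lit 22724790))) (.node (.leaf
    (nat_lit 12399360)) (.leaf (nat_lit 10007825)))) (.node (.node (.leaf (nat_lit 23347717))
    (.leaf (nat_lit 22167409))) (.node (.leaf (nat_lit 2919063)) (.leaf (nat_lit 14467587)))))
    (.node (.node (.node (.node (.leaf (nat_lit 8725317)) (.leaf (nat_lit 24036281))) (.leaf
    (nat_lit 11408226))) (.node (.leaf (nat_lit 16695310)) (.leaf (nat_lit 9416700)))) (.node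
    (.node (.leaf (nat_lit 6107229)) (.leaf (nat_lit 23052639))) (.node (.leaf (nat_lit 14195388))
    (.leaf (nat_lit 7277617))))))) (.node (.node (.node (.node (.node (.node (.leaf (nat_lit
    11408213)) (.leaf (nat_lit 18425617))) (.leaf (nat_lit 24560887))) (.node (.leaf (nat_lit
    9999564)) (.leaf (nat_lit 4032088)))) (.node (.node (.leaf (nat_lit 18266764)) (.leaf (nat_lit
    22003440))) (.node (.leaf (nat_lit 5574319)) (.leaf (nat_lit 13352198))))) (.node (.node (.node
    (.node (.leaf (nat_lit 3347472)) (.leaf (nat_lit 23577251))) (.leaf (nat_lit 1808274))) (.node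
    (.leaf (nat_lit 24200225)) (.leaf (nat_lit 3806778)))) (.node (.node (.leaf (nat_lit 9408585))
    (.leaf (nat_lit 10665081))) (.node (.leaf (nat_lit 6919480)) (.leaf (nat_lit 10073343))))))
    (.node (.node (.node (.node (.node (.leaf (nat_lit 8064317)) (.leaf (nat_lit 11019412))) (.leaf
    (nat_lit 21874104))) (.node (.leaf (nat_lit 6955744)) (.leaf (nat_lit 15576749)))) (.node
    (.node (.leaf (nat_lit 20104258)) (.leaf (nat_lit 16655367))) (.node (.leaf (nat_lit 4328772))
    (.leaf (nat_lit 427157))))) (.node (.node (.node (.leaf (nat_lit 9773454)) (.leaf (nat_lit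
    18753560))) (.node (.leaf (nat_lit 19219696)) (.leaf (nat_lit 24495303)))) (.node (.node (.leaf
    (nat_lit 13965729)) (.leaf (nat_lit 32867))) (.node (.leaf (nat_lit 7152542)) (.leaf (nat_lit
    16229179))))))))) (.node (.node (.node (.node (.node (.node (.node (.node (.leaf (nat_lit
    2851734)) (.leaf (nat_lit 11703339))) (.leaf (nat_lit 21741089))) (.node (.leaf (nat_lit
    11375417)) (.leaf (nat_lit 393861)))) (.node (.node (.leaf (nat_lit 22921497)) (.leaf (nat_lit
    10129781))) (.node (.leaf (nat_lit 5244780)) (.leaf (nat_lit 11810604))))) (.node (.node (.node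
    (.node (.leaf (nat_lit 19638863)) (.leaf (nat_lit 20069013))) (.leaf (nat_lit 557541))) (.node
    (.leaf (nat_lit 17278261)) (.leaf (nat_lit 17838946)))) (.node (.node (.leaf (nat_lit 2228951))
    (.leaf (nat_lit 8005287))) (.node (.leaf (nat_lit 16069770)) (.leaf (nat_lit 2720927))))))
    (.node (.node (.node (.node (.node (.leaf (nat_lit 5113675)) (.leaf (nat_lit 19249337))) (.leaf
    (nat_lit 16367518))) (.node (.leaf (nat_lit 22429693)) (.leaf (nat_lit 3715792)))) (.node
    (.node (.leaf (nat_lit 22757561)) (.leaf (nat_lit 14103800))) (.node (.leaf (nat_lit 1584675))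
    (.leaf (nat_lit 19415264))))) (.node (.node (.node (.node (.leaf (nat_lit 4626124)) (.leaf
    (nat_lit 23118217))) (.leaf (nat_lit 12432061))) (.node (.leaf (nat_lit 22855937)) (.leaf
    (nat_lit 18266474)))) (.node (.node (.leaf (nat_lit 6631640)) (.leaf (nat_lit 22560832)))
    (.node (.leaf (nat_lit 7910864)) (.leaf (nat_lit 5999192))))))) (.node (.node (.node (.node
    (.node (.node (.leaf (nat_lit 9474151)) (.leaf (nat_lit 14758584))) (.leaf (nat_lit 15973046)))
    (.node (.leaf (nat_lit 11736153)) (.leaf (nat_lit 12497493)))) (.node (.node (.leaf (nat_lit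
    20298515)) (.leaf (nat_lit 21806670))) (.node (.leaf (nat_lit 3019052)) (.leaf (nat_lit
    20724739))))) (.node (.node (.node (.node (.leaf (nat_lit 17343635)) (.leaf (nat_lit
    20855960))) (.leaf (nat_lit 11317805))) (.node (.leaf (nat_lit 17607428)) (.leaf (nat_lit
    12326239)))) (.node (.node (.leaf (nat_lit 2425830)) (.leaf (nat_lit 20429687))) (.node (.leaf
    (nat_lit 5912396)) (.leaf (nat_lit 4665294)))))) (.node (.node (.node (.node (.node (.leaf
    (nat_lit 1870738)) (.leaf (nat_lit 16825995))) (.leaf (nat_lit 22496380))) (.node (.leaf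
    (nat_lit 12039658)) (.leaf (nat_lit 4066650)))) (.node (.node (.leaf (nat_lit 24200215)) (.leaf
    (nat_lit 23347727))) (.node (.leaf (nat_lit 10300355)) (.leaf (nat_lit 32787))))) (.node (.node
    (.node (.leaf (nat_lit 14922028)) (.leaf (nat_lit 7572714))) (.node (.leaf (nat_lit 22234030))
    (.leaf (nat_lit 24101843)))) (.node (.node (.leaf (nat_lit 11015484)) (.leaf (nat_lit
    24626469))) (.node (.leaf (nat_lit 17968468)) (.leaf (nat_lit 10195339)))))))) (.node (.node
    (.node (.node (.node (.node (.node (.leaf (nat_lit 1737273)) (.leaf (nat_lit 10425257))) (.leaf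
    (nat_lit 12364086))) (.node (.leaf (nat_lit 8294874)) (.leaf (nat_lit 2884519)))) (.node (.node
    (.leaf (nat_lit 20790309)) (.leaf (nat_lit 21314842))) (.node (.leaf (nat_lit 3441895)) (.leaf
    (nat_lit 24790399))))) (.node (.node (.node (.node (.leaf (nat_lit 19905047)) (.leaf (nat_lit
    18266706))) (.leaf (nat_lit 2656826))) (.node (.leaf (nat_lit 18429244)) (.leaf (nat_lit
    13250544)))) (.node (.node (.leaf (nat_lit 2884517)) (.leaf (nat_lit 8792522))) (.node (.leaf
    (nat_lit 15904095)) (.leaf (nat_lit 2852010)))))) (.node (.node (.node (.node (.node (.leaf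
    (nat_lit 6427759)) (.leaf (nat_lit 18560461))) (.leaf (nat_lit 21938671))) (.node (.leaf
    (nat_lit 14490420)) (.leaf (nat_lit 13282377)))) (.node (.node (.leaf (nat_lit 24462521))
    (.leaf (nat_lit 5119163))) (.node (.leaf (nat_lit 8884071)) (.leaf (nat_lit 19186504)))))
    (.node (.node (.node (.node (.leaf (nat_lit 15446165)) (.leaf (nat_lit 20956166))) (.leaf
    (nat_lit 6916999))) (.node (.leaf (nat_lit 20365624)) (.leaf (nat_lit 10892639)))) (.node
    (.node (.leaf (nat_lit 4960374)) (.leaf (nat_lit 17220264))) (.node (.leaf (nat_lit 14267566))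
    (.leaf (nat_lit 9343016))))))) (.node (.node (.node (.node (.node (.node (.leaf (nat_lit
    4239844)) (.leaf (nat_lit 4692114))) (.leaf (nat_lit 24593673))) (.node (.leaf (nat_lit
    5215976)) (.leaf (nat_lit 5780221)))) (.node (.node (.leaf (nat_lit 21150937)) (.leaf (nat_lit
    13080213))) (.node (.leaf (nat_lit 13998519)) (.leaf (nat_lit 15777350))))) (.node (.node
    (.node (.node (.leaf (nat_lit 11284463)) (.leaf (nat_lit 24233018))) (.leaf (nat_lit
    12825192))) (.node (.leaf (nat_lit 17382488)) (.leaf (nat_lit 16297209)))) (.node (.node (.leaf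
    (nat_lit 7048143)) (.leaf (nat_lit 11091357))) (.node (.leaf (nat_lit 7812222)) (.leaf (nat_lit
    5148168)))))) (.node (.node (.node (.node (.node (.leaf (nat_lit 8031531)) (.leaf (nat_lit
    14235605))) (.leaf (nat_lit 1868429))) (.node (.leaf (nat_lit 13542382)) (.leaf (nat_lit
    9179107)))) (.node (.node (.leaf (nat_lit 19744130)) (.leaf (nat_lit 15710238))) (.node (.leaf
    (nat_lit 16851989)) (.leaf (nat_lit 4458070))))) (.node (.node (.node (.leaf (nat_lit
    17638610)) (.leaf (nat_lit 19573308))) (.node (.leaf (nat_lit 950566)) (.leaf (nat_lit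
    23905113)))) (.node (.node (.leaf (nat_lit 10850991)) (.leaf (nat_lit 786669))) (.node (.leaf
    (nat_lit 22790358)) (.leaf (nat_lit 8982632)))))))))) (.node (.node (.node (.node (.node (.node
    (.node (.node (.node (.leaf (nat_lit 1704500)) (.leaf (nat_lit 4428204))) (.leaf (nat_lit
    21052579))) (.node (.leaf (nat_lit 6492044)) (.leaf (nat_lit 1027614)))) (.node (.node (.leaf
    (nat_lit 22987063)) (.leaf (nat_lit 9474226))) (.node (.leaf (nat_lit 196907)) (.leaf (nat_lit
    11085514))))) (.node (.node (.node (.node (.leaf (nat_lit 8589120)) (.leaf (nat_lit 18659851)))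
    (.leaf (nat_lit 2108784))) (.node (.leaf (nat_lit 21380440)) (.leaf (nat_lit 9965907)))) (.node
    (.node (.leaf (nat_lit 458962)) (.leaf (nat_lit 18069855))) (.node (.leaf (nat_lit 5967930))
    (.leaf (nat_lit 7146503)))))) (.node (.node (.node (.node (.node (.leaf (nat_lit 1115809))
    (.leaf (nat_lit 13217877))) (.leaf (nat_lit 12467931))) (.node (.leaf (nat_lit 13282373))
    (.leaf (nat_lit 4993788)))) (.node (.node (.leaf (nat_lit 20364640)) (.leaf (nat_lit
    22429691))) (.node (.leaf (nat_lit 1214291)) (.leaf (nat_lit 21839920))))) (.node (.node (.node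
    (.node (.leaf (nat_lit 3708543)) (.leaf (nat_lit 14663938))) (.leaf (nat_lit 15506964))) (.node
    (.leaf (nat_lit 16596466)) (.leaf (nat_lit 13507124)))) (.node (.node (.leaf (nat_lit 5080891))
    (.leaf (nat_lit 20791219))) (.node (.leaf (nat_lit 12333861)) (.leaf (nat_lit 2525672)))))))
    (.node (.node (.node (.node (.node (.node (.leaf (nat_lit 5966153)) (.leaf (nat_lit 12359021)))
    (.leaf (nat_lit 18429888))) (.node (.leaf (nat_lit 8567092)) (.leaf (nat_lit 3671343)))) (.node
    (.node (.leaf (nat_lit 23478873)) (.leaf (nat_lit 12760905))) (.node (.leaf (nat_lit 3474677))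
    (.leaf (nat_lit 20495249))))) (.node (.node (.node (.node (.leaf (nat_lit 16069978)) (.leaf
    (nat_lit 20757527))) (.leaf (nat_lit 9965911))) (.node (.leaf (nat_lit 18265807)) (.leaf
    (nat_lit 21642723)))) (.node (.node (.leaf (nat_lit 623483)) (.leaf (nat_lit 15678158))) (.node
    (.leaf (nat_lit 10326907)) (.leaf (nat_lit 3967919)))))) (.node (.node (.node (.node (.node
    (.leaf (nat_lit 3443514)) (.leaf (nat_lit 21806686))) (.leaf (nat_lit 17220556))) (.node (.leaf
    (nat_lit 5479791)) (.leaf (nat_lit 5092980)))) (.node (.node (.leaf (nat_lit 24429731)) (.leaf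
    (nat_lit 6529535))) (.node (.leaf (nat_lit 1870881)) (.leaf (nat_lit 23479596))))) (.node
    (.node (.node (.leaf (nat_lit 18921109)) (.leaf (nat_lit 7834859))) (.node (.leaf (nat_lit
    23806759)) (.leaf (nat_lit 13413472)))) (.node (.node (.leaf (nat_lit 1837982)) (.leaf (nat_lit
    24528105))) (.node (.leaf (nat_lit 11974109)) (.leaf (nat_lit 8196020)))))))) (.node (.node
    (.node (.node (.node (.node (.node (.leaf (nat_lit 524721)) (.leaf (nat_lit 8566860))) (.leaf
    (nat_lit 21839459))) (.node (.leaf (nat_lit 18626324)) (.leaf (nat_lit 9638056)))) (.node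
    (.node (.leaf (nat_lit 15775692)) (.leaf (nat_lit 20987021))) (.node (.leaf (nat_lit 6228536))
    (.leaf (nat_lit 22823137))))) (.node (.node (.node (.node (.leaf (nat_lit 9867529)) (.leaf
    (nat_lit 20200164))) (.leaf (nat_lit 8720178))) (.node (.leaf (nat_lit 12562759)) (.leaf
    (nat_lit 18327209)))) (.node (.node (.leaf (nat_lit 3441901)) (.leaf (nat_lit 8763684))) (.node
    (.leaf (nat_lit 4428264)) (.leaf (nat_lit 3277988)))))) (.node (.node (.node (.node (.node
    (.leaf (nat_lit 6041845)) (.leaf (nat_lit 18724529))) (.leaf (nat_lit 13812094))) (.node (.leaf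
    (nat_lit 15184507)) (.leaf (nat_lit 6851443)))) (.node (.node (.leaf (nat_lit 24495305)) (.leaf
    (nat_lit 19443402))) (.node (.leaf (nat_lit 7867635)) (.leaf (nat_lit 22954674))))) (.node
    (.node (.node (.node (.leaf (nat_lit 13965778)) (.leaf (nat_lit 22692706))) (.leaf (nat_lit
    15966718))) (.node (.leaf (nat_lit 23905119)) (.leaf (nat_lit 5151941)))) (.node (.node (.leaf
    (nat_lit 6326871)) (.leaf (nat_lit 24692037))) (.node (.leaf (nat_lit 13250003)) (.leaf
    (nat_lit 12293465))))))) (.node (.node (.node (.node (.node (.node (.leaf (nat_lit 3736889))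
    (.leaf (nat_lit 13408229))) (.leaf (nat_lit 11910250))) (.node (.leaf (nat_lit 6890187)) (.leaf
    (nat_lit 1509064)))) (.node (.node (.leaf (nat_lit 15547174)) (.leaf (nat_lit 4698729))) (.node
    (.leaf (nat_lit 13578106)) (.leaf (nat_lit 21609943))))) (.node (.node (.node (.node (.leaf
    (nat_lit 3380415)) (.leaf (nat_lit 16563807))) (.leaf (nat_lit 5288392))) (.node (.leaf
    (nat_lit 13056991)) (.leaf (nat_lit 5912080)))) (.node (.node (.leaf (nat_lit 13244102)) (.leaf
    (nat_lit 10894583))) (.node (.leaf (nat_lit 10401711)) (.leaf (nat_lit 5049840)))))) (.node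
    (.node (.node (.node (.node (.leaf (nat_lit 2165978)) (.leaf (nat_lit 19868455))) (.leaf
    (nat_lit 1017220))) (.node (.leaf (nat_lit 17343629)) (.leaf (nat_lit 19606086)))) (.node
    (.node (.leaf (nat_lit 23577818)) (.leaf (nat_lit 21118156))) (.node (.leaf (nat_lit 17245874))
    (.leaf (nat_lit 721156))))) (.node (.node (.node (.leaf (nat_lit 6890194)) (.leaf (nat_lit
    19179857))) (.node (.leaf (nat_lit 19744152)) (.leaf (nat_lit 20167376)))) (.node (.node (.leaf
    (nat_lit 8851283)) (.leaf (nat_lit 2458424))) (.node (.leaf (nat_lit 15152047)) (.leaf (nat_lit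
    11604989))))))))) (.node (.node (.node (.node (.node (.node (.node (.node (.leaf (nat_lit
    3409111)) (.leaf (nat_lit 9835142))) (.leaf (nat_lit 11318775))) (.node (.leaf (nat_lit
    4493471)) (.leaf (nat_lit 2108571)))) (.node (.node (.leaf (nat_lit 17999327)) (.leaf (nat_lit
    20331300))) (.node (.leaf (nat_lit 5485231)) (.leaf (nat_lit 18917527))))) (.node (.node (.node
    (.node (.leaf (nat_lit 4427792)) (.leaf (nat_lit 23741183))) (.leaf (nat_lit 4167571))) (.node
    (.leaf (nat_lit 18164775)) (.leaf (nat_lit 10490367)))) (.node (.node (.leaf (nat_lit 1181073))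
    (.leaf (nat_lit 8136521))) (.node (.leaf (nat_lit 8402144)) (.leaf (nat_lit 6720339))))))
    (.node (.node (.node (.node (.node (.leaf (nat_lit 5375907)) (.leaf (nat_lit 14916666))) (.leaf
    (nat_lit 16957470))) (.node (.leaf (nat_lit 13807131)) (.leaf (nat_lit 1608259)))) (.node
    (.node (.leaf (nat_lit 20954803)) (.leaf (nat_lit 15021225))) (.node (.leaf (nat_lit 8369374))
    (.leaf (nat_lit 20267368))))) (.node (.node (.node (.node (.leaf (nat_lit 21446001)) (.leaf
    (nat_lit 23544461))) (.leaf (nat_lit 9080732))) (.node (.leaf (nat_lit 14663554)) (.leaf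
    (nat_lit 11188554)))) (.node (.node (.leaf (nat_lit 5310380)) (.leaf (nat_lit 13582541)))
    (.node (.leaf (nat_lit 10925167)) (.leaf (nat_lit 15479198))))))) (.node (.node (.node (.node
    (.node (.node (.leaf (nat_lit 10326467)) (.leaf (nat_lit 12890937))) (.leaf (nat_lit
    23937917))) (.node (.leaf (nat_lit 9737254)) (.leaf (nat_lit 5223226)))) (.node (.node (.leaf
    (nat_lit 24036279)) (.leaf (nat_lit 17671427))) (.node (.leaf (nat_lit 11120545)) (.leaf
    (nat_lit 10697857))))) (.node (.node (.node (.node (.leaf (nat_lit 11604977)) (.leaf (nat_lit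
    21642733))) (.leaf (nat_lit 4632332))) (.node (.leaf (nat_lit 13712040)) (.leaf (nat_lit
    21446007)))) (.node (.node (.leaf (nat_lit 2458709)) (.leaf (nat_lit 21085379))) (.node (.leaf
    (nat_lit 10827106)) (.leaf (nat_lit 13965725)))))) (.node (.node (.node (.node (.node (.leaf
    (nat_lit 7179286)) (.leaf (nat_lit 17081425))) (.leaf (nat_lit 19154199))) (.node (.leaf
    (nat_lit 21052585)) (.leaf (nat_lit 14857525)))) (.node (.node (.leaf (nat_lit 23315362))
    (.leaf (nat_lit 22069061))) (.node (.leaf (nat_lit 18130500)) (.leaf (nat_lit 1376644)))))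
    (.node (.node (.node (.leaf (nat_lit 14398570)) (.leaf (nat_lit 2067789))) (.node (.leaf
    (nat_lit 22332506)) (.leaf (nat_lit 21741107)))) (.node (.node (.leaf (nat_lit 12752321))
    (.leaf (nat_lit 11))) (.node (.leaf (nat_lit 7119620)) (.leaf (nat_lit 9867539)))))))) (.node
    (.node (.node (.node (.node (.node (.node (.leaf (nat_lit 426649)) (.leaf (nat_lit 11736167)))
    (.leaf (nat_lit 9746110))) (.node (.leaf (nat_lit 9015878)) (.leaf (nat_lit 11342614)))) (.node
    (.node (.leaf (nat_lit 23085419)) (.leaf (nat_lit 21642720))) (.node (.leaf (nat_lit 7507083))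
    (.leaf (nat_lit 16333376))))) (.node (.node (.node (.node (.leaf (nat_lit 10850987)) (.leaf
    (nat_lit 19741438))) (.leaf (nat_lit 10293688))) (.node (.leaf (nat_lit 8726816)) (.leaf
    (nat_lit 11539341)))) (.node (.node (.leaf (nat_lit 492259)) (.leaf (nat_lit 19642721))) (.node
    (.leaf (nat_lit 10982097)) (.leaf (nat_lit 1737966)))))) (.node (.node (.node (.node (.node
    (.leaf (nat_lit 5769726)) (.leaf (nat_lit 17578012))) (.leaf (nat_lit 21480089))) (.node (.leaf
    (nat_lit 19249335)) (.leaf (nat_lit 12293453)))) (.node (.node (.leaf (nat_lit 19120427))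
    (.leaf (nat_lit 13344155))) (.node (.leaf (nat_lit 16327540)) (.leaf (nat_lit 16499689)))))
    (.node (.node (.node (.node (.leaf (nat_lit 10892637)) (.leaf (nat_lit 23446700))) (.leaf
    (nat_lit 13801801))) (.node (.leaf (nat_lit 23610041)) (.leaf (nat_lit 9318168)))) (.node
    (.node (.leaf (nat_lit 5999232)) (.leaf (nat_lit 24790407))) (.node (.leaf (nat_lit 20462477))
    (.leaf (nat_lit 9506932))))))) (.node (.node (.node (.node (.node (.node (.leaf (nat_lit
    11080411)) (.leaf (nat_lit 19576499))) (.leaf (nat_lit 12991854))) (.node (.leaf (nat_lit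
    7673283)) (.leaf (nat_lit 15249975)))) (.node (.node (.leaf (nat_lit 16399432)) (.leaf (nat_lit
    15441306))) (.node (.leaf (nat_lit 4687555)) (.leaf (nat_lit 18464554))))) (.node (.node (.node
    (.node (.leaf (nat_lit 5714634)) (.leaf (nat_lit 24265801))) (.leaf (nat_lit 9842473))) (.node
    (.leaf (nat_lit 12598499)) (.leaf (nat_lit 8826354)))) (.node (.node (.leaf (nat_lit 5713627))
    (.leaf (nat_lit 16858673))) (.node (.leaf (nat_lit 3708555)) (.leaf (nat_lit 9907818))))))
    (.node (.node (.node (.node (.node (.leaf (nat_lit 10300357)) (.leaf (nat_lit 19347130)))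
    (.leaf (nat_lit 754167))) (.node (.leaf (nat_lit 24265793)) (.leaf (nat_lit 2560091)))) (.node
    (.node (.leaf (nat_lit 98376)) (.leaf (nat_lit 24462530))) (.node (.leaf (nat_lit 11604981))
    (.leaf (nat_lit 1314274))))) (.node (.node (.node (.leaf (nat_lit 21019803)) (.leaf (nat_lit
    11679537))) (.node (.leaf (nat_lit 1802878)) (.leaf (nat_lit 10236771)))) (.node (.node (.leaf
    (nat_lit 11057415)) (.leaf (nat_lit 196923))) (.node (.leaf (nat_lit 15774791)) (.leaf (nat_lit
    7803092)))))))))))) (.node (.node (.node (.node (.node (.node (.node (.node (.node (.node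
    (.node (.leaf (nat_lit 65563)) (.leaf (nat_lit 7934283))) (.leaf (nat_lit 24233011))) (.node
    (.leaf (nat_lit 11188535)) (.leaf (nat_lit 1225385)))) (.node (.node (.leaf (nat_lit 13282385))
    (.leaf (nat_lit 9506939))) (.node (.leaf (nat_lit 2688105)) (.leaf (nat_lit 10659346)))))
    (.node (.node (.node (.node (.leaf (nat_lit 8818501)) (.leaf (nat_lit 15677872))) (.leaf
    (nat_lit 3966390))) (.node (.leaf (nat_lit 19278195)) (.leaf (nat_lit 2625705)))) (.node (.node
    (.leaf (nat_lit 1376633)) (.leaf (nat_lit 7447855))) (.node (.leaf (nat_lit 4764854)) (.leaf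
    (nat_lit 524766)))))) (.node (.node (.node (.node (.node (.leaf (nat_lit 4392509)) (.leaf
    (nat_lit 15642786))) (.leaf (nat_lit 21282287))) (.node (.leaf (nat_lit 4986610)) (.leaf
    (nat_lit 4001366)))) (.node (.node (.leaf (nat_lit 21675515)) (.leaf (nat_lit 14195283)))
    (.node (.leaf (nat_lit 6631916)) (.leaf (nat_lit 15515542))))) (.node (.node (.node (.node
    (.leaf (nat_lit 12006761)) (.leaf (nat_lit 22528043))) (.leaf (nat_lit 10268890))) (.node
    (.leaf (nat_lit 16334150)) (.leaf (nat_lit 6173192)))) (.node (.node (.leaf (nat_lit 12956312))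
    (.leaf (nat_lit 22200197))) (.node (.leaf (nat_lit 13309869)) (.leaf (nat_lit 5606907)))))))
    (.node (.node (.node (.node (.node (.node (.leaf (nat_lit 7572641)) (.leaf (nat_lit 10982626)))
    (.leaf (nat_lit 10140106))) (.node (.leaf (nat_lit 7934636)) (.leaf (nat_lit 3343543)))) (.node
    (.node (.leaf (nat_lit 18299256)) (.leaf (nat_lit 3183463))) (.node (.leaf (nat_lit 10064224))
    (.leaf (nat_lit 23773963))))) (.node (.node (.node (.node (.leaf (nat_lit 8491555)) (.leaf
    (nat_lit 19020658))) (.leaf (nat_lit 8326551))) (.node (.leaf (nat_lit 18790588)) (.leaf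
    (nat_lit 12760898)))) (.node (.node (.leaf (nat_lit 3310679)) (.leaf (nat_lit 17410822)))
    (.node (.leaf (nat_lit 17343631)) (.leaf (nat_lit 11113195)))))) (.node (.node (.node (.node
    (.node (.leaf (nat_lit 6523567)) (.leaf (nat_lit 8954682))) (.leaf (nat_lit 24823202))) (.node
    (.leaf (nat_lit 14824374)) (.leaf (nat_lit 1936535)))) (.node (.node (.leaf (nat_lit 23839549))
    (.leaf (nat_lit 16168428))) (.node (.leaf (nat_lit 16425865)) (.leaf (nat_lit 21152874)))))
    (.node (.node (.node (.node (.leaf (nat_lit 5479330)) (.leaf (nat_lit 21382435))) (.leaf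
    (nat_lit 17146968))) (.node (.leaf (nat_lit 22102590)) (.leaf (nat_lit 15966721)))) (.node
    (.node (.leaf (nat_lit 4927139)) (.leaf (nat_lit 23282625))) (.node (.leaf (nat_lit 22265780))
    (.leaf (nat_lit 9801969)))))))) (.node (.node (.node (.node (.node (.node (.node (.leaf
    (nat_lit 3605783)) (.leaf (nat_lit 12031203))) (.leaf (nat_lit 21675511))) (.node (.leaf
    (nat_lit 11473783)) (.leaf (nat_lit 8589064)))) (.node (.node (.leaf (nat_lit 19835651)) (.leaf
    (nat_lit 20659172))) (.node (.leaf (nat_lit 3409118)) (.leaf (nat_lit 24560885))))) (.node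
    (.node (.node (.node (.leaf (nat_lit 2625644)) (.leaf (nat_lit 24560897))) (.leaf (nat_lit
    1936473))) (.node (.leaf (nat_lit 18000884)) (.leaf (nat_lit 20987008)))) (.node (.node (.leaf
    (nat_lit 295323)) (.leaf (nat_lit 23970712))) (.node (.leaf (nat_lit 2756965)) (.leaf (nat_lit
    1967258)))))) (.node (.node (.node (.node (.node (.leaf (nat_lit 5343119)) (.leaf (nat_lit
    20691959))) (.leaf (nat_lit 22462619))) (.node (.leaf (nat_lit 7510450)) (.leaf (nat_lit
    6523561)))) (.node (.node (.leaf (nat_lit 24265797)) (.leaf (nat_lit 10958989))) (.node (.leaf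
    (nat_lit 6436711)) (.leaf (nat_lit 24036287))))) (.node (.node (.node (.node (.leaf (nat_lit
    22069055)) (.leaf (nat_lit 21545634))) (.leaf (nat_lit 6162963))) (.node (.leaf (nat_lit
    23347723)) (.leaf (nat_lit 8892442)))) (.node (.node (.leaf (nat_lit 13604917)) (.leaf (nat_lit
    24200230))) (.node (.leaf (nat_lit 5773942)) (.leaf (nat_lit 16163557))))))) (.node (.node
    (.node (.node (.node (.node (.leaf (nat_lit 754729)) (.leaf (nat_lit 15118918))) (.leaf
    (nat_lit 18103234))) (.node (.leaf (nat_lit 10130608)) (.leaf (nat_lit 3769920)))) (.node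
    (.node (.leaf (nat_lit 21741093)) (.leaf (nat_lit 12956236))) (.node (.leaf (nat_lit 13178550))
    (.leaf (nat_lit 21183723))))) (.node (.node (.node (.node (.leaf (nat_lit 3281906)) (.leaf
    (nat_lit 23478875))) (.leaf (nat_lit 4097489))) (.node (.leaf (nat_lit 18725652)) (.leaf
    (nat_lit 6198726)))) (.node (.node (.leaf (nat_lit 11310593)) (.leaf (nat_lit 17644645)))
    (.node (.leaf (nat_lit 8459541)) (.leaf (nat_lit 13670547)))))) (.node (.node (.node (.node
    (.node (.leaf (nat_lit 7638195)) (.leaf (nat_lit 17774300))) (.leaf (nat_lit 23348623))) (.node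
    (.leaf (nat_lit 14921415)) (.leaf (nat_lit 2297609)))) (.node (.node (.leaf (nat_lit 17482776))
    (.leaf (nat_lit 13607920))) (.node (.leaf (nat_lit 3542300)) (.leaf (nat_lit 2360072)))))
    (.node (.node (.node (.leaf (nat_lit 15677866)) (.leaf (nat_lit 8982395))) (.node (.leaf
    (nat_lit 24397004)) (.leaf (nat_lit 17087892)))) (.node (.node (.leaf (nat_lit 10719857))
    (.leaf (nat_lit 1048890))) (.node (.leaf (nat_lit 17645336)) (.leaf (nat_lit 9408591)))))))))
    (.node (.node (.node (.node (.node (.node (.node (.node (.leaf (nat_lit 590001)) (.leaf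
    (nat_lit 10457689))) (.leaf (nat_lit 10595227))) (.node (.leaf (nat_lit 7376907)) (.leaf
    (nat_lit 6982556)))) (.node (.node (.leaf (nat_lit 7939234)) (.leaf (nat_lit 5058990))) (.node
    (.leaf (nat_lit 5015322)) (.leaf (nat_lit 20888671))))) (.node (.node (.node (.node (.leaf
    (nat_lit 9015167)) (.leaf (nat_lit 23282157))) (.leaf (nat_lit 1442243))) (.node (.leaf
    (nat_lit 18197495)) (.leaf (nat_lit 9572732)))) (.node (.node (.leaf (nat_lit 3146775)) (.leaf
    (nat_lit 14432616))) (.node (.leaf (nat_lit 16103354)) (.leaf (nat_lit 1049739)))))) (.node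
    (.node (.node (.node (.node (.leaf (nat_lit 1520040)) (.leaf (nat_lit 22855939))) (.leaf
    (nat_lit 19447670))) (.node (.leaf (nat_lit 7215104)) (.leaf (nat_lit 5998935)))) (.node (.node
    (.leaf (nat_lit 14171588)) (.leaf (nat_lit 14725571))) (.node (.leaf (nat_lit 15441292)) (.leaf
    (nat_lit 21708994))))) (.node (.node (.node (.node (.leaf (nat_lit 4075423)) (.leaf (nat_lit
    24200223))) (.leaf (nat_lit 9318864))) (.node (.leaf (nat_lit 16662178)) (.leaf (nat_lit
    6239168)))) (.node (.node (.leaf (nat_lit 4851512)) (.leaf (nat_lit 14565392))) (.node (.leaf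
    (nat_lit 13738847)) (.leaf (nat_lit 5903319))))))) (.node (.node (.node (.node (.node (.node
    (.leaf (nat_lit 9834738)) (.leaf (nat_lit 12989253))) (.leaf (nat_lit 10041993))) (.node (.leaf
    (nat_lit 9507642)) (.leaf (nat_lit 929069)))) (.node (.node (.leaf (nat_lit 19212762)) (.leaf
    (nat_lit 12662242))) (.node (.leaf (nat_lit 6359701)) (.leaf (nat_lit 20659175))))) (.node
    (.node (.node (.node (.leaf (nat_lit 13184917)) (.leaf (nat_lit 24167431))) (.leaf (nat_lit
    3769673))) (.node (.leaf (nat_lit 24855979)) (.leaf (nat_lit 3446057)))) (.node (.node (.leaf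
    (nat_lit 2065340)) (.leaf (nat_lit 20396905))) (.node (.leaf (nat_lit 10490909)) (.leaf
    (nat_lit 4173005)))))) (.node (.node (.node (.node (.node (.leaf (nat_lit 10691285)) (.leaf
    (nat_lit 21905082))) (.leaf (nat_lit 21513298))) (.node (.leaf (nat_lit 16101040)) (.leaf
    (nat_lit 7441728)))) (.node (.node (.leaf (nat_lit 22233822)) (.leaf (nat_lit 15644141)))
    (.node (.leaf (nat_lit 4394112)) (.leaf (nat_lit 20202918))))) (.node (.node (.node (.leaf
    (nat_lit 17380772)) (.leaf (nat_lit 18097712))) (.node (.leaf (nat_lit 23839622)) (.leaf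
    (nat_lit 23249361)))) (.node (.node (.leaf (nat_lit 13473791)) (.leaf (nat_lit 23217402)))
    (.node (.leaf (nat_lit 13875139)) (.leaf (nat_lit 11998427)))))))) (.node (.node (.node (.node
    (.node (.node (.node (.leaf (nat_lit 1540638)) (.leaf (nat_lit 10359686))) (.leaf (nat_lit
    20429688))) (.node (.leaf (nat_lit 7836100)) (.leaf (nat_lit 2753420)))) (.node (.node (.leaf
    (nat_lit 13872705)) (.leaf (nat_lit 21249284))) (.node (.leaf (nat_lit 1770206)) (.leaf
    (nat_lit 8923719))))) (.node (.node (.node (.node (.leaf (nat_lit 13841877)) (.leaf (nat_lit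
    19642908))) (.leaf (nat_lit 2360138))) (.node (.leaf (nat_lit 19905051)) (.leaf (nat_lit
    16097903)))) (.node (.node (.leaf (nat_lit 2917293)) (.leaf (nat_lit 8661431))) (.node (.leaf
    (nat_lit 17738718)) (.leaf (nat_lit 885773)))))) (.node (.node (.node (.node (.node (.leaf
    (nat_lit 2459940)) (.leaf (nat_lit 15834991))) (.leaf (nat_lit 23052748))) (.node (.leaf
    (nat_lit 20101799)) (.leaf (nat_lit 7146493)))) (.node (.node (.leaf (nat_lit 21250175)) (.leaf
    (nat_lit 23773960))) (.node (.leaf (nat_lit 11745128)) (.leaf (nat_lit 15319841))))) (.node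
    (.node (.node (.node (.leaf (nat_lit 11777911)) (.leaf (nat_lit 24134645))) (.leaf (nat_lit
    14462895))) (.node (.leaf (nat_lit 24364171)) (.leaf (nat_lit 11251272)))) (.node (.node (.leaf
    (nat_lit 5681252)) (.leaf (nat_lit 21283442))) (.node (.leaf (nat_lit 14365618)) (.leaf
    (nat_lit 16425867))))))) (.node (.node (.node (.node (.node (.node (.leaf (nat_lit 1049914))
    (.leaf (nat_lit 5223240))) (.leaf (nat_lit 11943110))) (.node (.leaf (nat_lit 4567738)) (.leaf
    (nat_lit 10792606)))) (.node (.node (.leaf (nat_lit 20724741)) (.leaf (nat_lit 22232980)))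
    (.node (.leaf (nat_lit 14031308)) (.leaf (nat_lit 22757571))))) (.node (.node (.node (.node
    (.leaf (nat_lit 13152979)) (.leaf (nat_lit 23314935))) (.leaf (nat_lit 3911437))) (.node (.leaf
    (nat_lit 20757566)) (.leaf (nat_lit 8460206)))) (.node (.node (.leaf (nat_lit 8490741)) (.leaf
    (nat_lit 18365802))) (.node (.leaf (nat_lit 8992018)) (.leaf (nat_lit 13611849)))))) (.node
    (.node (.node (.node (.node (.leaf (nat_lit 15283619)) (.leaf (nat_lit 12789080))) (.leaf
    (nat_lit 1770055))) (.node (.leaf (nat_lit 17409196)) (.leaf (nat_lit 6066094)))) (.node (.node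
    (.leaf (nat_lit 23020890)) (.leaf (nat_lit 23577257))) (.node (.leaf (nat_lit 19048741)) (.leaf
    (nat_lit 4000741))))) (.node (.node (.node (.leaf (nat_lit 9677973)) (.leaf (nat_lit
    19409363))) (.node (.leaf (nat_lit 163909)) (.leaf (nat_lit 7316669)))) (.node (.node (.leaf
    (nat_lit 8238727)) (.leaf (nat_lit 721113))) (.node (.leaf (nat_lit 21314865)) (.leaf (nat_lit
    8884302)))))))))) (.node (.node (.node (.node (.node (.node (.node (.node (.node (.leaf
    (nat_lit 1409441)) (.leaf (nat_lit 8425866))) (.leaf (nat_lit 10693511))) (.node (.leaf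
    (nat_lit 17900941)) (.leaf (nat_lit 4720329)))) (.node (.node (.leaf (nat_lit 16917588)) (.leaf
    (nat_lit 4862447))) (.node (.leaf (nat_lit 688424)) (.leaf (nat_lit 23314933))))) (.node (.node
    (.node (.node (.leaf (nat_lit 8523572)) (.leaf (nat_lit 13707089))) (.leaf (nat_lit 5211992)))
    (.node (.leaf (nat_lit 16360623)) (.leaf (nat_lit 5713631)))) (.node (.node (.leaf (nat_lit
    819459)) (.leaf (nat_lit 16197094))) (.node (.leaf (nat_lit 2527245)) (.leaf (nat_lit
    1802851)))))) (.node (.node (.node (.node (.node (.leaf (nat_lit 7441515)) (.leaf (nat_lit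
    14359232))) (.leaf (nat_lit 23216587))) (.node (.leaf (nat_lit 14463058)) (.leaf (nat_lit
    9907934)))) (.node (.node (.leaf (nat_lit 15187230)) (.leaf (nat_lit 7051592))) (.node (.leaf
    (nat_lit 14299276)) (.leaf (nat_lit 17121300))))) (.node (.node (.node (.node (.leaf (nat_lit
    4101752)) (.leaf (nat_lit 24462527))) (.leaf (nat_lit 12530383))) (.node (.leaf (nat_lit
    24462525)) (.leaf (nat_lit 9352184)))) (.node (.node (.leaf (nat_lit 4785888)) (.leaf (nat_lit
    21938052))) (.node (.leaf (nat_lit 12956575)) (.leaf (nat_lit 6326873))))))) (.node (.node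
    (.node (.node (.node (.node (.leaf (nat_lit 8982386)) (.leaf (nat_lit 7116120))) (.leaf
    (nat_lit 20266787))) (.node (.leaf (nat_lit 18822507)) (.leaf (nat_lit 12686757)))) (.node
    (.node (.leaf (nat_lit 20232953)) (.leaf (nat_lit 7681044))) (.node (.leaf (nat_lit 8104969))
    (.leaf (nat_lit 20331362))))) (.node (.node (.node (.node (.leaf (nat_lit 8402216)) (.leaf
    (nat_lit 15186934))) (.leaf (nat_lit 2720861))) (.node (.leaf (nat_lit 16857331)) (.leaf
    (nat_lit 12465508)))) (.node (.node (.leaf (nat_lit 3343549)) (.leaf (nat_lit 10074785)))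
    (.node (.leaf (nat_lit 6525784)) (.leaf (nat_lit 13309864)))))) (.node (.node (.node (.node
    (.node (.leaf (nat_lit 14293609)) (.leaf (nat_lit 16524233))) (.leaf (nat_lit 22234014)))
    (.node (.leaf (nat_lit 19970641)) (.leaf (nat_lit 2002147)))) (.node (.node (.leaf (nat_lit
    22331944)) (.leaf (nat_lit 6365598))) (.node (.leaf (nat_lit 16163561)) (.leaf (nat_lit
    19055887))))) (.node (.node (.node (.leaf (nat_lit 15644147)) (.leaf (nat_lit 11514895)))
    (.node (.leaf (nat_lit 22004460)) (.leaf (nat_lit 7283444)))) (.node (.node (.leaf (nat_lit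
    7343179)) (.leaf (nat_lit 16991332))) (.node (.leaf (nat_lit 20036211)) (.leaf (nat_lit
    8097105)))))))) (.node (.node (.node (.node (.node (.node (.node (.leaf (nat_lit 1376635))
    (.leaf (nat_lit 3838730))) (.leaf (nat_lit 24724838))) (.node (.leaf (nat_lit 10827051)) (.leaf
    (nat_lit 9441370)))) (.node (.node (.leaf (nat_lit 17868371)) (.leaf (nat_lit 20954232)))
    (.node (.leaf (nat_lit 2589873)) (.leaf (nat_lit 15085801))))) (.node (.node (.node (.node
    (.leaf (nat_lit 19868449)) (.leaf (nat_lit 19905053))) (.leaf (nat_lit 2261743))) (.node (.leaf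
    (nat_lit 16264109)) (.leaf (nat_lit 21282066)))) (.node (.node (.leaf (nat_lit 5288325)) (.leaf
    (nat_lit 17180966))) (.node (.leaf (nat_lit 20593600)) (.leaf (nat_lit 3179691)))))) (.node
    (.node (.node (.node (.node (.leaf (nat_lit 8793573)) (.leaf (nat_lit 6566311))) (.leaf
    (nat_lit 21545250))) (.node (.leaf (nat_lit 17573063)) (.leaf (nat_lit 16360312)))) (.node
    (.node (.leaf (nat_lit 22429689)) (.leaf (nat_lit 23642831))) (.node (.leaf (nat_lit 4862443))
    (.leaf (nat_lit 17449604))))) (.node (.node (.node (.node (.leaf (nat_lit 13998517)) (.leaf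
    (nat_lit 22233914))) (.leaf (nat_lit 14333438))) (.node (.leaf (nat_lit 24495313)) (.leaf
    (nat_lit 18233299)))) (.node (.node (.leaf (nat_lit 6457987)) (.leaf (nat_lit 18399706)))
    (.node (.leaf (nat_lit 15087307)) (.leaf (nat_lit 7048145))))))) (.node (.node (.node (.node
    (.node (.node (.leaf (nat_lit 3671333)) (.leaf (nat_lit 14629095))) (.leaf (nat_lit 16400150)))
    (.node (.leaf (nat_lit 3806456)) (.leaf (nat_lit 10073351)))) (.node (.node (.leaf (nat_lit
    23642827)) (.leaf (nat_lit 11777864))) (.node (.leaf (nat_lit 13670542)) (.leaf (nat_lit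
    12598646))))) (.node (.node (.node (.node (.leaf (nat_lit 21052581)) (.leaf (nat_lit
    20626986))) (.leaf (nat_lit 1508918))) (.node (.leaf (nat_lit 20823105)) (.leaf (nat_lit
    21577163)))) (.node (.node (.leaf (nat_lit 9867533)) (.leaf (nat_lit 16923879))) (.node (.leaf
    (nat_lit 14857079)) (.leaf (nat_lit 4918771)))))) (.node (.node (.node (.node (.node (.leaf
    (nat_lit 2100416)) (.leaf (nat_lit 21249290))) (.leaf (nat_lit 163925))) (.node (.leaf (nat_lit
    17638612)) (.leaf (nat_lit 14921411)))) (.node (.node (.leaf (nat_lit 24298678)) (.leaf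
    (nat_lit 7218223))) (.node (.leaf (nat_lit 2731062)) (.leaf (nat_lit 656529))))) (.node (.node
    (.node (.leaf (nat_lit 14561229)) (.leaf (nat_lit 19278192))) (.node (.leaf (nat_lit 23414124))
    (.leaf (nat_lit 24462529)))) (.node (.node (.leaf (nat_lit 10326471)) (.leaf (nat_lit 65679)))
    (.node (.leaf (nat_lit 17415952)) (.leaf (nat_lit 9146307))))))))) (.node (.node (.node (.node
    (.node (.node (.node (.node (.leaf (nat_lit 885007)) (.leaf (nat_lit 11768897))) (.leaf
    (nat_lit 10532784))) (.node (.leaf (nat_lit 11867299)) (.leaf (nat_lit 7900410)))) (.node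
    (.node (.leaf (nat_lit 20855887)) (.leaf (nat_lit 9933172))) (.node (.leaf (nat_lit 1638949))
    (.leaf (nat_lit 8631662))))) (.node (.node (.node (.node (.leaf (nat_lit 9375801)) (.leaf
    (nat_lit 17447202))) (.leaf (nat_lit 1704506))) (.node (.leaf (nat_lit 19315150)) (.leaf
    (nat_lit 17871719)))) (.node (.node (.leaf (nat_lit 1213837)) (.leaf (nat_lit 24069067)))
    (.node (.leaf (nat_lit 5935356)) (.leaf (nat_lit 3409115)))))) (.node (.node (.node (.node
    (.node (.leaf (nat_lit 1345316)) (.leaf (nat_lit 14982203))) (.leaf (nat_lit 22429767))) (.node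
    (.leaf (nat_lit 13771602)) (.leaf (nat_lit 14365633)))) (.node (.node (.leaf (nat_lit
    14630500)) (.leaf (nat_lit 6469119))) (.node (.leaf (nat_lit 4786188)) (.leaf (nat_lit
    19808582))))) (.node (.node (.node (.node (.leaf (nat_lit 11147248)) (.leaf (nat_lit
    22004214))) (.leaf (nat_lit 5835074))) (.node (.leaf (nat_lit 17088342)) (.leaf (nat_lit
    17545451)))) (.node (.node (.leaf (nat_lit 5408683)) (.leaf (nat_lit 17809582))) (.node (.leaf
    (nat_lit 8067534)) (.leaf (nat_lit 5868216))))))) (.node (.node (.node (.node (.node (.node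
    (.leaf (nat_lit 9277445)) (.leaf (nat_lit 8919201))) (.leaf (nat_lit 19938099))) (.node (.leaf
    (nat_lit 11834454)) (.leaf (nat_lit 6107225)))) (.node (.node (.leaf (nat_lit 23183785)) (.leaf
    (nat_lit 9213208))) (.node (.leaf (nat_lit 9179104)) (.leaf (nat_lit 22528035))))) (.node
    (.node (.node (.node (.leaf (nat_lit 3878332)) (.leaf (nat_lit 23511665))) (.leaf (nat_lit
    10040529))) (.node (.leaf (nat_lit 10205816)) (.leaf (nat_lit 11909021)))) (.node (.node (.leaf
    (nat_lit 2589752)) (.leaf (nat_lit 17087459))) (.node (.leaf (nat_lit 10757369)) (.leaf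
    (nat_lit 10260909)))))) (.node (.node (.node (.node (.node (.leaf (nat_lit 16196351)) (.leaf
    (nat_lit 17015869))) (.leaf (nat_lit 22922468))) (.node (.leaf (nat_lit 21708303)) (.leaf
    (nat_lit 8326547)))) (.node (.node (.leaf (nat_lit 16630642)) (.leaf (nat_lit 13181863)))
    (.node (.leaf (nat_lit 18064930)) (.leaf (nat_lit 232905))))) (.node (.node (.node (.leaf
    (nat_lit 20134579)) (.leaf (nat_lit 15807873))) (.node (.leaf (nat_lit 16958512)) (.leaf
    (nat_lit 22462469)))) (.node (.node (.leaf (nat_lit 8884063)) (.leaf (nat_lit 24823199)))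
    (.node (.leaf (nat_lit 9812405)) (.leaf (nat_lit 13244113)))))))) (.node (.node (.node (.node
    (.node (.node (.node (.leaf (nat_lit 6851447)) (.leaf (nat_lit 10720320))) (.leaf (nat_lit
    23610051))) (.node (.leaf (nat_lit 10457676)) (.leaf (nat_lit 7998751)))) (.node (.node (.leaf
    (nat_lit 20560823)) (.leaf (nat_lit 21380435))) (.node (.leaf (nat_lit 9211876)) (.leaf
    (nat_lit 16592227))))) (.node (.node (.node (.node (.leaf (nat_lit 10457593)) (.leaf (nat_lit
    15809226))) (.leaf (nat_lit 2786185))) (.node (.leaf (nat_lit 24823191)) (.leaf (nat_lit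
    11473777)))) (.node (.node (.leaf (nat_lit 2261733)) (.leaf (nat_lit 8890941))) (.node (.leaf
    (nat_lit 18917524)) (.leaf (nat_lit 3048648)))))) (.node (.node (.node (.node (.node (.leaf
    (nat_lit 6130165)) (.leaf (nat_lit 15283625))) (.leaf (nat_lit 23380566))) (.node (.leaf
    (nat_lit 5151693)) (.leaf (nat_lit 16196341)))) (.node (.node (.leaf (nat_lit 13713675)) (.leaf
    (nat_lit 20003437))) (.node (.leaf (nat_lit 2788162)) (.leaf (nat_lit 16434115))))) (.node
    (.node (.node (.node (.leaf (nat_lit 21839463)) (.leaf (nat_lit 22889612))) (.leaf (nat_lit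
    2132900))) (.node (.leaf (nat_lit 23872335)) (.leaf (nat_lit 17349038)))) (.node (.node (.leaf
    (nat_lit 11572123)) (.leaf (nat_lit 15123209))) (.node (.leaf (nat_lit 14333634)) (.leaf
    (nat_lit 10129773))))))) (.node (.node (.node (.node (.node (.node (.leaf (nat_lit 13572122))
    (.leaf (nat_lit 4200815))) (.leaf (nat_lit 24790412))) (.node (.leaf (nat_lit 14987732)) (.leaf
    (nat_lit 12956385)))) (.node (.node (.leaf (nat_lit 17775664)) (.leaf (nat_lit 5450973)))
    (.node (.leaf (nat_lit 11218856)) (.leaf (nat_lit 13450984))))) (.node (.node (.node (.node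
    (.leaf (nat_lit 12424567)) (.leaf (nat_lit 14270385))) (.leaf (nat_lit 9712120))) (.node (.leaf
    (nat_lit 15285430)) (.leaf (nat_lit 15375725)))) (.node (.node (.leaf (nat_lit 2098707)) (.leaf
    (nat_lit 21675523))) (.node (.leaf (nat_lit 11057427)) (.leaf (nat_lit 5672458)))))) (.node
    (.node (.node (.node (.node (.leaf (nat_lit 7867752)) (.leaf (nat_lit 20298521))) (.leaf
    (nat_lit 688341))) (.node (.leaf (nat_lit 22659217)) (.leaf (nat_lit 13087458)))) (.node (.node
    (.leaf (nat_lit 163915)) (.leaf (nat_lit 19081530))) (.node (.leaf (nat_lit 17015871)) (.leaf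
    (nat_lit 1281505))))) (.node (.node (.node (.leaf (nat_lit 15904108)) (.leaf (nat_lit
    6000541))) (.node (.leaf (nat_lit 918121)) (.leaf (nat_lit 14263624)))) (.node (.node (.leaf
    (nat_lit 4460280)) (.leaf (nat_lit 983347))) (.node (.leaf (nat_lit 19415282)) (.leaf (nat_lit
    7966902))))))))))) (.node (.node (.node (.node (.node (.node (.node (.node (.node (.node (.leaf
    (nat_lit 852232)) (.leaf (nat_lit 4764926))) (.leaf (nat_lit 11712219))) (.node (.leaf (nat_lit
    7475040)) (.leaf (nat_lit 295296)))) (.node (.node (.leaf (nat_lit 22528038)) (.leaf (nat_lit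
    9670835))) (.node (.leaf (nat_lit 2228955)) (.leaf (nat_lit 9284640))))) (.node (.node (.node
    (.node (.leaf (nat_lit 5582302)) (.leaf (nat_lit 18491182))) (.leaf (nat_lit 295232))) (.node
    (.leaf (nat_lit 17769803)) (.leaf (nat_lit 9801959)))) (.node (.node (.leaf (nat_lit 721121))
    (.leaf (nat_lit 17868279))) (.node (.leaf (nat_lit 7999454)) (.leaf (nat_lit 6621942))))))
    (.node (.node (.node (.node (.node (.leaf (nat_lit 4326970)) (.leaf (nat_lit 22265776))) (.leaf
    (nat_lit 20889156))) (.node (.leaf (nat_lit 12792090)) (.leaf (nat_lit 2239773)))) (.node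
    (.node (.leaf (nat_lit 23118215)) (.leaf (nat_lit 13218414))) (.node (.leaf (nat_lit 15014996))
    (.leaf (nat_lit 16891862))))) (.node (.node (.node (.node (.leaf (nat_lit 10007821)) (.leaf
    (nat_lit 22593682))) (.leaf (nat_lit 4436425))) (.node (.leaf (nat_lit 21282215)) (.leaf
    (nat_lit 5813786)))) (.node (.node (.leaf (nat_lit 12333857)) (.leaf (nat_lit 16498500)))
    (.node (.leaf (nat_lit 13375452)) (.leaf (nat_lit 6523577))))))) (.node (.node (.node (.node
    (.node (.node (.leaf (nat_lit 2228985)) (.leaf (nat_lit 8787196))) (.leaf (nat_lit 12858655)))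
    (.node (.leaf (nat_lit 14136555)) (.leaf (nat_lit 3474689)))) (.node (.node (.leaf (nat_lit
    19048750)) (.leaf (nat_lit 6427567))) (.node (.leaf (nat_lit 9867541)) (.leaf (nat_lit
    23085417))))) (.node (.node (.node (.node (.leaf (nat_lit 16130722)) (.leaf (nat_lit
    20560827))) (.leaf (nat_lit 11440998))) (.node (.leaf (nat_lit 24692042)) (.leaf (nat_lit
    3282077)))) (.node (.node (.leaf (nat_lit 3277885)) (.leaf (nat_lit 10795609))) (.node (.leaf
    (nat_lit 8826860)) (.leaf (nat_lit 8064330)))))) (.node (.node (.node (.node (.node (.leaf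
    (nat_lit 6064796)) (.leaf (nat_lit 23937913))) (.leaf (nat_lit 24167433))) (.node (.leaf
    (nat_lit 14365308)) (.leaf (nat_lit 7679357)))) (.node (.node (.leaf (nat_lit 24724825)) (.leaf
    (nat_lit 21773899))) (.node (.leaf (nat_lit 6982622)) (.leaf (nat_lit 17253568))))) (.node
    (.node (.node (.node (.leaf (nat_lit 15577127)) (.leaf (nat_lit 22922619))) (.leaf (nat_lit
    3443799))) (.node (.leaf (nat_lit 21250720)) (.leaf (nat_lit 6660697)))) (.node (.node (.leaf
    (nat_lit 7277607)) (.leaf (nat_lit 17908750))) (.node (.leaf (nat_lit 6566307)) (.leaf (nat_lit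
    9670839)))))))) (.node (.node (.node (.node (.node (.node (.node (.leaf (nat_lit 4818659))
    (.leaf (nat_lit 3642090))) (.leaf (nat_lit 17905588))) (.node (.leaf (nat_lit 11932869)) (.leaf
    (nat_lit 2163504)))) (.node (.node (.leaf (nat_lit 20495259)) (.leaf (nat_lit 20757531)))
    (.node (.leaf (nat_lit 7080923)) (.leaf (nat_lit 19311033))))) (.node (.node (.node (.node
    (.leaf (nat_lit 14333259)) (.leaf (nat_lit 21839469))) (.leaf (nat_lit 6982565))) (.node (.leaf
    (nat_lit 10954427)) (.leaf (nat_lit 5549669)))) (.node (.node (.leaf (nat_lit 524760)) (.leaf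
    (nat_lit 18884765))) (.node (.leaf (nat_lit 3936664)) (.leaf (nat_lit 2131102)))))) (.node
    (.node (.node (.node (.node (.leaf (nat_lit 15375719)) (.leaf (nat_lit 20134586))) (.leaf
    (nat_lit 16761065))) (.node (.leaf (nat_lit 15773860)) (.leaf (nat_lit 14195277)))) (.node
    (.node (.leaf (nat_lit 24855983)) (.leaf (nat_lit 14070210))) (.node (.leaf (nat_lit 1509839))
    (.leaf (nat_lit 22102574))))) (.node (.node (.node (.node (.leaf (nat_lit 4993638)) (.leaf
    (nat_lit 23970703))) (.leaf (nat_lit 15868305))) (.node (.leaf (nat_lit 24101852)) (.leaf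
    (nat_lit 7419042)))) (.node (.node (.leaf (nat_lit 4198110)) (.leaf (nat_lit 18694540))) (.node
    (.leaf (nat_lit 4561603)) (.leaf (nat_lit 12260659))))))) (.node (.node (.node (.node (.node
    (.node (.leaf (nat_lit 11473779)) (.leaf (nat_lit 14463060))) (.leaf (nat_lit 23708405)))
    (.node (.leaf (nat_lit 15610979)) (.leaf (nat_lit 7474311)))) (.node (.node (.leaf (nat_lit
    20331305)) (.leaf (nat_lit 12621323))) (.node (.leaf (nat_lit 5868173)) (.leaf (nat_lit
    10992924))))) (.node (.node (.node (.node (.leaf (nat_lit 5903467)) (.leaf (nat_lit 22954277)))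
    (.leaf (nat_lit 4796969))) (.node (.leaf (nat_lit 23019853)) (.leaf (nat_lit 12916337))))
    (.node (.node (.leaf (nat_lit 12103641)) (.leaf (nat_lit 10763422))) (.node (.leaf (nat_lit
    4141852)) (.leaf (nat_lit 4787715)))))) (.node (.node (.node (.node (.node (.leaf (nat_lit
    7703761)) (.leaf (nat_lit 16393393))) (.leaf (nat_lit 196700))) (.node (.leaf (nat_lit
    12362550)) (.leaf (nat_lit 19376582)))) (.node (.node (.leaf (nat_lit 21283956)) (.leaf
    (nat_lit 24331383))) (.node (.leaf (nat_lit 10204603)) (.leaf (nat_lit 2196172))))) (.node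
    (.node (.node (.leaf (nat_lit 16330072)) (.leaf (nat_lit 18950302))) (.node (.leaf (nat_lit
    19416351)) (.leaf (nat_lit 22495253)))) (.node (.node (.leaf (nat_lit 10490375)) (.leaf
    (nat_lit 241474))) (.node (.leaf (nat_lit 16196554)) (.leaf (nat_lit 9572497))))))))) (.node
    (.node (.node (.node (.node (.node (.node (.node (.leaf (nat_lit 688348)) (.leaf (nat_lit
    10687066))) (.leaf (nat_lit 10369031))) (.node (.leaf (nat_lit 4395078)) (.leaf (nat_lit
    1868434)))) (.node (.node (.leaf (nat_lit 23249369)) (.leaf (nat_lit 4142346))) (.node (.leaf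
    (nat_lit 1343839)) (.leaf (nat_lit 18687921))))) (.node (.node (.node (.node (.leaf (nat_lit
    6360996)) (.leaf (nat_lit 20364097))) (.leaf (nat_lit 6228528))) (.node (.leaf (nat_lit
    15118391)) (.leaf (nat_lit 10293691)))) (.node (.node (.leaf (nat_lit 3868014)) (.leaf (nat_lit
    23249371))) (.node (.leaf (nat_lit 7409852)) (.leaf (nat_lit 623309)))))) (.node (.node (.node
    (.node (.node (.leaf (nat_lit 5015325)) (.leaf (nat_lit 5779601))) (.leaf (nat_lit 14991307)))
    (.node (.leaf (nat_lit 15348015)) (.leaf (nat_lit 4141144)))) (.node (.node (.leaf (nat_lit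
    21118472)) (.leaf (nat_lit 13539922))) (.node (.leaf (nat_lit 12628659)) (.leaf (nat_lit
    24364161))))) (.node (.node (.node (.node (.leaf (nat_lit 13643708)) (.leaf (nat_lit
    19481004))) (.leaf (nat_lit 5805001))) (.node (.leaf (nat_lit 24036273)) (.leaf (nat_lit
    21216505)))) (.node (.node (.leaf (nat_lit 5747358)) (.leaf (nat_lit 22102126))) (.node (.leaf
    (nat_lit 13932925)) (.leaf (nat_lit 7408738))))))) (.node (.node (.node (.node (.node (.node
    (.leaf (nat_lit 10129770)) (.leaf (nat_lit 18360019))) (.leaf (nat_lit 19872489))) (.node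
    (.leaf (nat_lit 9638788)) (.leaf (nat_lit 5443159)))) (.node (.node (.leaf (nat_lit 22396901))
    (.leaf (nat_lit 3413227))) (.node (.leaf (nat_lit 2262236)) (.leaf (nat_lit 15711277)))))
    (.node (.node (.node (.node (.leaf (nat_lit 4664757)) (.leaf (nat_lit 18103482))) (.leaf
    (nat_lit 3708441))) (.node (.leaf (nat_lit 18299416)) (.leaf (nat_lit 5681630)))) (.node (.node
    (.leaf (nat_lit 2327548)) (.leaf (nat_lit 20462494))) (.node (.leaf (nat_lit 10855669)) (.leaf
    (nat_lit 4294155)))))) (.node (.node (.node (.node (.node (.leaf (nat_lit 7277615)) (.leaf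
    (nat_lit 22364127))) (.leaf (nat_lit 22889622))) (.node (.leaf (nat_lit 16037908)) (.leaf
    (nat_lit 5420666)))) (.node (.node (.leaf (nat_lit 24003489)) (.leaf (nat_lit 21970666)))
    (.node (.leaf (nat_lit 2624685)) (.leaf (nat_lit 65574))))) (.node (.node (.node (.leaf
    (nat_lit 5447038)) (.leaf (nat_lit 7703806))) (.node (.leaf (nat_lit 22496219)) (.leaf (nat_lit
    19869026)))) (.node (.node (.leaf (nat_lit 11146561)) (.leaf (nat_lit 23315780))) (.node (.leaf
    (nat_lit 15184513)) (.leaf (nat_lit 3935990)))))))) (.node (.node (.node (.node (.node (.node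
    (.node (.leaf (nat_lit 6687549)) (.leaf (nat_lit 11637861))) (.leaf (nat_lit 21184757))) (.node
    (.leaf (nat_lit 10687054)) (.leaf (nat_lit 10719852)))) (.node (.node (.leaf (nat_lit
    18036168)) (.leaf (nat_lit 19478804))) (.node (.leaf (nat_lit 2196238)) (.leaf (nat_lit
    9054865))))) (.node (.node (.node (.node (.leaf (nat_lit 2822519)) (.leaf (nat_lit 18889340)))
    (.leaf (nat_lit 2591291))) (.node (.leaf (nat_lit 23216577)) (.leaf (nat_lit 3150615)))) (.node
    (.node (.leaf (nat_lit 2982847)) (.leaf (nat_lit 14921419))) (.node (.leaf (nat_lit 21118148))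
    (.leaf (nat_lit 2950311)))))) (.node (.node (.node (.node (.node (.leaf (nat_lit 5867850))
    (.leaf (nat_lit 15703918))) (.leaf (nat_lit 21381652))) (.node (.leaf (nat_lit 21937867))
    (.leaf (nat_lit 7015420)))) (.node (.node (.leaf (nat_lit 16957626)) (.leaf (nat_lit
    15348282))) (.node (.leaf (nat_lit 5419424)) (.leaf (nat_lit 16139119))))) (.node (.node (.node
    (.node (.leaf (nat_lit 9745369)) (.leaf (nat_lit 22070331))) (.leaf (nat_lit 7113718))) (.node
    (.leaf (nat_lit 18989404)) (.leaf (nat_lit 22003443)))) (.node (.node (.leaf (nat_lit 5903321))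
    (.leaf (nat_lit 14861006))) (.node (.leaf (nat_lit 15347776)) (.leaf (nat_lit 4394092)))))))
    (.node (.node (.node (.node (.node (.node (.leaf (nat_lit 12168649)) (.leaf (nat_lit
    13771616))) (.leaf (nat_lit 23511673))) (.node (.leaf (nat_lit 18395464)) (.leaf (nat_lit
    9875178)))) (.node (.node (.leaf (nat_lit 21183727)) (.leaf (nat_lit 12719796))) (.node (.leaf
    (nat_lit 4261487)) (.leaf (nat_lit 22560817))))) (.node (.node (.node (.node (.leaf (nat_lit
    6985002)) (.leaf (nat_lit 21970778))) (.leaf (nat_lit 4829958))) (.node (.leaf (nat_lit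
    21183729)) (.leaf (nat_lit 21970665)))) (.node (.node (.leaf (nat_lit 4173007)) (.leaf (nat_lit
    18431420))) (.node (.leaf (nat_lit 9024796)) (.leaf (nat_lit 5344765)))))) (.node (.node (.node
    (.node (.node (.leaf (nat_lit 4459838)) (.leaf (nat_lit 19544525))) (.leaf (nat_lit 1540580)))
    (.node (.leaf (nat_lit 21806683)) (.leaf (nat_lit 14987061)))) (.node (.node (.leaf (nat_lit
    23676328)) (.leaf (nat_lit 17310874))) (.node (.leaf (nat_lit 11375426)) (.leaf (nat_lit
    1150427))))) (.node (.node (.node (.leaf (nat_lit 16524231)) (.leaf (nat_lit 19606089))) (.node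
    (.leaf (nat_lit 262248)) (.leaf (nat_lit 21905069)))) (.node (.node (.leaf (nat_lit 10916547))
    (.leaf (nat_lit 3540234))) (.node (.leaf (nat_lit 17055840)) (.leaf (nat_lit 7704710))))))))))
    (.node (.node (.node (.node (.node (.node (.node (.node (.node (.leaf (nat_lit 458899)) (.leaf
    (nat_lit 11473785))) (.leaf (nat_lit 17279956))) (.node (.leaf (nat_lit 8196028)) (.leaf
    (nat_lit 6457976)))) (.node (.node (.leaf (nat_lit 20626389)) (.leaf (nat_lit 9539798))) (.node
    (.leaf (nat_lit 4294146)) (.leaf (nat_lit 8566850))))) (.node (.node (.node (.node (.leaf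
    (nat_lit 10555933)) (.leaf (nat_lit 15513264))) (.leaf (nat_lit 1355039))) (.node (.leaf
    (nat_lit 21544379)) (.leaf (nat_lit 6599890)))) (.node (.node (.leaf (nat_lit 557554)) (.leaf
    (nat_lit 15055205))) (.node (.leaf (nat_lit 7548036)) (.leaf (nat_lit 2557085)))))) (.node
    (.node (.node (.node (.node (.leaf (nat_lit 11120547)) (.leaf (nat_lit 20101803))) (.leaf
    (nat_lit 15744823))) (.node (.leaf (nat_lit 14588727)) (.leaf (nat_lit 1444131)))) (.node
    (.node (.leaf (nat_lit 13057394)) (.leaf (nat_lit 13941095))) (.node (.leaf (nat_lit 5277559))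
    (.leaf (nat_lit 19513458))))) (.node (.node (.node (.node (.leaf (nat_lit 13513639)) (.leaf
    (nat_lit 24757626))) (.leaf (nat_lit 10825318))) (.node (.leaf (nat_lit 21446182)) (.leaf
    (nat_lit 11581419)))) (.node (.node (.leaf (nat_lit 6172785)) (.leaf (nat_lit 16531410)))
    (.node (.leaf (nat_lit 14495224)) (.leaf (nat_lit 15413356))))))) (.node (.node (.node (.node
    (.node (.node (.leaf (nat_lit 2589521)) (.leaf (nat_lit 15217116))) (.leaf (nat_lit 19249726)))
    (.node (.leaf (nat_lit 13643255)) (.leaf (nat_lit 886071)))) (.node (.node (.leaf (nat_lit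
    18888402)) (.leaf (nat_lit 3281999))) (.node (.leaf (nat_lit 721935)) (.leaf (nat_lit
    20528041))))) (.node (.node (.node (.node (.leaf (nat_lit 20593605)) (.leaf (nat_lit
    20987019))) (.leaf (nat_lit 7375958))) (.node (.leaf (nat_lit 15513254)) (.leaf (nat_lit
    14725898)))) (.node (.node (.leaf (nat_lit 1999768)) (.leaf (nat_lit 24855987))) (.node (.leaf
    (nat_lit 18033379)) (.leaf (nat_lit 4326949)))))) (.node (.node (.node (.node (.node (.leaf
    (nat_lit 12231344)) (.leaf (nat_lit 21872295))) (.leaf (nat_lit 24069112))) (.node (.leaf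
    (nat_lit 14753175)) (.leaf (nat_lit 7965965)))) (.node (.node (.leaf (nat_lit 22594190)) (.leaf
    (nat_lit 6660689))) (.node (.leaf (nat_lit 1903683)) (.leaf (nat_lit 23709014))))) (.node
    (.node (.node (.leaf (nat_lit 21773883)) (.leaf (nat_lit 6687928))) (.node (.leaf (nat_lit
    23642942)) (.leaf (nat_lit 19937857)))) (.node (.node (.leaf (nat_lit 4099020)) (.leaf (nat_lit
    17056936))) (.node (.leaf (nat_lit 14921421)) (.leaf (nat_lit 8228215)))))))) (.node (.node
    (.node (.node (.node (.node (.node (.leaf (nat_lit 1224944)) (.leaf (nat_lit 9278277))) (.leaf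
    (nat_lit 14103537))) (.node (.leaf (nat_lit 20069011)) (.leaf (nat_lit 1355041)))) (.node
    (.node (.leaf (nat_lit 15316407)) (.leaf (nat_lit 19970648))) (.node (.leaf (nat_lit 426671))
    (.leaf (nat_lit 19905063))))) (.node (.node (.node (.node (.leaf (nat_lit 12661615)) (.leaf
    (nat_lit 24855981))) (.leaf (nat_lit 8916840))) (.node (.leaf (nat_lit 14531068)) (.leaf
    (nat_lit 18360011)))) (.node (.node (.leaf (nat_lit 983668)) (.leaf (nat_lit 8628560))) (.node
    (.leaf (nat_lit 16264105)) (.leaf (nat_lit 2688136)))))) (.node (.node (.node (.node (.node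
    (.leaf (nat_lit 11974105)) (.leaf (nat_lit 15736599))) (.leaf (nat_lit 23019900))) (.node
    (.leaf (nat_lit 20691955)) (.leaf (nat_lit 16622558)))) (.node (.node (.leaf (nat_lit
    16826397)) (.leaf (nat_lit 12989249))) (.node (.leaf (nat_lit 10785419)) (.leaf (nat_lit
    19579610))))) (.node (.node (.node (.node (.leaf (nat_lit 14359227)) (.leaf (nat_lit
    23708558))) (.leaf (nat_lit 6130390))) (.node (.leaf (nat_lit 22954279)) (.leaf (nat_lit
    17708458)))) (.node (.node (.leaf (nat_lit 6294089)) (.leaf (nat_lit 19251744))) (.node (.leaf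
    (nat_lit 5681410)) (.leaf (nat_lit 7179277))))))) (.node (.node (.node (.node (.node (.node
    (.leaf (nat_lit 4589219)) (.leaf (nat_lit 13441034))) (.leaf (nat_lit 23151006))) (.node (.leaf
    (nat_lit 6821202)) (.leaf (nat_lit 4830013)))) (.node (.node (.leaf (nat_lit 22003447)) (.leaf
    (nat_lit 12329774))) (.node (.leaf (nat_lit 13900152)) (.leaf (nat_lit 13057482))))) (.node
    (.node (.node (.node (.leaf (nat_lit 9909600)) (.leaf (nat_lit 16629414))) (.leaf (nat_lit
    14228052))) (.node (.leaf (nat_lit 15023092)) (.leaf (nat_lit 18526106)))) (.node (.node (.leaf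
    (nat_lit 1115564)) (.leaf (nat_lit 23511667))) (.node (.leaf (nat_lit 3511689)) (.leaf (nat_lit
    4853262)))))) (.node (.node (.node (.node (.node (.leaf (nat_lit 15610973)) (.leaf (nat_lit
    16592235))) (.leaf (nat_lit 1081665))) (.node (.leaf (nat_lit 13411244)) (.leaf (nat_lit
    7573364)))) (.node (.node (.leaf (nat_lit 19023121)) (.leaf (nat_lit 20626402))) (.node (.leaf
    (nat_lit 18327214)) (.leaf (nat_lit 3113996))))) (.node (.node (.node (.leaf (nat_lit 7348982))
    (.leaf (nat_lit 19343806))) (.node (.leaf (nat_lit 65560)) (.leaf (nat_lit 17999323)))) (.node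
    (.node (.leaf (nat_lit 8104970)) (.leaf (nat_lit 98477))) (.node (.leaf (nat_lit 24298595))
    (.leaf (nat_lit 11375428))))))))) (.node (.node (.node (.node (.node (.node (.node (.node
    (.leaf (nat_lit 3474679)) (.leaf (nat_lit 11932871))) (.leaf (nat_lit 19544520))) (.node (.leaf
    (nat_lit 11670549)) (.leaf (nat_lit 2425649)))) (.node (.node (.leaf (nat_lit 18491181)) (.leaf
    (nat_lit 5157083))) (.node (.leaf (nat_lit 1289760)) (.leaf (nat_lit 24003495))))) (.node
    (.node (.node (.node (.leaf (nat_lit 3936317)) (.leaf (nat_lit 14727352))) (.leaf (nat_lit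
    492172))) (.node (.leaf (nat_lit 15546019)) (.leaf (nat_lit 15118385)))) (.node (.node (.leaf
    (nat_lit 1279378)) (.leaf (nat_lit 18655149))) (.node (.leaf (nat_lit 18560459)) (.leaf
    (nat_lit 3310687)))))) (.node (.node (.node (.node (.node (.leaf (nat_lit 5638155)) (.leaf
    (nat_lit 15087302))) (.leaf (nat_lit 21217348))) (.node (.leaf (nat_lit 5609840)) (.leaf
    (nat_lit 6326880)))) (.node (.node (.leaf (nat_lit 15810270)) (.leaf (nat_lit 6729646))) (.node
    (.leaf (nat_lit 5124242)) (.leaf (nat_lit 13943187))))) (.node (.node (.node (.node (.leaf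
    (nat_lit 11251114)) (.leaf (nat_lit 24429741))) (.leaf (nat_lit 2755044))) (.node (.leaf
    (nat_lit 20594596)) (.leaf (nat_lit 11057434)))) (.node (.node (.leaf (nat_lit 15408515))
    (.leaf (nat_lit 22397188))) (.node (.leaf (nat_lit 12432296)) (.leaf (nat_lit 6163208)))))))
    (.node (.node (.node (.node (.node (.node (.leaf (nat_lit 3113989)) (.leaf (nat_lit 15249870)))
    (.leaf (nat_lit 16726919))) (.node (.leaf (nat_lit 9540668)) (.leaf (nat_lit 3573247)))) (.node
    (.node (.leaf (nat_lit 15870754)) (.leaf (nat_lit 12359025))) (.node (.leaf (nat_lit 886047))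
    (.leaf (nat_lit 11418798))))) (.node (.node (.node (.node (.leaf (nat_lit 11670543)) (.leaf
    (nat_lit 18169154))) (.leaf (nat_lit 951735))) (.node (.leaf (nat_lit 12073668)) (.leaf
    (nat_lit 11974117)))) (.node (.node (.leaf (nat_lit 2819274)) (.leaf (nat_lit 10533914)))
    (.node (.leaf (nat_lit 3380453)) (.leaf (nat_lit 14195281)))))) (.node (.node (.node (.node
    (.node (.leaf (nat_lit 12293455)) (.leaf (nat_lit 19278206))) (.leaf (nat_lit 22070590)))
    (.node (.leaf (nat_lit 18102231)) (.leaf (nat_lit 13309871)))) (.node (.node (.leaf (nat_lit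
    17220548)) (.leaf (nat_lit 16393175))) (.node (.leaf (nat_lit 2034929)) (.leaf (nat_lit
    360581))))) (.node (.node (.node (.leaf (nat_lit 21970657)) (.leaf (nat_lit 18622290))) (.node
    (.leaf (nat_lit 23446664)) (.leaf (nat_lit 7185423)))) (.node (.node (.leaf (nat_lit 10654277))
    (.leaf (nat_lit 458894))) (.node (.leaf (nat_lit 11676582)) (.leaf (nat_lit 12138661))))))))
    (.node (.node (.node (.node (.node (.node (.node (.leaf (nat_lit 7408735)) (.leaf (nat_lit
    10654894))) (.leaf (nat_lit 20955374))) (.node (.leaf (nat_lit 7541358)) (.leaf (nat_lit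
    3212337)))) (.node (.node (.leaf (nat_lit 13317484)) (.leaf (nat_lit 3650092))) (.node (.leaf
    (nat_lit 9605266)) (.leaf (nat_lit 22790351))))) (.node (.node (.node (.node (.leaf (nat_lit
    2953700)) (.leaf (nat_lit 18070296))) (.leaf (nat_lit 10588712))) (.node (.leaf (nat_lit
    17152286)) (.leaf (nat_lit 21675520)))) (.node (.node (.leaf (nat_lit 3081199)) (.leaf (nat_lit
    9054863))) (.node (.leaf (nat_lit 17310843)) (.leaf (nat_lit 11057417)))))) (.node (.node
    (.node (.node (.node (.leaf (nat_lit 2656821)) (.leaf (nat_lit 12853878))) (.leaf (nat_lit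
    22332096))) (.node (.leaf (nat_lit 18362056)) (.leaf (nat_lit 15021219)))) (.node (.node (.leaf
    (nat_lit 23282151)) (.leaf (nat_lit 5479957))) (.node (.leaf (nat_lit 16491443)) (.leaf
    (nat_lit 22987810))))) (.node (.node (.node (.node (.leaf (nat_lit 14498017)) (.leaf (nat_lit
    17056978))) (.leaf (nat_lit 6851575))) (.node (.leaf (nat_lit 23970697)) (.leaf (nat_lit
    11154818)))) (.node (.node (.leaf (nat_lit 5933750)) (.leaf (nat_lit 22758246))) (.node (.leaf
    (nat_lit 13513636)) (.leaf (nat_lit 9539719))))))) (.node (.node (.node (.node (.node (.node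
    (.leaf (nat_lit 3846004)) (.leaf (nat_lit 12753339))) (.leaf (nat_lit 17154344))) (.node (.leaf
    (nat_lit 8919202)) (.leaf (nat_lit 5320535)))) (.node (.node (.leaf (nat_lit 16727150)) (.leaf
    (nat_lit 13473804))) (.node (.leaf (nat_lit 14687088)) (.leaf (nat_lit 23413295))))) (.node
    (.node (.node (.node (.leaf (nat_lit 18231804)) (.leaf (nat_lit 23347725))) (.leaf (nat_lit
    15080550))) (.node (.leaf (nat_lit 23577247)) (.leaf (nat_lit 18589515)))) (.node (.node (.leaf
    (nat_lit 1082955)) (.leaf (nat_lit 12041807))) (.node (.leaf (nat_lit 4036250)) (.leaf (nat_lit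
    5737978)))))) (.node (.node (.node (.node (.node (.leaf (nat_lit 10392025)) (.leaf (nat_lit
    21675517))) (.leaf (nat_lit 819463))) (.node (.leaf (nat_lit 19511541)) (.leaf (nat_lit
    14136563)))) (.node (.node (.leaf (nat_lit 230790)) (.leaf (nat_lit 7349449))) (.node (.leaf
    (nat_lit 3649426)) (.leaf (nat_lit 1409445))))) (.node (.node (.node (.leaf (nat_lit 17081423))
    (.leaf (nat_lit 12227865))) (.node (.leaf (nat_lit 1540578)) (.leaf (nat_lit 10757520))))
    (.node (.node (.leaf (nat_lit 11244297)) (.leaf (nat_lit 4359729))) (.node (.leaf (nat_lit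
    13476994)) (.leaf (nat_lit 7835888))))))))))))) (.node (.node (.node (.node (.node (.node
    (.node (.node (.node (.node (.node (.node (.leaf (nat_lit 32788)) (.leaf (nat_lit 5549675)))
    (.leaf (nat_lit 21020430))) (.node (.leaf (nat_lit 19081517)) (.leaf (nat_lit 1258152))))
    (.node (.node (.leaf (nat_lit 13549196)) (.leaf (nat_lit 5681617))) (.node (.leaf (nat_lit
    491715)) (.leaf (nat_lit 17376730))))) (.node (.node (.node (.node (.leaf (nat_lit 17933729))
    (.leaf (nat_lit 15546011))) (.leaf (nat_lit 3867998))) (.node (.leaf (nat_lit 22036275)) (.leaf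
    (nat_lit 4863588)))) (.node (.node (.leaf (nat_lit 262264)) (.leaf (nat_lit 13907359))) (.node
    (.leaf (nat_lit 19671644)) (.leaf (nat_lit 4720338)))))) (.node (.node (.node (.node (.node
    (.leaf (nat_lit 3650023)) (.leaf (nat_lit 15610024))) (.leaf (nat_lit 18595478))) (.node (.leaf
    (nat_lit 16229177)) (.leaf (nat_lit 8205947)))) (.node (.node (.leaf (nat_lit 17415312)) (.leaf
    (nat_lit 4036628))) (.node (.leaf (nat_lit 5507065)) (.leaf (nat_lit 22200189))))) (.node
    (.node (.node (.node (.leaf (nat_lit 5681844)) (.leaf (nat_lit 22495259))) (.leaf (nat_lit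
    15178938))) (.node (.leaf (nat_lit 19938596)) (.leaf (nat_lit 13801799)))) (.node (.node (.leaf
    (nat_lit 8687403)) (.leaf (nat_lit 18562734))) (.node (.leaf (nat_lit 3806915)) (.leaf (nat_lit
    10825436))))))) (.node (.node (.node (.node (.node (.node (.leaf (nat_lit 7539865)) (.leaf
    (nat_lit 8361178))) (.leaf (nat_lit 11284469))) (.node (.leaf (nat_lit 8131222)) (.leaf
    (nat_lit 1541211)))) (.node (.node (.leaf (nat_lit 19970637)) (.leaf (nat_lit 6263651))) (.node
    (.leaf (nat_lit 2141226)) (.leaf (nat_lit 14531234))))) (.node (.node (.node (.node (.leaf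
    (nat_lit 8327698)) (.leaf (nat_lit 24003493))) (.leaf (nat_lit 3015643))) (.node (.leaf
    (nat_lit 24593671)) (.leaf (nat_lit 11703329)))) (.node (.node (.leaf (nat_lit 8326545)) (.leaf
    (nat_lit 19806623))) (.node (.leaf (nat_lit 12824645)) (.leaf (nat_lit 11080419)))))) (.node
    (.node (.node (.node (.node (.leaf (nat_lit 6490779)) (.leaf (nat_lit 6824700))) (.leaf
    (nat_lit 23970699))) (.node (.leaf (nat_lit 20462463)) (.leaf (nat_lit 7515515)))) (.node
    (.node (.leaf (nat_lit 20660625)) (.leaf (nat_lit 12268638))) (.node (.leaf (nat_lit 7179281))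
    (.leaf (nat_lit 20628576))))) (.node (.node (.node (.node (.leaf (nat_lit 11317978)) (.leaf
    (nat_lit 19154196))) (.leaf (nat_lit 16950318))) (.node (.leaf (nat_lit 24429739)) (.leaf
    (nat_lit 15868312)))) (.node (.node (.leaf (nat_lit 5255389)) (.leaf (nat_lit 18989995)))
    (.node (.leaf (nat_lit 5217519)) (.leaf (nat_lit 9736405)))))))) (.node (.node (.node (.node
    (.node (.node (.node (.leaf (nat_lit 3573011)) (.leaf (nat_lit 12063977))) (.leaf (nat_lit
    21347661))) (.node (.leaf (nat_lit 11539345)) (.leaf (nat_lit 2261741)))) (.node (.node (.leaf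
    (nat_lit 10726393)) (.leaf (nat_lit 20560831))) (.node (.leaf (nat_lit 5091456)) (.leaf
    (nat_lit 24593678))))) (.node (.node (.node (.node (.leaf (nat_lit 9572493)) (.leaf (nat_lit
    18134715))) (.leaf (nat_lit 2034779))) (.node (.leaf (nat_lit 17673252)) (.leaf (nat_lit
    18032147)))) (.node (.node (.leaf (nat_lit 1409437)) (.leaf (nat_lit 8366105))) (.node (.leaf
    (nat_lit 10096999)) (.leaf (nat_lit 1934492)))))) (.node (.node (.node (.node (.node (.leaf
    (nat_lit 12628663)) (.leaf (nat_lit 20462467))) (.leaf (nat_lit 23413293))) (.node (.leaf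
    (nat_lit 7870883)) (.leaf (nat_lit 1641081)))) (.node (.node (.leaf (nat_lit 22888717)) (.leaf
    (nat_lit 22462481))) (.node (.leaf (nat_lit 10228122)) (.leaf (nat_lit 16466384))))) (.node
    (.node (.node (.node (.leaf (nat_lit 8919194)) (.leaf (nat_lit 23380620))) (.leaf (nat_lit
    6195730))) (.node (.leaf (nat_lit 24528089)) (.leaf (nat_lit 8402228)))) (.node (.node (.leaf
    (nat_lit 4001446)) (.leaf (nat_lit 24659257))) (.node (.leaf (nat_lit 12498646)) (.leaf
    (nat_lit 16130746))))))) (.node (.node (.node (.node (.node (.node (.leaf (nat_lit 3212331))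
    (.leaf (nat_lit 21577159))) (.leaf (nat_lit 20561691))) (.node (.leaf (nat_lit 9442464)) (.leaf
    (nat_lit 1115696)))) (.node (.node (.leaf (nat_lit 15088202)) (.leaf (nat_lit 12006759)))
    (.node (.leaf (nat_lit 13112984)) (.leaf (nat_lit 24331371))))) (.node (.node (.node (.node
    (.leaf (nat_lit 3249054)) (.leaf (nat_lit 12598644))) (.leaf (nat_lit 13703334))) (.node (.leaf
    (nat_lit 19806986)) (.leaf (nat_lit 11745091)))) (.node (.node (.leaf (nat_lit 2393336)) (.leaf
    (nat_lit 18037842))) (.node (.leaf (nat_lit 8787198)) (.leaf (nat_lit 4239311)))))) (.node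
    (.node (.node (.node (.node (.leaf (nat_lit 7605415)) (.leaf (nat_lit 20003431))) (.leaf
    (nat_lit 24397174))) (.node (.leaf (nat_lit 14888989)) (.leaf (nat_lit 18430019)))) (.node
    (.node (.leaf (nat_lit 21808128)) (.leaf (nat_lit 16753670))) (.node (.leaf (nat_lit 6892446))
    (.leaf (nat_lit 590003))))) (.node (.node (.node (.leaf (nat_lit 12531604)) (.leaf (nat_lit
    8262311))) (.node (.leaf (nat_lit 21480634)) (.leaf (nat_lit 21118159)))) (.node (.node (.leaf
    (nat_lit 13998513)) (.leaf (nat_lit 163927))) (.node (.leaf (nat_lit 24003484)) (.leaf (nat_lit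
    9244669))))))))) (.node (.node (.node (.node (.node (.node (.node (.node (.leaf (nat_lit
    2556748)) (.leaf (nat_lit 11572136))) (.leaf (nat_lit 12694731))) (.node (.leaf (nat_lit
    3739640)) (.leaf (nat_lit 6916992)))) (.node (.node (.leaf (nat_lit 13444240)) (.leaf (nat_lit
    4960040))) (.node (.leaf (nat_lit 4916978)) (.leaf (nat_lit 13184923))))) (.node (.node (.node
    (.node (.leaf (nat_lit 8949617)) (.leaf (nat_lit 11285880))) (.leaf (nat_lit 1475010))) (.node
    (.leaf (nat_lit 16622807)) (.leaf (nat_lit 9474414)))) (.node (.node (.leaf (nat_lit 3409107))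
    (.leaf (nat_lit 7874155))) (.node (.leaf (nat_lit 7711886)) (.leaf (nat_lit 2622638))))))
    (.node (.node (.node (.node (.node (.leaf (nat_lit 12726447)) (.leaf (nat_lit 13351142)))
    (.leaf (nat_lit 12664655))) (.node (.leaf (nat_lit 7182318)) (.leaf (nat_lit 1476923)))) (.node
    (.node (.leaf (nat_lit 24659247)) (.leaf (nat_lit 21052592))) (.node (.leaf (nat_lit 15408504))
    (.leaf (nat_lit 20594859))))) (.node (.node (.node (.node (.leaf (nat_lit 4207110)) (.leaf
    (nat_lit 23085427))) (.leaf (nat_lit 9253330))) (.node (.leaf (nat_lit 17022568)) (.leaf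
    (nat_lit 6403400)))) (.node (.node (.leaf (nat_lit 6205557)) (.leaf (nat_lit 13877242))) (.node
    (.leaf (nat_lit 4105052)) (.leaf (nat_lit 7605418))))))) (.node (.node (.node (.node (.node
    (.node (.leaf (nat_lit 9343009)) (.leaf (nat_lit 18036635))) (.leaf (nat_lit 10009201))) (.node
    (.leaf (nat_lit 3609374)) (.leaf (nat_lit 6130167)))) (.node (.node (.leaf (nat_lit 21380436))
    (.leaf (nat_lit 5354640))) (.node (.leaf (nat_lit 6490788)) (.leaf (nat_lit 24298593)))))
    (.node (.node (.node (.node (.leaf (nat_lit 13023504)) (.leaf (nat_lit 20921459))) (.leaf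
    (nat_lit 3736895))) (.node (.leaf (nat_lit 23052641)) (.leaf (nat_lit 21872284)))) (.node
    (.node (.leaf (nat_lit 1934262)) (.leaf (nat_lit 10205989))) (.node (.leaf (nat_lit 11646828))
    (.leaf (nat_lit 13572129)))))) (.node (.node (.node (.node (.node (.leaf (nat_lit 7113709))
    (.leaf (nat_lit 16720887))) (.leaf (nat_lit 21414973))) (.node (.leaf (nat_lit 19642016))
    (.leaf (nat_lit 3116338)))) (.node (.node (.leaf (nat_lit 23970701)) (.leaf (nat_lit 9282208)))
    (.node (.leaf (nat_lit 3574901)) (.leaf (nat_lit 23053714))))) (.node (.node (.node (.leaf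
    (nat_lit 12557610)) (.leaf (nat_lit 7933189))) (.node (.leaf (nat_lit 16401268)) (.leaf
    (nat_lit 24069058)))) (.node (.node (.leaf (nat_lit 1870841)) (.leaf (nat_lit 24364264)))
    (.node (.leaf (nat_lit 5742443)) (.leaf (nat_lit 9965905)))))))) (.node (.node (.node (.node
    (.node (.node (.node (.leaf (nat_lit 1638945)) (.leaf (nat_lit 10326904))) (.leaf (nat_lit
    22855944))) (.node (.leaf (nat_lit 10588753)) (.leaf (nat_lit 2786183)))) (.node (.node (.leaf
    (nat_lit 16099036)) (.leaf (nat_lit 21216502))) (.node (.leaf (nat_lit 6720335)) (.leaf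
    (nat_lit 23675611))))) (.node (.node (.node (.node (.leaf (nat_lit 4568334)) (.leaf (nat_lit
    17607462))) (.leaf (nat_lit 623424))) (.node (.leaf (nat_lit 18659854)) (.leaf (nat_lit
    14694731)))) (.node (.node (.leaf (nat_lit 7146491)) (.leaf (nat_lit 8563057))) (.node (.leaf
    (nat_lit 15936855)) (.leaf (nat_lit 852978)))))) (.node (.node (.node (.node (.node (.leaf
    (nat_lit 11834473)) (.leaf (nat_lit 18332081))) (.leaf (nat_lit 22167986))) (.node (.leaf
    (nat_lit 14621503)) (.leaf (nat_lit 1772445)))) (.node (.node (.leaf (nat_lit 21512296)) (.leaf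
    (nat_lit 5020775))) (.node (.leaf (nat_lit 7769311)) (.leaf (nat_lit 20136714))))) (.node
    (.node (.node (.node (.leaf (nat_lit 17802581)) (.leaf (nat_lit 17515464))) (.leaf (nat_lit
    7638201))) (.node (.leaf (nat_lit 24757611)) (.leaf (nat_lit 13573484)))) (.node (.node (.leaf
    (nat_lit 5648474)) (.leaf (nat_lit 23610045))) (.node (.leaf (nat_lit 6205560)) (.leaf (nat_lit
    6851632))))))) (.node (.node (.node (.node (.node (.node (.leaf (nat_lit 12949116)) (.leaf
    (nat_lit 4134944))) (.leaf (nat_lit 21708295))) (.node (.leaf (nat_lit 12726921)) (.leaf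
    (nat_lit 9713247)))) (.node (.node (.leaf (nat_lit 18561940)) (.leaf (nat_lit 14988096)))
    (.node (.leaf (nat_lit 2065924)) (.leaf (nat_lit 11615745))))) (.node (.node (.node (.node
    (.leaf (nat_lit 13250532)) (.leaf (nat_lit 22134619))) (.leaf (nat_lit 12136979))) (.node
    (.leaf (nat_lit 17742878)) (.leaf (nat_lit 7089224)))) (.node (.node (.leaf (nat_lit 5574315))
    (.leaf (nat_lit 11189586))) (.node (.leaf (nat_lit 7582920)) (.leaf (nat_lit 5246470))))))
    (.node (.node (.node (.node (.node (.leaf (nat_lit 15021356)) (.leaf (nat_lit 17282781)))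
    (.leaf (nat_lit 65671))) (.node (.leaf (nat_lit 21347649)) (.leaf (nat_lit 5869462)))) (.node
    (.node (.leaf (nat_lit 24626505)) (.leaf (nat_lit 19048743))) (.node (.leaf (nat_lit 11408215))
    (.leaf (nat_lit 983343))))) (.node (.node (.node (.leaf (nat_lit 16262000)) (.leaf (nat_lit
    19376587))) (.node (.leaf (nat_lit 33)) (.leaf (nat_lit 23216569)))) (.node (.node (.leaf
    (nat_lit 9179093)) (.leaf (nat_lit 688333))) (.node (.leaf (nat_lit 16892002)) (.leaf (nat_lit
    10555935)))))))))) (.node (.node (.node (.node (.node (.node (.node (.node (.node (.leaf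
    (nat_lit 295021)) (.leaf (nat_lit 7737722))) (.leaf (nat_lit 12236532))) (.node (.leaf (nat_lit
    18032143)) (.leaf (nat_lit 5933370)))) (.node (.node (.leaf (nat_lit 20921453)) (.leaf (nat_lit
    9769181))) (.node (.leaf (nat_lit 3113991)) (.leaf (nat_lit 14432619))))) (.node (.node (.node
    (.node (.leaf (nat_lit 2985766)) (.leaf (nat_lit 15775180))) (.leaf (nat_lit 4567703))) (.node
    (.leaf (nat_lit 19835649)) (.leaf (nat_lit 5058283)))) (.node (.node (.leaf (nat_lit 786671))
    (.leaf (nat_lit 15283629))) (.node (.leaf (nat_lit 9310223)) (.leaf (nat_lit 393821))))))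
    (.node (.node (.node (.node (.node (.leaf (nat_lit 12752319)) (.leaf (nat_lit 14392001)))
    (.leaf (nat_lit 23314938))) (.node (.leaf (nat_lit 8826774)) (.leaf (nat_lit 12399071))))
    (.node (.node (.leaf (nat_lit 22724776)) (.leaf (nat_lit 13771619))) (.node (.leaf (nat_lit
    6664316)) (.leaf (nat_lit 16728068))))) (.node (.node (.node (.node (.leaf (nat_lit 4174644))
    (.leaf (nat_lit 22724798))) (.leaf (nat_lit 11810601))) (.node (.leaf (nat_lit 21741097))
    (.leaf (nat_lit 4594144)))) (.node (.node (.leaf (nat_lit 1520042)) (.leaf (nat_lit 14663536)))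
    (.node (.leaf (nat_lit 11016196)) (.leaf (nat_lit 6359659))))))) (.node (.node (.node (.node
    (.node (.node (.leaf (nat_lit 2392867)) (.leaf (nat_lit 6919474))) (.leaf (nat_lit 22003467)))
    (.node (.leaf (nat_lit 8590048)) (.leaf (nat_lit 4261374)))) (.node (.node (.leaf (nat_lit
    23052631)) (.leaf (nat_lit 9156400))) (.node (.leaf (nat_lit 754822)) (.leaf (nat_lit
    10206009))))) (.node (.node (.node (.node (.leaf (nat_lit 8688256)) (.leaf (nat_lit 20659181)))
    (.leaf (nat_lit 11834446))) (.node (.leaf (nat_lit 17479932)) (.leaf (nat_lit 12662244))))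
    (.node (.node (.leaf (nat_lit 1049708)) (.leaf (nat_lit 20069021))) (.node (.leaf (nat_lit
    6067008)) (.leaf (nat_lit 5574313)))))) (.node (.node (.node (.node (.node (.leaf (nat_lit
    6163148)) (.leaf (nat_lit 7250844))) (.leaf (nat_lit 20726675))) (.node (.leaf (nat_lit
    20495255)) (.leaf (nat_lit 5125738)))) (.node (.node (.leaf (nat_lit 22659614)) (.leaf (nat_lit
    6332816))) (.node (.leaf (nat_lit 12260663)) (.leaf (nat_lit 19088628))))) (.node (.node (.node
    (.node (.leaf (nat_lit 13087299)) (.leaf (nat_lit 19776940))) (.leaf (nat_lit 17769798)))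
    (.node (.leaf (nat_lit 23151331)) (.leaf (nat_lit 6693593)))) (.node (.node (.leaf (nat_lit
    16130758)) (.leaf (nat_lit 24101962))) (.node (.leaf (nat_lit 22298568)) (.leaf (nat_lit
    3771723)))))))) (.node (.node (.node (.node (.node (.node (.node (.leaf (nat_lit 4949755))
    (.leaf (nat_lit 3805950))) (.leaf (nat_lit 12137797))) (.node (.leaf (nat_lit 11965647)) (.leaf
    (nat_lit 2491206)))) (.node (.node (.leaf (nat_lit 20036215)) (.leaf (nat_lit 20823107)))
    (.node (.leaf (nat_lit 2557107)) (.leaf (nat_lit 19212728))))) (.node (.node (.node (.node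
    (.leaf (nat_lit 14103543)) (.leaf (nat_lit 22167407))) (.leaf (nat_lit 2228961))) (.node (.leaf
    (nat_lit 14857086)) (.leaf (nat_lit 15447156)))) (.node (.node (.leaf (nat_lit 1475098)) (.leaf
    (nat_lit 13744987))) (.node (.leaf (nat_lit 16297213)) (.leaf (nat_lit 2163872)))))) (.node
    (.node (.node (.node (.node (.leaf (nat_lit 14851067)) (.leaf (nat_lit 6140013))) (.leaf
    (nat_lit 24364176))) (.node (.leaf (nat_lit 15906803)) (.leaf (nat_lit 16229168)))) (.node
    (.node (.leaf (nat_lit 14532560)) (.leaf (nat_lit 4922357))) (.node (.leaf (nat_lit 5353576))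
    (.leaf (nat_lit 14598759))))) (.node (.node (.node (.node (.leaf (nat_lit 18724286)) (.leaf
    (nat_lit 23773992))) (.leaf (nat_lit 11572142))) (.node (.leaf (nat_lit 16826491)) (.leaf
    (nat_lit 10563632)))) (.node (.node (.leaf (nat_lit 6523573)) (.leaf (nat_lit 24560891)))
    (.node (.leaf (nat_lit 23478868)) (.leaf (nat_lit 1903546))))))) (.node (.node (.node (.node
    (.node (.node (.leaf (nat_lit 1770728)) (.leaf (nat_lit 3905449))) (.leaf (nat_lit 23806767)))
    (.node (.leaf (nat_lit 3511817)) (.leaf (nat_lit 3901102)))) (.node (.node (.leaf (nat_lit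
    19479290)) (.leaf (nat_lit 13145781))) (.node (.leaf (nat_lit 3769968)) (.leaf (nat_lit
    21478815))))) (.node (.node (.node (.node (.leaf (nat_lit 6263888)) (.leaf (nat_lit 20594192)))
    (.leaf (nat_lit 1377822))) (.node (.leaf (nat_lit 20855885)) (.leaf (nat_lit 5484886)))) (.node
    (.node (.leaf (nat_lit 9310229)) (.leaf (nat_lit 17022157))) (.node (.leaf (nat_lit 15244584))
    (.leaf (nat_lit 4951538)))))) (.node (.node (.node (.node (.node (.leaf (nat_lit 2034868))
    (.leaf (nat_lit 24069065))) (.leaf (nat_lit 131163))) (.node (.leaf (nat_lit 21675509)) (.leaf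
    (nat_lit 13643251)))) (.node (.node (.leaf (nat_lit 19285156)) (.leaf (nat_lit 21150950)))
    (.node (.leaf (nat_lit 8238965)) (.leaf (nat_lit 819461))))) (.node (.node (.node (.leaf
    (nat_lit 17250318)) (.leaf (nat_lit 2297603))) (.node (.leaf (nat_lit 22824284)) (.leaf
    (nat_lit 7251039)))) (.node (.node (.leaf (nat_lit 10392023)) (.leaf (nat_lit 2130610))) (.node
    (.leaf (nat_lit 19775262)) (.leaf (nat_lit 2494386))))))))) (.node (.node (.node (.node (.node
    (.node (.node (.node (.leaf (nat_lit 786686)) (.leaf (nat_lit 10588763))) (.leaf (nat_lit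
    18458504))) (.node (.leaf (nat_lit 11604973)) (.leaf (nat_lit 7802082)))) (.node (.node (.leaf
    (nat_lit 13907353)) (.leaf (nat_lit 20200152))) (.node (.leaf (nat_lit 1475001)) (.leaf
    (nat_lit 8366107))))) (.node (.node (.node (.node (.leaf (nat_lit 2920422)) (.leaf (nat_lit
    8726836))) (.leaf (nat_lit 1737275))) (.node (.leaf (nat_lit 7579019)) (.leaf (nat_lit
    10392021)))) (.node (.node (.leaf (nat_lit 4621994)) (.leaf (nat_lit 21577170))) (.node (.leaf
    (nat_lit 18001046)) (.leaf (nat_lit 3146777)))))) (.node (.node (.node (.node (.node (.leaf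
    (nat_lit 1312542)) (.leaf (nat_lit 14949425))) (.leaf (nat_lit 19218413))) (.node (.leaf
    (nat_lit 18592672)) (.leaf (nat_lit 12785095)))) (.node (.node (.leaf (nat_lit 16760404))
    (.leaf (nat_lit 20593611))) (.node (.leaf (nat_lit 15703740)) (.leaf (nat_lit 24200227)))))
    (.node (.node (.node (.node (.leaf (nat_lit 3971041)) (.leaf (nat_lit 18858476))) (.leaf
    (nat_lit 5903323))) (.node (.leaf (nat_lit 22921493)) (.leaf (nat_lit 23511654)))) (.node
    (.node (.leaf (nat_lit 5375901)) (.leaf (nat_lit 16072865))) (.node (.leaf (nat_lit 7477688))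
    (.leaf (nat_lit 9080730))))))) (.node (.node (.node (.node (.node (.node (.leaf (nat_lit
    10228117)) (.leaf (nat_lit 17802585))) (.leaf (nat_lit 10173197))) (.node (.leaf (nat_lit
    9343982)) (.leaf (nat_lit 4097481)))) (.node (.node (.leaf (nat_lit 13941127)) (.leaf (nat_lit
    12168651))) (.node (.leaf (nat_lit 12555654)) (.leaf (nat_lit 18562142))))) (.node (.node
    (.node (.node (.leaf (nat_lit 5215979)) (.leaf (nat_lit 21183731))) (.leaf (nat_lit 12686765)))
    (.node (.leaf (nat_lit 20167367)) (.leaf (nat_lit 3945044)))) (.node (.node (.leaf (nat_lit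
    2655276)) (.leaf (nat_lit 14302154))) (.node (.leaf (nat_lit 10659067)) (.leaf (nat_lit
    7441517)))))) (.node (.node (.node (.node (.node (.leaf (nat_lit 1903594)) (.leaf (nat_lit
    16989593))) (.leaf (nat_lit 24495316))) (.node (.leaf (nat_lit 17249670)) (.leaf (nat_lit
    7835018)))) (.node (.node (.leaf (nat_lit 22791012)) (.leaf (nat_lit 16557014))) (.node (.leaf
    (nat_lit 10464177)) (.leaf (nat_lit 950560))))) (.node (.node (.node (.leaf (nat_lit 20200157))
    (.leaf (nat_lit 18327206))) (.node (.leaf (nat_lit 20235301)) (.leaf (nat_lit 22429685))))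
    (.node (.node (.leaf (nat_lit 10228111)) (.leaf (nat_lit 23840134))) (.node (.leaf (nat_lit
    19315157)) (.leaf (nat_lit 11342627)))))))) (.node (.node (.node (.node (.node (.node (.node
    (.leaf (nat_lit 6818665)) (.leaf (nat_lit 11834470))) (.leaf (nat_lit 20331312))) (.node (.leaf
    (nat_lit 7442966)) (.leaf (nat_lit 3048419)))) (.node (.node (.leaf (nat_lit 20528043)) (.leaf
    (nat_lit 3117805))) (.node (.leaf (nat_lit 656504)) (.leaf (nat_lit 12036858))))) (.node (.node
    (.node (.node (.leaf (nat_lit 8884655)) (.leaf (nat_lit 15317691))) (.leaf (nat_lit 6064613)))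
    (.node (.leaf (nat_lit 20200160)) (.leaf (nat_lit 11441001)))) (.node (.node (.leaf (nat_lit
    3048421)) (.leaf (nat_lit 8858167))) (.node (.leaf (nat_lit 21150932)) (.leaf (nat_lit
    3015870)))))) (.node (.node (.node (.node (.node (.leaf (nat_lit 6326865)) (.leaf (nat_lit
    17704235))) (.leaf (nat_lit 22102605))) (.node (.leaf (nat_lit 15474103)) (.leaf (nat_lit
    17212510)))) (.node (.node (.leaf (nat_lit 19611900)) (.leaf (nat_lit 15249979))) (.node (.leaf
    (nat_lit 1673987)) (.leaf (nat_lit 23282622))))) (.node (.node (.node (.node (.leaf (nat_lit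
    4692728)) (.leaf (nat_lit 16958578))) (.leaf (nat_lit 6818710))) (.node (.leaf (nat_lit
    23773971)) (.leaf (nat_lit 7648742)))) (.node (.node (.leaf (nat_lit 9080728)) (.leaf (nat_lit
    24593677))) (.node (.leaf (nat_lit 4987991)) (.leaf (nat_lit 9441375))))))) (.node (.node
    (.node (.node (.node (.node (.leaf (nat_lit 13375448)) (.leaf (nat_lit 16069134))) (.leaf
    (nat_lit 18201931))) (.node (.leaf (nat_lit 13153108)) (.leaf (nat_lit 15211716)))) (.node
    (.node (.leaf (nat_lit 18693144)) (.leaf (nat_lit 11349443))) (.node (.leaf (nat_lit 14391998))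
    (.leaf (nat_lit 21937861))))) (.node (.node (.node (.node (.leaf (nat_lit 12916339)) (.leaf
    (nat_lit 23839547))) (.leaf (nat_lit 9613806))) (.node (.leaf (nat_lit 15940774)) (.leaf
    (nat_lit 15999543)))) (.node (.node (.leaf (nat_lit 9834743)) (.leaf (nat_lit 11255265)))
    (.node (.leaf (nat_lit 15217299)) (.leaf (nat_lit 1584681)))))) (.node (.node (.node (.node
    (.node (.leaf (nat_lit 9605271)) (.leaf (nat_lit 12531610))) (.leaf (nat_lit 655959))) (.node
    (.leaf (nat_lit 21839467)) (.leaf (nat_lit 14103545)))) (.node (.node (.leaf (nat_lit 131123))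
    (.leaf (nat_lit 7316663))) (.node (.leaf (nat_lit 15513815)) (.leaf (nat_lit 1215967)))))
    (.node (.node (.node (.leaf (nat_lit 21905072)) (.leaf (nat_lit 19704462))) (.node (.leaf
    (nat_lit 1442223)) (.leaf (nat_lit 15840689)))) (.node (.node (.leaf (nat_lit 4067052)) (.leaf
    (nat_lit 2065561))) (.node (.leaf (nat_lit 24265809)) (.leaf (nat_lit 7901354))))))))))) (.node
    (.node (.node (.node (.node (.node (.node (.node (.node (.node (.leaf (nat_lit 163910)) (.leaf
    (nat_lit 10883773))) (.leaf (nat_lit 22560835))) (.node (.leaf (nat_lit 7999316)) (.leaf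
    (nat_lit 2698528)))) (.node (.node (.leaf (nat_lit 21642727)) (.leaf (nat_lit 9638061))) (.node
    (.leaf (nat_lit 3310670)) (.leaf (nat_lit 15054533))))) (.node (.node (.node (.node (.leaf
    (nat_lit 13613125)) (.leaf (nat_lit 13149968))) (.leaf (nat_lit 262460))) (.node (.leaf
    (nat_lit 18327212)) (.leaf (nat_lit 2658511)))) (.node (.node (.leaf (nat_lit 688337)) (.leaf
    (nat_lit 17835393))) (.node (.leaf (nat_lit 8032199)) (.leaf (nat_lit 1442339)))))) (.node
    (.node (.node (.node (.node (.leaf (nat_lit 12686761)) (.leaf (nat_lit 17872852))) (.leaf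
    (nat_lit 11550239))) (.node (.leaf (nat_lit 21150945)) (.leaf (nat_lit 10825316)))) (.node
    (.node (.leaf (nat_lit 10960090)) (.leaf (nat_lit 22823134))) (.node (.leaf (nat_lit 1148663))
    (.leaf (nat_lit 24265806))))) (.node (.node (.node (.node (.leaf (nat_lit 13112989)) (.leaf
    (nat_lit 22560893))) (.leaf (nat_lit 8499422))) (.node (.leaf (nat_lit 21118333)) (.leaf
    (nat_lit 23150994)))) (.node (.node (.leaf (nat_lit 8466357)) (.leaf (nat_lit 12599081)))
    (.node (.leaf (nat_lit 3905467)) (.leaf (nat_lit 6457989))))))) (.node (.node (.node (.node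
    (.node (.node (.leaf (nat_lit 721638)) (.leaf (nat_lit 8763556))) (.leaf (nat_lit 12727573)))
    (.node (.leaf (nat_lit 15807877)) (.leaf (nat_lit 12260648)))) (.node (.node (.leaf (nat_lit
    13740314)) (.leaf (nat_lit 5322552))) (.node (.leaf (nat_lit 9834751)) (.leaf (nat_lit
    10107639))))) (.node (.node (.node (.node (.leaf (nat_lit 20462461)) (.leaf (nat_lit
    20528049))) (.leaf (nat_lit 11277072))) (.node (.leaf (nat_lit 15316689)) (.leaf (nat_lit
    14006085)))) (.node (.node (.leaf (nat_lit 3245111)) (.leaf (nat_lit 16595525))) (.node (.leaf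
    (nat_lit 12890931)) (.leaf (nat_lit 8031535)))))) (.node (.node (.node (.node (.node (.leaf
    (nat_lit 3312252)) (.leaf (nat_lit 18004407))) (.leaf (nat_lit 20398917))) (.node (.leaf
    (nat_lit 14332530)) (.leaf (nat_lit 15644135)))) (.node (.node (.leaf (nat_lit 24101846))
    (.leaf (nat_lit 12398586))) (.node (.leaf (nat_lit 7054169)) (.leaf (nat_lit 24396960)))))
    (.node (.node (.node (.node (.leaf (nat_lit 8369456)) (.leaf (nat_lit 18761058))) (.leaf
    (nat_lit 17605832))) (.node (.leaf (nat_lit 21217930)) (.leaf (nat_lit 22691997)))) (.node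
    (.node (.leaf (nat_lit 12231340)) (.leaf (nat_lit 24233017))) (.node (.leaf (nat_lit 6599067))
    (.leaf (nat_lit 9933130)))))))) (.node (.node (.node (.node (.node (.node (.node (.leaf
    (nat_lit 4785885)) (.leaf (nat_lit 3609314))) (.leaf (nat_lit 23577261))) (.node (.leaf
    (nat_lit 4362530)) (.leaf (nat_lit 8949614)))) (.node (.node (.leaf (nat_lit 7972324)) (.leaf
    (nat_lit 20724747))) (.node (.leaf (nat_lit 590439)) (.leaf (nat_lit 23872329))))) (.node
    (.node (.node (.node (.leaf (nat_lit 7770264)) (.leaf (nat_lit 23183789))) (.leaf (nat_lit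
    1289585))) (.node (.leaf (nat_lit 20298519)) (.leaf (nat_lit 4927135)))) (.node (.node (.leaf
    (nat_lit 4720336)) (.leaf (nat_lit 18917532))) (.node (.leaf (nat_lit 2822537)) (.leaf (nat_lit
    2983049)))))) (.node (.node (.node (.node (.node (.leaf (nat_lit 5081008)) (.leaf (nat_lit
    15971752))) (.leaf (nat_lit 24462517))) (.node (.leaf (nat_lit 10990659)) (.leaf (nat_lit
    10040531)))) (.node (.node (.leaf (nat_lit 13811584)) (.leaf (nat_lit 20298526))) (.node (.leaf
    (nat_lit 10424807)) (.leaf (nat_lit 19120664))))) (.node (.node (.node (.node (.leaf (nat_lit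
    21937863)) (.leaf (nat_lit 23151333))) (.leaf (nat_lit 14365639))) (.node (.leaf (nat_lit
    24134641)) (.leaf (nat_lit 9252660)))) (.node (.node (.leaf (nat_lit 4755164)) (.leaf (nat_lit
    20267382))) (.node (.leaf (nat_lit 14424773)) (.leaf (nat_lit 12231368))))))) (.node (.node
    (.node (.node (.node (.node (.leaf (nat_lit 6294085)) (.leaf (nat_lit 4599725))) (.leaf
    (nat_lit 16006139))) (.node (.leaf (nat_lit 10032342)) (.leaf (nat_lit 6436365)))) (.node
    (.node (.leaf (nat_lit 22101837)) (.leaf (nat_lit 22036264))) (.node (.leaf (nat_lit 8622887))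
    (.leaf (nat_lit 10960147))))) (.node (.node (.node (.node (.leaf (nat_lit 9966636)) (.leaf
    (nat_lit 13057478))) (.leaf (nat_lit 1258146))) (.node (.leaf (nat_lit 19774310)) (.leaf
    (nat_lit 12883563)))) (.node (.node (.leaf (nat_lit 12162299)) (.leaf (nat_lit 10730636)))
    (.node (.leaf (nat_lit 6821211)) (.leaf (nat_lit 4820482)))))) (.node (.node (.node (.node
    (.node (.leaf (nat_lit 7670979)) (.leaf (nat_lit 19937858))) (.leaf (nat_lit 9))) (.node (.leaf
    (nat_lit 7119616)) (.leaf (nat_lit 5025409)))) (.node (.node (.leaf (nat_lit 22692952)) (.leaf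
    (nat_lit 7185417))) (.node (.leaf (nat_lit 3353621)) (.leaf (nat_lit 458930))))) (.node (.node
    (.node (.leaf (nat_lit 9806236)) (.leaf (nat_lit 18851950))) (.node (.leaf (nat_lit 19449092))
    (.leaf (nat_lit 16989589)))) (.node (.node (.leaf (nat_lit 10523151)) (.leaf (nat_lit
    1376641))) (.node (.leaf (nat_lit 12297142)) (.leaf (nat_lit 9474153))))))))) (.node (.node
    (.node (.node (.node (.node (.node (.node (.leaf (nat_lit 2261737)) (.leaf (nat_lit 9376286)))
    (.leaf (nat_lit 14071003))) (.node (.leaf (nat_lit 3575856)) (.leaf (nat_lit 1901203)))) (.node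
    (.node (.leaf (nat_lit 23741185)) (.leaf (nat_lit 3379542))) (.node (.leaf (nat_lit 5441468))
    (.leaf (nat_lit 18655147))))) (.node (.node (.node (.node (.leaf (nat_lit 2527118)) (.leaf
    (nat_lit 20331311))) (.leaf (nat_lit 328193))) (.node (.leaf (nat_lit 20790305)) (.leaf
    (nat_lit 5615257)))) (.node (.node (.leaf (nat_lit 1802871)) (.leaf (nat_lit 21413227))) (.node
    (.leaf (nat_lit 17673362)) (.leaf (nat_lit 2819233)))))) (.node (.node (.node (.node (.node
    (.leaf (nat_lit 5408687)) (.leaf (nat_lit 12628665))) (.leaf (nat_lit 14958506))) (.node (.leaf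
    (nat_lit 8629731)) (.leaf (nat_lit 9113519)))) (.node (.node (.leaf (nat_lit 11877880)) (.leaf
    (nat_lit 4463155))) (.node (.leaf (nat_lit 6041847)) (.leaf (nat_lit 13680889))))) (.node
    (.node (.node (.node (.leaf (nat_lit 17017938)) (.leaf (nat_lit 23675620))) (.leaf (nat_lit
    1411327))) (.node (.leaf (nat_lit 16924386)) (.leaf (nat_lit 23347714)))) (.node (.node (.leaf
    (nat_lit 1683830)) (.leaf (nat_lit 22528065))) (.node (.leaf (nat_lit 19576500)) (.leaf
    (nat_lit 5966442))))))) (.node (.node (.node (.node (.node (.node (.leaf (nat_lit 820094))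
    (.leaf (nat_lit 14857083))) (.leaf (nat_lit 12008140))) (.node (.leaf (nat_lit 9671540)) (.leaf
    (nat_lit 8097103)))) (.node (.node (.leaf (nat_lit 15511821)) (.leaf (nat_lit 15415042)))
    (.node (.leaf (nat_lit 12031196)) (.leaf (nat_lit 20757521))))) (.node (.node (.node (.node
    (.leaf (nat_lit 15251770)) (.leaf (nat_lit 17841322))) (.leaf (nat_lit 3671341))) (.node (.leaf
    (nat_lit 21314857)) (.leaf (nat_lit 12359013)))) (.node (.node (.leaf (nat_lit 2294764)) (.leaf
    (nat_lit 20495263))) (.node (.leaf (nat_lit 17840123)) (.leaf (nat_lit 4523629)))))) (.node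
    (.node (.node (.node (.node (.leaf (nat_lit 16163547)) (.leaf (nat_lit 16851987))) (.leaf
    (nat_lit 24528107))) (.node (.leaf (nat_lit 20003429)) (.leaf (nat_lit 5387902)))) (.node
    (.node (.leaf (nat_lit 20398862)) (.leaf (nat_lit 22134624))) (.node (.leaf (nat_lit 17933726))
    (.leaf (nat_lit 98343))))) (.node (.node (.node (.leaf (nat_lit 15408509)) (.leaf (nat_lit
    18228842))) (.node (.leaf (nat_lit 24659249)) (.leaf (nat_lit 16393168)))) (.node (.node (.leaf
    (nat_lit 6917156)) (.leaf (nat_lit 22955320))) (.node (.leaf (nat_lit 13613059)) (.leaf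
    (nat_lit 4624112)))))))) (.node (.node (.node (.node (.node (.node (.node (.leaf (nat_lit
    393783)) (.leaf (nat_lit 9212924))) (.leaf (nat_lit 24659261))) (.node (.leaf (nat_lit
    7410144)) (.leaf (nat_lit 10621488)))) (.node (.node (.leaf (nat_lit 8136499)) (.leaf (nat_lit
    3085011))) (.node (.leaf (nat_lit 6687558)) (.leaf (nat_lit 19773849))))) (.node (.node (.node
    (.node (.leaf (nat_lit 10162553)) (.leaf (nat_lit 17250918))) (.leaf (nat_lit 2558524))) (.node
    (.leaf (nat_lit 13186420)) (.leaf (nat_lit 13152814)))) (.node (.node (.leaf (nat_lit 2851739))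
    (.leaf (nat_lit 8825298))) (.node (.leaf (nat_lit 17771518)) (.leaf (nat_lit 2884776))))))
    (.node (.node (.node (.node (.node (.leaf (nat_lit 5835070)) (.leaf (nat_lit 20167371))) (.leaf
    (nat_lit 24855991))) (.node (.leaf (nat_lit 13343548)) (.leaf (nat_lit 6949876)))) (.node
    (.node (.leaf (nat_lit 24331373)) (.leaf (nat_lit 5615966))) (.node (.leaf (nat_lit 8490749))
    (.leaf (nat_lit 17580888))))) (.node (.node (.node (.node (.leaf (nat_lit 14129843)) (.leaf
    (nat_lit 23053342))) (.leaf (nat_lit 6949783))) (.node (.leaf (nat_lit 20431182)) (.leaf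
    (nat_lit 22232983)))) (.node (.node (.leaf (nat_lit 11408209)) (.leaf (nat_lit 23478972)))
    (.node (.leaf (nat_lit 22036280)) (.leaf (nat_lit 6392931))))))) (.node (.node (.node (.node
    (.node (.node (.leaf (nat_lit 1027934)) (.leaf (nat_lit 18589520))) (.leaf (nat_lit 17546508)))
    (.node (.leaf (nat_lit 9484178)) (.leaf (nat_lit 8695424)))) (.node (.node (.leaf (nat_lit
    16038870)) (.leaf (nat_lit 13112999))) (.node (.leaf (nat_lit 5999246)) (.leaf (nat_lit
    17415760))))) (.node (.node (.node (.node (.leaf (nat_lit 10589467)) (.leaf (nat_lit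
    23413291))) (.leaf (nat_lit 1115847))) (.node (.leaf (nat_lit 22298561)) (.leaf (nat_lit
    16264289)))) (.node (.node (.leaf (nat_lit 12201846)) (.leaf (nat_lit 16104882))) (.node (.leaf
    (nat_lit 3610165)) (.leaf (nat_lit 5311999)))))) (.node (.node (.node (.node (.node (.leaf
    (nat_lit 2067753)) (.leaf (nat_lit 18626347))) (.leaf (nat_lit 98463))) (.node (.leaf (nat_lit
    14164984)) (.leaf (nat_lit 18197489)))) (.node (.node (.leaf (nat_lit 22824348)) (.leaf
    (nat_lit 17343643))) (.node (.leaf (nat_lit 13342653)) (.leaf (nat_lit 4064709))))) (.node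
    (.node (.node (.leaf (nat_lit 7250831)) (.leaf (nat_lit 2396009))) (.node (.leaf (nat_lit
    1311066)) (.leaf (nat_lit 17671423)))) (.node (.node (.leaf (nat_lit 2166159)) (.leaf (nat_lit
    819451))) (.node (.leaf (nat_lit 12166208)) (.leaf (nat_lit 7639157)))))))))) (.node (.node
    (.node (.node (.node (.node (.node (.node (.node (.leaf (nat_lit 1933974)) (.leaf (nat_lit
    10293853))) (.leaf (nat_lit 19347137))) (.node (.leaf (nat_lit 2494369)) (.leaf (nat_lit
    6294082)))) (.node (.node (.leaf (nat_lit 24134635)) (.leaf (nat_lit 4895225))) (.node (.leaf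
    (nat_lit 4009354)) (.leaf (nat_lit 11118296))))) (.node (.node (.node (.node (.leaf (nat_lit
    8621894)) (.leaf (nat_lit 18692617))) (.leaf (nat_lit 2993408))) (.node (.leaf (nat_lit
    21511597)) (.leaf (nat_lit 6567184)))) (.node (.node (.leaf (nat_lit 2196161)) (.leaf (nat_lit
    7775793))) (.node (.leaf (nat_lit 9080912)) (.leaf (nat_lit 7015355)))))) (.node (.node (.node
    (.node (.node (.leaf (nat_lit 12103647)) (.leaf (nat_lit 14594057))) (.leaf (nat_lit
    16629501))) (.node (.leaf (nat_lit 4665274)) (.leaf (nat_lit 13973019)))) (.node (.node (.leaf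
    (nat_lit 24528093)) (.leaf (nat_lit 17708446))) (.node (.leaf (nat_lit 15277292)) (.leaf
    (nat_lit 22921501))))) (.node (.node (.node (.node (.leaf (nat_lit 15217301)) (.leaf (nat_lit
    24364173))) (.leaf (nat_lit 15539750))) (.node (.leaf (nat_lit 14269964)) (.leaf (nat_lit
    6625868)))) (.node (.node (.leaf (nat_lit 14298784)) (.leaf (nat_lit 13057975))) (.node (.leaf
    (nat_lit 20134584)) (.leaf (nat_lit 15380578))))))) (.node (.node (.node (.node (.node (.node
    (.leaf (nat_lit 5998941)) (.leaf (nat_lit 13021531))) (.leaf (nat_lit 9484817))) (.node (.leaf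
    (nat_lit 8786684)) (.leaf (nat_lit 6042321)))) (.node (.node (.leaf (nat_lit 10107375)) (.leaf
    (nat_lit 5388072))) (.node (.leaf (nat_lit 3671329)) (.leaf (nat_lit 20462480))))) (.node
    (.node (.node (.node (.leaf (nat_lit 14201964)) (.leaf (nat_lit 17742888))) (.leaf (nat_lit
    12096746))) (.node (.leaf (nat_lit 22396903)) (.leaf (nat_lit 12201954)))) (.node (.node (.leaf
    (nat_lit 9965903)) (.leaf (nat_lit 10107609))) (.node (.leaf (nat_lit 21085373)) (.leaf
    (nat_lit 1018852)))))) (.node (.node (.node (.node (.node (.leaf (nat_lit 6720336)) (.leaf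
    (nat_lit 17673578))) (.leaf (nat_lit 23249889))) (.node (.leaf (nat_lit 5512583)) (.leaf
    (nat_lit 2034939)))) (.node (.node (.leaf (nat_lit 22626922)) (.leaf (nat_lit 6627893))) (.node
    (.leaf (nat_lit 7343173)) (.leaf (nat_lit 17941826))))) (.node (.node (.node (.leaf (nat_lit
    15348019)) (.leaf (nat_lit 7408809))) (.node (.leaf (nat_lit 23675684)) (.leaf (nat_lit
    13380856)))) (.node (.node (.leaf (nat_lit 1903540)) (.leaf (nat_lit 24495311))) (.node (.leaf
    (nat_lit 13086999)) (.leaf (nat_lit 8163253)))))))) (.node (.node (.node (.node (.node (.node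
    (.node (.leaf (nat_lit 1442234)) (.leaf (nat_lit 8590114))) (.leaf (nat_lit 23282161))) (.node
    (.leaf (nat_lit 12531481)) (.leaf (nat_lit 9736398)))) (.node (.node (.leaf (nat_lit 15054225))
    (.leaf (nat_lit 21019807))) (.node (.leaf (nat_lit 1049259)) (.leaf (nat_lit 19540537)))))
    (.node (.node (.node (.node (.leaf (nat_lit 2691335)) (.leaf (nat_lit 20232959))) (.leaf
    (nat_lit 2523979))) (.node (.leaf (nat_lit 15644102)) (.leaf (nat_lit 14760219)))) (.node
    (.node (.leaf (nat_lit 393796)) (.leaf (nat_lit 8595788))) (.node (.leaf (nat_lit 9546897))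
    (.leaf (nat_lit 3245222)))))) (.node (.node (.node (.node (.node (.leaf (nat_lit 5277712))
    (.leaf (nat_lit 18298522))) (.leaf (nat_lit 21905765))) (.node (.leaf (nat_lit 15151729))
    (.leaf (nat_lit 6818674)))) (.node (.node (.leaf (nat_lit 16990216)) (.leaf (nat_lit
    14954563))) (.node (.leaf (nat_lit 11843426)) (.leaf (nat_lit 18858694))))) (.node (.node
    (.node (.node (.leaf (nat_lit 4364763)) (.leaf (nat_lit 16368504))) (.leaf (nat_lit 6097600)))
    (.node (.leaf (nat_lit 22724807)) (.leaf (nat_lit 5255734)))) (.node (.node (.leaf (nat_lit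
    6359657)) (.leaf (nat_lit 16237070))) (.node (.leaf (nat_lit 20364124)) (.leaf (nat_lit
    1870854))))))) (.node (.node (.node (.node (.node (.node (.leaf (nat_lit 3769667)) (.leaf
    (nat_lit 13473803))) (.leaf (nat_lit 17186801))) (.node (.leaf (nat_lit 6853934)) (.leaf
    (nat_lit 4228822)))) (.node (.node (.leaf (nat_lit 19446588)) (.leaf (nat_lit 3610169))) (.node
    (.leaf (nat_lit 1017317)) (.leaf (nat_lit 19283382))))) (.node (.node (.node (.node (.leaf
    (nat_lit 12465632)) (.leaf (nat_lit 19512940))) (.leaf (nat_lit 14162482))) (.node (.leaf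
    (nat_lit 20954239)) (.leaf (nat_lit 11317807)))) (.node (.node (.leaf (nat_lit 1017217)) (.leaf
    (nat_lit 10927365))) (.node (.leaf (nat_lit 12588427)) (.leaf (nat_lit 5017073)))))) (.node
    (.node (.node (.node (.node (.leaf (nat_lit 8162657)) (.leaf (nat_lit 16655577))) (.leaf
    (nat_lit 1048893))) (.node (.leaf (nat_lit 17310841)) (.leaf (nat_lit 2396015)))) (.node (.node
    (.leaf (nat_lit 24593675)) (.leaf (nat_lit 24429737))) (.node (.leaf (nat_lit 15807881)) (.leaf
    (nat_lit 3081203))))) (.node (.node (.node (.leaf (nat_lit 12264156)) (.leaf (nat_lit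
    19311030))) (.node (.leaf (nat_lit 24004016)) (.leaf (nat_lit 15677871)))) (.node (.node (.leaf
    (nat_lit 10785413)) (.leaf (nat_lit 2720616))) (.node (.leaf (nat_lit 24200210)) (.leaf
    (nat_lit 8851452))))))))) (.node (.node (.node (.node (.node (.node (.node (.node (.leaf
    (nat_lit 3081204)) (.leaf (nat_lit 5713629))) (.leaf (nat_lit 9909475))) (.node (.leaf (nat_lit
    11703333)) (.leaf (nat_lit 426675)))) (.node (.node (.leaf (nat_lit 17279954)) (.leaf (nat_lit
    10228127))) (.node (.leaf (nat_lit 328160)) (.leaf (nat_lit 18884758))))) (.node (.node (.node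
    (.node (.leaf (nat_lit 6230050)) (.leaf (nat_lit 24790411))) (.leaf (nat_lit 459398))) (.node
    (.leaf (nat_lit 7742989)) (.leaf (nat_lit 10523147)))) (.node (.node (.leaf (nat_lit 1148303))
    (.leaf (nat_lit 8169299))) (.node (.leaf (nat_lit 8566896)) (.leaf (nat_lit 2753699))))))
    (.node (.node (.node (.node (.node (.leaf (nat_lit 14752673)) (.leaf (nat_lit 14332610)))
    (.leaf (nat_lit 16793779))) (.node (.leaf (nat_lit 13087301)) (.leaf (nat_lit 6359649))))
    (.node (.node (.leaf (nat_lit 22200191)) (.leaf (nat_lit 18266473))) (.node (.leaf (nat_lit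
    15118938)) (.leaf (nat_lit 23118223))))) (.node (.node (.node (.node (.leaf (nat_lit 22495256))
    (.leaf (nat_lit 22102570))) (.leaf (nat_lit 6041849))) (.node (.leaf (nat_lit 23708399)) (.leaf
    (nat_lit 12137227)))) (.node (.node (.leaf (nat_lit 1312706)) (.leaf (nat_lit 13648095)))
    (.node (.leaf (nat_lit 10892633)) (.leaf (nat_lit 1673975))))))) (.node (.node (.node (.node
    (.node (.node (.leaf (nat_lit 10359245)) (.leaf (nat_lit 12916343))) (.leaf (nat_lit
    23118213))) (.node (.leaf (nat_lit 11637844)) (.leaf (nat_lit 4753111)))) (.node (.node (.leaf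
    (nat_lit 20691953)) (.leaf (nat_lit 12886831))) (.node (.leaf (nat_lit 11087760)) (.leaf
    (nat_lit 24167435))))) (.node (.node (.node (.node (.leaf (nat_lit 11637765)) (.leaf (nat_lit
    19840294))) (.leaf (nat_lit 5190394))) (.node (.leaf (nat_lit 18135728)) (.leaf (nat_lit
    3511695)))) (.node (.node (.leaf (nat_lit 2720952)) (.leaf (nat_lit 10501130))) (.node (.leaf
    (nat_lit 12063975)) (.leaf (nat_lit 4261484)))))) (.node (.node (.node (.node (.node (.leaf
    (nat_lit 16491445)) (.leaf (nat_lit 17114199))) (.leaf (nat_lit 22398249))) (.node (.leaf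
    (nat_lit 14235632)) (.leaf (nat_lit 18983074)))) (.node (.node (.leaf (nat_lit 23708596))
    (.leaf (nat_lit 22331347))) (.node (.leaf (nat_lit 6761408)) (.leaf (nat_lit 327803))))) (.node
    (.node (.node (.leaf (nat_lit 7910888)) (.leaf (nat_lit 18589512))) (.node (.leaf (nat_lit
    22070384)) (.leaf (nat_lit 16924283)))) (.node (.node (.leaf (nat_lit 10621495)) (.leaf
    (nat_lit 262242))) (.node (.leaf (nat_lit 16229180)) (.leaf (nat_lit 19081525)))))))) (.node
    (.node (.node (.node (.node (.node (.node (.leaf (nat_lit 7375957)) (.leaf (nat_lit 10622116)))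
    (.leaf (nat_lit 20660470))) (.node (.leaf (nat_lit 10293834)) (.leaf (nat_lit 3179559))))
    (.node (.node (.leaf (nat_lit 10827066)) (.leaf (nat_lit 3150609))) (.node (.leaf (nat_lit
    7670975)) (.leaf (nat_lit 14826070))))) (.node (.node (.node (.node (.leaf (nat_lit 10523149))
    (.leaf (nat_lit 19806984))) (.leaf (nat_lit 10457588))) (.node (.leaf (nat_lit 8530219)) (.leaf
    (nat_lit 14235626)))) (.node (.node (.leaf (nat_lit 3113983)) (.leaf (nat_lit 18725263)))
    (.node (.leaf (nat_lit 3052239)) (.leaf (nat_lit 3474683)))))) (.node (.node (.node (.node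
    (.node (.leaf (nat_lit 6556349)) (.leaf (nat_lit 13840911))) (.leaf (nat_lit 21611182))) (.node
    (.leaf (nat_lit 17805342)) (.leaf (nat_lit 15610971)))) (.node (.node (.leaf (nat_lit
    23216581)) (.leaf (nat_lit 14491067))) (.node (.leaf (nat_lit 7212060)) (.leaf (nat_lit
    21021706))))) (.node (.node (.node (.node (.leaf (nat_lit 19509258)) (.leaf (nat_lit
    22791358))) (.leaf (nat_lit 4000737))) (.node (.leaf (nat_lit 19186152)) (.leaf (nat_lit
    21773895)))) (.node (.node (.leaf (nat_lit 5966496)) (.leaf (nat_lit 18826066))) (.node (.leaf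
    (nat_lit 20691964)) (.leaf (nat_lit 7670981))))))) (.node (.node (.node (.node (.node (.node
    (.leaf (nat_lit 12359015)) (.leaf (nat_lit 4495772))) (.leaf (nat_lit 20102809))) (.node (.leaf
    (nat_lit 14955008)) (.leaf (nat_lit 12431833)))) (.node (.node (.leaf (nat_lit 10665045))
    (.leaf (nat_lit 13441018))) (.node (.leaf (nat_lit 1115841)) (.leaf (nat_lit 24233013)))))
    (.node (.node (.node (.node (.leaf (nat_lit 14987854)) (.leaf (nat_lit 16891870))) (.leaf
    (nat_lit 1148669))) (.node (.leaf (nat_lit 24167429)) (.leaf (nat_lit 22855928)))) (.node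
    (.node (.leaf (nat_lit 9375795)) (.leaf (nat_lit 15777354))) (.node (.leaf (nat_lit 5615892))
    (.leaf (nat_lit 3870376)))))) (.node (.node (.node (.node (.node (.leaf (nat_lit 17605835))
    (.leaf (nat_lit 21347651))) (.leaf (nat_lit 786677))) (.node (.leaf (nat_lit 22626424)) (.leaf
    (nat_lit 10129775)))) (.node (.node (.leaf (nat_lit 917784)) (.leaf (nat_lit 21708310))) (.node
    (.leaf (nat_lit 3247973)) (.leaf (nat_lit 295301))))) (.node (.node (.node (.leaf (nat_lit
    17048649)) (.leaf (nat_lit 11482933))) (.node (.leaf (nat_lit 2392862)) (.leaf (nat_lit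
    10433382)))) (.node (.node (.leaf (nat_lit 11211515)) (.leaf (nat_lit 4326937))) (.node (.leaf
    (nat_lit 11774843)) (.leaf (nat_lit 8294624)))))))))))) (.node (.node (.node (.node (.node
    (.node (.node (.node (.node (.node (.node (.leaf (nat_lit 98340)) (.leaf (nat_lit 8327504)))
    (.leaf (nat_lit 23872340))) (.node (.leaf (nat_lit 11080415)) (.leaf (nat_lit 1289583))))
    (.node (.node (.leaf (nat_lit 16688158)) (.leaf (nat_lit 9383729))) (.node (.leaf (nat_lit
    393835)) (.leaf (nat_lit 24626459))))) (.node (.node (.node (.node (.leaf (nat_lit 8851277))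
    (.leaf (nat_lit 12691154))) (.leaf (nat_lit 983667))) (.node (.leaf (nat_lit 19478784)) (.leaf
    (nat_lit 9933127)))) (.node (.node (.leaf (nat_lit 1770050)) (.leaf (nat_lit 7480647))) (.node
    (.leaf (nat_lit 2953118)) (.leaf (nat_lit 5451304)))))) (.node (.node (.node (.node (.node
    (.leaf (nat_lit 9179099)) (.leaf (nat_lit 13507131))) (.leaf (nat_lit 18169342))) (.node (.leaf
    (nat_lit 14070527)) (.leaf (nat_lit 13021527)))) (.node (.node (.leaf (nat_lit 10763443))
    (.leaf (nat_lit 22790348))) (.node (.leaf (nat_lit 14785480)) (.leaf (nat_lit 17285036)))))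
    (.node (.node (.node (.node (.leaf (nat_lit 14064093)) (.leaf (nat_lit 22626428))) (.leaf
    (nat_lit 3945211))) (.node (.leaf (nat_lit 17186139)) (.leaf (nat_lit 13605234)))) (.node
    (.node (.leaf (nat_lit 11284459)) (.leaf (nat_lit 16301803))) (.node (.leaf (nat_lit 3872611))
    (.leaf (nat_lit 14790800))))))) (.node (.node (.node (.node (.node (.node (.leaf (nat_lit
    2196163)) (.leaf (nat_lit 10949864))) (.leaf (nat_lit 15873711))) (.node (.leaf (nat_lit
    8360630)) (.leaf (nat_lit 3376325)))) (.node (.node (.leaf (nat_lit 24692038)) (.leaf (nat_lit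
    9189172))) (.node (.leaf (nat_lit 2327428)) (.leaf (nat_lit 17316561))))) (.node (.node (.node
    (.node (.leaf (nat_lit 6759091)) (.leaf (nat_lit 15154050))) (.leaf (nat_lit 11014866))) (.node
    (.leaf (nat_lit 17443196)) (.leaf (nat_lit 3249211)))) (.node (.node (.leaf (nat_lit 6064615))
    (.leaf (nat_lit 16333244))) (.node (.leaf (nat_lit 21577150)) (.leaf (nat_lit 3671337))))))
    (.node (.node (.node (.node (.node (.leaf (nat_lit 9506927)) (.leaf (nat_lit 16261995))) (.leaf
    (nat_lit 20988696))) (.node (.leaf (nat_lit 15054540)) (.leaf (nat_lit 8982389)))) (.node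
    (.node (.leaf (nat_lit 24790401)) (.leaf (nat_lit 20167375))) (.node (.leaf (nat_lit 1837992))
    (.leaf (nat_lit 22889600))))) (.node (.node (.node (.node (.leaf (nat_lit 15474097)) (.leaf
    (nat_lit 21415220))) (.leaf (nat_lit 17376414))) (.node (.leaf (nat_lit 22790751)) (.leaf
    (nat_lit 15933952)))) (.node (.node (.leaf (nat_lit 1739572)) (.leaf (nat_lit 18531274)))
    (.node (.leaf (nat_lit 6107233)) (.leaf (nat_lit 9605277)))))))) (.node (.node (.node (.node
    (.node (.node (.node (.leaf (nat_lit 1179979)) (.leaf (nat_lit 17343637))) (.leaf (nat_lit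
    20298511))) (.node (.leaf (nat_lit 3772660)) (.leaf (nat_lit 8785724)))) (.node (.node (.leaf
    (nat_lit 18064933)) (.leaf (nat_lit 10424811))) (.node (.leaf (nat_lit 3146769)) (.leaf
    (nat_lit 23380505))))) (.node (.node (.node (.node (.leaf (nat_lit 2723972)) (.leaf (nat_lit
    17480182))) (.leaf (nat_lit 1969242))) (.node (.leaf (nat_lit 15972247)) (.leaf (nat_lit
    2953837)))) (.node (.node (.leaf (nat_lit 1638941)) (.leaf (nat_lit 23872339))) (.node (.leaf
    (nat_lit 18364343)) (.leaf (nat_lit 2032815)))))) (.node (.node (.node (.node (.node (.leaf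
    (nat_lit 1279885)) (.leaf (nat_lit 12431837))) (.leaf (nat_lit 13549734))) (.node (.leaf
    (nat_lit 9607641)) (.leaf (nat_lit 6490792)))) (.node (.node (.leaf (nat_lit 20168530)) (.leaf
    (nat_lit 17250526))) (.node (.leaf (nat_lit 2853189)) (.leaf (nat_lit 18301428))))) (.node
    (.node (.node (.node (.leaf (nat_lit 19081521)) (.leaf (nat_lit 21512890))) (.leaf (nat_lit
    1608241))) (.node (.leaf (nat_lit 22462475)) (.leaf (nat_lit 8859330)))) (.node (.node (.leaf
    (nat_lit 6140007)) (.leaf (nat_lit 23019859))) (.node (.leaf (nat_lit 14561854)) (.leaf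
    (nat_lit 16196349))))))) (.node (.node (.node (.node (.node (.node (.leaf (nat_lit 11375421))
    (.leaf (nat_lit 14031317))) (.leaf (nat_lit 12532690))) (.node (.leaf (nat_lit 9770178)) (.leaf
    (nat_lit 5746421)))) (.node (.node (.leaf (nat_lit 14432884)) (.leaf (nat_lit 5419726))) (.node
    (.leaf (nat_lit 11251552)) (.leaf (nat_lit 14499064))))) (.node (.node (.node (.node (.leaf
    (nat_lit 8238729)) (.leaf (nat_lit 23610043))) (.leaf (nat_lit 10007819))) (.node (.leaf
    (nat_lit 18955052)) (.leaf (nat_lit 22167400)))) (.node (.node (.leaf (nat_lit 9244667)) (.leaf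
    (nat_lit 21839474))) (.node (.leaf (nat_lit 9680630)) (.leaf (nat_lit 1509075)))))) (.node
    (.node (.node (.node (.node (.leaf (nat_lit 4033647)) (.leaf (nat_lit 11150464))) (.leaf
    (nat_lit 21808545))) (.node (.leaf (nat_lit 6759095)) (.leaf (nat_lit 18822511)))) (.node
    (.node (.leaf (nat_lit 24364163)) (.leaf (nat_lit 14790795))) (.node (.leaf (nat_lit 3738928))
    (.leaf (nat_lit 1540575))))) (.node (.node (.node (.leaf (nat_lit 22265769)) (.leaf (nat_lit
    3050902))) (.node (.leaf (nat_lit 17056983)) (.leaf (nat_lit 7218229)))) (.node (.node (.leaf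
    (nat_lit 10752635)) (.leaf (nat_lit 339779))) (.node (.leaf (nat_lit 7021452)) (.leaf (nat_lit
    12818592))))))))) (.node (.node (.node (.node (.node (.node (.node (.node (.leaf (nat_lit
    622783)) (.leaf (nat_lit 11670551))) (.leaf (nat_lit 16135919))) (.node (.leaf (nat_lit
    3543058)) (.leaf (nat_lit 1802881)))) (.node (.node (.leaf (nat_lit 16655539)) (.leaf (nat_lit
    9907509))) (.node (.leaf (nat_lit 5146444)) (.leaf (nat_lit 13707082))))) (.node (.node (.node
    (.node (.leaf (nat_lit 2428797)) (.leaf (nat_lit 20036221))) (.leaf (nat_lit 4359735))) (.node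
    (.leaf (nat_lit 17838942)) (.leaf (nat_lit 20364088)))) (.node (.node (.leaf (nat_lit 196894))
    (.leaf (nat_lit 17938819))) (.node (.leaf (nat_lit 7606420)) (.leaf (nat_lit 2098307))))))
    (.node (.node (.node (.node (.node (.leaf (nat_lit 4731283)) (.leaf (nat_lit 6036340))) (.leaf
    (nat_lit 18759567))) (.node (.leaf (nat_lit 16720885)) (.leaf (nat_lit 5966166)))) (.node
    (.node (.leaf (nat_lit 17448410)) (.leaf (nat_lit 14136569))) (.node (.leaf (nat_lit 15474094))
    (.leaf (nat_lit 20005070))))) (.node (.node (.node (.node (.leaf (nat_lit 13676620)) (.leaf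
    (nat_lit 23019890))) (.leaf (nat_lit 5713633))) (.node (.leaf (nat_lit 16760503)) (.leaf
    (nat_lit 7615452)))) (.node (.node (.leaf (nat_lit 4884292)) (.leaf (nat_lit 22626432))) (.node
    (.leaf (nat_lit 23085432)) (.leaf (nat_lit 5933642))))))) (.node (.node (.node (.node (.node
    (.node (.leaf (nat_lit 9441373)) (.leaf (nat_lit 21446005))) (.leaf (nat_lit 23544471))) (.node
    (.leaf (nat_lit 6394706)) (.leaf (nat_lit 4621999)))) (.node (.node (.leaf (nat_lit 13347364))
    (.leaf (nat_lit 12465510))) (.node (.leaf (nat_lit 2983044)) (.leaf (nat_lit 21085375)))))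
    (.node (.node (.node (.node (.leaf (nat_lit 11211509)) (.leaf (nat_lit 20823178))) (.leaf
    (nat_lit 12850744))) (.node (.leaf (nat_lit 20265735)) (.leaf (nat_lit 7345484)))) (.node
    (.node (.leaf (nat_lit 2130904)) (.leaf (nat_lit 20364136))) (.node (.leaf (nat_lit 20495267))
    (.leaf (nat_lit 13867374)))))) (.node (.node (.node (.node (.node (.leaf (nat_lit 1837956))
    (.leaf (nat_lit 24298582))) (.leaf (nat_lit 22529118))) (.node (.leaf (nat_lit 18560463))
    (.leaf (nat_lit 3968334)))) (.node (.node (.leaf (nat_lit 19809002)) (.leaf (nat_lit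
    17999335))) (.node (.leaf (nat_lit 1936521)) (.leaf (nat_lit 7))))) (.node (.node (.node (.leaf
    (nat_lit 18954604)) (.leaf (nat_lit 7539940))) (.node (.leaf (nat_lit 20399017)) (.leaf
    (nat_lit 24134632)))) (.node (.node (.leaf (nat_lit 13441005)) (.leaf (nat_lit 23741708)))
    (.node (.leaf (nat_lit 17706332)) (.leaf (nat_lit 11965651)))))))) (.node (.node (.node (.node
    (.node (.node (.node (.leaf (nat_lit 6195725)) (.leaf (nat_lit 10392466))) (.leaf (nat_lit
    12921129))) (.node (.leaf (nat_lit 7803344)) (.leaf (nat_lit 2851741)))) (.node (.node (.leaf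
    (nat_lit 17737508)) (.leaf (nat_lit 14596236))) (.node (.leaf (nat_lit 1704689)) (.leaf
    (nat_lit 23183783))))) (.node (.node (.node (.node (.leaf (nat_lit 18396420)) (.leaf (nat_lit
    17381955))) (.leaf (nat_lit 2624061))) (.node (.leaf (nat_lit 23741181)) (.leaf (nat_lit
    15412809)))) (.node (.node (.leaf (nat_lit 2950069)) (.leaf (nat_lit 8694207))) (.node (.leaf
    (nat_lit 20921448)) (.leaf (nat_lit 2294808)))))) (.node (.node (.node (.node (.node (.leaf
    (nat_lit 2492720)) (.leaf (nat_lit 15572758))) (.leaf (nat_lit 17514976))) (.node (.leaf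
    (nat_lit 15244491)) (.leaf (nat_lit 7048137)))) (.node (.node (.leaf (nat_lit 23610046)) (.leaf
    (nat_lit 5086389))) (.node (.leaf (nat_lit 8687409)) (.leaf (nat_lit 18727732))))) (.node
    (.node (.node (.node (.leaf (nat_lit 22298559)) (.leaf (nat_lit 24101876))) (.leaf (nat_lit
    6759093))) (.node (.leaf (nat_lit 21643565)) (.leaf (nat_lit 10925173)))) (.node (.node (.leaf
    (nat_lit 5058670)) (.leaf (nat_lit 17515152))) (.node (.leaf (nat_lit 21970653)) (.leaf
    (nat_lit 6949964))))))) (.node (.node (.node (.node (.node (.node (.leaf (nat_lit 1082692))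
    (.leaf (nat_lit 12201456))) (.leaf (nat_lit 11812054))) (.node (.leaf (nat_lit 14725855))
    (.leaf (nat_lit 9842416)))) (.node (.node (.leaf (nat_lit 20757523)) (.leaf (nat_lit
    22298550))) (.node (.leaf (nat_lit 2176189)) (.leaf (nat_lit 16793138))))) (.node (.node (.node
    (.node (.leaf (nat_lit 11343094)) (.leaf (nat_lit 22298567))) (.leaf (nat_lit 14523178)))
    (.node (.leaf (nat_lit 20724816)) (.leaf (nat_lit 21249287)))) (.node (.node (.leaf (nat_lit
    13309867)) (.leaf (nat_lit 18464129))) (.node (.leaf (nat_lit 7443900)) (.leaf (nat_lit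
    5180935)))))) (.node (.node (.node (.node (.node (.leaf (nat_lit 17704229)) (.leaf (nat_lit
    21052587))) (.leaf (nat_lit 1835655))) (.node (.leaf (nat_lit 23937911)) (.leaf (nat_lit
    9146317)))) (.node (.node (.leaf (nat_lit 22955376)) (.leaf (nat_lit 14629087))) (.node (.leaf
    (nat_lit 15546479)) (.leaf (nat_lit 2065546))))) (.node (.node (.node (.leaf (nat_lit
    21872287)) (.leaf (nat_lit 19540534))) (.node (.leaf (nat_lit 32835)) (.leaf (nat_lit
    14629098)))) (.node (.node (.leaf (nat_lit 8268857)) (.leaf (nat_lit 753895))) (.node (.leaf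
    (nat_lit 24331387)) (.leaf (nat_lit 7540830)))))))))) (.node (.node (.node (.node (.node (.node
    (.node (.node (.node (.leaf (nat_lit 327806)) (.leaf (nat_lit 11408218))) (.leaf (nat_lit
    14235640))) (.node (.leaf (nat_lit 18917519)) (.leaf (nat_lit 3310682)))) (.node (.node (.leaf
    (nat_lit 21478819)) (.leaf (nat_lit 9441452))) (.node (.leaf (nat_lit 983341)) (.leaf (nat_lit
    11019944))))) (.node (.node (.node (.node (.leaf (nat_lit 18430111)) (.leaf (nat_lit
    17905450))) (.leaf (nat_lit 4207267))) (.node (.leaf (nat_lit 19118369)) (.leaf (nat_lit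
    9670982)))) (.node (.node (.leaf (nat_lit 426578)) (.leaf (nat_lit 20855891))) (.node (.leaf
    (nat_lit 8196134)) (.leaf (nat_lit 6982563)))))) (.node (.node (.node (.node (.node (.leaf
    (nat_lit 12785099)) (.leaf (nat_lit 14824378))) (.leaf (nat_lit 18857683))) (.node (.leaf
    (nat_lit 4140921)) (.leaf (nat_lit 4435700)))) (.node (.node (.leaf (nat_lit 14236988)) (.leaf
    (nat_lit 12792332))) (.node (.leaf (nat_lit 5179221)) (.leaf (nat_lit 20922402))))) (.node
    (.node (.node (.node (.leaf (nat_lit 12981889)) (.leaf (nat_lit 23216579))) (.leaf (nat_lit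
    13282524))) (.node (.leaf (nat_lit 23478877)) (.leaf (nat_lit 9516274)))) (.node (.node (.leaf
    (nat_lit 5113671)) (.leaf (nat_lit 13025173))) (.node (.leaf (nat_lit 22757556)) (.leaf
    (nat_lit 14687093))))))) (.node (.node (.node (.node (.node (.node (.leaf (nat_lit 5933373))
    (.leaf (nat_lit 12333865))) (.leaf (nat_lit 16922635))) (.node (.leaf (nat_lit 7247170)) (.leaf
    (nat_lit 12719537)))) (.node (.node (.leaf (nat_lit 8563039)) (.leaf (nat_lit 3249199))) (.node
    (.leaf (nat_lit 10949320)) (.leaf (nat_lit 13777772))))) (.node (.node (.node (.node (.leaf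
    (nat_lit 3052201)) (.leaf (nat_lit 20724749))) (.leaf (nat_lit 3343547))) (.node (.leaf
    (nat_lit 17938902)) (.leaf (nat_lit 19835643)))) (.node (.node (.leaf (nat_lit 3376327)) (.leaf
    (nat_lit 10566334))) (.node (.leaf (nat_lit 11450223)) (.leaf (nat_lit 8490743)))))) (.node
    (.node (.node (.node (.node (.leaf (nat_lit 14790779)) (.leaf (nat_lit 16491464))) (.leaf
    (nat_lit 23643066))) (.node (.leaf (nat_lit 13873460)) (.leaf (nat_lit 8293771)))) (.node
    (.node (.leaf (nat_lit 17154626)) (.leaf (nat_lit 6496724))) (.node (.leaf (nat_lit 7277603))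
    (.leaf (nat_lit 18072858))))) (.node (.node (.node (.leaf (nat_lit 20069007)) (.leaf (nat_lit
    7802085))) (.node (.leaf (nat_lit 18858754)) (.leaf (nat_lit 6726449)))) (.node (.node (.leaf
    (nat_lit 12260657)) (.leaf (nat_lit 16827510))) (.node (.leaf (nat_lit 20069003)) (.leaf
    (nat_lit 4361564)))))))) (.node (.node (.node (.node (.node (.node (.node (.leaf (nat_lit
    360862)) (.leaf (nat_lit 18822521))) (.leaf (nat_lit 22134609))) (.node (.leaf (nat_lit
    20036219)) (.leaf (nat_lit 9539710)))) (.node (.node (.leaf (nat_lit 10628082)) (.leaf (nat_lit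
    2953801))) (.node (.leaf (nat_lit 6392434)) (.leaf (nat_lit 8726983))))) (.node (.node (.node
    (.node (.leaf (nat_lit 16592231)) (.leaf (nat_lit 19315173))) (.leaf (nat_lit 8523522))) (.node
    (.leaf (nat_lit 16299757)) (.leaf (nat_lit 21314845)))) (.node (.node (.leaf (nat_lit 6687538))
    (.leaf (nat_lit 17475899))) (.node (.leaf (nat_lit 20626384)) (.leaf (nat_lit 3212457))))))
    (.node (.node (.node (.node (.node (.leaf (nat_lit 14883839)) (.leaf (nat_lit 6599071))) (.leaf
    (nat_lit 19185983))) (.node (.leaf (nat_lit 5025411)) (.leaf (nat_lit 1706849)))) (.node (.node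
    (.leaf (nat_lit 22855931)) (.leaf (nat_lit 23675608))) (.node (.leaf (nat_lit 4895223)) (.leaf
    (nat_lit 17154716))))) (.node (.node (.node (.node (.leaf (nat_lit 14031313)) (.leaf (nat_lit
    17187664))) (.leaf (nat_lit 15933909))) (.node (.leaf (nat_lit 22757569)) (.leaf (nat_lit
    18102238)))) (.node (.node (.leaf (nat_lit 6427604)) (.leaf (nat_lit 24036288))) (.node (.leaf
    (nat_lit 12201988)) (.leaf (nat_lit 7080925))))))) (.node (.node (.node (.node (.node (.node
    (.leaf (nat_lit 12391794)) (.leaf (nat_lit 13375451))) (.leaf (nat_lit 17087591))) (.node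
    (.leaf (nat_lit 3839248)) (.leaf (nat_lit 14654278)))) (.node (.node (.leaf (nat_lit 10205968))
    (.leaf (nat_lit 13840909))) (.node (.leaf (nat_lit 13768884)) (.leaf (nat_lit 21413278)))))
    (.node (.node (.node (.node (.leaf (nat_lit 15152930)) (.leaf (nat_lit 20889152))) (.leaf
    (nat_lit 4261445))) (.node (.leaf (nat_lit 15711177)) (.leaf (nat_lit 9384675)))) (.node (.node
    (.leaf (nat_lit 11342625)) (.leaf (nat_lit 10861801))) (.node (.leaf (nat_lit 14884142)) (.leaf
    (nat_lit 14562123)))))) (.node (.node (.node (.node (.node (.leaf (nat_lit 2133202)) (.leaf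
    (nat_lit 16037917))) (.leaf (nat_lit 32861))) (.node (.leaf (nat_lit 21872293)) (.leaf (nat_lit
    14888987)))) (.node (.node (.leaf (nat_lit 22365386)) (.leaf (nat_lit 24298597))) (.node (.leaf
    (nat_lit 18720706)) (.leaf (nat_lit 688370))))) (.node (.node (.node (.leaf (nat_lit 10073347))
    (.leaf (nat_lit 19147085))) (.node (.leaf (nat_lit 19383684)) (.leaf (nat_lit 22265773))))
    (.node (.node (.leaf (nat_lit 8654621)) (.leaf (nat_lit 2196167))) (.node (.leaf (nat_lit
    16695391)) (.leaf (nat_lit 9179101))))))))) (.node (.node (.node (.node (.node (.node (.node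
    (.node (.leaf (nat_lit 196877)) (.leaf (nat_lit 11801675))) (.leaf (nat_lit 13841875))) (.node
    (.leaf (nat_lit 11900077)) (.leaf (nat_lit 951448)))) (.node (.node (.leaf (nat_lit 17966521))
    (.leaf (nat_lit 9802115))) (.node (.leaf (nat_lit 1606162)) (.leaf (nat_lit 23642823)))))
    (.node (.node (.node (.node (.leaf (nat_lit 10424803)) (.leaf (nat_lit 24593685))) (.leaf
    (nat_lit 426566))) (.node (.leaf (nat_lit 17871712)) (.leaf (nat_lit 10457591)))) (.node (.node
    (.leaf (nat_lit 1246603)) (.leaf (nat_lit 21905071))) (.node (.leaf (nat_lit 5837078)) (.leaf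
    (nat_lit 492297)))))) (.node (.node (.node (.node (.node (.leaf (nat_lit 4884287)) (.leaf
    (nat_lit 14883888))) (.leaf (nat_lit 23905131))) (.node (.leaf (nat_lit 13738837)) (.leaf
    (nat_lit 14038581)))) (.node (.node (.leaf (nat_lit 20823712)) (.leaf (nat_lit 6304710)))
    (.node (.leaf (nat_lit 4731287)) (.leaf (nat_lit 24823187))))) (.node (.node (.node (.node
    (.leaf (nat_lit 17310845)) (.leaf (nat_lit 22397452))) (.leaf (nat_lit 5867852))) (.node (.leaf
    (nat_lit 19611500)) (.leaf (nat_lit 4692807)))) (.node (.node (.leaf (nat_lit 5343134)) (.leaf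
    (nat_lit 23905127))) (.node (.leaf (nat_lit 7746776)) (.leaf (nat_lit 15446438))))))) (.node
    (.node (.node (.node (.node (.node (.leaf (nat_lit 10785406)) (.leaf (nat_lit 16097911)))
    (.leaf (nat_lit 19741508))) (.node (.leaf (nat_lit 9802770)) (.leaf (nat_lit 4165197)))) (.node
    (.node (.leaf (nat_lit 23150999)) (.leaf (nat_lit 15610975))) (.node (.leaf (nat_lit 12752314))
    (.leaf (nat_lit 20855930))))) (.node (.node (.node (.node (.leaf (nat_lit 11572129)) (.leaf
    (nat_lit 17546507))) (.leaf (nat_lit 918879))) (.node (.leaf (nat_lit 10107536)) (.leaf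
    (nat_lit 5517630)))) (.node (.node (.leaf (nat_lit 2556990)) (.leaf (nat_lit 10402789))) (.node
    (.leaf (nat_lit 5551578)) (.leaf (nat_lit 1082967)))))) (.node (.node (.node (.node (.node
    (.leaf (nat_lit 7080975)) (.leaf (nat_lit 24495315))) (.leaf (nat_lit 19383544))) (.node (.leaf
    (nat_lit 18233288)) (.leaf (nat_lit 18786330)))) (.node (.node (.leaf (nat_lit 20267921))
    (.leaf (nat_lit 11120549))) (.node (.leaf (nat_lit 2002141)) (.leaf (nat_lit 262247))))) (.node
    (.node (.node (.leaf (nat_lit 5615652)) (.leaf (nat_lit 15840687))) (.node (.leaf (nat_lit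
    16794687)) (.leaf (nat_lit 16655358)))) (.node (.node (.leaf (nat_lit 10555929)) (.leaf
    (nat_lit 20235698))) (.node (.leaf (nat_lit 6791914)) (.leaf (nat_lit 9310231)))))))) (.node
    (.node (.node (.node (.node (.node (.node (.leaf (nat_lit 1966747)) (.leaf (nat_lit 10753098)))
    (.leaf (nat_lit 9583058))) (.node (.leaf (nat_lit 7705140)) (.leaf (nat_lit 8031539)))) (.node
    (.node (.leaf (nat_lit 19708293)) (.leaf (nat_lit 21609940))) (.node (.leaf (nat_lit 9277442))
    (.leaf (nat_lit 19479078))))) (.node (.node (.node (.node (.leaf (nat_lit 10490369)) (.leaf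
    (nat_lit 19708645))) (.leaf (nat_lit 9113521))) (.node (.leaf (nat_lit 23085423)) (.leaf
    (nat_lit 11506559)))) (.node (.node (.leaf (nat_lit 950996)) (.leaf (nat_lit 8956488))) (.node
    (.leaf (nat_lit 18884747)) (.leaf (nat_lit 2327770)))))) (.node (.node (.node (.node (.node
    (.leaf (nat_lit 1575411)) (.leaf (nat_lit 15999553))) (.leaf (nat_lit 22626938))) (.node (.leaf
    (nat_lit 14431161)) (.leaf (nat_lit 17507516)))) (.node (.node (.leaf (nat_lit 21610774))
    (.leaf (nat_lit 12072707))) (.node (.leaf (nat_lit 2362196)) (.leaf (nat_lit 16532434)))))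
    (.node (.node (.node (.node (.leaf (nat_lit 23413286)) (.leaf (nat_lit 24528099))) (.leaf
    (nat_lit 2165686))) (.node (.leaf (nat_lit 18760134)) (.leaf (nat_lit 20790316)))) (.node
    (.node (.leaf (nat_lit 5804999)) (.leaf (nat_lit 23806763))) (.node (.leaf (nat_lit 15839626))
    (.leaf (nat_lit 6229163))))))) (.node (.node (.node (.node (.node (.node (.leaf (nat_lit
    4523627)) (.leaf (nat_lit 15873436))) (.leaf (nat_lit 17449181))) (.node (.leaf (nat_lit
    12989251)) (.leaf (nat_lit 4207419)))) (.node (.node (.leaf (nat_lit 16366652)) (.leaf (nat_lit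
    13309877))) (.node (.leaf (nat_lit 13643245)) (.leaf (nat_lit 15548146))))) (.node (.node
    (.node (.node (.leaf (nat_lit 3511669)) (.leaf (nat_lit 22036422))) (.leaf (nat_lit 14818292)))
    (.node (.leaf (nat_lit 21577161)) (.leaf (nat_lit 13867379)))) (.node (.node (.leaf (nat_lit
    4425293)) (.leaf (nat_lit 17579543))) (.node (.leaf (nat_lit 13047437)) (.leaf (nat_lit
    5639684)))))) (.node (.node (.node (.node (.node (.leaf (nat_lit 11449994)) (.leaf (nat_lit
    21085371))) (.leaf (nat_lit 721123))) (.node (.leaf (nat_lit 22134617)) (.leaf (nat_lit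
    14954493)))) (.node (.node (.leaf (nat_lit 65588)) (.leaf (nat_lit 23544465))) (.node (.leaf
    (nat_lit 19507742)) (.leaf (nat_lit 1347043))))) (.node (.node (.node (.leaf (nat_lit
    20987011)) (.leaf (nat_lit 2822064))) (.node (.leaf (nat_lit 558202)) (.leaf (nat_lit
    14296402)))) (.node (.node (.leaf (nat_lit 19048728)) (.leaf (nat_lit 1584671))) (.node (.leaf
    (nat_lit 24134647)) (.leaf (nat_lit 7770308))))))))))) (.node (.node (.node (.node (.node
    (.node (.node (.node (.node (.node (.leaf (nat_lit 1147206)) (.leaf (nat_lit 9048424))) (.leaf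
    (nat_lit 19708298))) (.node (.leaf (nat_lit 13211813)) (.leaf (nat_lit 1159648)))) (.node
    (.node (.leaf (nat_lit 16852024)) (.leaf (nat_lit 9343098))) (.node (.leaf (nat_lit 2294519))
    (.leaf (nat_lit 9219056))))) (.node (.node (.node (.node (.leaf (nat_lit 8458000)) (.leaf
    (nat_lit 18458415))) (.leaf (nat_lit 4720326))) (.node (.leaf (nat_lit 16426102)) (.leaf
    (nat_lit 9769190)))) (.node (.node (.leaf (nat_lit 1540571)) (.leaf (nat_lit 24167439))) (.node
    (.leaf (nat_lit 9244661)) (.leaf (nat_lit 6687557)))))) (.node (.node (.node (.node (.node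
    (.leaf (nat_lit 9408589)) (.leaf (nat_lit 6199920))) (.leaf (nat_lit 23741191))) (.node (.leaf
    (nat_lit 7771813)) (.leaf (nat_lit 10268312)))) (.node (.node (.leaf (nat_lit 22560822)) (.leaf
    (nat_lit 4069543))) (.node (.leaf (nat_lit 5048099)) (.leaf (nat_lit 13221857))))) (.node
    (.node (.node (.node (.leaf (nat_lit 14457595)) (.leaf (nat_lit 23905123))) (.leaf (nat_lit
    11548473))) (.node (.leaf (nat_lit 17218990)) (.leaf (nat_lit 11843396)))) (.node (.node (.leaf
    (nat_lit 4829584)) (.leaf (nat_lit 22593647))) (.node (.leaf (nat_lit 13408231)) (.leaf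
    (nat_lit 6263766))))))) (.node (.node (.node (.node (.node (.node (.leaf (nat_lit 2294528))
    (.leaf (nat_lit 13643249))) (.leaf (nat_lit 13154701))) (.node (.leaf (nat_lit 7312703)) (.leaf
    (nat_lit 12621198)))) (.node (.node (.leaf (nat_lit 24757615)) (.leaf (nat_lit 11604985)))
    (.node (.leaf (nat_lit 9375799)) (.leaf (nat_lit 21380433))))) (.node (.node (.node (.node
    (.leaf (nat_lit 18164771)) (.leaf (nat_lit 21708305))) (.leaf (nat_lit 11637760))) (.node
    (.leaf (nat_lit 23183792)) (.leaf (nat_lit 12531612)))) (.node (.node (.leaf (nat_lit 3212335))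
    (.leaf (nat_lit 15383148))) (.node (.leaf (nat_lit 7943668)) (.leaf (nat_lit 11211519))))))
    (.node (.node (.node (.node (.node (.leaf (nat_lit 9113511)) (.leaf (nat_lit 17409200))) (.leaf
    (nat_lit 22692716))) (.node (.leaf (nat_lit 14561936)) (.leaf (nat_lit 1969357)))) (.node
    (.node (.leaf (nat_lit 23806755)) (.leaf (nat_lit 8041856))) (.node (.leaf (nat_lit 16524227))
    (.leaf (nat_lit 17056966))))) (.node (.node (.node (.node (.leaf (nat_lit 15113335)) (.leaf
    (nat_lit 19219850))) (.leaf (nat_lit 7605416))) (.node (.leaf (nat_lit 24069063)) (.leaf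
    (nat_lit 11215470)))) (.node (.node (.leaf (nat_lit 16196347)) (.leaf (nat_lit 22987815)))
    (.node (.leaf (nat_lit 9778860)) (.leaf (nat_lit 3542298)))))))) (.node (.node (.node (.node
    (.node (.node (.node (.leaf (nat_lit 5310340)) (.leaf (nat_lit 17310849))) (.leaf (nat_lit
    19808032))) (.node (.leaf (nat_lit 2756941)) (.leaf (nat_lit 525113)))) (.node (.node (.leaf
    (nat_lit 8431142)) (.leaf (nat_lit 20134591))) (.node (.leaf (nat_lit 7244830)) (.leaf (nat_lit
    8763570))))) (.node (.node (.node (.node (.leaf (nat_lit 15933907)) (.leaf (nat_lit 17938892)))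
    (.leaf (nat_lit 7015351))) (.node (.leaf (nat_lit 15576751)) (.leaf (nat_lit 10850993))))
    (.node (.node (.leaf (nat_lit 1355300)) (.leaf (nat_lit 8431775))) (.node (.leaf (nat_lit
    11572134)) (.leaf (nat_lit 2426018)))))) (.node (.node (.node (.node (.node (.leaf (nat_lit
    5146606)) (.leaf (nat_lit 12497200))) (.leaf (nat_lit 20234502))) (.node (.leaf (nat_lit
    16003995)) (.leaf (nat_lit 16065112)))) (.node (.node (.leaf (nat_lit 22036390)) (.leaf
    (nat_lit 19905060))) (.node (.leaf (nat_lit 8654624)) (.leaf (nat_lit 24528103))))) (.node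
    (.node (.node (.node (.leaf (nat_lit 8763546)) (.leaf (nat_lit 19186430))) (.leaf (nat_lit
    15901087))) (.node (.leaf (nat_lit 16990269)) (.leaf (nat_lit 18134724)))) (.node (.node (.leaf
    (nat_lit 5190009)) (.leaf (nat_lit 23151001))) (.node (.leaf (nat_lit 4594421)) (.leaf (nat_lit
    7343181))))))) (.node (.node (.node (.node (.node (.node (.leaf (nat_lit 11506561)) (.leaf
    (nat_lit 8623824))) (.leaf (nat_lit 20758300))) (.node (.leaf (nat_lit 15677869)) (.leaf
    (nat_lit 1672828)))) (.node (.node (.leaf (nat_lit 18332371)) (.leaf (nat_lit 11974115)))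
    (.node (.leaf (nat_lit 3967921)) (.leaf (nat_lit 11386170))))) (.node (.node (.node (.node
    (.leaf (nat_lit 21347653)) (.leaf (nat_lit 21282284))) (.leaf (nat_lit 4392516))) (.node (.leaf
    (nat_lit 14400384)) (.leaf (nat_lit 5190368)))) (.node (.node (.leaf (nat_lit 6720333)) (.leaf
    (nat_lit 14040241))) (.node (.leaf (nat_lit 8725314)) (.leaf (nat_lit 5082639)))))) (.node
    (.node (.node (.node (.node (.leaf (nat_lit 7736537)) (.leaf (nat_lit 19118371))) (.leaf
    (nat_lit 393350))) (.node (.leaf (nat_lit 18492334)) (.leaf (nat_lit 19249331)))) (.node (.node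
    (.leaf (nat_lit 18596996)) (.leaf (nat_lit 21741104))) (.node (.leaf (nat_lit 7376226)) (.leaf
    (nat_lit 754832))))) (.node (.node (.node (.leaf (nat_lit 19937851)) (.leaf (nat_lit 8457967)))
    (.node (.leaf (nat_lit 23250226)) (.leaf (nat_lit 23577245)))) (.node (.node (.leaf (nat_lit
    13112995)) (.leaf (nat_lit 1192418))) (.node (.leaf (nat_lit 22987075)) (.leaf (nat_lit
    10097001))))))))) (.node (.node (.node (.node (.node (.node (.node (.node (.leaf (nat_lit
    3179552)) (.leaf (nat_lit 11867301))) (.leaf (nat_lit 12792961))) (.node (.leaf (nat_lit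
    11768895)) (.leaf (nat_lit 7539862)))) (.node (.node (.leaf (nat_lit 21216512)) (.leaf (nat_lit
    3847376))) (.node (.leaf (nat_lit 229725)) (.leaf (nat_lit 23839541))))) (.node (.node (.node
    (.node (.leaf (nat_lit 4296645)) (.leaf (nat_lit 20429683))) (.leaf (nat_lit 6392428))) (.node
    (.leaf (nat_lit 17968086)) (.leaf (nat_lit 10326465)))) (.node (.node (.leaf (nat_lit 2688111))
    (.leaf (nat_lit 21544381))) (.node (.leaf (nat_lit 17806298)) (.leaf (nat_lit 918236))))))
    (.node (.node (.node (.node (.node (.leaf (nat_lit 5048103)) (.leaf (nat_lit 14431163))) (.leaf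
    (nat_lit 19284170))) (.node (.leaf (nat_lit 13572224)) (.leaf (nat_lit 3836406)))) (.node
    (.node (.leaf (nat_lit 17579554)) (.leaf (nat_lit 4495957))) (.node (.leaf (nat_lit 15670910))
    (.leaf (nat_lit 22593820))))) (.node (.node (.node (.node (.leaf (nat_lit 14594051)) (.leaf
    (nat_lit 22823362))) (.leaf (nat_lit 5933379))) (.node (.leaf (nat_lit 20922160)) (.leaf
    (nat_lit 20101795)))) (.node (.node (.leaf (nat_lit 14785483)) (.leaf (nat_lit 22495361)))
    (.node (.leaf (nat_lit 4200827)) (.leaf (nat_lit 5804997))))))) (.node (.node (.node (.node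
    (.node (.node (.leaf (nat_lit 2884513)) (.leaf (nat_lit 18392801))) (.leaf (nat_lit 18987847)))
    (.node (.leaf (nat_lit 9933718)) (.leaf (nat_lit 4458073)))) (.node (.node (.leaf (nat_lit
    19671647)) (.leaf (nat_lit 4600338))) (.node (.leaf (nat_lit 820453)) (.leaf (nat_lit
    10599481))))) (.node (.node (.node (.node (.leaf (nat_lit 4009372)) (.leaf (nat_lit 21150941)))
    (.leaf (nat_lit 3540286))) (.node (.leaf (nat_lit 21773887)) (.leaf (nat_lit 5288408)))) (.node
    (.node (.leaf (nat_lit 853012)) (.leaf (nat_lit 10337196))) (.node (.leaf (nat_lit 5814102))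
    (.leaf (nat_lit 4032036)))))) (.node (.node (.node (.node (.node (.leaf (nat_lit 7048139))
    (.leaf (nat_lit 16917539))) (.leaf (nat_lit 22660273))) (.node (.leaf (nat_lit 12693274))
    (.leaf (nat_lit 8236415)))) (.node (.node (.leaf (nat_lit 19776312)) (.leaf (nat_lit
    19872189))) (.node (.leaf (nat_lit 9343013)) (.leaf (nat_lit 163917))))) (.node (.node (.node
    (.leaf (nat_lit 6631574)) (.leaf (nat_lit 7736580))) (.node (.leaf (nat_lit 22529006)) (.leaf
    (nat_lit 6890463)))) (.node (.node (.leaf (nat_lit 6786120)) (.leaf (nat_lit 23709022))) (.node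
    (.leaf (nat_lit 18233360)) (.leaf (nat_lit 19048739)))))))) (.node (.node (.node (.node (.node
    (.node (.node (.leaf (nat_lit 1802852)) (.leaf (nat_lit 10490902))) (.leaf (nat_lit 16564461)))
    (.node (.leaf (nat_lit 7967236)) (.leaf (nat_lit 1322243)))) (.node (.node (.leaf (nat_lit
    24233005)) (.leaf (nat_lit 21478812))) (.node (.leaf (nat_lit 623392)) (.leaf (nat_lit
    19708312))))) (.node (.node (.node (.node (.leaf (nat_lit 19544516)) (.leaf (nat_lit
    18922132))) (.leaf (nat_lit 2698353))) (.node (.leaf (nat_lit 9054344)) (.leaf (nat_lit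
    21347643)))) (.node (.node (.leaf (nat_lit 4294157)) (.leaf (nat_lit 11057429))) (.node (.leaf
    (nat_lit 3183240)) (.leaf (nat_lit 2917541)))))) (.node (.node (.node (.node (.node (.leaf
    (nat_lit 9080721)) (.leaf (nat_lit 13907357))) (.leaf (nat_lit 14533156))) (.node (.leaf
    (nat_lit 15446278)) (.leaf (nat_lit 16851982)))) (.node (.node (.leaf (nat_lit 16793808))
    (.leaf (nat_lit 17970604))) (.node (.leaf (nat_lit 5386648)) (.leaf (nat_lit 18760599)))))
    (.node (.node (.node (.node (.leaf (nat_lit 7812105)) (.leaf (nat_lit 22332488))) (.leaf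
    (nat_lit 6890189))) (.node (.leaf (nat_lit 19022192)) (.leaf (nat_lit 8662700)))) (.node (.node
    (.leaf (nat_lit 5868102)) (.leaf (nat_lit 14893785))) (.node (.leaf (nat_lit 15576757)) (.leaf
    (nat_lit 3574915))))))) (.node (.node (.node (.node (.node (.node (.leaf (nat_lit 12195083))
    (.leaf (nat_lit 13738849))) (.leaf (nat_lit 16825998))) (.node (.leaf (nat_lit 20626395))
    (.leaf (nat_lit 7878261)))) (.node (.node (.leaf (nat_lit 17906680)) (.leaf (nat_lit
    16425894))) (.node (.leaf (nat_lit 4523621)) (.leaf (nat_lit 12238493))))) (.node (.node (.node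
    (.node (.leaf (nat_lit 7017808)) (.leaf (nat_lit 19611502))) (.leaf (nat_lit 4239912))) (.node
    (.leaf (nat_lit 20561030)) (.leaf (nat_lit 22134623)))) (.node (.node (.leaf (nat_lit
    12497574)) (.leaf (nat_lit 18496979))) (.node (.leaf (nat_lit 3846956)) (.leaf (nat_lit
    5410304)))))) (.node (.node (.node (.node (.node (.leaf (nat_lit 16297207)) (.leaf (nat_lit
    15902144))) (.leaf (nat_lit 2458427))) (.node (.leaf (nat_lit 24233000)) (.leaf (nat_lit
    18164769)))) (.node (.node (.leaf (nat_lit 4)) (.leaf (nat_lit 7283871))) (.node (.leaf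
    (nat_lit 3215151)) (.leaf (nat_lit 1183197))))) (.node (.node (.node (.leaf (nat_lit 16425913))
    (.leaf (nat_lit 8294266))) (.node (.leaf (nat_lit 295024)) (.leaf (nat_lit 17605886)))) (.node
    (.node (.leaf (nat_lit 10883769)) (.leaf (nat_lit 3736886))) (.node (.leaf (nat_lit 21773891))
    (.leaf (nat_lit 9015440)))))))))) (.node (.node (.node (.node (.node (.node (.node (.node
    (.node (.leaf (nat_lit 491675)) (.leaf (nat_lit 11506567))) (.leaf (nat_lit 20790307))) (.node
    (.leaf (nat_lit 8163282)) (.leaf (nat_lit 4556413)))) (.node (.node (.leaf (nat_lit 18462431))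
    (.leaf (nat_lit 9572572))) (.node (.leaf (nat_lit 4490848)) (.leaf (nat_lit 22036267)))))
    (.node (.node (.node (.node (.leaf (nat_lit 8654680)) (.leaf (nat_lit 24724835))) (.leaf
    (nat_lit 4326943))) (.node (.leaf (nat_lit 15840691)) (.leaf (nat_lit 4666630)))) (.node (.node
    (.leaf (nat_lit 590064)) (.leaf (nat_lit 23937915))) (.node (.leaf (nat_lit 18397106)) (.leaf
    (nat_lit 2589851)))))) (.node (.node (.node (.node (.node (.leaf (nat_lit 12817975)) (.leaf
    (nat_lit 4993866))) (.leaf (nat_lit 19120434))) (.node (.leaf (nat_lit 16491439)) (.leaf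
    (nat_lit 9080727)))) (.node (.node (.leaf (nat_lit 23446081)) (.leaf (nat_lit 13965735)))
    (.node (.leaf (nat_lit 1247093)) (.leaf (nat_lit 24757619))))) (.node (.node (.node (.node
    (.leaf (nat_lit 12497176)) (.leaf (nat_lit 21610788))) (.leaf (nat_lit 5574317))) (.node (.leaf
    (nat_lit 19873340)) (.leaf (nat_lit 17769801)))) (.node (.node (.leaf (nat_lit 12424949))
    (.leaf (nat_lit 24757625))) (.node (.leaf (nat_lit 4239936)) (.leaf (nat_lit 6654729)))))))
    (.node (.node (.node (.node (.node (.node (.leaf (nat_lit 557903)) (.leaf (nat_lit 18789695)))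
    (.leaf (nat_lit 9648711))) (.node (.leaf (nat_lit 3649512)) (.leaf (nat_lit 4392513)))) (.node
    (.node (.leaf (nat_lit 19147208)) (.leaf (nat_lit 14006136))) (.node (.leaf (nat_lit 6294093))
    (.leaf (nat_lit 20560821))))) (.node (.node (.node (.node (.leaf (nat_lit 18102232)) (.leaf
    (nat_lit 21019801))) (.leaf (nat_lit 3474693))) (.node (.leaf (nat_lit 19544542)) (.leaf
    (nat_lit 3413235)))) (.node (.node (.leaf (nat_lit 2032546)) (.leaf (nat_lit 23085431))) (.node
    (.leaf (nat_lit 6329252)) (.leaf (nat_lit 1115588)))))) (.node (.node (.node (.node (.node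
    (.leaf (nat_lit 6916995)) (.leaf (nat_lit 17638616))) (.leaf (nat_lit 17482769))) (.node (.leaf
    (nat_lit 14692617)) (.leaf (nat_lit 7933196)))) (.node (.node (.leaf (nat_lit 21414566)) (.leaf
    (nat_lit 22692000))) (.node (.leaf (nat_lit 9506930)) (.leaf (nat_lit 22660466))))) (.node
    (.node (.node (.leaf (nat_lit 18625154)) (.leaf (nat_lit 11711509))) (.node (.leaf (nat_lit
    24626464)) (.leaf (nat_lit 6759289)))) (.node (.node (.leaf (nat_lit 3967956)) (.leaf (nat_lit
    17548483))) (.node (.leaf (nat_lit 8336452)) (.leaf (nat_lit 8268859)))))))) (.node (.node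
    (.node (.node (.node (.node (.node (.leaf (nat_lit 1606164)) (.leaf (nat_lit 10228571))) (.leaf
    (nat_lit 14136557))) (.node (.leaf (nat_lit 7606672)) (.leaf (nat_lit 557929)))) (.node (.node
    (.leaf (nat_lit 22134613)) (.leaf (nat_lit 5549671))) (.node (.leaf (nat_lit 8260990)) (.leaf
    (nat_lit 22626419))))) (.node (.node (.node (.node (.leaf (nat_lit 15966727)) (.leaf (nat_lit
    20265737))) (.leaf (nat_lit 7146501))) (.node (.leaf (nat_lit 9582358)) (.leaf (nat_lit
    18392793)))) (.node (.node (.leaf (nat_lit 6982561)) (.leaf (nat_lit 15576755))) (.node (.leaf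
    (nat_lit 16037906)) (.leaf (nat_lit 3343551)))))) (.node (.node (.node (.node (.node (.leaf
    (nat_lit 14949419)) (.leaf (nat_lit 14102697))) (.leaf (nat_lit 19022218))) (.node (.leaf
    (nat_lit 15087305)) (.leaf (nat_lit 1739649)))) (.node (.node (.leaf (nat_lit 22462509)) (.leaf
    (nat_lit 14398632))) (.node (.leaf (nat_lit 10260905)) (.leaf (nat_lit 24724823))))) (.node
    (.node (.node (.node (.leaf (nat_lit 9647344)) (.leaf (nat_lit 20399012))) (.leaf (nat_lit
    15999540))) (.node (.leaf (nat_lit 23282155)) (.leaf (nat_lit 23806752)))) (.node (.node (.leaf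
    (nat_lit 6589129)) (.leaf (nat_lit 22921776))) (.node (.leaf (nat_lit 17380642)) (.leaf
    (nat_lit 7212059))))))) (.node (.node (.node (.node (.node (.node (.leaf (nat_lit 3802449))
    (.leaf (nat_lit 14162490))) (.leaf (nat_lit 16662285))) (.node (.leaf (nat_lit 13677354))
    (.leaf (nat_lit 4797244)))) (.node (.node (.leaf (nat_lit 19381104)) (.leaf (nat_lit
    12916347))) (.node (.leaf (nat_lit 4076075)) (.leaf (nat_lit 21511638))))) (.node (.node (.node
    (.node (.leaf (nat_lit 21085365)) (.leaf (nat_lit 16760507))) (.leaf (nat_lit 14260828)))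
    (.node (.leaf (nat_lit 21019799)) (.leaf (nat_lit 22396896)))) (.node (.node (.leaf (nat_lit
    4326947)) (.leaf (nat_lit 10992923))) (.node (.leaf (nat_lit 4829872)) (.leaf (nat_lit
    4886029)))))) (.node (.node (.node (.node (.node (.leaf (nat_lit 17671425)) (.leaf (nat_lit
    15934762))) (.leaf (nat_lit 1573376))) (.node (.leaf (nat_lit 13378492)) (.leaf (nat_lit
    7737216)))) (.node (.node (.leaf (nat_lit 18990365)) (.leaf (nat_lit 19511055))) (.node (.leaf
    (nat_lit 4371646)) (.leaf (nat_lit 2228957))))) (.node (.node (.node (.leaf (nat_lit 16229171))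
    (.leaf (nat_lit 2330419))) (.node (.leaf (nat_lit 131114)) (.leaf (nat_lit 21806673)))) (.node
    (.node (.leaf (nat_lit 5549673)) (.leaf (nat_lit 2360081))) (.node (.leaf (nat_lit 21642896))
    (.leaf (nat_lit 8654870))))))))) (.node (.node (.node (.node (.node (.node (.node (.node (.leaf
    (nat_lit 4130258)) (.leaf (nat_lit 10031804))) (.leaf (nat_lit 19905043))) (.node (.leaf
    (nat_lit 14031319)) (.leaf (nat_lit 492230)))) (.node (.node (.leaf (nat_lit 10925169)) (.leaf
    (nat_lit 2855353))) (.node (.leaf (nat_lit 1409552)) (.leaf (nat_lit 8431779))))) (.node (.node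
    (.node (.node (.leaf (nat_lit 9310291)) (.leaf (nat_lit 17148287))) (.leaf (nat_lit 2196170)))
    (.node (.leaf (nat_lit 15873998)) (.leaf (nat_lit 20823096)))) (.node (.node (.leaf (nat_lit
    5441473)) (.leaf (nat_lit 23118221))) (.node (.leaf (nat_lit 15610977)) (.leaf (nat_lit
    9113523)))))) (.node (.node (.node (.node (.node (.leaf (nat_lit 14725849)) (.leaf (nat_lit
    15054535))) (.leaf (nat_lit 23446087))) (.node (.leaf (nat_lit 21085369)) (.leaf (nat_lit
    14333257)))) (.node (.node (.leaf (nat_lit 23773969)) (.leaf (nat_lit 15474106))) (.node (.leaf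
    (nat_lit 6272865)) (.leaf (nat_lit 19644838))))) (.node (.node (.node (.node (.leaf (nat_lit
    19249222)) (.leaf (nat_lit 21480026))) (.leaf (nat_lit 6556353))) (.node (.leaf (nat_lit
    17121218)) (.leaf (nat_lit 14556111)))) (.node (.node (.leaf (nat_lit 15375723)) (.leaf
    (nat_lit 23446091))) (.node (.leaf (nat_lit 14824372)) (.leaf (nat_lit 1706820))))))) (.node
    (.node (.node (.node (.node (.node (.leaf (nat_lit 951298)) (.leaf (nat_lit 12563268))) (.leaf
    (nat_lit 17578916))) (.node (.leaf (nat_lit 10163276)) (.leaf (nat_lit 4294159)))) (.node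
    (.node (.leaf (nat_lit 19315220)) (.leaf (nat_lit 15740923))) (.node (.leaf (nat_lit 13014664))
    (.leaf (nat_lit 20692158))))) (.node (.node (.node (.node (.leaf (nat_lit 11932865)) (.leaf
    (nat_lit 24626466))) (.leaf (nat_lit 7080928))) (.node (.leaf (nat_lit 19708639)) (.leaf
    (nat_lit 3610020)))) (.node (.node (.leaf (nat_lit 885968)) (.leaf (nat_lit 22265778))) (.node
    (.leaf (nat_lit 18822519)) (.leaf (nat_lit 13184940)))))) (.node (.node (.node (.node (.node
    (.leaf (nat_lit 16458651)) (.leaf (nat_lit 23872337))) (.leaf (nat_lit 19613008))) (.node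
    (.leaf (nat_lit 13513625)) (.leaf (nat_lit 15348029)))) (.node (.node (.leaf (nat_lit
    17515481)) (.leaf (nat_lit 19937860))) (.node (.leaf (nat_lit 18261626)) (.leaf (nat_lit
    1770076))))) (.node (.node (.node (.leaf (nat_lit 14268120)) (.leaf (nat_lit 11908893))) (.node
    (.leaf (nat_lit 16893075)) (.leaf (nat_lit 22364119)))) (.node (.node (.leaf (nat_lit
    10424799)) (.leaf (nat_lit 589996))) (.node (.leaf (nat_lit 11483655)) (.leaf (nat_lit
    12162301)))))))) (.node (.node (.node (.node (.node (.node (.node (.leaf (nat_lit 7998742))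
    (.leaf (nat_lit 10851526))) (.leaf (nat_lit 23183796))) (.node (.leaf (nat_lit 8983164)) (.leaf
    (nat_lit 11768890)))) (.node (.node (.leaf (nat_lit 18757842)) (.leaf (nat_lit 13249986)))
    (.node (.leaf (nat_lit 9703610)) (.leaf (nat_lit 20069017))))) (.node (.node (.node (.node
    (.leaf (nat_lit 8268724)) (.leaf (nat_lit 18955054))) (.leaf (nat_lit 10687048))) (.node (.leaf
    (nat_lit 24790409)) (.leaf (nat_lit 11637763)))) (.node (.node (.leaf (nat_lit 2786173)) (.leaf
    (nat_lit 19773847))) (.node (.leaf (nat_lit 21445996)) (.leaf (nat_lit 7998747)))))) (.node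
    (.node (.node (.node (.node (.leaf (nat_lit 5805172)) (.leaf (nat_lit 6759099))) (.leaf
    (nat_lit 20529878))) (.node (.leaf (nat_lit 13835310)) (.leaf (nat_lit 8064321)))) (.node
    (.node (.leaf (nat_lit 19415384)) (.leaf (nat_lit 5512743))) (.node (.leaf (nat_lit 16458649))
    (.leaf (nat_lit 22070324))))) (.node (.node (.node (.node (.leaf (nat_lit 22167403)) (.leaf
    (nat_lit 24397026))) (.leaf (nat_lit 2427908))) (.node (.leaf (nat_lit 22168072)) (.leaf
    (nat_lit 17741232)))) (.node (.node (.leaf (nat_lit 6032069)) (.leaf (nat_lit 18170746)))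
    (.node (.leaf (nat_lit 14169002)) (.leaf (nat_lit 10162555))))))) (.node (.node (.node (.node
    (.node (.node (.leaf (nat_lit 12333855)) (.leaf (nat_lit 13113812))) (.leaf (nat_lit
    13713486))) (.node (.leaf (nat_lit 15741110)) (.leaf (nat_lit 5353305)))) (.node (.node (.leaf
    (nat_lit 16563324)) (.leaf (nat_lit 13375483))) (.node (.leaf (nat_lit 2438395)) (.leaf
    (nat_lit 13483870))))) (.node (.node (.node (.node (.leaf (nat_lit 11188541)) (.leaf (nat_lit
    16695294))) (.leaf (nat_lit 9875887))) (.node (.leaf (nat_lit 23544457)) (.leaf (nat_lit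
    19020631)))) (.node (.node (.leaf (nat_lit 10260903)) (.leaf (nat_lit 20921971))) (.node (.leaf
    (nat_lit 17609958)) (.leaf (nat_lit 5508613)))))) (.node (.node (.node (.node (.node (.leaf
    (nat_lit 5551397)) (.leaf (nat_lit 20495257))) (.leaf (nat_lit 885011))) (.node (.leaf (nat_lit
    22593643)) (.leaf (nat_lit 2592895)))) (.node (.node (.leaf (nat_lit 327799)) (.leaf (nat_lit
    20888676))) (.node (.leaf (nat_lit 8954687)) (.leaf (nat_lit 1638946))))) (.node (.node (.node
    (.leaf (nat_lit 24167422)) (.leaf (nat_lit 5648851))) (.node (.leaf (nat_lit 2098301)) (.leaf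
    (nat_lit 24692035)))) (.node (.node (.leaf (nat_lit 8032030)) (.leaf (nat_lit 1421793))) (.node
    (.leaf (nat_lit 13444246)) (.leaf (nat_lit 10785415))))))))))))))

/-- Certificate data. -/
def pt1_C : TC.Cert := ⟨11, 2047, 15, 32767, 402899786958466579271334009711561899337908736, 520830, pt1_par, pt1_fact, pt1_just, pt1_rel, 309⟩

/-- Certificate data. -/
def pt1_rs : List (List ℕ) := [[1, 1, 1], [5, 5, 5, 5], [5, 1, 6, 4], [5, 3, 6, 1], [1, 3, 2, 4], [7, 1, 8, 4, 2], [7, 5, 8, 5], [7, 7, 6, 6], [9, 9], [9, 1, 9, 2], [9, 5, 9, 5], [9, 7, 9, 6, 8], [10, 10, 10], [10, 1, 11, 2], [10, 3, 11, 4, 2], [10, 5, 11, 8], [10, 7, 11, 8, 6], [9, 10, 9, 10], [15, 9, 10, 15, 9, 10, 15, 9, 10], [12, 12], [12, 1, 12, 1, 12, 1], [12, 5, 9, 12, 5, 9, 12, 5, 9], [12, 1, 3, 12, 4, 2], [12, 5, 5, 12, 6, 6], [12, 5, 12, 5, 12, 5, 14], [13, 1, 3, 13, 1, 3, 13, 1, 3, 13, 1, 3, 13, 1, 3], [5, 12, 5, 12, 5, 12, 5, 12, 5, 12, 5, 12], [15, 15], [16, 16], [17, 17], [18, 18], [15, 16, 15, 16], [15, 17, 15, 17], [15, 18, 15, 18], [16, 17, 16, 17], [16, 18, 16, 18], [17, 18, 17, 18], [1, 15, 2, 15], [1,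 16, 2, 16], [1, 17, 2, 18, 17], [1, 18, 2, 17], [3, 15, 4, 16], [3, 16, 4, 16, 15], [3, 17, 4, 17], [3, 18, 4, 18], [5, 15, 6, 17], [5, 16, 6, 18], [5, 17, 6, 15], [5, 18, 6, 16, 15], [13, 15, 14, 15], [13, 16, 14, 17, 16, 15], [13, 17, 14, 17], [13, 18, 14, 18, 15], [9, 15, 9, 15], [9, 16, 9, 16, 15], [9, 17, 9, 17], [9, 18, 9, 18], [12, 15, 12, 15], [12, 16, 12, 16], [12, 17, 12, 17, 15], [12, 18, 12, 18, 16, 15], [7, 11, 15, 10, 8, 12]]

/-- Certificate data. -/
def pt1_gl : List ℕ := [1, 194309, 388618, 582924, 777231, 971529]

theorem pt1_h1_0 : allR pt1_C.factChk 0 685 = true := by decide +kernel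

theorem pt1_h1_1 : allR pt1_C.factChk 685 720 = true := by decide +kernel

theorem pt1_h1_2 : allR pt1_C.factChk 1405 644 = true := by decide +kernel

theorem pt1_h1_3 : allR pt1_C.factChk 2049 616 = true := by decide +kernel

theorem pt1_h1_4 : allR pt1_C.factChk 2665 681 = true := by decide +kernel

theorem pt1_h1_5 : allR pt1_C.factChk 3346 761 = true := by decide +kernel

theorem pt1_h1_6 : allR pt1_C.factChk 4107 662 = true := by decide +kernel

theorem pt1_h1_7 : allR pt1_C.factChk 4769 718 = true := by decide +kernel

theorem pt1_h1_8 : allR pt1_C.factChk 5487 652 = true := by decide +kernel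

theorem pt1_h1_9 : allR pt1_C.factChk 6139 686 = true := by decide +kernel

theorem pt1_h1_10 : allR pt1_C.factChk 6825 586 = true := by decide +kernel

theorem pt1_h1_11 : allR pt1_C.factChk 7411 573 = true := by decide +kernel

theorem pt1_h1_12 : allR pt1_C.factChk 7984 580 = true := by decide +kernel

theorem pt1_h1_13 : allR pt1_C.factChk 8564 361 = true := by decide +kernel

theorem pt1_h1 : allB pt1_C.factChk 8925 = true :=
  allB_of_allR (a := 8925)
    (allR_append (allR_append (allR_append (allR_append (allR_append (allR_append (allR_append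
    (allR_append (allR_append (allR_append (allR_append (allR_append (allR_append (pt1_h1_0)
    pt1_h1_1) pt1_h1_2) pt1_h1_3) pt1_h1_4) pt1_h1_5) pt1_h1_6) pt1_h1_7) pt1_h1_8) pt1_h1_9)
    pt1_h1_10) pt1_h1_11) pt1_h1_12) pt1_h1_13)

theorem pt1_h2 : pt1_C.finChk 8925 759 pt1_lv pt1_tb pt1_gl = true := by decide +kernel

theorem pt1_h3 : TC.relChk pt1_C.ivc pt1_rs pt1_C.rel pt1_rc pt1_C.nrel = true := by decide +kernel

theorem pt1_bound {G : Type*} [Group G] {x y w q r g f u a b c d : G}
    (r0 : x * x * x = 1)
    (r1 : w * w * w * w = 1)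
    (r2 : w * x * w⁻¹ * y⁻¹ = 1)
    (r3 : w * y * w⁻¹ * x = 1)
    (r4 : x * y * x⁻¹ * y⁻¹ = 1)
    (r5 : q * x * q⁻¹ * y⁻¹ * x⁻¹ = 1)
    (r6 : q * w * q⁻¹ * w = 1)
    (r7 : q * q * w⁻¹ * w⁻¹ = 1)
    (r8 : r * r = 1)
    (r9 : r * x * r * x⁻¹ = 1)
    (r10 : r * w * r * w = 1)
    (r11 : r * q * r * w⁻¹ * q⁻¹ = 1)
    (r12 : g * g * g = 1)
    (r13 : g * x * g⁻¹ * x⁻¹ = 1)
    (r14 : g * y * g⁻¹ * y⁻¹ * x⁻¹ = 1)
    (r15 : g * w * g⁻¹ * q⁻¹ = 1)
    (r16 : g * q * g⁻¹ * q⁻¹ * w⁻¹ = 1)
    (r17 : r * g * r * g = 1)
    (r18 : a * r * g * a * r * g * a * r * g = 1)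
    (r19 : f * f = 1)
    (r20 : f * x * f * x * f * x = 1)
    (r21 : f * w * r * f * w * r * f * w * r = 1)
    (r22 : f * x * y * f * y⁻¹ * x⁻¹ = 1)
    (r23 : f * w * w * f * w⁻¹ * w⁻¹ = 1)
    (r24 : f * w * f * w * f * w * u⁻¹ = 1)
    (r25 : u * x * y * u * x * y * u * x * y * u * x * y * u * x * y = 1)
    (r26 : w * f * w * f * w * f * w * f * w * f * w * f = 1)
    (r27 : a * a = 1)
    (r28 : b * b = 1)
    (r29 : c * c = 1)
    (r30 : d * d = 1)
    (r31 : a * b * a * b = 1)
    (r32 : a * c * a * c = 1)
    (r33 : a * d * a * d = 1)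
    (r34 : b * c * b * c = 1)
    (r35 : b * d * b * d = 1)
    (r36 : c * d * c * d = 1)
    (r37 : x * a * x⁻¹ * a = 1)
    (r38 : x * b * x⁻¹ * b = 1)
    (r39 : x * c * x⁻¹ * d * c = 1)
    (r40 : x * d * x⁻¹ * c = 1)
    (r41 : y * a * y⁻¹ * b = 1)
    (r42 : y * b * y⁻¹ * b * a = 1)
    (r43 : y * c * y⁻¹ * c = 1)
    (r44 : y * d * y⁻¹ * d = 1)
    (r45 : w * a * w⁻¹ * c = 1)
    (r46 : w * b * w⁻¹ * d = 1)
    (r47 : w * c * w⁻¹ * a = 1)
    (r48 : w * d * w⁻¹ * b * a = 1)
    (r49 : u * a * u⁻¹ * a = 1)
    (r50 : u * b * u⁻¹ * c * b * a = 1)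
    (r51 : u * c * u⁻¹ * c = 1)
    (r52 : u * d * u⁻¹ * d * a = 1)
    (r53 : r * a * r * a = 1)
    (r54 : r * b * r * b * a = 1)
    (r55 : r * c * r * c = 1)
    (r56 : r * d * r * d = 1)
    (r57 : f * a * f * a = 1)
    (r58 : f * b * f * b = 1)
    (r59 : f * c * f * c * a = 1)
    (r60 : f * d * f * d * b * a = 1)
    (r61 : q * g⁻¹ * a * g * q⁻¹ * f = 1)
    (H : Subgroup G) [Finite H] (m1 : x ∈ H) (m3 : y ∈ H) (m5 : w ∈ H) (m9 : r ∈ H) (m12 : f ∈ H) (m13 : u ∈ H) (m15 : a ∈ H) (m16 : b ∈ H) (m17 : c ∈ H) (m18 : d ∈ H) :
    Finite (Subgroup.closure ({x, w, g, f, a, r} : Set G)) ∧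
      Nat.card (Subgroup.closure ({x, w, g, f, a, r} : Set G)) ≤ 759 * Nat.card H := by
  have hL : TC.Lett (TC.lett [x, x⁻¹, y, y⁻¹, w, w⁻¹, q, q⁻¹, r, g, g⁻¹, f, u, u⁻¹, a, b, c, d]) pt1_C.ivc :=
    TC.lett_ok (show Nat.shiftRight pt1_C.ivc (8 * 19) = 0 by decide +kernel) (by
      intro a ha
      change a < 19 at ha
      interval_cases a
      · exact inv_one.symm
      · rfl
      · exact (inv_inv _).symm
      · rfl
      · exact (inv_inv _).symm
      · rfl
      · exact (inv_inv _).symm
      · rfl
      · exact (inv_inv _).symm
      · exact (inv_eq_of_mul_eq_one_right r8).symm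
      · rfl
      · exact (inv_inv _).symm
      · exact (inv_eq_of_mul_eq_one_right r19).symm
      · rfl
      · exact (inv_inv _).symm
      · exact (inv_eq_of_mul_eq_one_right r27).symm
      · exact (inv_eq_of_mul_eq_one_right r28).symm
      · exact (inv_eq_of_mul_eq_one_right r29).symm
      · exact (inv_eq_of_mul_eq_one_right r30).symm)
  have h := TC.card_le pt1_h1 pt1_h2 pt1_h3 (by decide) hL (by
    simp only [pt1_rs, List.forall_mem_cons]
    refine ⟨?_, ?_, ?_, ?_, ?_, ?_, ?_, ?_, ?_, ?_, ?_, ?_, ?_, ?_, ?_, ?_, ?_, ?_, ?_, ?_, ?_, ?_,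
    ?_, ?_, ?_, ?_, ?_, ?_, ?_, ?_, ?_, ?_, ?_, ?_, ?_, ?_, ?_, ?_, ?_, ?_, ?_, ?_, ?_, ?_, ?_, ?_,
    ?_, ?_, ?_, ?_, ?_, ?_, ?_, ?_, ?_, ?_, ?_, ?_, ?_, ?_, ?_, ?_, List.forall_mem_nil _⟩
    · show x * (x * (x * 1)) = 1
      simp only [mul_assoc, mul_one] at r0 ⊢
      exact r0
    · show w * (w * (w * (w * 1))) = 1
      simp only [mul_assoc, mul_one] at r1 ⊢
      exact r1
    · show w * (x * (w⁻¹ * (y⁻¹ * 1))) = 1
      simp only [mul_assoc, mul_one] at r2 ⊢
      exact r2
    · show w * (y * (w⁻¹ * (x * 1))) = 1
      simp only [mul_assoc, mul_one] at r3 ⊢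
      exact r3
    · show x * (y * (x⁻¹ * (y⁻¹ * 1))) = 1
      simp only [mul_assoc, mul_one] at r4 ⊢
      exact r4
    · show q * (x * (q⁻¹ * (y⁻¹ * (x⁻¹ * 1)))) = 1
      simp only [mul_assoc, mul_one] at r5 ⊢
      exact r5
    · show q * (w * (q⁻¹ * (w * 1))) = 1
      simp only [mul_assoc, mul_one] at r6 ⊢
      exact r6
    · show q * (q * (w⁻¹ * (w⁻¹ * 1))) = 1
      simp only [mul_assoc, mul_one] at r7 ⊢
      exact r7
    · show r * (r * 1) = 1
      simp only [mul_one] at r8 ⊢
      exact r8
    · show r * (x * (r * (x⁻¹ * 1))) = 1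
      simp only [mul_assoc, mul_one] at r9 ⊢
      exact r9
    · show r * (w * (r * (w * 1))) = 1
      simp only [mul_assoc, mul_one] at r10 ⊢
      exact r10
    · show r * (q * (r * (w⁻¹ * (q⁻¹ * 1)))) = 1
      simp only [mul_assoc, mul_one] at r11 ⊢
      exact r11
    · show g * (g * (g * 1)) = 1
      simp only [mul_assoc, mul_one] at r12 ⊢
      exact r12
    · show g * (x * (g⁻¹ * (x⁻¹ * 1))) = 1
      simp only [mul_assoc, mul_one] at r13 ⊢
      exact r13
    · show g * (y * (g⁻¹ * (y⁻¹ * (x⁻¹ * 1)))) = 1
      simp only [mul_assoc, mul_one] at r14 ⊢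
      exact r14
    · show g * (w * (g⁻¹ * (q⁻¹ * 1))) = 1
      simp only [mul_assoc, mul_one] at r15 ⊢
      exact r15
    · show g * (q * (g⁻¹ * (q⁻¹ * (w⁻¹ * 1)))) = 1
      simp only [mul_assoc, mul_one] at r16 ⊢
      exact r16
    · show r * (g * (r * (g * 1))) = 1
      simp only [mul_assoc, mul_one] at r17 ⊢
      exact r17
    · show a * (r * (g * (a * (r * (g * (a * (r * (g * 1)))))))) = 1
      simp only [mul_assoc, mul_one] at r18 ⊢
      exact r18
    · show f * (f * 1) = 1
      simp only [mul_one] at r19 ⊢
      exact r19
    · show f * (x * (f * (x * (f * (x * 1))))) = 1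
      simp only [mul_assoc, mul_one] at r20 ⊢
      exact r20
    · show f * (w * (r * (f * (w * (r * (f * (w * (r * 1)))))))) = 1
      simp only [mul_assoc, mul_one] at r21 ⊢
      exact r21
    · show f * (x * (y * (f * (y⁻¹ * (x⁻¹ * 1))))) = 1
      simp only [mul_assoc, mul_one] at r22 ⊢
      exact r22
    · show f * (w * (w * (f * (w⁻¹ * (w⁻¹ * 1))))) = 1
      simp only [mul_assoc, mul_one] at r23 ⊢
      exact r23
    · show f * (w * (f * (w * (f * (w * (u⁻¹ * 1)))))) = 1
      simp only [mul_assoc, mul_one] at r24 ⊢
      exact r24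
    · show u * (x * (y * (u * (x * (y * (u * (x * (y * (u * (x * (y * (u * (x * (y *
    1)))))))))))))) = 1
      simp only [mul_assoc, mul_one] at r25 ⊢
      exact r25
    · show w * (f * (w * (f * (w * (f * (w * (f * (w * (f * (w * (f * 1))))))))))) = 1
      simp only [mul_assoc, mul_one] at r26 ⊢
      exact r26
    · show a * (a * 1) = 1
      simp only [mul_one] at r27 ⊢
      exact r27
    · show b * (b * 1) = 1
      simp only [mul_one] at r28 ⊢
      exact r28
    · show c * (c * 1) = 1
      simp only [mul_one] at r29 ⊢
      exact r29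
    · show d * (d * 1) = 1
      simp only [mul_one] at r30 ⊢
      exact r30
    · show a * (b * (a * (b * 1))) = 1
      simp only [mul_assoc, mul_one] at r31 ⊢
      exact r31
    · show a * (c * (a * (c * 1))) = 1
      simp only [mul_assoc, mul_one] at r32 ⊢
      exact r32
    · show a * (d * (a * (d * 1))) = 1
      simp only [mul_assoc, mul_one] at r33 ⊢
      exact r33
    · show b * (c * (b * (c * 1))) = 1
      simp only [mul_assoc, mul_one] at r34 ⊢
      exact r34
    · show b * (d * (b * (d * 1))) = 1
      simp only [mul_assoc, mul_one] at r35 ⊢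
      exact r35
    · show c * (d * (c * (d * 1))) = 1
      simp only [mul_assoc, mul_one] at r36 ⊢
      exact r36
    · show x * (a * (x⁻¹ * (a * 1))) = 1
      simp only [mul_assoc, mul_one] at r37 ⊢
      exact r37
    · show x * (b * (x⁻¹ * (b * 1))) = 1
      simp only [mul_assoc, mul_one] at r38 ⊢
      exact r38
    · show x * (c * (x⁻¹ * (d * (c * 1)))) = 1
      simp only [mul_assoc, mul_one] at r39 ⊢
      exact r39
    · show x * (d * (x⁻¹ * (c * 1))) = 1
      simp only [mul_assoc, mul_one] at r40 ⊢
      exact r40
    · show y * (a * (y⁻¹ * (b * 1))) = 1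
      simp only [mul_assoc, mul_one] at r41 ⊢
      exact r41
    · show y * (b * (y⁻¹ * (b * (a * 1)))) = 1
      simp only [mul_assoc, mul_one] at r42 ⊢
      exact r42
    · show y * (c * (y⁻¹ * (c * 1))) = 1
      simp only [mul_assoc, mul_one] at r43 ⊢
      exact r43
    · show y * (d * (y⁻¹ * (d * 1))) = 1
      simp only [mul_assoc, mul_one] at r44 ⊢
      exact r44
    · show w * (a * (w⁻¹ * (c * 1))) = 1
      simp only [mul_assoc, mul_one] at r45 ⊢
      exact r45
    · show w * (b * (w⁻¹ * (d * 1))) = 1
      simp only [mul_assoc, mul_one] at r46 ⊢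
      exact r46
    · show w * (c * (w⁻¹ * (a * 1))) = 1
      simp only [mul_assoc, mul_one] at r47 ⊢
      exact r47
    · show w * (d * (w⁻¹ * (b * (a * 1)))) = 1
      simp only [mul_assoc, mul_one] at r48 ⊢
      exact r48
    · show u * (a * (u⁻¹ * (a * 1))) = 1
      simp only [mul_assoc, mul_one] at r49 ⊢
      exact r49
    · show u * (b * (u⁻¹ * (c * (b * (a * 1))))) = 1
      simp only [mul_assoc, mul_one] at r50 ⊢
      exact r50
    · show u * (c * (u⁻¹ * (c * 1))) = 1
      simp only [mul_assoc, mul_one] at r51 ⊢
      exact r51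
    · show u * (d * (u⁻¹ * (d * (a * 1)))) = 1
      simp only [mul_assoc, mul_one] at r52 ⊢
      exact r52
    · show r * (a * (r * (a * 1))) = 1
      simp only [mul_assoc, mul_one] at r53 ⊢
      exact r53
    · show r * (b * (r * (b * (a * 1)))) = 1
      simp only [mul_assoc, mul_one] at r54 ⊢
      exact r54
    · show r * (c * (r * (c * 1))) = 1
      simp only [mul_assoc, mul_one] at r55 ⊢
      exact r55
    · show r * (d * (r * (d * 1))) = 1
      simp only [mul_assoc, mul_one] at r56 ⊢
      exact r56
    · show f * (a * (f * (a * 1))) = 1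
      simp only [mul_assoc, mul_one] at r57 ⊢
      exact r57
    · show f * (b * (f * (b * 1))) = 1
      simp only [mul_assoc, mul_one] at r58 ⊢
      exact r58
    · show f * (c * (f * (c * (a * 1)))) = 1
      simp only [mul_assoc, mul_one] at r59 ⊢
      exact r59
    · show f * (d * (f * (d * (b * (a * 1))))) = 1
      simp only [mul_assoc, mul_one] at r60 ⊢
      exact r60
    · show q * (g⁻¹ * (a * (g * (q⁻¹ * (f * 1))))) = 1
      simp only [mul_assoc, mul_one] at r61 ⊢
      exact r61) H
    (TC.forall_subs (K := 19) (by decide +kernel) (by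
      intro a ha hb
      interval_cases a
      · exact absurd hb (by decide +kernel)
      · exact m1
      · exact H.inv_mem m1
      · exact m3
      · exact H.inv_mem m3
      · exact m5
      · exact H.inv_mem m5
      · exact absurd hb (by decide +kernel)
      · exact absurd hb (by decide +kernel)
      · exact m9
      · exact absurd hb (by decide +kernel)
      · exact absurd hb (by decide +kernel)
      · exact m12
      · exact m13
      · exact H.inv_mem m13
      · exact m15
      · exact m16
      · exact m17
      · exact m18))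
  have e : {g₀ | ∃ ak ∈ pt1_gl, TC.lett [x, x⁻¹, y, y⁻¹, w, w⁻¹, q, q⁻¹, r, g, g⁻¹, f, u, u⁻¹, a, b, c, d] (ak % 256) = g₀} =
      {x, w, g, f, a, r} := by
    ext g₀
    simp only [pt1_gl, List.mem_cons, List.not_mem_nil, or_false, exists_eq_or_imp,
      exists_eq_left, Set.mem_ofPred_eq, Set.mem_insert_iff, Set.mem_singleton_iff]
    exact or_congr eq_comm (or_congr eq_comm (or_congr eq_comm (or_congr eq_comm (or_congr eq_comm (eq_comm)))))
  rw [e] at h
  exact h

theorem pt1_card {G : Type*} [Group G] {x y w q r g f u a b c d : G}
    (e0 : x ^ 3 = 1)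
    (e1 : w ^ 4 = 1)
    (e2 : w * x * w⁻¹ = y)
    (e3 : w * y * w⁻¹ = x⁻¹)
    (e4 : x * y = y * x)
    (e5 : q * x * q⁻¹ = x * y)
    (e6 : q * w * q⁻¹ = w⁻¹)
    (e7 : q * q = w * w)
    (e8 : r * r = 1)
    (e9 : r * x * r = x)
    (e10 : r * w * r = w⁻¹)
    (e11 : r * q * r = q * w)
    (e12 : g ^ 3 = 1)
    (e13 : g * x * g⁻¹ = x)
    (e14 : g * y * g⁻¹ = x * y)
    (e15 : g * w * g⁻¹ = q)
    (e16 : g * q * g⁻¹ = w * q)
    (e17 : r * g * r = g⁻¹)
    (e18 : (a * r * g) ^ 3 = 1)
    (e19 : f * f = 1)
    (e20 : (f * x) ^ 3 = 1)
    (e21 : (f * (w * r)) ^ 3 = 1)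
    (e22 : f * (x * y) = x * y * f)
    (e23 : f * (w * w) = w * w * f)
    (e24 : f * w * f * w * f * w = u)
    (e25 : (u * x * y) ^ 5 = 1)
    (e26 : (w * f * w * f) ^ 3 = 1)
    (e27 : a * a = 1)
    (e28 : b * b = 1)
    (e29 : c * c = 1)
    (e30 : d * d = 1)
    (e31 : a * b = b * a)
    (e32 : a * c = c * a)
    (e33 : a * d = d * a)
    (e34 : b * c = c * b)
    (e35 : b * d = d * b)
    (e36 : c * d = d * c)
    (e37 : x * a * x⁻¹ = a)
    (e38 : x * b * x⁻¹ = b)
    (e39 : x * c * x⁻¹ = c * d)
    (e40 : x * d * x⁻¹ = c)
    (e41 : y * a * y⁻¹ = b)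
    (e42 : y * b * y⁻¹ = a * b)
    (e43 : y * c * y⁻¹ = c)
    (e44 : y * d * y⁻¹ = d)
    (e45 : w * a * w⁻¹ = c)
    (e46 : w * b * w⁻¹ = d)
    (e47 : w * c * w⁻¹ = a)
    (e48 : w * d * w⁻¹ = a * b)
    (e49 : u * a * u⁻¹ = a)
    (e50 : u * b * u⁻¹ = a * b * c)
    (e51 : u * c * u⁻¹ = c)
    (e52 : u * d * u⁻¹ = a * d)
    (e53 : r * a * r = a)
    (e54 : r * b * r = a * b)
    (e55 : r * c * r = c)
    (e56 : r * d * r = d)
    (e57 : f * a * f = a)
    (e58 : f * b * f = b)
    (e59 : f * c * f = a * c)
    (e60 : f * d * f = a * b * d)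
    (e61 : q * (g⁻¹ * a * g) * q⁻¹ = f)
    (H : Subgroup G) [Finite H] (mx : x ∈ H) (my : y ∈ H) (mw : w ∈ H) (mr : r ∈ H) (mf : f ∈ H) (mu : u ∈ H) (ma : a ∈ H) (mb : b ∈ H) (mc : c ∈ H) (md : d ∈ H) :
    Finite (Subgroup.closure ({x, w, g, f, a, r} : Set G)) ∧
      Nat.card (Subgroup.closure ({x, w, g, f, a, r} : Set G)) ≤ 759 * Nat.card H := by
  have ir : r⁻¹ = r := inv_eq_of_mul_eq_one_right e8
  have jf : f⁻¹ = f := inv_eq_of_mul_eq_one_right e19
  have ia : a⁻¹ = a := inv_eq_of_mul_eq_one_right e27
  have ib : b⁻¹ = b := inv_eq_of_mul_eq_one_right e28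
  have ic : c⁻¹ = c := inv_eq_of_mul_eq_one_right e29
  have id : d⁻¹ = d := inv_eq_of_mul_eq_one_right e30
  refine pt1_bound (q := q) ?_ ?_ ?_ ?_ ?_ ?_ ?_ ?_ ?_ ?_ ?_ ?_ ?_ ?_ ?_ ?_ ?_ ?_ ?_ ?_ ?_ ?_ ?_ ?_ ?_ ?_ ?_ ?_ ?_ ?_ ?_ ?_ ?_ ?_ ?_ ?_ ?_ ?_ ?_ ?_ ?_ ?_ ?_ ?_ ?_ ?_ ?_ ?_ ?_ ?_ ?_ ?_ ?_ ?_ ?_ ?_ ?_ ?_ ?_ ?_ ?_ ?_ H mx my mw mr mf mu ma mb mc md
  · have h := mul_inv_eq_one.mpr e0
    simp only [pow_succ, pow_zero, mul_inv_rev, inv_inv, inv_one, one_mul, mul_one, mul_assoc,
      mul_inv_cancel_left, inv_mul_cancel_left, mul_inv_cancel, inv_mul_cancel, ir, jf, ia, ib, ic, id] at h ⊢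
    exact h
  · have h := mul_inv_eq_one.mpr e1
    simp only [pow_succ, pow_zero, mul_inv_rev, inv_inv, inv_one, one_mul, mul_one, mul_assoc,
      mul_inv_cancel_left, inv_mul_cancel_left, mul_inv_cancel, inv_mul_cancel, ir, jf, ia, ib, ic, id] at h ⊢
    exact h
  · have h := mul_inv_eq_one.mpr e2
    simp only [pow_succ, pow_zero, mul_inv_rev, inv_inv, inv_one, one_mul, mul_one, mul_assoc,
      mul_inv_cancel_left, inv_mul_cancel_left, mul_inv_cancel, inv_mul_cancel, ir, jf, ia, ib, ic, id] at h ⊢
    exact h
  · have h := mul_inv_eq_one.mpr e3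
    simp only [pow_succ, pow_zero, mul_inv_rev, inv_inv, inv_one, one_mul, mul_one, mul_assoc,
      mul_inv_cancel_left, inv_mul_cancel_left, mul_inv_cancel, inv_mul_cancel, ir, jf, ia, ib, ic, id] at h ⊢
    exact h
  · have h := mul_inv_eq_one.mpr e4
    simp only [pow_succ, pow_zero, mul_inv_rev, inv_inv, inv_one, one_mul, mul_one, mul_assoc,
      mul_inv_cancel_left, inv_mul_cancel_left, mul_inv_cancel, inv_mul_cancel, ir, jf, ia, ib, ic, id] at h ⊢
    exact h
  · have h := mul_inv_eq_one.mpr e5
    simp only [pow_succ, pow_zero, mul_inv_rev, inv_inv, inv_one, one_mul, mul_one, mul_assoc,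
      mul_inv_cancel_left, inv_mul_cancel_left, mul_inv_cancel, inv_mul_cancel, ir, jf, ia, ib, ic, id] at h ⊢
    exact h
  · have h := mul_inv_eq_one.mpr e6
    simp only [pow_succ, pow_zero, mul_inv_rev, inv_inv, inv_one, one_mul, mul_one, mul_assoc,
      mul_inv_cancel_left, inv_mul_cancel_left, mul_inv_cancel, inv_mul_cancel, ir, jf, ia, ib, ic, id] at h ⊢
    exact h
  · have h := mul_inv_eq_one.mpr e7
    simp only [pow_succ, pow_zero, mul_inv_rev, inv_inv, inv_one, one_mul, mul_one, mul_assoc,
      mul_inv_cancel_left, inv_mul_cancel_left, mul_inv_cancel, inv_mul_cancel, ir, jf, ia, ib, ic, id] at h ⊢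
    exact h
  · have h := mul_inv_eq_one.mpr e8
    simp only [pow_succ, pow_zero, mul_inv_rev, inv_inv, inv_one, one_mul, mul_one, mul_assoc,
      mul_inv_cancel_left, inv_mul_cancel_left, mul_inv_cancel, inv_mul_cancel, ir, jf, ia, ib, ic, id] at h ⊢
    exact h
  · have h := mul_inv_eq_one.mpr e9
    simp only [pow_succ, pow_zero, mul_inv_rev, inv_inv, inv_one, one_mul, mul_one, mul_assoc,
      mul_inv_cancel_left, inv_mul_cancel_left, mul_inv_cancel, inv_mul_cancel, ir, jf, ia, ib, ic, id] at h ⊢
    exact h
  · have h := mul_inv_eq_one.mpr e10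
    simp only [pow_succ, pow_zero, mul_inv_rev, inv_inv, inv_one, one_mul, mul_one, mul_assoc,
      mul_inv_cancel_left, inv_mul_cancel_left, mul_inv_cancel, inv_mul_cancel, ir, jf, ia, ib, ic, id] at h ⊢
    exact h
  · have h := mul_inv_eq_one.mpr e11
    simp only [pow_succ, pow_zero, mul_inv_rev, inv_inv, inv_one, one_mul, mul_one, mul_assoc,
      mul_inv_cancel_left, inv_mul_cancel_left, mul_inv_cancel, inv_mul_cancel, ir, jf, ia, ib, ic, id] at h ⊢
    exact h
  · have h := mul_inv_eq_one.mpr e12
    simp only [pow_succ, pow_zero, mul_inv_rev, inv_inv, inv_one, one_mul, mul_one, mul_assoc,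
      mul_inv_cancel_left, inv_mul_cancel_left, mul_inv_cancel, inv_mul_cancel, ir, jf, ia, ib, ic, id] at h ⊢
    exact h
  · have h := mul_inv_eq_one.mpr e13
    simp only [pow_succ, pow_zero, mul_inv_rev, inv_inv, inv_one, one_mul, mul_one, mul_assoc,
      mul_inv_cancel_left, inv_mul_cancel_left, mul_inv_cancel, inv_mul_cancel, ir, jf, ia, ib, ic, id] at h ⊢
    exact h
  · have h := mul_inv_eq_one.mpr e14
    simp only [pow_succ, pow_zero, mul_inv_rev, inv_inv, inv_one, one_mul, mul_one, mul_assoc,
      mul_inv_cancel_left, inv_mul_cancel_left, mul_inv_cancel, inv_mul_cancel, ir, jf, ia, ib, ic, id] at h ⊢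
    exact h
  · have h := mul_inv_eq_one.mpr e15
    simp only [pow_succ, pow_zero, mul_inv_rev, inv_inv, inv_one, one_mul, mul_one, mul_assoc,
      mul_inv_cancel_left, inv_mul_cancel_left, mul_inv_cancel, inv_mul_cancel, ir, jf, ia, ib, ic, id] at h ⊢
    exact h
  · have h := mul_inv_eq_one.mpr e16
    simp only [pow_succ, pow_zero, mul_inv_rev, inv_inv, inv_one, one_mul, mul_one, mul_assoc,
      mul_inv_cancel_left, inv_mul_cancel_left, mul_inv_cancel, inv_mul_cancel, ir, jf, ia, ib, ic, id] at h ⊢
    exact h
  · have h := mul_inv_eq_one.mpr e17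
    simp only [pow_succ, pow_zero, mul_inv_rev, inv_inv, inv_one, one_mul, mul_one, mul_assoc,
      mul_inv_cancel_left, inv_mul_cancel_left, mul_inv_cancel, inv_mul_cancel, ir, jf, ia, ib, ic, id] at h ⊢
    exact h
  · have h := mul_inv_eq_one.mpr e18
    simp only [pow_succ, pow_zero, mul_inv_rev, inv_inv, inv_one, one_mul, mul_one, mul_assoc,
      mul_inv_cancel_left, inv_mul_cancel_left, mul_inv_cancel, inv_mul_cancel, ir, jf, ia, ib, ic, id] at h ⊢
    exact h
  · have h := mul_inv_eq_one.mpr e19
    simp only [pow_succ, pow_zero, mul_inv_rev, inv_inv, inv_one, one_mul, mul_one, mul_assoc,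
      mul_inv_cancel_left, inv_mul_cancel_left, mul_inv_cancel, inv_mul_cancel, ir, jf, ia, ib, ic, id] at h ⊢
    exact h
  · have h := mul_inv_eq_one.mpr e20
    simp only [pow_succ, pow_zero, mul_inv_rev, inv_inv, inv_one, one_mul, mul_one, mul_assoc,
      mul_inv_cancel_left, inv_mul_cancel_left, mul_inv_cancel, inv_mul_cancel, ir, jf, ia, ib, ic, id] at h ⊢
    exact h
  · have h := mul_inv_eq_one.mpr e21
    simp only [pow_succ, pow_zero, mul_inv_rev, inv_inv, inv_one, one_mul, mul_one, mul_assoc,
      mul_inv_cancel_left, inv_mul_cancel_left, mul_inv_cancel, inv_mul_cancel, ir, jf, ia, ib, ic, id] at h ⊢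
    exact h
  · have h := mul_inv_eq_one.mpr e22
    simp only [pow_succ, pow_zero, mul_inv_rev, inv_inv, inv_one, one_mul, mul_one, mul_assoc,
      mul_inv_cancel_left, inv_mul_cancel_left, mul_inv_cancel, inv_mul_cancel, ir, jf, ia, ib, ic, id] at h ⊢
    exact h
  · have h := mul_inv_eq_one.mpr e23
    simp only [pow_succ, pow_zero, mul_inv_rev, inv_inv, inv_one, one_mul, mul_one, mul_assoc,
      mul_inv_cancel_left, inv_mul_cancel_left, mul_inv_cancel, inv_mul_cancel, ir, jf, ia, ib, ic, id] at h ⊢
    exact h
  · have h := mul_inv_eq_one.mpr e24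
    simp only [pow_succ, pow_zero, mul_inv_rev, inv_inv, inv_one, one_mul, mul_one, mul_assoc,
      mul_inv_cancel_left, inv_mul_cancel_left, mul_inv_cancel, inv_mul_cancel, ir, jf, ia, ib, ic, id] at h ⊢
    exact h
  · have h := mul_inv_eq_one.mpr e25
    simp only [pow_succ, pow_zero, mul_inv_rev, inv_inv, inv_one, one_mul, mul_one, mul_assoc,
      mul_inv_cancel_left, inv_mul_cancel_left, mul_inv_cancel, inv_mul_cancel, ir, jf, ia, ib, ic, id] at h ⊢
    exact h
  · have h := mul_inv_eq_one.mpr e26
    simp only [pow_succ, pow_zero, mul_inv_rev, inv_inv, inv_one, one_mul, mul_one, mul_assoc,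
      mul_inv_cancel_left, inv_mul_cancel_left, mul_inv_cancel, inv_mul_cancel, ir, jf, ia, ib, ic, id] at h ⊢
    exact h
  · have h := mul_inv_eq_one.mpr e27
    simp only [pow_succ, pow_zero, mul_inv_rev, inv_inv, inv_one, one_mul, mul_one, mul_assoc,
      mul_inv_cancel_left, inv_mul_cancel_left, mul_inv_cancel, inv_mul_cancel, ir, jf, ia, ib, ic, id] at h ⊢
    exact h
  · have h := mul_inv_eq_one.mpr e28
    simp only [pow_succ, pow_zero, mul_inv_rev, inv_inv, inv_one, one_mul, mul_one, mul_assoc,
      mul_inv_cancel_left, inv_mul_cancel_left, mul_inv_cancel, inv_mul_cancel, ir, jf, ia, ib, ic, id] at h ⊢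
    exact h
  · have h := mul_inv_eq_one.mpr e29
    simp only [pow_succ, pow_zero, mul_inv_rev, inv_inv, inv_one, one_mul, mul_one, mul_assoc,
      mul_inv_cancel_left, inv_mul_cancel_left, mul_inv_cancel, inv_mul_cancel, ir, jf, ia, ib, ic, id] at h ⊢
    exact h
  · have h := mul_inv_eq_one.mpr e30
    simp only [pow_succ, pow_zero, mul_inv_rev, inv_inv, inv_one, one_mul, mul_one, mul_assoc,
      mul_inv_cancel_left, inv_mul_cancel_left, mul_inv_cancel, inv_mul_cancel, ir, jf, ia, ib, ic, id] at h ⊢
    exact h
  · have h := mul_inv_eq_one.mpr e31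
    simp only [pow_succ, pow_zero, mul_inv_rev, inv_inv, inv_one, one_mul, mul_one, mul_assoc,
      mul_inv_cancel_left, inv_mul_cancel_left, mul_inv_cancel, inv_mul_cancel, ir, jf, ia, ib, ic, id] at h ⊢
    exact h
  · have h := mul_inv_eq_one.mpr e32
    simp only [pow_succ, pow_zero, mul_inv_rev, inv_inv, inv_one, one_mul, mul_one, mul_assoc,
      mul_inv_cancel_left, inv_mul_cancel_left, mul_inv_cancel, inv_mul_cancel, ir, jf, ia, ib, ic, id] at h ⊢
    exact h
  · have h := mul_inv_eq_one.mpr e33
    simp only [pow_succ, pow_zero, mul_inv_rev, inv_inv, inv_one, one_mul, mul_one, mul_assoc,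
      mul_inv_cancel_left, inv_mul_cancel_left, mul_inv_cancel, inv_mul_cancel, ir, jf, ia, ib, ic, id] at h ⊢
    exact h
  · have h := mul_inv_eq_one.mpr e34
    simp only [pow_succ, pow_zero, mul_inv_rev, inv_inv, inv_one, one_mul, mul_one, mul_assoc,
      mul_inv_cancel_left, inv_mul_cancel_left, mul_inv_cancel, inv_mul_cancel, ir, jf, ia, ib, ic, id] at h ⊢
    exact h
  · have h := mul_inv_eq_one.mpr e35
    simp only [pow_succ, pow_zero, mul_inv_rev, inv_inv, inv_one, one_mul, mul_one, mul_assoc,
      mul_inv_cancel_left, inv_mul_cancel_left, mul_inv_cancel, inv_mul_cancel, ir, jf, ia, ib, ic, id] at h ⊢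
    exact h
  · have h := mul_inv_eq_one.mpr e36
    simp only [pow_succ, pow_zero, mul_inv_rev, inv_inv, inv_one, one_mul, mul_one, mul_assoc,
      mul_inv_cancel_left, inv_mul_cancel_left, mul_inv_cancel, inv_mul_cancel, ir, jf, ia, ib, ic, id] at h ⊢
    exact h
  · have h := mul_inv_eq_one.mpr e37
    simp only [pow_succ, pow_zero, mul_inv_rev, inv_inv, inv_one, one_mul, mul_one, mul_assoc,
      mul_inv_cancel_left, inv_mul_cancel_left, mul_inv_cancel, inv_mul_cancel, ir, jf, ia, ib, ic, id] at h ⊢
    exact h
  · have h := mul_inv_eq_one.mpr e38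
    simp only [pow_succ, pow_zero, mul_inv_rev, inv_inv, inv_one, one_mul, mul_one, mul_assoc,
      mul_inv_cancel_left, inv_mul_cancel_left, mul_inv_cancel, inv_mul_cancel, ir, jf, ia, ib, ic, id] at h ⊢
    exact h
  · have h := mul_inv_eq_one.mpr e39
    simp only [pow_succ, pow_zero, mul_inv_rev, inv_inv, inv_one, one_mul, mul_one, mul_assoc,
      mul_inv_cancel_left, inv_mul_cancel_left, mul_inv_cancel, inv_mul_cancel, ir, jf, ia, ib, ic, id] at h ⊢
    exact h
  · have h := mul_inv_eq_one.mpr e40
    simp only [pow_succ, pow_zero, mul_inv_rev, inv_inv, inv_one, one_mul, mul_one, mul_assoc,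
      mul_inv_cancel_left, inv_mul_cancel_left, mul_inv_cancel, inv_mul_cancel, ir, jf, ia, ib, ic, id] at h ⊢
    exact h
  · have h := mul_inv_eq_one.mpr e41
    simp only [pow_succ, pow_zero, mul_inv_rev, inv_inv, inv_one, one_mul, mul_one, mul_assoc,
      mul_inv_cancel_left, inv_mul_cancel_left, mul_inv_cancel, inv_mul_cancel, ir, jf, ia, ib, ic, id] at h ⊢
    exact h
  · have h := mul_inv_eq_one.mpr e42
    simp only [pow_succ, pow_zero, mul_inv_rev, inv_inv, inv_one, one_mul, mul_one, mul_assoc,
      mul_inv_cancel_left, inv_mul_cancel_left, mul_inv_cancel, inv_mul_cancel, ir, jf, ia, ib, ic, id] at h ⊢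
    exact h
  · have h := mul_inv_eq_one.mpr e43
    simp only [pow_succ, pow_zero, mul_inv_rev, inv_inv, inv_one, one_mul, mul_one, mul_assoc,
      mul_inv_cancel_left, inv_mul_cancel_left, mul_inv_cancel, inv_mul_cancel, ir, jf, ia, ib, ic, id] at h ⊢
    exact h
  · have h := mul_inv_eq_one.mpr e44
    simp only [pow_succ, pow_zero, mul_inv_rev, inv_inv, inv_one, one_mul, mul_one, mul_assoc,
      mul_inv_cancel_left, inv_mul_cancel_left, mul_inv_cancel, inv_mul_cancel, ir, jf, ia, ib, ic, id] at h ⊢
    exact h
  · have h := mul_inv_eq_one.mpr e45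
    simp only [pow_succ, pow_zero, mul_inv_rev, inv_inv, inv_one, one_mul, mul_one, mul_assoc,
      mul_inv_cancel_left, inv_mul_cancel_left, mul_inv_cancel, inv_mul_cancel, ir, jf, ia, ib, ic, id] at h ⊢
    exact h
  · have h := mul_inv_eq_one.mpr e46
    simp only [pow_succ, pow_zero, mul_inv_rev, inv_inv, inv_one, one_mul, mul_one, mul_assoc,
      mul_inv_cancel_left, inv_mul_cancel_left, mul_inv_cancel, inv_mul_cancel, ir, jf, ia, ib, ic, id] at h ⊢
    exact h
  · have h := mul_inv_eq_one.mpr e47
    simp only [pow_succ, pow_zero, mul_inv_rev, inv_inv, inv_one, one_mul, mul_one, mul_assoc,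
      mul_inv_cancel_left, inv_mul_cancel_left, mul_inv_cancel, inv_mul_cancel, ir, jf, ia, ib, ic, id] at h ⊢
    exact h
  · have h := mul_inv_eq_one.mpr e48
    simp only [pow_succ, pow_zero, mul_inv_rev, inv_inv, inv_one, one_mul, mul_one, mul_assoc,
      mul_inv_cancel_left, inv_mul_cancel_left, mul_inv_cancel, inv_mul_cancel, ir, jf, ia, ib, ic, id] at h ⊢
    exact h
  · have h := mul_inv_eq_one.mpr e49
    simp only [pow_succ, pow_zero, mul_inv_rev, inv_inv, inv_one, one_mul, mul_one, mul_assoc,
      mul_inv_cancel_left, inv_mul_cancel_left, mul_inv_cancel, inv_mul_cancel, ir, jf, ia, ib, ic, id] at h ⊢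
    exact h
  · have h := mul_inv_eq_one.mpr e50
    simp only [pow_succ, pow_zero, mul_inv_rev, inv_inv, inv_one, one_mul, mul_one, mul_assoc,
      mul_inv_cancel_left, inv_mul_cancel_left, mul_inv_cancel, inv_mul_cancel, ir, jf, ia, ib, ic, id] at h ⊢
    exact h
  · have h := mul_inv_eq_one.mpr e51
    simp only [pow_succ, pow_zero, mul_inv_rev, inv_inv, inv_one, one_mul, mul_one, mul_assoc,
      mul_inv_cancel_left, inv_mul_cancel_left, mul_inv_cancel, inv_mul_cancel, ir, jf, ia, ib, ic, id] at h ⊢
    exact h
  · have h := mul_inv_eq_one.mpr e52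
    simp only [pow_succ, pow_zero, mul_inv_rev, inv_inv, inv_one, one_mul, mul_one, mul_assoc,
      mul_inv_cancel_left, inv_mul_cancel_left, mul_inv_cancel, inv_mul_cancel, ir, jf, ia, ib, ic, id] at h ⊢
    exact h
  · have h := mul_inv_eq_one.mpr e53
    simp only [pow_succ, pow_zero, mul_inv_rev, inv_inv, inv_one, one_mul, mul_one, mul_assoc,
      mul_inv_cancel_left, inv_mul_cancel_left, mul_inv_cancel, inv_mul_cancel, ir, jf, ia, ib, ic, id] at h ⊢
    exact h
  · have h := mul_inv_eq_one.mpr e54
    simp only [pow_succ, pow_zero, mul_inv_rev, inv_inv, inv_one, one_mul, mul_one, mul_assoc,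
      mul_inv_cancel_left, inv_mul_cancel_left, mul_inv_cancel, inv_mul_cancel, ir, jf, ia, ib, ic, id] at h ⊢
    exact h
  · have h := mul_inv_eq_one.mpr e55
    simp only [pow_succ, pow_zero, mul_inv_rev, inv_inv, inv_one, one_mul, mul_one, mul_assoc,
      mul_inv_cancel_left, inv_mul_cancel_left, mul_inv_cancel, inv_mul_cancel, ir, jf, ia, ib, ic, id] at h ⊢
    exact h
  · have h := mul_inv_eq_one.mpr e56
    simp only [pow_succ, pow_zero, mul_inv_rev, inv_inv, inv_one, one_mul, mul_one, mul_assoc,
      mul_inv_cancel_left, inv_mul_cancel_left, mul_inv_cancel, inv_mul_cancel, ir, jf, ia, ib, ic, id] at h ⊢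
    exact h
  · have h := mul_inv_eq_one.mpr e57
    simp only [pow_succ, pow_zero, mul_inv_rev, inv_inv, inv_one, one_mul, mul_one, mul_assoc,
      mul_inv_cancel_left, inv_mul_cancel_left, mul_inv_cancel, inv_mul_cancel, ir, jf, ia, ib, ic, id] at h ⊢
    exact h
  · have h := mul_inv_eq_one.mpr e58
    simp only [pow_succ, pow_zero, mul_inv_rev, inv_inv, inv_one, one_mul, mul_one, mul_assoc,
      mul_inv_cancel_left, inv_mul_cancel_left, mul_inv_cancel, inv_mul_cancel, ir, jf, ia, ib, ic, id] at h ⊢
    exact h
  · have h := mul_inv_eq_one.mpr e59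
    simp only [pow_succ, pow_zero, mul_inv_rev, inv_inv, inv_one, one_mul, mul_one, mul_assoc,
      mul_inv_cancel_left, inv_mul_cancel_left, mul_inv_cancel, inv_mul_cancel, ir, jf, ia, ib, ic, id] at h ⊢
    exact h
  · have h := mul_inv_eq_one.mpr e60
    simp only [pow_succ, pow_zero, mul_inv_rev, inv_inv, inv_one, one_mul, mul_one, mul_assoc,
      mul_inv_cancel_left, inv_mul_cancel_left, mul_inv_cancel, inv_mul_cancel, ir, jf, ia, ib, ic, id] at h ⊢
    exact h
  · have h := mul_inv_eq_one.mpr e61
    simp only [pow_succ, pow_zero, mul_inv_rev, inv_inv, inv_one, one_mul, mul_one, mul_assoc,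
      mul_inv_cancel_left, inv_mul_cancel_left, mul_inv_cancel, inv_mul_cancel, ir, jf, ia, ib, ic, id] at h ⊢
    exact h

/-- The relations. -/
structure Rel24 {G : Type*} [Group G] (x y w q r g f u a b c d : G) : Prop where
  e0 : x ^ 3 = 1
  e1 : w ^ 4 = 1
  e2 : w * x * w⁻¹ = y
  e3 : w * y * w⁻¹ = x⁻¹
  e4 : x * y = y * x
  e5 : q * x * q⁻¹ = x * y
  e6 : q * w * q⁻¹ = w⁻¹
  e7 : q * q = w * w
  e8 : r * r = 1
  e9 : r * x * r = x
  e10 : r * w * r = w⁻¹
  e11 : r * q * r = q * w
  e12 : g ^ 3 = 1
  e13 : g * x * g⁻¹ = x
  e14 : g * y * g⁻¹ = x * y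
  e15 : g * w * g⁻¹ = q
  e16 : g * q * g⁻¹ = w * q
  e17 : r * g * r = g⁻¹
  e18 : (a * r * g) ^ 3 = 1
  e19 : f * f = 1
  e20 : (f * x) ^ 3 = 1
  e21 : (f * (w * r)) ^ 3 = 1
  e22 : f * (x * y) = x * y * f
  e23 : f * (w * w) = w * w * f
  e24 : f * w * f * w * f * w = u
  e25 : (u * x * y) ^ 5 = 1
  e26 : (w * f * w * f) ^ 3 = 1
  e27 : a * a = 1
  e28 : b * b = 1
  e29 : c * c = 1
  e30 : d * d = 1
  e31 : a * b = b * a
  e32 : a * c = c * a
  e33 : a * d = d * a
  e34 : b * c = c * b
  e35 : b * d = d * b
  e36 : c * d = d * c
  e37 : x * a * x⁻¹ = a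
  e38 : x * b * x⁻¹ = b
  e39 : x * c * x⁻¹ = c * d
  e40 : x * d * x⁻¹ = c
  e41 : y * a * y⁻¹ = b
  e42 : y * b * y⁻¹ = a * b
  e43 : y * c * y⁻¹ = c
  e44 : y * d * y⁻¹ = d
  e45 : w * a * w⁻¹ = c
  e46 : w * b * w⁻¹ = d
  e47 : w * c * w⁻¹ = a
  e48 : w * d * w⁻¹ = a * b
  e49 : u * a * u⁻¹ = a
  e50 : u * b * u⁻¹ = a * b * c
  e51 : u * c * u⁻¹ = c
  e52 : u * d * u⁻¹ = a * d
  e53 : r * a * r = a
  e54 : r * b * r = a * b
  e55 : r * c * r = c
  e56 : r * d * r = d
  e57 : f * a * f = a
  e58 : f * b * f = b
  e59 : f * c * f = a * c
  e60 : f * d * f = a * b * d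

variable {G : Type*} [Group G] {x y w q r g f u a b c d : G}

theorem Rel24.c0 (t : Rel24 x y w q r g f u a b c d)
    (h : q * (g * a * g⁻¹) * q⁻¹ = f) (H : Subgroup G) [Finite H]
    (mx : x ∈ H) (my : y ∈ H) (mw : w ∈ H) (mr : r ∈ H) (mf : f ∈ H) (mu : u ∈ H) (ma : a ∈ H) (mb
    : b ∈ H) (mc : c ∈ H) (md : d ∈ H) :
    Nat.card (Subgroup.closure ({x, w, g, f, a, r} : Set G)) ≤ 1 * Nat.card H :=
  (pt0_card
    t.e0 t.e1 t.e2 t.e3 t.e4 t.e5 t.e6 t.e7 t.e8 t.e9 t.e10 t.e11 t.e12 t.e13 t.e14 t.e15 t.e16
    t.e17 t.e18 t.e19 t.e20 t.e21 t.e22 t.e23 t.e24 t.e25 t.e26 t.e27 t.e28 t.e29 t.e30 t.e31 t.e32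
    t.e33 t.e34 t.e35 t.e36 t.e37 t.e38 t.e39 t.e40 t.e41 t.e42 t.e43 t.e44 t.e45 t.e46 t.e47 t.e48
    t.e49 t.e50 t.e51 t.e52 t.e53 t.e54 t.e55 t.e56 t.e57 t.e58 t.e59 t.e60
    h H mx my mw mr mf mu ma mb mc md).2

theorem Rel24.c1 (t : Rel24 x y w q r g f u a b c d)
    (h : q * (g⁻¹ * a * g) * q⁻¹ = f) (H : Subgroup G) [Finite H]
    (mx : x ∈ H) (my : y ∈ H) (mw : w ∈ H) (mr : r ∈ H) (mf : f ∈ H) (mu : u ∈ H) (ma : a ∈ H) (mb
    : b ∈ H) (mc : c ∈ H) (md : d ∈ H) :
    Nat.card (Subgroup.closure ({x, w, g, f, a, r} : Set G)) ≤ 759 * Nat.card H :=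
  (pt1_card
    t.e0 t.e1 t.e2 t.e3 t.e4 t.e5 t.e6 t.e7 t.e8 t.e9 t.e10 t.e11 t.e12 t.e13 t.e14 t.e15 t.e16
    t.e17 t.e18 t.e19 t.e20 t.e21 t.e22 t.e23 t.e24 t.e25 t.e26 t.e27 t.e28 t.e29 t.e30 t.e31 t.e32
    t.e33 t.e34 t.e35 t.e36 t.e37 t.e38 t.e39 t.e40 t.e41 t.e42 t.e43 t.e44 t.e45 t.e46 t.e47 t.e48
    t.e49 t.e50 t.e51 t.e52 t.e53 t.e54 t.e55 t.e56 t.e57 t.e58 t.e59 t.e60
    h H mx my mw mr mf mu ma mb mc md).2

theorem Rel24.prod {M : Type*} [Group M] {x' y' w' q' r' g' f' u' a' b' c' d' : M}
    (s : Rel24 x y w q r g f u a b c d) (t : Rel24 x' y' w' q' r' g' f' u' a' b' c' d') :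
    Rel24 (x, x') (y, y') (w, w') (q, q') (r, r') (g, g') (f, f') (u, u') (a, a') (b, b') (c, c')
      (d, d') :=
    ⟨Prod.ext s.e0 t.e0, Prod.ext s.e1 t.e1, Prod.ext s.e2 t.e2, Prod.ext s.e3 t.e3, Prod.ext s.e4
    t.e4, Prod.ext s.e5 t.e5, Prod.ext s.e6 t.e6, Prod.ext s.e7 t.e7, Prod.ext s.e8 t.e8, Prod.ext
    s.e9 t.e9, Prod.ext s.e10 t.e10, Prod.ext s.e11 t.e11, Prod.ext s.e12 t.e12, Prod.ext s.e13
    t.e13, Prod.ext s.e14 t.e14, Prod.ext s.e15 t.e15, Prod.ext s.e16 t.e16, Prod.ext s.e17 t.e17,
    Prod.ext s.e18 t.e18, Prod.ext s.e19 t.e19, Prod.ext s.e20 t.e20, Prod.ext s.e21 t.e21,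
    Prod.ext s.e22 t.e22, Prod.ext s.e23 t.e23, Prod.ext s.e24 t.e24, Prod.ext s.e25 t.e25,
    Prod.ext s.e26 t.e26, Prod.ext s.e27 t.e27, Prod.ext s.e28 t.e28, Prod.ext s.e29 t.e29,
    Prod.ext s.e30 t.e30, Prod.ext s.e31 t.e31, Prod.ext s.e32 t.e32, Prod.ext s.e33 t.e33,
    Prod.ext s.e34 t.e34, Prod.ext s.e35 t.e35, Prod.ext s.e36 t.e36, Prod.ext s.e37 t.e37,
    Prod.ext s.e38 t.e38, Prod.ext s.e39 t.e39, Prod.ext s.e40 t.e40, Prod.ext s.e41 t.e41,
    Prod.ext s.e42 t.e42, Prod.ext s.e43 t.e43, Prod.ext s.e44 t.e44, Prod.ext s.e45 t.e45,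
    Prod.ext s.e46 t.e46, Prod.ext s.e47 t.e47, Prod.ext s.e48 t.e48, Prod.ext s.e49 t.e49,
    Prod.ext s.e50 t.e50, Prod.ext s.e51 t.e51, Prod.ext s.e52 t.e52, Prod.ext s.e53 t.e53,
    Prod.ext s.e54 t.e54, Prod.ext s.e55 t.e55, Prod.ext s.e56 t.e56, Prod.ext s.e57 t.e57,
    Prod.ext s.e58 t.e58, Prod.ext s.e59 t.e59, Prod.ext s.e60 t.e60⟩

end Cfsg.Agent.Ma
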