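import Cfsg.Agent.H9.FxWrap
import Cfsg.Agent.H4.PC

/-! Coded affine maps of a four-dimensional space over the field with two elements. -/

set_option autoImplicit false

namespace Cfsg.Agent.Ma

open Subgroup Cfsg.Agent.H7 Cfsg.Agent.H4

/-- hexadecimal digit -/
def col (x j : ℕ) : ℕ := Nat.land (Nat.shiftRight x (Nat.mul 4 j)) 15

/-- product of a matrix and up to five columns -/
def mm (m n : ℕ) : ℕ :=
  Nat.xor (Nat.xor (Nat.mul (Nat.land n 69905) (Nat.land m 15))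
      (Nat.mul (Nat.land (Nat.shiftRight n 1) 69905) (Nat.land (Nat.shiftRight m 4) 15)))
    (Nat.xor (Nat.mul (Nat.land (Nat.shiftRight n 2) 69905) (Nat.land (Nat.shiftRight m 8) 15))
      (Nat.mul (Nat.land (Nat.shiftRight n 3) 69905) (Nat.land (Nat.shiftRight m 12) 15)))

/-- product of affine maps -/
def am (p q : ℕ) : ℕ := Nat.xor (mm p q) (Nat.land p 983040)

/-- powers -/
noncomputable def ap (p n : ℕ) : ℕ := Nat.rec 33825 (fun _ r => force r fun r => am r p) n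

/-- image of a vector -/
def app (m v : ℕ) : ℕ :=
  (v % 2 * col m 0 ^^^ v / 2 % 2 * col m 1) ^^^ (v / 4 % 2 * col m 2 ^^^ v / 8 % 2 * col m 3)

theorem col_eq (x j : ℕ) : col x j = x / 2 ^ (4 * j) % 16 := by
  show (x >>> (4 * j)) &&& (2 ^ 4 - 1) = _
  rw [Nat.and_two_pow_sub_one_eq_mod, Nat.shiftRight_eq_div_pow]

theorem col_lt (x j : ℕ) : col x j < 16 := by rw [col_eq]; omega

theorem col_xor (x y j : ℕ) : col (x ^^^ y) j = col x j ^^^ col y j := by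
  simp only [col_eq, Nat.xor_div_two_pow]
  exact Nat.xor_mod_two_pow (n := 4)

theorem col_dig {b0 b1 b2 b3 b4 : ℕ} (h0 : b0 < 16) (h1 : b1 < 16) (h2 : b2 < 16) (h3 : b3 < 16)
    (h4 : b4 < 16) {x : ℕ} (hx : x = b0 + 16 * (b1 + 16 * (b2 + 16 * (b3 + 16 * b4)))) :
    col x 0 = b0 ∧ col x 1 = b1 ∧ col x 2 = b2 ∧ col x 3 = b3 ∧ col x 4 = b4 := by
  simp only [col_eq, Nat.reduceMul, Nat.reducePow]
  refine ⟨by omega, by omega, by omega, by omega, by omega⟩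

theorem dig_col {x : ℕ} (hx : x < 1048576) :
    x = col x 0 + 16 * (col x 1 + 16 * (col x 2 + 16 * (col x 3 + 16 * col x 4))) := by
  simp only [col_eq, Nat.reduceMul, Nat.reducePow]
  omega

theorem col_sel (x c j : ℕ) (hc : c < 16) (hj : j < 5) :
    col ((x &&& 69905) * c) j = x / 2 ^ (4 * j) % 2 * c := by
  have h0 : ∀ i < 5, col (x &&& 69905) i = x / 2 ^ (4 * i) % 2 := fun i hi => by
    rw [col_eq, Nat.and_div_two_pow, show 16 = 2 ^ 4 from rfl, Nat.and_mod_two_pow,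
      show 69905 / 2 ^ (4 * i) % 2 ^ 4 = 1 by interval_cases i <;> rfl, Nat.and_one_is_mod,
      Nat.mod_mod_of_dvd _ (by norm_num)]
  have h2 := dig_col (lt_of_le_of_lt (Nat.and_le_right (n := x) (m := 69905)) (by norm_num))
  rw [h0 0 (by omega), h0 1 (by omega), h0 2 (by omega), h0 3 (by omega), h0 4 (by omega)] at h2
  have h3 : ∀ y, y % 2 * c < 16 := fun y => by
    rcases Nat.mod_two_eq_zero_or_one y with h | h <;> rw [h] <;> omega
  obtain ⟨a0, a1, a2, a3, a4⟩ := col_dig (h3 (x / 2 ^ (4 * 0))) (h3 (x / 2 ^ (4 * 1)))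
    (h3 (x / 2 ^ (4 * 2))) (h3 (x / 2 ^ (4 * 3))) (h3 (x / 2 ^ (4 * 4)))
    (x := (x &&& 69905) * c) (by rw [h2]; ring)
  interval_cases j <;> assumption

theorem col_mm (m n j : ℕ) (hj : j < 5) : col (mm m n) j = app m (col n j) := by
  have h : ∀ k < 4, n >>> k / 2 ^ (4 * j) % 2 = col n j / 2 ^ k % 2 := fun k hk => by
    rw [col_eq, Nat.shiftRight_eq_div_pow, Nat.div_div_eq_div_mul, mul_comm,
      ← Nat.div_div_eq_div_mul]
    interval_cases k <;> omega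
  show col (((n >>> 0 &&& 69905) * col m 0 ^^^ (n >>> 1 &&& 69905) * col m 1) ^^^
    ((n >>> 2 &&& 69905) * col m 2 ^^^ (n >>> 3 &&& 69905) * col m 3)) j = _
  simp only [col_xor, col_sel _ _ _ (col_lt _ _) hj, h 0 (by omega), h 1 (by omega),
    h 2 (by omega), h 3 (by omega), app, pow_zero, Nat.div_one, Nat.reducePow]

theorem col_hi (p j : ℕ) (hj : j < 5) : col (p &&& 983040) j = if j = 4 then col p 4 else 0 := by
  simp only [col_eq]
  rw [Nat.and_div_two_pow, show 16 = 2 ^ 4 from rfl, Nat.and_mod_two_pow]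
  interval_cases j
  · simp
  · simp
  · simp
  · simp
  · show _ &&& (2 ^ 4 - 1) = _
    rw [Nat.and_two_pow_sub_one_eq_mod, Nat.mod_mod]
    rfl

theorem col_am (p q j : ℕ) (hj : j < 4) : col (am p q) j = app p (col q j) := by
  show col (mm p q ^^^ (p &&& 983040)) j = _
  rw [col_xor, col_mm _ _ _ (by omega), col_hi _ _ (by omega), if_neg (by omega), Nat.xor_zero]

theorem col_am4 (p q : ℕ) : col (am p q) 4 = col p 4 ^^^ app p (col q 4) := by
  show col (mm p q ^^^ (p &&& 983040)) 4 = _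
  rw [col_xor, col_mm _ _ _ (by omega), col_hi _ _ (by omega), if_pos rfl, Nat.xor_comm]

theorem col_mod {x y n j : ℕ} (h : x % 2 ^ (4 * n) = y % 2 ^ (4 * n)) (hj : j < n) :
    col x j = col y j := by
  have key : ∀ z, col z j = col (z % 2 ^ (4 * n)) j := fun z => by
    obtain ⟨k, rfl⟩ := Nat.exists_eq_add_of_lt hj
    rw [col_eq, col_eq, show 4 * (j + k + 1) = 4 * j + (4 + 4 * k) by ring, pow_add,
      Nat.mod_mul_right_div_self, pow_add]
    exact (Nat.mod_mul_right_mod _ 16 _).symm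
  rw [key x, h, ← key]

universe u
variable {G : Type u} [Group G]

/-- a conditional factor -/
def cf (x : G) (n : ℕ) : G := x ^ (n % 2)

theorem cf_xor {x : G} (h : x * x = 1) (i j k : ℕ) :
    cf x ((i ^^^ j) / 2 ^ k) = cf x (i / 2 ^ k) * cf x (j / 2 ^ k) := by
  rw [Nat.xor_div_two_pow, cf, cf, cf, show 2 = 2 ^ 1 from rfl, Nat.xor_mod_two_pow]
  rcases Nat.mod_two_eq_zero_or_one (i / 2 ^ k) with e | e <;>
    rcases Nat.mod_two_eq_zero_or_one (j / 2 ^ k) with f | f <;> simp [e, f, h]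

/-- A basis of an elementary abelian group of order sixteen. -/
structure Fr (G : Type u) [Group G] where
  /-- first vector -/
  a : G
  /-- second vector -/
  b : G
  /-- third vector -/
  c : G
  /-- fourth vector -/
  d : G
  aa : a * a = 1
  bb : b * b = 1
  cc : c * c = 1
  dd : d * d = 1
  ab : a * b = b * a
  ac : a * c = c * a
  ad : a * d = d * a
  bc : b * c = c * b
  bd : b * d = d * b
  cd : c * d = d * c
  ind : ∀ v < 16, cf a v * cf b (v / 2) * (cf c (v / 4) * cf d (v / 8)) = 1 → v = 0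

namespace Fr

variable (F : Fr G) {A : Subgroup G} {m n p q : ℕ} {g h : G}

/-- the vector with a given code -/
def e (v : ℕ) : G := cf F.a v * cf F.b (v / 2) * (cf F.c (v / 4) * cf F.d (v / 8))

theorem e_xor (i j : ℕ) : F.e (i ^^^ j) = F.e i * F.e j := by
  have h0 := cf_xor F.aa i j 0
  have h1 := cf_xor F.bb i j 1
  have h2 := cf_xor F.cc i j 2
  have h3 := cf_xor F.dd i j 3
  simp only [pow_zero, Nat.div_one, pow_one, Nat.reducePow] at h0 h1 h2 h3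
  have k : ∀ {x y : G}, x * y = y * x → ∀ i j, Commute (cf x i) (cf y j) :=
    fun h i j => Commute.pow_pow h _ _
  simp only [e]
  rw [h0, h1, h2, h3, (k F.ab _ _).mul_mul_mul_comm, (k F.cd _ _).mul_mul_mul_comm,
    Commute.mul_mul_mul_comm (((k F.ac _ _).mul_right (k F.ad _ _)).mul_left
      ((k F.bc _ _).mul_right (k F.bd _ _)))]

theorem e0 : F.e 0 = 1 := by simp [e, cf]
theorem e1 : F.e 1 = F.a := by simp [e, cf]
theorem e2 : F.e 2 = F.b := by simp [e, cf]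
theorem e4 : F.e 4 = F.c := by simp [e, cf]
theorem e8 : F.e 8 = F.d := by simp [e, cf]

theorem e_sq (i : ℕ) : F.e i * F.e i = 1 := by rw [← e_xor, Nat.xor_self, e0]

theorem e_inv (i : ℕ) : (F.e i)⁻¹ = F.e i := inv_eq_of_mul_eq_one_right (F.e_sq i)

theorem e_comm (i j : ℕ) : F.e i * F.e j = F.e j * F.e i := by rw [← e_xor, ← e_xor, Nat.xor_comm]

theorem e_inj {i j : ℕ} (hi : i < 16) (hj : j < 16) (h : F.e i = F.e j) : i = j :=
  Nat.eq_of_xor_eq_zero (F.ind _ (Nat.xor_lt_two_pow (n := 4) hi hj) (by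
    show F.e _ = 1
    rw [e_xor, h, e_sq]))

/-- the elementary abelian group -/
def E : Subgroup G where
  carrier := {g | ∃ v < 16, F.e v = g}
  one_mem' := ⟨0, by omega, F.e0⟩
  mul_mem' := by
    rintro _ _ ⟨i, hi, rfl⟩ ⟨j, hj, rfl⟩
    exact ⟨_, Nat.xor_lt_two_pow (n := 4) hi hj, F.e_xor i j⟩
  inv_mem' := by
    rintro _ ⟨i, hi, rfl⟩
    exact ⟨i, hi, (F.e_inv i).symm⟩

theorem mem_E : g ∈ F.E ↔ ∃ v < 16, F.e v = g := Iff.rfl

theorem e_mem (v : ℕ) : F.e v ∈ F.E := ⟨v % 16, by omega, by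
  simp only [e, cf]
  rw [show v % 16 % 2 = v % 2 by omega, show v % 16 / 2 % 2 = v / 2 % 2 by omega,
    show v % 16 / 4 % 2 = v / 4 % 2 by omega, show v % 16 / 8 % 2 = v / 8 % 2 by omega]⟩

theorem card_E : Nat.card F.E = 16 := by
  rw [← Nat.card_eq_of_bijective (fun v : Fin 16 => (⟨F.e v, F.e_mem v⟩ : F.E)) ⟨fun i j h =>
    Fin.ext (F.e_inj i.2 j.2 (congrArg Subtype.val h)), fun ⟨_, v, hv, e⟩ =>
    ⟨⟨v, hv⟩, Subtype.ext e⟩⟩, Nat.card_fin]

theorem E_le {K : Subgroup G} (ha : F.a ∈ K) (hb : F.b ∈ K) (hc : F.c ∈ K) (hd : F.d ∈ K) :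
    F.E ≤ K := by
  rintro _ ⟨v, -, rfl⟩
  exact mul_mem (mul_mem (pow_mem ha _) (pow_mem hb _)) (mul_mem (pow_mem hc _) (pow_mem hd _))

theorem E_comm : F.E ≤ C[F.E] := by
  rintro _ ⟨i, -, rfl⟩
  rw [mem_cent_iff]
  rintro _ ⟨j, -, rfl⟩
  exact F.e_comm j i

theorem E_sq (hg : g ∈ F.E) : g * g = 1 := by
  obtain ⟨i, -, rfl⟩ := hg
  exact F.e_sq i

/-- `g` acts as the matrix `m` -/
def R (m : ℕ) (g : G) : Prop := ∀ k < 4, g * F.e (2 ^ k) * g⁻¹ = F.e (col m k)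

variable {F}

theorem R.of (h0 : g * F.a * g⁻¹ = F.e (col m 0)) (h1 : g * F.b * g⁻¹ = F.e (col m 1))
    (h2 : g * F.c * g⁻¹ = F.e (col m 2)) (h3 : g * F.d * g⁻¹ = F.e (col m 3)) : F.R m g := by
  intro k hk
  interval_cases k
  · exact F.e1.symm ▸ h0
  · exact F.e2.symm ▸ h1
  · exact F.e4.symm ▸ h2
  · exact F.e8.symm ▸ h3

theorem R.app (hm : F.R m g) (v : ℕ) : g * F.e v * g⁻¹ = F.e (app m v) := by
  have k : ∀ (x : G) (y i : ℕ), g * x * g⁻¹ = F.e y → g * cf x i * g⁻¹ = F.e (i % 2 * y) :=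
    fun x y i h => by
      rcases Nat.mod_two_eq_zero_or_one i with e | e <;> simp [cf, e, h, e0]
  have h0 := hm 0 (by omega)
  have h1 := hm 1 (by omega)
  have h2 := hm 2 (by omega)
  have h3 := hm 3 (by omega)
  simp only [pow_zero, pow_one, Nat.reducePow, e1, e2, e4, e8] at h0 h1 h2 h3
  rw [Ma.app, e_xor, e_xor, e_xor, ← k _ _ _ h0, ← k _ _ _ h1, ← k _ _ _ h2, ← k _ _ _ h3, e]
  group

theorem R.congr (hm : F.R m g) (h : ∀ j < 4, col m j = col n j) : F.R n g :=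
  fun k hk => h k hk ▸ hm k hk

theorem R.mul (hm : F.R m g) (hn : F.R n h) : F.R (am m n) (g * h) := fun k hk => by
  rw [col_am _ _ _ hk, ← hm.app, ← hn k hk]
  group

theorem R.one : F.R 33825 1 := fun k hk => by
  rw [one_mul, inv_one, mul_one]
  interval_cases k <;> rfl

theorem R.col_eq (hm : F.R m g) (hn : F.R n g) {j : ℕ} (hj : j < 4) : col m j = col n j :=
  F.e_inj (col_lt _ _) (col_lt _ _) ((hm j hj).symm.trans (hn j hj))

theorem R.cent (hm : F.R m g) (hn : F.R m h) : h⁻¹ * g ∈ C[F.E] := by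
  rw [mem_cent_iff]
  rintro _ ⟨v, -, rfl⟩
  calc _ = h⁻¹ * (h * F.e v * h⁻¹) * g := by group
    _ = h⁻¹ * (g * F.e v * g⁻¹) * g := by rw [hm.app, hn.app]
    _ = _ := by group

theorem R.norm [Finite G] (hm : F.R m g) : g ∈ N[F.E] := mem_norm_of_conj (by
  rintro _ ⟨v, -, rfl⟩
  exact hm.app v ▸ F.e_mem _)

theorem R.of_cols {i j k l : ℕ} (hi : i < 16) (hj : j < 16) (hk : k < 16) (hl : l < 16)
    (h0 : g * F.a * g⁻¹ = F.e i) (h1 : g * F.b * g⁻¹ = F.e j) (h2 : g * F.c * g⁻¹ = F.e k)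
    (h3 : g * F.d * g⁻¹ = F.e l) : F.R (i + 16 * j + 256 * k + 4096 * l) g := by
  refine R.of ?_ ?_ ?_ ?_ <;> rw [Ma.col_eq]
  · rw [h0]; congr 1; omega
  · rw [h1]; congr 1; omega
  · rw [h2]; congr 1; omega
  · rw [h3]; congr 1; omega

theorem exists_R (hg : g ∈ N[F.E]) : ∃ m < 65536, F.R m g := by
  obtain ⟨i, hi, e0⟩ := conj_mem_of_norm hg (F.e1 ▸ F.e_mem 1)
  obtain ⟨j, hj, e1⟩ := conj_mem_of_norm hg (F.e2 ▸ F.e_mem 2)
  obtain ⟨k, hk, e2⟩ := conj_mem_of_norm hg (F.e4 ▸ F.e_mem 4)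
  obtain ⟨l, hl, e3⟩ := conj_mem_of_norm hg (F.e8 ▸ F.e_mem 8)
  exact ⟨_, by omega, R.of_cols hi hj hk hl e0.symm e1.symm e2.symm e3.symm⟩

variable (F) in
/-- `g` is coded by `p` -/
def Rp (A : Subgroup G) (p : ℕ) (g : G) : Prop := ∃ h ∈ A, F.R p h ∧ g = F.e (col p 4) * h

theorem Rp.mul (hp : F.Rp A p g) (hq : F.Rp A q h) : F.Rp A (am p q) (g * h) := by
  obtain ⟨x, hx, r, rfl⟩ := hp
  obtain ⟨y, hy, s, rfl⟩ := hq
  refine ⟨x * y, mul_mem hx hy, r.mul s, ?_⟩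
  rw [col_am4, e_xor, ← r.app]
  group

theorem Rp.one : F.Rp A 33825 1 := ⟨1, one_mem _, R.one, by rw [mul_one]; exact F.e0.symm⟩

theorem Rp.pow (hp : F.Rp A p g) (n : ℕ) : F.Rp A (ap p n) (g ^ n) := by
  induction n with
  | zero => rw [pow_zero]; exact Rp.one
  | succ n ih =>
    rw [pow_succ]
    change F.Rp A (force (ap p n) fun r => am r p) _
    rw [force_eq]
    exact ih.mul hp

theorem Rp.inv (hp : F.Rp A p g) (n : ℕ) (h : g ^ (n + 1) = 1) : F.Rp A (ap p n) g⁻¹ := by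
  rw [← eq_inv_of_mul_eq_one_left (pow_succ g n ▸ h)]
  exact hp.pow n

theorem Rp.of_R (hm : F.R m g) (hg : g ∈ A) (h : m < 65536) : F.Rp A m g :=
  ⟨g, hg, hm, by rw [Ma.col_eq, Nat.div_eq_of_lt (b := 2 ^ (4 * 4)) h, Nat.zero_mod, e0, one_mul]⟩

theorem Rp.vec {v : ℕ} (hv : v < 16) : F.Rp A (33825 + 65536 * v) (F.e v) :=
  ⟨1, one_mem _, R.one.congr fun j hj => col_mod (n := 4) (by omega) hj, by
    rw [mul_one, Ma.col_eq]
    congr 1
    omega⟩

theorem Rp.congr (hp : F.Rp A p g) (h : p % 1048576 = q % 1048576) : F.Rp A q g := by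
  obtain ⟨x, hx, r, rfl⟩ := hp
  exact ⟨x, hx, r.congr fun j hj => col_mod (n := 5) h (by omega),
    by rw [col_mod (n := 5) h (by omega)]⟩

theorem Rp.R (hp : F.Rp A p g) : F.R p g := by
  obtain ⟨x, hx, r, rfl⟩ := hp
  intro k hk
  rw [← Fx4.conj_conj, r k hk, F.e_comm, mul_inv_cancel_right]

theorem Rp.mem (hp : F.Rp A p g) (h : col p 4 = 0) : g ∈ A := by
  obtain ⟨x, hx, -, rfl⟩ := hp
  rwa [h, e0, one_mul]

theorem Rp.mem_sup (hp : F.Rp A p g) : g ∈ F.E ⊔ A := by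
  obtain ⟨x, hx, -, rfl⟩ := hp
  exact mul_mem_sup (F.e_mem _) hx

theorem Rp.mono {B : Subgroup G} (hp : F.Rp A p g) (h : A ≤ B) : F.Rp B p g := by
  obtain ⟨x, hx, r, e⟩ := hp
  exact ⟨x, h hx, r, e⟩

variable (hA : A ⊓ C[F.E] = ⊥)
include hA

theorem Rp.uniq (hp : F.Rp A p g) (hq : F.Rp A p h) : g = h := by
  obtain ⟨x, hx, r, rfl⟩ := hp
  obtain ⟨y, hy, s, rfl⟩ := hq
  rw [inv_mul_eq_one.mp (eq_one_of_mem_inf hA (mul_mem (inv_mem hy) hx) (r.cent s))]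

theorem Rp.eq (hp : F.Rp A p g) (hq : F.Rp A q h) (e : p % 1048576 = q % 1048576) : g = h :=
  (hp.congr e).uniq hA hq

theorem Rp.code (hp : F.Rp A p g) (hq : F.Rp A q g) : p % 1048576 = q % 1048576 := by
  have h1 := fun j hj => hp.R.col_eq hq.R (j := j) hj
  obtain ⟨x, hx, r, e⟩ := hp
  obtain ⟨y, hy, s, f⟩ := hq
  rw [e, inv_mul_eq_one.mp (eq_one_of_mem_inf hA (mul_mem (inv_mem hy) hx)
    ((r.congr h1).cent s)), mul_left_inj] at f
  have h2 := F.e_inj (col_lt _ _) (col_lt _ _) f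
  have h3 : ∀ z, ∀ j < 5, col (z % 1048576) j = col z j := fun z j hj =>
    col_mod (n := 5) (Nat.mod_mod _ _) hj
  rw [dig_col (Nat.mod_lt p (by norm_num)), dig_col (Nat.mod_lt q (by norm_num))]
  simp only [h3, h1, h2, Nat.reduceLT, Nat.ofNat_pos, Nat.one_lt_ofNat]

theorem Rp.iff (hp : F.Rp A p g) (hq : F.Rp A q h) : g = h ↔ p % 1048576 = q % 1048576 :=
  ⟨fun e => hp.code hA (e ▸ hq), hp.eq hA hq⟩

theorem inf_E : F.E ⊓ A = ⊥ := inf_eq_bot_of_forall fun _ h1 h2 =>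
  eq_one_of_mem_inf hA h2 (F.E_comm h1)

end Fr

end Cfsg.Agent.Ma
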