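import Cfsg.Agent.H4.TC

/-!
# Coset enumerations for a presentation of a double cover of `M₂₂`
-/

set_option autoImplicit false
set_option maxRecDepth 100000
set_option linter.unusedSimpArgs false

namespace Cfsg.Agent.Ma

open Cfsg.Agent.H4

/-- Certificate data. -/
def pb_par : Trie :=
    (.node (.node (.node (.node (.leaf (nat_lit 0)) (.leaf (nat_lit 516))) (.leaf (nat_lit 4)))
    (.node (.leaf (nat_lit 2)) (.leaf (nat_lit 260)))) (.node (.node (.leaf (nat_lit 1)) (.leaf
    (nat_lit 259))) (.node (.leaf (nat_lit 3)) (.leaf (nat_lit 515)))))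

/-- Certificate data. -/
def pb_fact : Trie :=
    (.node (.node (.node (.node (.node (.leaf (nat_lit 5)) (.leaf (nat_lit 25859))) (.node (.leaf
    (nat_lit 9222)) (.leaf (nat_lit 26626)))) (.node (.node (.leaf (nat_lit 12291)) (.leaf (nat_lit
    22274))) (.leaf (nat_lit 13570)))) (.node (.node (.node (.leaf (nat_lit 8194)) (.leaf (nat_lit
    22278))) (.node (.leaf (nat_lit 17155)) (.leaf (nat_lit 34563)))) (.node (.node (.leaf (nat_lit
    8965)) (.leaf (nat_lit 30726))) (.leaf (nat_lit 22021))))) (.node (.node (.node (.node (.leaf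
    (nat_lit 4097)) (.leaf (nat_lit 29187))) (.node (.leaf (nat_lit 5125)) (.leaf (nat_lit
    18433)))) (.node (.node (.leaf (nat_lit 4870)) (.leaf (nat_lit 33284))) (.leaf (nat_lit
    24836)))) (.node (.node (.node (.leaf (nat_lit 4610)) (.leaf (nat_lit 14081))) (.leaf (nat_lit
    20739))) (.node (.node (.leaf (nat_lit 16388)) (.leaf (nat_lit 26629))) (.leaf (nat_lit
    17922))))))

/-- Certificate data. -/
def pb_just : Trie :=
    (.node (.node (.node (.node (.node (.leaf (nat_lit 1)) (.leaf (nat_lit 550958404927499)))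
    (.node (.leaf (nat_lit 70708046790662)) (.leaf (nat_lit 459230788386826)))) (.node (.node
    (.leaf (nat_lit 0)) (.leaf (nat_lit 388827684470793))) (.leaf (nat_lit 141660906520585))))
    (.node (.node (.node (.leaf (nat_lit 0)) (.leaf (nat_lit 443528387952644))) (.node (.leaf
    (nat_lit 335952342089736)) (.leaf (nat_lit 902862255357966)))) (.node (.node (.leaf (nat_lit
    70407399079941)) (.leaf (nat_lit 689853352312838))) (.leaf (nat_lit 442944272400391))))) (.node
    (.node (.node (.node (.leaf (nat_lit 0)) (.leaf (nat_lit 0))) (.node (.leaf (nat_lit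
    35248796794887)) (.leaf (nat_lit 247849677946893)))) (.node (.node (.leaf (nat_lit
    35497904898052)) (.leaf (nat_lit 0))) (.leaf (nat_lit 0)))) (.node (.node (.node (.leaf
    (nat_lit 571230781443)) (.leaf (nat_lit 142262201942028))) (.leaf (nat_lit 0))) (.node (.node
    (.leaf (nat_lit 0)) (.leaf (nat_lit 550215375585287))) (.leaf (nat_lit 247231202656266))))))

/-- Certificate data. -/
def pb_rel : Trie :=
    (.node (.node (.node (.node (.leaf (nat_lit 0)) (.leaf (nat_lit 50463745))) (.node (.leaf
    (nat_lit 50725381)) (.leaf (nat_lit 16974340)))) (.node (.node (.leaf (nat_lit 67502341))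
    (.leaf (nat_lit 67175170))) (.leaf (nat_lit 84018692)))) (.node (.node (.node (.leaf (nat_lit
    65793)) (.leaf (nat_lit 33751300))) (.leaf (nat_lit 50659590))) (.node (.node (.leaf (nat_lit
    67437062)) (.leaf (nat_lit 50398210))) (.leaf (nat_lit 67240705)))))

/-- Certificate data. -/
def pb_rc : Trie :=
    (.node (.node (.node (.node (.leaf (nat_lit 10)) (.leaf (nat_lit 131081))) (.node (.leaf
    (nat_lit 131077)) (.leaf (nat_lit 262153)))) (.node (.node (.leaf (nat_lit 4)) (.leaf (nat_lit
    393225))) (.leaf (nat_lit 262151)))) (.node (.node (.node (.leaf (nat_lit 0)) (.leaf (nat_lit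
    393224))) (.leaf (nat_lit 262150))) (.node (.node (.leaf (nat_lit 393223)) (.leaf (nat_lit
    262152))) (.leaf (nat_lit 8)))))

/-- Certificate data. -/
def pb_lv : Trie :=
    (.node (.node (.node (.node (.leaf (nat_lit 0)) (.leaf (nat_lit 8))) (.leaf (nat_lit 4)))
    (.node (.leaf (nat_lit 2)) (.leaf (nat_lit 6)))) (.node (.node (.leaf (nat_lit 1)) (.leaf
    (nat_lit 5))) (.node (.leaf (nat_lit 3)) (.leaf (nat_lit 7)))))

/-- Certificate data. -/
def pb_tb : Trie :=
    (.node (.node (.node (.node (.node (.leaf (nat_lit 66)) (.leaf (nat_lit 564))) (.node (.leaf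
    (nat_lit 306)) (.leaf (nat_lit 348)))) (.node (.node (.leaf (nat_lit 415)) (.leaf (nat_lit
    273))) (.leaf (nat_lit 276)))) (.node (.node (.node (.leaf (nat_lit 5)) (.leaf (nat_lit 0)))
    (.node (.leaf (nat_lit 342)) (.leaf (nat_lit 430)))) (.node (.node (.leaf (nat_lit 561)) (.leaf
    (nat_lit 82))) (.leaf (nat_lit 416))))) (.node (.node (.node (.node (.leaf (nat_lit 135))
    (.leaf (nat_lit 171))) (.node (.leaf (nat_lit 200)) (.leaf (nat_lit 557)))) (.node (.node
    (.leaf (nat_lit 489)) (.leaf (nat_lit 140))) (.leaf (nat_lit 15)))) (.node (.node (.node (.leaf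
    (nat_lit 345)) (.leaf (nat_lit 203))) (.leaf (nat_lit 482))) (.node (.node (.leaf (nat_lit
    230)) (.leaf (nat_lit 485))) (.leaf (nat_lit 91))))))

/-- Certificate data. -/
def pb_C : TC.Cert := ⟨4, 15, 6, 63, 1413984905396736, 96, pb_par, pb_fact, pb_just, pb_rel, 13⟩

/-- Certificate data. -/
def pb_rs : List (List ℕ) := [[1, 1, 1], [5, 5, 5, 5], [5, 1, 6, 4], [5, 3, 6, 1], [1, 3, 2, 4]]

/-- Certificate data. -/
def pb_gl : List ℕ := [1, 2307, 4613]

theorem pb_h1 : allB pb_C.factChk 27 = true := by decide +kernel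

theorem pb_h2 : pb_C.finChk 27 9 pb_lv pb_tb pb_gl = true := by decide +kernel

theorem pb_h3 : TC.relChk pb_C.ivc pb_rs pb_C.rel pb_rc pb_C.nrel = true := by decide +kernel

theorem pb_bound {G : Type*} [Group G] {x y w : G}
    (r0 : x * x * x = 1)
    (r1 : w * w * w * w = 1)
    (r2 : w * x * w⁻¹ * y⁻¹ = 1)
    (r3 : w * y * w⁻¹ * x = 1)
    (r4 : x * y * x⁻¹ * y⁻¹ = 1)
    (H : Subgroup G) [Finite H] (m5 : w ∈ H) :
    Finite (Subgroup.closure ({x, y, w} : Set G)) ∧
      Nat.card (Subgroup.closure ({x, y, w} : Set G)) ≤ 9 * Nat.card H := by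
  have hL : TC.Lett (TC.lett [x, x⁻¹, y, y⁻¹, w, w⁻¹]) pb_C.ivc :=
    TC.lett_ok (show Nat.shiftRight pb_C.ivc (8 * 7) = 0 by decide +kernel) (by
      intro a ha
      change a < 7 at ha
      interval_cases a
      · exact inv_one.symm
      · rfl
      · exact (inv_inv _).symm
      · rfl
      · exact (inv_inv _).symm
      · rfl
      · exact (inv_inv _).symm)
  have h := TC.card_le pb_h1 pb_h2 pb_h3 (by decide) hL (by
    simp only [pb_rs, List.forall_mem_cons]
    refine ⟨?_, ?_, ?_, ?_, ?_, List.forall_mem_nil _⟩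
    · show x * (x * (x * 1)) = 1
      simp only [mul_assoc, mul_one] at r0 ⊢
      exact r0
    · show w * (w * (w * (w * 1))) = 1
      simp only [mul_assoc, mul_one] at r1 ⊢
      exact r1
    · show w * (x * (w⁻¹ * (y⁻¹ * 1))) = 1
      simp only [mul_assoc, mul_one] at r2 ⊢
      exact r2
    · show w * (y * (w⁻¹ * (x * 1))) = 1
      simp only [mul_assoc, mul_one] at r3 ⊢
      exact r3
    · show x * (y * (x⁻¹ * (y⁻¹ * 1))) = 1
      simp only [mul_assoc, mul_one] at r4 ⊢
      exact r4) H
    (TC.forall_subs (K := 7) (by decide +kernel) (by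
      intro a ha hb
      interval_cases a
      · exact absurd hb (by decide +kernel)
      · exact absurd hb (by decide +kernel)
      · exact absurd hb (by decide +kernel)
      · exact absurd hb (by decide +kernel)
      · exact absurd hb (by decide +kernel)
      · exact m5
      · exact H.inv_mem m5))
  have e : {g₀ | ∃ ak ∈ pb_gl, TC.lett [x, x⁻¹, y, y⁻¹, w, w⁻¹] (ak % 256) = g₀} =
      {x, y, w} := by
    ext g₀
    simp only [pb_gl, List.mem_cons, List.not_mem_nil, or_false, exists_eq_or_imp,
      exists_eq_left, Set.mem_ofPred_eq, Set.mem_insert_iff, Set.mem_singleton_iff]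
    exact or_congr eq_comm (or_congr eq_comm (eq_comm))
  rw [e] at h
  exact h

theorem pb_card {G : Type*} [Group G] {x y w : G}
    (e0 : x ^ 3 = 1)
    (e1 : w ^ 4 = 1)
    (e2 : w * x * w⁻¹ = y)
    (e3 : w * y * w⁻¹ = x⁻¹)
    (e4 : x * y = y * x)
    (H : Subgroup G) [Finite H] (mw : w ∈ H) :
    Finite (Subgroup.closure ({x, y, w} : Set G)) ∧
      Nat.card (Subgroup.closure ({x, y, w} : Set G)) ≤ 9 * Nat.card H := by
  refine pb_bound ?_ ?_ ?_ ?_ ?_ H mw
  · have h := mul_inv_eq_one.mpr e0
    simp only [pow_succ, pow_zero, mul_inv_rev, inv_inv, inv_one, one_mul, mul_one, mul_assoc,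
      mul_inv_cancel_left, inv_mul_cancel_left, mul_inv_cancel, inv_mul_cancel] at h ⊢
    exact h
  · have h := mul_inv_eq_one.mpr e1
    simp only [pow_succ, pow_zero, mul_inv_rev, inv_inv, inv_one, one_mul, mul_one, mul_assoc,
      mul_inv_cancel_left, inv_mul_cancel_left, mul_inv_cancel, inv_mul_cancel] at h ⊢
    exact h
  · have h := mul_inv_eq_one.mpr e2
    simp only [pow_succ, pow_zero, mul_inv_rev, inv_inv, inv_one, one_mul, mul_one, mul_assoc,
      mul_inv_cancel_left, inv_mul_cancel_left, mul_inv_cancel, inv_mul_cancel] at h ⊢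
    exact h
  · have h := mul_inv_eq_one.mpr e3
    simp only [pow_succ, pow_zero, mul_inv_rev, inv_inv, inv_one, one_mul, mul_one, mul_assoc,
      mul_inv_cancel_left, inv_mul_cancel_left, mul_inv_cancel, inv_mul_cancel] at h ⊢
    exact h
  · have h := mul_inv_eq_one.mpr e4
    simp only [pow_succ, pow_zero, mul_inv_rev, inv_inv, inv_one, one_mul, mul_one, mul_assoc,
      mul_inv_cancel_left, inv_mul_cancel_left, mul_inv_cancel, inv_mul_cancel] at h ⊢
    exact h

/-- Certificate data. -/
def pa_par : Trie :=
    (.node (.node (.node (.node (.leaf (nat_lit 0)) (.leaf (nat_lit 771))) (.leaf (nat_lit 259)))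
    (.node (.leaf (nat_lit 257)) (.leaf (nat_lit 515)))) (.node (.node (.node (.leaf (nat_lit 7))
    (.leaf (nat_lit 772))) (.leaf (nat_lit 260))) (.node (.leaf (nat_lit 258)) (.leaf (nat_lit
    516)))))

/-- Certificate data. -/
def pa_fact : Trie :=
    (.node (.node (.node (.node (.node (.node (.leaf (nat_lit 1)) (.leaf (nat_lit 30978))) (.leaf
    (nat_lit 21507))) (.node (.leaf (nat_lit 8967)) (.leaf (nat_lit 33539)))) (.node (.node (.leaf
    (nat_lit 4357)) (.leaf (nat_lit 29188))) (.node (.leaf (nat_lit 17415)) (.leaf (nat_lit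
    26375))))) (.node (.node (.node (.node (.leaf (nat_lit 5)) (.leaf (nat_lit 35079))) (.leaf
    (nat_lit 25091))) (.node (.leaf (nat_lit 9222)) (.leaf (nat_lit 18433)))) (.node (.node (.leaf
    (nat_lit 12546)) (.leaf (nat_lit 22274))) (.node (.leaf (nat_lit 13574)) (.leaf (nat_lit
    35078)))))) (.node (.node (.node (.node (.node (.leaf (nat_lit 3)) (.leaf (nat_lit 22785)))
    (.leaf (nat_lit 21767))) (.node (.leaf (nat_lit 16643)) (.leaf (nat_lit 26630)))) (.node (.node
    (.leaf (nat_lit 8449)) (.leaf (nat_lit 26373))) (.node (.leaf (nat_lit 20740)) (.leaf (nat_lit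
    37636))))) (.node (.node (.node (.node (.leaf (nat_lit 4103)) (.leaf (nat_lit 38915))) (.leaf
    (nat_lit 17922))) (.node (.leaf (nat_lit 13317)) (.leaf (nat_lit 26626)))) (.node (.node (.leaf
    (nat_lit 8962)) (.leaf (nat_lit 30211))) (.node (.leaf (nat_lit 9477)) (.leaf (nat_lit
    30981)))))))

/-- Certificate data. -/
def pa_just : Trie :=
    (.node (.node (.node (.node (.node (.node (.leaf (nat_lit 1)) (.leaf (nat_lit
    2822699751768077))) (.leaf (nat_lit 2189222140379147))) (.node (.leaf (nat_lit
    11583262145722515461)) (.leaf (nat_lit 0)))) (.node (.node (.leaf (nat_lit 424991309103107))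
    (.leaf (nat_lit 0))) (.node (.leaf (nat_lit 1627912864464904)) (.leaf (nat_lit
    536109960041672702806177570271987105808))))) (.node (.node (.node (.node (.leaf (nat_lit 1))
    (.leaf (nat_lit 909250907639367067959314))) (.leaf (nat_lit 0))) (.node (.leaf (nat_lit
    708716848676870)) (.leaf (nat_lit 1273994674372623)))) (.node (.node (.leaf (nat_lit 0)) (.leaf
    (nat_lit 1835810756427789))) (.node (.leaf (nat_lit 849488696770569)) (.leaf (nat_lit
    3742441228402697)))))) (.node (.node (.node (.node (.node (.leaf (nat_lit 1)) (.leaf (nat_lit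
    1836987577466897))) (.leaf (nat_lit 2190347421810696))) (.node (.leaf (nat_lit 0)) (.leaf
    (nat_lit 2757235860242438)))) (.node (.node (.leaf (nat_lit 0)) (.leaf (nat_lit
    2756101988876298))) (.node (.leaf (nat_lit 0)) (.leaf (nat_lit 0))))) (.node (.node (.node
    (.node (.leaf (nat_lit 0)) (.leaf (nat_lit 4732521384443923))) (.leaf (nat_lit
    1272843623137292))) (.node (.leaf (nat_lit 848904581218311)) (.leaf (nat_lit
    2541181825384460)))) (.node (.node (.leaf (nat_lit 5553392844804)) (.leaf (nat_lit
    3184348882993166))) (.node (.leaf (nat_lit 708201452601354)) (.leaf (nat_lit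
    3182789809864714)))))))

/-- Certificate data. -/
def pa_rel : Trie :=
    (.node (.node (.node (.node (.node (.leaf (nat_lit 0)) (.leaf (nat_lit 218146435601203975)))
    (.leaf (nat_lit 50659590))) (.node (.leaf (nat_lit 67502341)) (.leaf (nat_lit 33751300))))
    (.node (.node (.leaf (nat_lit 65793)) (.leaf (nat_lit 67240705))) (.node (.leaf (nat_lit
    101123591)) (.leaf (nat_lit 10506843398085833583532092382381575))))) (.node (.node (.node
    (.node (.leaf (nat_lit 117835526)) (.leaf (nat_lit 16974340))) (.leaf (nat_lit 84018692)))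
    (.node (.leaf (nat_lit 67437062)) (.leaf (nat_lit 67175170)))) (.node (.node (.leaf (nat_lit
    1129593635079)) (.leaf (nat_lit 50463745))) (.node (.leaf (nat_lit 50725381)) (.leaf (nat_lit
    50398210))))))

/-- Certificate data. -/
def pa_rc : Trie :=
    (.node (.node (.node (.node (.node (.leaf (nat_lit 20)) (.leaf (nat_lit 16))) (.leaf (nat_lit
    262150))) (.node (.leaf (nat_lit 4)) (.leaf (nat_lit 393224)))) (.node (.node (.leaf (nat_lit
    0)) (.leaf (nat_lit 8))) (.node (.leaf (nat_lit 131085)) (.leaf (nat_lit 262163))))) (.node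
    (.node (.node (.node (.leaf (nat_lit 13)) (.leaf (nat_lit 262153))) (.leaf (nat_lit 262151)))
    (.node (.leaf (nat_lit 393223)) (.leaf (nat_lit 393225)))) (.node (.node (.leaf (nat_lit 14))
    (.leaf (nat_lit 131081))) (.node (.leaf (nat_lit 131077)) (.leaf (nat_lit 262152))))))

/-- Certificate data. -/
def pa_lv : Trie :=
    (.node (.node (.node (.node (.leaf (nat_lit 0)) (.leaf (nat_lit 8))) (.leaf (nat_lit 4)))
    (.node (.leaf (nat_lit 2)) (.leaf (nat_lit 6)))) (.node (.node (.node (.leaf (nat_lit 1))
    (.leaf (nat_lit 9))) (.leaf (nat_lit 5))) (.node (.leaf (nat_lit 3)) (.leaf (nat_lit 7)))))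

/-- Certificate data. -/
def pa_tb : Trie :=
    (.node (.node (.node (.node (.node (.node (.leaf (nat_lit 0)) (.leaf (nat_lit 401))) (.leaf
    (nat_lit 942))) (.node (.leaf (nat_lit 564)) (.leaf (nat_lit 406)))) (.node (.node (.node
    (.leaf (nat_lit 807)) (.leaf (nat_lit 953))) (.leaf (nat_lit 4))) (.node (.leaf (nat_lit 804))
    (.leaf (nat_lit 1213))))) (.node (.node (.node (.node (.leaf (nat_lit 399)) (.leaf (nat_lit
    537))) (.leaf (nat_lit 1222))) (.node (.leaf (nat_lit 2)) (.leaf (nat_lit 1075)))) (.node
    (.node (.node (.leaf (nat_lit 1079)) (.leaf (nat_lit 1221))) (.leaf (nat_lit 533))) (.node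
    (.leaf (nat_lit 672)) (.leaf (nat_lit 134)))))) (.node (.node (.node (.node (.node (.leaf
    (nat_lit 266)) (.leaf (nat_lit 272))) (.leaf (nat_lit 297))) (.node (.leaf (nat_lit 706))
    (.leaf (nat_lit 286)))) (.node (.node (.node (.leaf (nat_lit 941)) (.leaf (nat_lit 824)))
    (.leaf (nat_lit 136))) (.node (.leaf (nat_lit 1072)) (.leaf (nat_lit 958))))) (.node (.node
    (.node (.node (.leaf (nat_lit 141)) (.leaf (nat_lit 675))) (.leaf (nat_lit 443))) (.node (.leaf
    (nat_lit 530)) (.leaf (nat_lit 810)))) (.node (.node (.node (.leaf (nat_lit 1217)) (.leaf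
    (nat_lit 1092))) (.leaf (nat_lit 669))) (.node (.leaf (nat_lit 155)) (.leaf (nat_lit 7)))))))

/-- Certificate data. -/
def pa_C : TC.Cert := ⟨4, 15, 7, 127, 505817143170892288, 126, pa_par, pa_fact, pa_just, pa_rel, 18⟩

/-- Certificate data. -/
def pa_rs : List (List ℕ) := [[1, 1, 1], [5, 5, 5, 5], [5, 1, 6, 4], [5, 3, 6, 1], [1, 3, 2, 4], [7, 7], [7, 5, 7, 5], [7, 1, 7, 1, 7, 1], [7, 3, 7, 3, 7, 3, 7, 3], [7, 1, 5, 7, 1, 5, 7, 1, 5, 7, 1, 5, 7, 1, 5]]

/-- Certificate data. -/
def pa_gl : List ℕ := [1, 2563, 5125, 7687]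

theorem pa_h1 : allB pa_C.factChk 36 = true := by decide +kernel

theorem pa_h2 : pa_C.finChk 36 10 pa_lv pa_tb pa_gl = true := by decide +kernel

theorem pa_h3 : TC.relChk pa_C.ivc pa_rs pa_C.rel pa_rc pa_C.nrel = true := by decide +kernel

theorem pa_bound {G : Type*} [Group G] {x y w u : G}
    (r0 : x * x * x = 1)
    (r1 : w * w * w * w = 1)
    (r2 : w * x * w⁻¹ * y⁻¹ = 1)
    (r3 : w * y * w⁻¹ * x = 1)
    (r4 : x * y * x⁻¹ * y⁻¹ = 1)
    (r5 : u * u = 1)
    (r6 : u * w * u * w = 1)
    (r7 : u * x * u * x * u * x = 1)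
    (r8 : u * y * u * y * u * y * u * y = 1)
    (r9 : u * x * w * u * x * w * u * x * w * u * x * w * u * x * w = 1)
    (H : Subgroup G) [Finite H] (m1 : x ∈ H) (m3 : y ∈ H) (m5 : w ∈ H) :
    Finite (Subgroup.closure ({x, y, w, u} : Set G)) ∧
      Nat.card (Subgroup.closure ({x, y, w, u} : Set G)) ≤ 10 * Nat.card H := by
  have hL : TC.Lett (TC.lett [x, x⁻¹, y, y⁻¹, w, w⁻¹, u]) pa_C.ivc :=
    TC.lett_ok (show Nat.shiftRight pa_C.ivc (8 * 8) = 0 by decide +kernel) (by
      intro a ha
      change a < 8 at ha
      interval_cases a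
      · exact inv_one.symm
      · rfl
      · exact (inv_inv _).symm
      · rfl
      · exact (inv_inv _).symm
      · rfl
      · exact (inv_inv _).symm
      · exact (inv_eq_of_mul_eq_one_right r5).symm)
  have h := TC.card_le pa_h1 pa_h2 pa_h3 (by decide) hL (by
    simp only [pa_rs, List.forall_mem_cons]
    refine ⟨?_, ?_, ?_, ?_, ?_, ?_, ?_, ?_, ?_, ?_, List.forall_mem_nil _⟩
    · show x * (x * (x * 1)) = 1
      simp only [mul_assoc, mul_one] at r0 ⊢
      exact r0
    · show w * (w * (w * (w * 1))) = 1
      simp only [mul_assoc, mul_one] at r1 ⊢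
      exact r1
    · show w * (x * (w⁻¹ * (y⁻¹ * 1))) = 1
      simp only [mul_assoc, mul_one] at r2 ⊢
      exact r2
    · show w * (y * (w⁻¹ * (x * 1))) = 1
      simp only [mul_assoc, mul_one] at r3 ⊢
      exact r3
    · show x * (y * (x⁻¹ * (y⁻¹ * 1))) = 1
      simp only [mul_assoc, mul_one] at r4 ⊢
      exact r4
    · show u * (u * 1) = 1
      simp only [mul_one] at r5 ⊢
      exact r5
    · show u * (w * (u * (w * 1))) = 1
      simp only [mul_assoc, mul_one] at r6 ⊢
      exact r6
    · show u * (x * (u * (x * (u * (x * 1))))) = 1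
      simp only [mul_assoc, mul_one] at r7 ⊢
      exact r7
    · show u * (y * (u * (y * (u * (y * (u * (y * 1))))))) = 1
      simp only [mul_assoc, mul_one] at r8 ⊢
      exact r8
    · show u * (x * (w * (u * (x * (w * (u * (x * (w * (u * (x * (w * (u * (x * (w *
    1)))))))))))))) = 1
      simp only [mul_assoc, mul_one] at r9 ⊢
      exact r9) H
    (TC.forall_subs (K := 8) (by decide +kernel) (by
      intro a ha hb
      interval_cases a
      · exact absurd hb (by decide +kernel)
      · exact m1
      · exact H.inv_mem m1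
      · exact m3
      · exact H.inv_mem m3
      · exact m5
      · exact H.inv_mem m5
      · exact absurd hb (by decide +kernel)))
  have e : {g₀ | ∃ ak ∈ pa_gl, TC.lett [x, x⁻¹, y, y⁻¹, w, w⁻¹, u] (ak % 256) = g₀} =
      {x, y, w, u} := by
    ext g₀
    simp only [pa_gl, List.mem_cons, List.not_mem_nil, or_false, exists_eq_or_imp,
      exists_eq_left, Set.mem_ofPred_eq, Set.mem_insert_iff, Set.mem_singleton_iff]
    exact or_congr eq_comm (or_congr eq_comm (or_congr eq_comm (eq_comm)))
  rw [e] at h
  exact h

theorem pa_card {G : Type*} [Group G] {x y w u : G}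
    (e0 : x ^ 3 = 1)
    (e1 : w ^ 4 = 1)
    (e2 : w * x * w⁻¹ = y)
    (e3 : w * y * w⁻¹ = x⁻¹)
    (e4 : x * y = y * x)
    (e5 : u * u = 1)
    (e6 : u * w * u = w⁻¹)
    (e7 : (u * x) ^ 3 = 1)
    (e8 : (u * y) ^ 4 = 1)
    (e9 : (u * x * w) ^ 5 = 1)
    (H : Subgroup G) [Finite H] (mx : x ∈ H) (my : y ∈ H) (mw : w ∈ H) :
    Finite (Subgroup.closure ({x, y, w, u} : Set G)) ∧
      Nat.card (Subgroup.closure ({x, y, w, u} : Set G)) ≤ 10 * Nat.card H := by
  have iu : u⁻¹ = u := inv_eq_of_mul_eq_one_right e5
  refine pa_bound ?_ ?_ ?_ ?_ ?_ ?_ ?_ ?_ ?_ ?_ H mx my mw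
  · have h := mul_inv_eq_one.mpr e0
    simp only [pow_succ, pow_zero, mul_inv_rev, inv_inv, inv_one, one_mul, mul_one, mul_assoc,
      mul_inv_cancel_left, inv_mul_cancel_left, mul_inv_cancel, inv_mul_cancel, iu] at h ⊢
    exact h
  · have h := mul_inv_eq_one.mpr e1
    simp only [pow_succ, pow_zero, mul_inv_rev, inv_inv, inv_one, one_mul, mul_one, mul_assoc,
      mul_inv_cancel_left, inv_mul_cancel_left, mul_inv_cancel, inv_mul_cancel, iu] at h ⊢
    exact h
  · have h := mul_inv_eq_one.mpr e2
    simp only [pow_succ, pow_zero, mul_inv_rev, inv_inv, inv_one, one_mul, mul_one, mul_assoc,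
      mul_inv_cancel_left, inv_mul_cancel_left, mul_inv_cancel, inv_mul_cancel, iu] at h ⊢
    exact h
  · have h := mul_inv_eq_one.mpr e3
    simp only [pow_succ, pow_zero, mul_inv_rev, inv_inv, inv_one, one_mul, mul_one, mul_assoc,
      mul_inv_cancel_left, inv_mul_cancel_left, mul_inv_cancel, inv_mul_cancel, iu] at h ⊢
    exact h
  · have h := mul_inv_eq_one.mpr e4
    simp only [pow_succ, pow_zero, mul_inv_rev, inv_inv, inv_one, one_mul, mul_one, mul_assoc,
      mul_inv_cancel_left, inv_mul_cancel_left, mul_inv_cancel, inv_mul_cancel, iu] at h ⊢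
    exact h
  · have h := mul_inv_eq_one.mpr e5
    simp only [pow_succ, pow_zero, mul_inv_rev, inv_inv, inv_one, one_mul, mul_one, mul_assoc,
      mul_inv_cancel_left, inv_mul_cancel_left, mul_inv_cancel, inv_mul_cancel, iu] at h ⊢
    exact h
  · have h := mul_inv_eq_one.mpr e6
    simp only [pow_succ, pow_zero, mul_inv_rev, inv_inv, inv_one, one_mul, mul_one, mul_assoc,
      mul_inv_cancel_left, inv_mul_cancel_left, mul_inv_cancel, inv_mul_cancel, iu] at h ⊢
    exact h
  · have h := mul_inv_eq_one.mpr e7
    simp only [pow_succ, pow_zero, mul_inv_rev, inv_inv, inv_one, one_mul, mul_one, mul_assoc,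
      mul_inv_cancel_left, inv_mul_cancel_left, mul_inv_cancel, inv_mul_cancel, iu] at h ⊢
    exact h
  · have h := mul_inv_eq_one.mpr e8
    simp only [pow_succ, pow_zero, mul_inv_rev, inv_inv, inv_one, one_mul, mul_one, mul_assoc,
      mul_inv_cancel_left, inv_mul_cancel_left, mul_inv_cancel, inv_mul_cancel, iu] at h ⊢
    exact h
  · have h := mul_inv_eq_one.mpr e9
    simp only [pow_succ, pow_zero, mul_inv_rev, inv_inv, inv_one, one_mul, mul_one, mul_assoc,
      mul_inv_cancel_left, inv_mul_cancel_left, mul_inv_cancel, inv_mul_cancel, iu] at h ⊢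
    exact h

/-- Certificate data. -/
def pn_par : Trie :=
    (.node (.node (.node (.node (.node (.leaf (nat_lit 0)) (.leaf (nat_lit 2561))) (.leaf (nat_lit
    515))) (.node (.leaf (nat_lit 11)) (.leaf (nat_lit 523)))) (.node (.node (.leaf (nat_lit 9))
    (.leaf (nat_lit 519))) (.node (.leaf (nat_lit 266)) (.leaf (nat_lit 1537))))) (.node (.node
    (.node (.leaf (nat_lit 8)) (.leaf (nat_lit 518))) (.node (.leaf (nat_lit 260)) (.leaf (nat_lit
    1291)))) (.node (.node (.leaf (nat_lit 10)) (.leaf (nat_lit 522))) (.node (.leaf (nat_lit 267))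
    (.leaf (nat_lit 2313))))))

/-- Certificate data. -/
def pn_fact : Trie :=
    (.node (.node (.node (.node (.node (.node (.node (.leaf (nat_lit 1)) (.leaf (nat_lit 60929)))
    (.leaf (nat_lit 66051))) (.node (.node (.leaf (nat_lit 17414)) (.leaf (nat_lit 126467))) (.leaf
    (nat_lit 84744)))) (.node (.node (.node (.leaf (nat_lit 16898)) (.leaf (nat_lit 109571)))
    (.leaf (nat_lit 43008))) (.node (.node (.leaf (nat_lit 49418)) (.leaf (nat_lit 118793))) (.leaf
    (nat_lit 100099))))) (.node (.node (.node (.node (.leaf (nat_lit 8200)) (.leaf (nat_lit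
    60938))) (.leaf (nat_lit 76035))) (.node (.node (.leaf (nat_lit 34054)) (.leaf (nat_lit
    110598))) (.leaf (nat_lit 91651)))) (.node (.node (.node (.leaf (nat_lit 25351)) (.leaf
    (nat_lit 93954))) (.leaf (nat_lit 51721))) (.node (.leaf (nat_lit 57611)) (.leaf (nat_lit
    85249)))))) (.node (.node (.node (.node (.node (.leaf (nat_lit 5)) (.leaf (nat_lit 85510)))
    (.leaf (nat_lit 43270))) (.node (.node (.leaf (nat_lit 8708)) (.leaf (nat_lit 110593))) (.leaf
    (nat_lit 60165)))) (.node (.node (.node (.leaf (nat_lit 8966)) (.leaf (nat_lit 102154))) (.leaf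
    (nat_lit 82439))) (.node (.node (.leaf (nat_lit 50694)) (.leaf (nat_lit 86027))) (.leaf
    (nat_lit 101640))))) (.node (.node (.node (.node (.leaf (nat_lit 8455)) (.leaf (nat_lit
    77319))) (.leaf (nat_lit 26891))) (.node (.node (.leaf (nat_lit 41225)) (.leaf (nat_lit
    118787))) (.leaf (nat_lit 35849)))) (.node (.node (.node (.leaf (nat_lit 32779)) (.leaf
    (nat_lit 102149))) (.leaf (nat_lit 83460))) (.node (.leaf (nat_lit 50945)) (.leaf (nat_lit
    108292))))))) (.node (.node (.node (.node (.node (.node (.leaf (nat_lit 3)) (.leaf (nat_lit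
    93701))) (.leaf (nat_lit 74246))) (.node (.node (.leaf (nat_lit 33796)) (.leaf (nat_lit
    133633))) (.leaf (nat_lit 27401)))) (.node (.node (.node (.leaf (nat_lit 24586)) (.leaf
    (nat_lit 125193))) (.leaf (nat_lit 17668))) (.node (.node (.leaf (nat_lit 26120)) (.leaf
    (nat_lit 110602))) (.leaf (nat_lit 107787))))) (.node (.node (.node (.node (.leaf (nat_lit
    8450)) (.leaf (nat_lit 52747))) (.leaf (nat_lit 35082))) (.node (.node (.leaf (nat_lit 42242))
    (.leaf (nat_lit 126980))) (.leaf (nat_lit 98827)))) (.node (.node (.node (.leaf (nat_lit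
    25347)) (.leaf (nat_lit 102145))) (.leaf (nat_lit 43530))) (.node (.leaf (nat_lit 34568))
    (.leaf (nat_lit 101638)))))) (.node (.node (.node (.node (.node (.leaf (nat_lit 7)) (.leaf
    (nat_lit 77320))) (.leaf (nat_lit 26882))) (.node (.node (.leaf (nat_lit 41220)) (.leaf
    (nat_lit 126981))) (.leaf (nat_lit 43783)))) (.node (.node (.node (.leaf (nat_lit 8965)) (.leaf
    (nat_lit 93963))) (.leaf (nat_lit 59910))) (.node (.node (.leaf (nat_lit 50695)) (.leaf
    (nat_lit 110599))) (.leaf (nat_lit 60681))))) (.node (.node (.node (.node (.leaf (nat_lit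
    16393)) (.leaf (nat_lit 92676))) (.leaf (nat_lit 74754))) (.node (.node (.leaf (nat_lit 41480))
    (.leaf (nat_lit 126984))) (.leaf (nat_lit 93185)))) (.node (.node (.node (.leaf (nat_lit
    25601)) (.leaf (nat_lit 102151))) (.leaf (nat_lit 90634))) (.node (.leaf (nat_lit 34567))
    (.leaf (nat_lit 116225))))))))

/-- Certificate data. -/
def pn_just : Trie :=
    (.node (.node (.node (.node (.node (.node (.node (.leaf (nat_lit 1)) (.leaf (nat_lit
    67615670272034))) (.leaf (nat_lit 0))) (.node (.node (.leaf (nat_lit 3946271786336267)) (.leaf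
    (nat_lit 44314175480201225))) (.leaf (nat_lit 25665208437637138)))) (.node (.node (.node (.leaf
    (nat_lit 3941813610283013)) (.leaf (nat_lit 34216174791360545))) (.leaf (nat_lit
    2976670725655756826))) (.node (.node (.leaf (nat_lit 0)) (.leaf (nat_lit 35563304168652848)))
    (.leaf (nat_lit 31358329322405921))))) (.node (.node (.node (.node (.leaf (nat_lit 0)) (.leaf
    (nat_lit 4038375912398651430))) (.leaf (nat_lit 18595228411953161))) (.node (.node (.leaf
    (nat_lit 8751180549390350)) (.leaf (nat_lit 34998155191975972))) (.leaf (nat_lit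
    124699033325684881411735583)))) (.node (.node (.node (.leaf (nat_lit 5074327766761480)) (.leaf
    (nat_lit 27943619868688389))) (.leaf (nat_lit 1018042405884405284892))) (.node (.leaf (nat_lit
    0)) (.leaf (nat_lit 25661995802099722)))))) (.node (.node (.node (.node (.node (.leaf (nat_lit
    1)) (.leaf (nat_lit 25953417923067940))) (.leaf (nat_lit 11577045691858965))) (.node (.node
    (.leaf (nat_lit 5662626617163789)) (.leaf (nat_lit 133740986761250))) (.leaf (nat_lit
    16643715531735047)))) (.node (.node (.node (.leaf (nat_lit 2257378976399366)) (.leaf (nat_lit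
    30762767682306089))) (.leaf (nat_lit 0))) (.node (.node (.leaf (nat_lit 14380723033276422))
    (.leaf (nat_lit 6569444137576431655))) (.leaf (nat_lit 29888518499270675))))) (.node (.node
    (.node (.node (.leaf (nat_lit 2259535049981956)) (.leaf (nat_lit 1443330839571876610088)))
    (.leaf (nat_lit 1659593243123515416))) (.node (.node (.leaf (nat_lit 2962248191116050448))
    (.leaf (nat_lit 35568801726791727))) (.leaf (nat_lit 7898251584012320)))) (.node (.node (.node
    (.leaf (nat_lit 0)) (.leaf (nat_lit 29910646170779692))) (.leaf (nat_lit 24555616521617420)))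
    (.node (.leaf (nat_lit 13523138323349514)) (.leaf (nat_lit 34743901717987340))))))) (.node
    (.node (.node (.node (.node (.node (.leaf (nat_lit 1)) (.leaf (nat_lit 29332217155223587)))
    (.leaf (nat_lit 0))) (.node (.node (.leaf (nat_lit 9306403856646156)) (.leaf (nat_lit 0)))
    (.leaf (nat_lit 5083450277298206)))) (.node (.node (.node (.leaf (nat_lit 0)) (.leaf (nat_lit
    0))) (.leaf (nat_lit 71816148287490))) (.node (.node (.leaf (nat_lit 5076655639035922)) (.leaf
    (nat_lit 8226768800448774182))) (.leaf (nat_lit 0))))) (.node (.node (.node (.node (.leaf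
    (nat_lit 2252937980215299)) (.leaf (nat_lit 3461915160095227943))) (.leaf (nat_lit
    11309864366309399))) (.node (.node (.leaf (nat_lit 10707211735203855)) (.leaf (nat_lit
    43222502167740462))) (.leaf (nat_lit 0)))) (.node (.node (.node (.leaf (nat_lit
    6485014070099977)) (.leaf (nat_lit 30768265240444971))) (.leaf (nat_lit
    812235187178107633693))) (.node (.leaf (nat_lit 7891439765880851)) (.leaf (nat_lit
    30725246848008203)))))) (.node (.node (.node (.node (.node (.leaf (nat_lit 1)) (.leaf (nat_lit
    20040244388888613))) (.leaf (nat_lit 6513794645950486))) (.node (.node (.leaf (nat_lit 0))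
    (.leaf (nat_lit 45182931400065059))) (.leaf (nat_lit 25425514902781960)))) (.node (.node (.node
    (.leaf (nat_lit 2256279464771591)) (.leaf (nat_lit 27950216938455082))) (.leaf (nat_lit
    17769572488904731))) (.node (.node (.leaf (nat_lit 13525302986866696)) (.leaf (nat_lit
    2238113468576237420584))) (.leaf (nat_lit 15812570640482336))))) (.node (.node (.node (.node
    (.leaf (nat_lit 0)) (.leaf (nat_lit 28570281366978573))) (.leaf (nat_lit 21750861143408665)))
    (.node (.node (.leaf (nat_lit 2962248216885854225)) (.leaf (nat_lit 43173024144490533))) (.leaf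
    (nat_lit 26477799070171146)))) (.node (.node (.node (.leaf (nat_lit 5066674135040010)) (.leaf
    (nat_lit 2148435602500154097709))) (.leaf (nat_lit 0))) (.node (.leaf (nat_lit
    4195117591360176148)) (.leaf (nat_lit 0))))))))

/-- Certificate data. -/
def pn_rel : Trie :=
    (.node (.node (.node (.node (.node (.node (.leaf (nat_lit 0)) (.leaf (nat_lit 131586))) (.leaf
    (nat_lit 168299016))) (.node (.node (.leaf (nat_lit 184617474)) (.leaf (nat_lit 151718155)))
    (.leaf (nat_lit 67502341)))) (.node (.node (.node (.leaf (nat_lit 168167429)) (.leaf (nat_lit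
    8757775114))) (.leaf (nat_lit 84149761))) (.node (.node (.leaf (nat_lit 50725381)) (.leaf
    (nat_lit 33816835))) (.leaf (nat_lit 168364553))))) (.node (.node (.node (.node (.leaf (nat_lit
    134678535)) (.leaf (nat_lit 33948677))) (.leaf (nat_lit 47362803719))) (.node (.node (.leaf
    (nat_lit 100795651)) (.leaf (nat_lit 151325446))) (.leaf (nat_lit 7731092784905)))) (.node
    (.node (.node (.leaf (nat_lit 168233479)) (.leaf (nat_lit 2229122040327))) (.leaf (nat_lit
    21626357259))) (.node (.node (.leaf (nat_lit 34461123849)) (.leaf (nat_lit 34144521))) (.leaf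
    (nat_lit 185142025)))))) (.node (.node (.node (.node (.node (.leaf (nat_lit 134350849)) (.leaf
    (nat_lit 33882886))) (.leaf (nat_lit 185076488))) (.node (.node (.leaf (nat_lit 184944901))
    (.leaf (nat_lit 151062786))) (.leaf (nat_lit 117769989)))) (.node (.node (.node (.leaf (nat_lit
    168101894)) (.leaf (nat_lit 8757774859))) (.leaf (nat_lit 84411914))) (.node (.node (.leaf
    (nat_lit 50463745)) (.leaf (nat_lit 33751300))) (.leaf (nat_lit 505536772051306244))))) (.node
    (.node (.node (.node (.leaf (nat_lit 151128321)) (.leaf (nat_lit 34078984))) (.leaf (nat_lit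
    84215045))) (.node (.node (.leaf (nat_lit 83953155)) (.leaf (nat_lit 9925837785095))) (.leaf
    (nat_lit 7735354067210)))) (.node (.node (.node (.leaf (nat_lit 84018692)) (.leaf (nat_lit
    151652618))) (.leaf (nat_lit 167906049))) (.node (.leaf (nat_lit 38756091144)) (.leaf (nat_lit
    16974340)))))))

/-- Certificate data. -/
def pn_rc : Trie :=
    (.node (.node (.node (.node (.node (.node (.leaf (nat_lit 64)) (.leaf (nat_lit 1))) (.leaf
    (nat_lit 30))) (.node (.node (.leaf (nat_lit 262190)) (.leaf (nat_lit 131108))) (.leaf (nat_lit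
    4)))) (.node (.node (.node (.leaf (nat_lit 48)) (.leaf (nat_lit 45))) (.leaf (nat_lit 131076)))
    (.node (.node (.leaf (nat_lit 131077)) (.leaf (nat_lit 9))) (.leaf (nat_lit 34))))) (.node
    (.node (.node (.node (.leaf (nat_lit 56)) (.leaf (nat_lit 131079))) (.leaf (nat_lit 524351)))
    (.node (.node (.leaf (nat_lit 5)) (.leaf (nat_lit 262194))) (.leaf (nat_lit 131130)))) (.node
    (.node (.node (.leaf (nat_lit 60)) (.leaf (nat_lit 131087))) (.leaf (nat_lit 393271))) (.node
    (.node (.leaf (nat_lit 131127)) (.leaf (nat_lit 393258))) (.leaf (nat_lit 36)))))) (.node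
    (.node (.node (.node (.node (.leaf (nat_lit 40)) (.leaf (nat_lit 393221))) (.leaf (nat_lit
    32))) (.node (.node (.leaf (nat_lit 50)) (.leaf (nat_lit 262186))) (.leaf (nat_lit 131084))))
    (.node (.node (.node (.leaf (nat_lit 262196)) (.leaf (nat_lit 393260))) (.leaf (nat_lit
    131124))) (.node (.node (.leaf (nat_lit 131081)) (.leaf (nat_lit 393224))) (.leaf (nat_lit
    17))))) (.node (.node (.node (.node (.leaf (nat_lit 42)) (.leaf (nat_lit 393256))) (.leaf
    (nat_lit 2))) (.node (.node (.leaf (nat_lit 131078)) (.leaf (nat_lit 655419))) (.leaf (nat_lit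
    393274)))) (.node (.node (.node (.leaf (nat_lit 262151)) (.leaf (nat_lit 131106))) (.leaf
    (nat_lit 46))) (.node (.leaf (nat_lit 524342)) (.leaf (nat_lit 262153)))))))

/-- Certificate data. -/
def pn_lv : Trie :=
    (.node (.node (.node (.node (.leaf (nat_lit 0)) (.leaf (nat_lit 9))) (.node (.leaf (nat_lit 4))
    (.leaf (nat_lit 13)))) (.node (.node (.leaf (nat_lit 2)) (.leaf (nat_lit 11))) (.node (.leaf
    (nat_lit 6)) (.leaf (nat_lit 15))))) (.node (.node (.node (.leaf (nat_lit 1)) (.leaf (nat_lit
    10))) (.node (.leaf (nat_lit 5)) (.leaf (nat_lit 14)))) (.node (.node (.leaf (nat_lit 3))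
    (.leaf (nat_lit 12))) (.node (.leaf (nat_lit 7)) (.leaf (nat_lit 16))))))

/-- Certificate data. -/
def pn_tb : Trie :=
    (.node (.node (.node (.node (.node (.node (.node (.leaf (nat_lit 0)) (.leaf (nat_lit 264)))
    (.node (.leaf (nat_lit 4)) (.leaf (nat_lit 786)))) (.node (.node (.leaf (nat_lit 2)) (.leaf
    (nat_lit 526))) (.node (.leaf (nat_lit 7)) (.leaf (nat_lit 1052))))) (.node (.node (.node
    (.leaf (nat_lit 1103)) (.leaf (nat_lit 3463))) (.node (.leaf (nat_lit 579)) (.leaf (nat_lit
    1098)))) (.node (.node (.leaf (nat_lit 2120)) (.leaf (nat_lit 3730))) (.node (.leaf (nat_lit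
    3469)) (.leaf (nat_lit 844)))))) (.node (.node (.node (.node (.leaf (nat_lit 798)) (.leaf
    (nat_lit 1851))) (.node (.leaf (nat_lit 1321)) (.leaf (nat_lit 2123)))) (.node (.node (.leaf
    (nat_lit 1059)) (.leaf (nat_lit 2925))) (.node (.leaf (nat_lit 1855)) (.leaf (nat_lit 29)))))
    (.node (.node (.node (.leaf (nat_lit 2424)) (.leaf (nat_lit 2932))) (.node (.leaf (nat_lit
    4009)) (.leaf (nat_lit 4019)))) (.node (.node (.leaf (nat_lit 1917)) (.leaf (nat_lit 1910)))
    (.node (.leaf (nat_lit 4023)) (.leaf (nat_lit 1395))))))) (.node (.node (.node (.node (.node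
    (.leaf (nat_lit 529)) (.leaf (nat_lit 1326))) (.node (.leaf (nat_lit 1057)) (.leaf (nat_lit
    2654)))) (.node (.node (.leaf (nat_lit 1363)) (.leaf (nat_lit 15))) (.node (.leaf (nat_lit
    2388)) (.leaf (nat_lit 2922))))) (.node (.node (.node (.leaf (nat_lit 3737)) (.leaf (nat_lit
    2400))) (.node (.leaf (nat_lit 1892)) (.leaf (nat_lit 607)))) (.node (.node (.leaf (nat_lit
    2447)) (.leaf (nat_lit 866))) (.node (.leaf (nat_lit 1382)) (.leaf (nat_lit 3735)))))) (.node
    (.node (.node (.node (.leaf (nat_lit 3454)) (.leaf (nat_lit 818))) (.node (.leaf (nat_lit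
    1589)) (.leaf (nat_lit 305)))) (.node (.node (.leaf (nat_lit 2664)) (.leaf (nat_lit 2393)))
    (.node (.leaf (nat_lit 1591)) (.leaf (nat_lit 3467))))) (.node (.node (.node (.leaf (nat_lit
    2970)) (.leaf (nat_lit 4015))) (.node (.leaf (nat_lit 2972)) (.leaf (nat_lit 2964)))) (.node
    (.node (.leaf (nat_lit 4011)) (.leaf (nat_lit 2195))) (.node (.leaf (nat_lit 2974)) (.leaf
    (nat_lit 2710)))))))) (.node (.node (.node (.node (.node (.node (.leaf (nat_lit 267)) (.leaf
    (nat_lit 9))) (.node (.leaf (nat_lit 789)) (.leaf (nat_lit 1584)))) (.node (.node (.leaf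
    (nat_lit 549)) (.leaf (nat_lit 1324))) (.node (.leaf (nat_lit 269)) (.leaf (nat_lit 1848)))))
    (.node (.node (.node (.leaf (nat_lit 4002)) (.leaf (nat_lit 2657))) (.node (.leaf (nat_lit
    3461)) (.leaf (nat_lit 1370)))) (.node (.node (.leaf (nat_lit 1629)) (.leaf (nat_lit 1624)))
    (.node (.leaf (nat_lit 597)) (.leaf (nat_lit 4021)))))) (.node (.node (.node (.node (.leaf
    (nat_lit 1323)) (.leaf (nat_lit 559))) (.node (.leaf (nat_lit 2117)) (.leaf (nat_lit 2395))))
    (.node (.node (.leaf (nat_lit 295)) (.leaf (nat_lit 301))) (.node (.leaf (nat_lit 2663)) (.leaf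
    (nat_lit 3186))))) (.node (.node (.node (.leaf (nat_lit 1920)) (.leaf (nat_lit 2182))) (.node
    (.leaf (nat_lit 2690)) (.leaf (nat_lit 1928)))) (.node (.node (.leaf (nat_lit 3744)) (.leaf
    (nat_lit 4017))) (.node (.leaf (nat_lit 2188)) (.leaf (nat_lit 1674))))))) (.node (.node (.node
    (.node (.node (.leaf (nat_lit 2119)) (.leaf (nat_lit 1587))) (.node (.leaf (nat_lit 278))
    (.leaf (nat_lit 19)))) (.node (.node (.leaf (nat_lit 794)) (.leaf (nat_lit 2659))) (.node
    (.leaf (nat_lit 793)) (.leaf (nat_lit 2125))))) (.node (.node (.node (.leaf (nat_lit 2670))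
    (.leaf (nat_lit 3189))) (.node (.leaf (nat_lit 3195)) (.leaf (nat_lit 3733)))) (.node (.node
    (.leaf (nat_lit 3216)) (.leaf (nat_lit 1132))) (.node (.leaf (nat_lit 3743)) (.leaf (nat_lit
    619)))))) (.node (.node (.node (.node (.leaf (nat_lit 1596)) (.leaf (nat_lit 1082))) (.node
    (.leaf (nat_lit 2391)) (.leaf (nat_lit 3465)))) (.node (.node (.leaf (nat_lit 2928)) (.leaf
    (nat_lit 3191))) (.node (.leaf (nat_lit 1086)) (.leaf (nat_lit 313))))) (.node (.node (.node
    (.leaf (nat_lit 3236)) (.leaf (nat_lit 3758))) (.node (.leaf (nat_lit 3750)) (.leaf (nat_lit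
    3250)))) (.node (.node (.leaf (nat_lit 3500)) (.leaf (nat_lit 3504))) (.node (.leaf (nat_lit
    3254)) (.leaf (nat_lit 2484)))))))))

/-- Certificate data. -/
def pn_C : TC.Cert := ⟨5, 31, 8, 255, 3416467015609057607373881856, 254, pn_par, pn_fact, pn_just, pn_rel, 47⟩

/-- Certificate data. -/
def pn_rs : List (List ℕ) := [[1, 1, 1], [5, 5, 5, 5], [5, 1, 6, 4], [5, 3, 6, 1], [1, 3, 2, 4], [7, 7], [7, 5, 7, 5], [7, 1, 7, 1, 7, 1], [7, 3, 7, 3, 7, 3, 7, 3], [7, 1, 5, 7, 1, 5, 7, 1, 5, 7, 1, 5, 7, 1, 5], [8, 8], [9, 9], [10, 10], [11, 11], [8, 9, 8, 9], [8, 10, 8, 10], [8, 11, 8, 11], [9, 10, 9, 10], [9, 11, 9, 11], [10, 11, 10, 11], [1, 8, 2, 8], [1, 9, 2, 9], [1, 10, 2, 11, 10], [1, 11, 2, 10], [5, 8, 6, 10], [5, 9, 6, 11], [5, 10, 6, 8], [5, 11, 6, 9, 8], [7, 8, 7, 8], [7, 9, 7, 10, 9, 8], [7, 10, 7, 10], [7, 11, 7, 11, 8]]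

/-- Certificate data. -/
def pn_gl : List ℕ := [1, 4099, 8197, 12295, 16392, 20489, 24586, 28683]

theorem pn_h1 : allB pn_C.factChk 92 = true := by decide +kernel

theorem pn_h2 : pn_C.finChk 92 16 pn_lv pn_tb pn_gl = true := by decide +kernel

theorem pn_h3 : TC.relChk pn_C.ivc pn_rs pn_C.rel pn_rc pn_C.nrel = true := by decide +kernel

theorem pn_bound {G : Type*} [Group G] {x y w u a b c d : G}
    (r0 : x * x * x = 1)
    (r1 : w * w * w * w = 1)
    (r2 : w * x * w⁻¹ * y⁻¹ = 1)
    (r3 : w * y * w⁻¹ * x = 1)
    (r4 : x * y * x⁻¹ * y⁻¹ = 1)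
    (r5 : u * u = 1)
    (r6 : u * w * u * w = 1)
    (r7 : u * x * u * x * u * x = 1)
    (r8 : u * y * u * y * u * y * u * y = 1)
    (r9 : u * x * w * u * x * w * u * x * w * u * x * w * u * x * w = 1)
    (r10 : a * a = 1)
    (r11 : b * b = 1)
    (r12 : c * c = 1)
    (r13 : d * d = 1)
    (r14 : a * b * a * b = 1)
    (r15 : a * c * a * c = 1)
    (r16 : a * d * a * d = 1)
    (r17 : b * c * b * c = 1)
    (r18 : b * d * b * d = 1)
    (r19 : c * d * c * d = 1)
    (r20 : x * a * x⁻¹ * a = 1)
    (r21 : x * b * x⁻¹ * b = 1)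
    (r22 : x * c * x⁻¹ * d * c = 1)
    (r23 : x * d * x⁻¹ * c = 1)
    (r24 : w * a * w⁻¹ * c = 1)
    (r25 : w * b * w⁻¹ * d = 1)
    (r26 : w * c * w⁻¹ * a = 1)
    (r27 : w * d * w⁻¹ * b * a = 1)
    (r28 : u * a * u * a = 1)
    (r29 : u * b * u * c * b * a = 1)
    (r30 : u * c * u * c = 1)
    (r31 : u * d * u * d * a = 1)
    (H : Subgroup G) [Finite H] (m1 : x ∈ H) (m3 : y ∈ H) (m5 : w ∈ H) (m7 : u ∈ H) :
    Finite (Subgroup.closure ({x, y, w, u, a, b, c, d} : Set G)) ∧
      Nat.card (Subgroup.closure ({x, y, w, u, a, b, c, d} : Set G)) ≤ 16 * Nat.card H := by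
  have hL : TC.Lett (TC.lett [x, x⁻¹, y, y⁻¹, w, w⁻¹, u, a, b, c, d]) pn_C.ivc :=
    TC.lett_ok (show Nat.shiftRight pn_C.ivc (8 * 12) = 0 by decide +kernel) (by
      intro a ha
      change a < 12 at ha
      interval_cases a
      · exact inv_one.symm
      · rfl
      · exact (inv_inv _).symm
      · rfl
      · exact (inv_inv _).symm
      · rfl
      · exact (inv_inv _).symm
      · exact (inv_eq_of_mul_eq_one_right r5).symm
      · exact (inv_eq_of_mul_eq_one_right r10).symm
      · exact (inv_eq_of_mul_eq_one_right r11).symm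
      · exact (inv_eq_of_mul_eq_one_right r12).symm
      · exact (inv_eq_of_mul_eq_one_right r13).symm)
  have h := TC.card_le pn_h1 pn_h2 pn_h3 (by decide) hL (by
    simp only [pn_rs, List.forall_mem_cons]
    refine ⟨?_, ?_, ?_, ?_, ?_, ?_, ?_, ?_, ?_, ?_, ?_, ?_, ?_, ?_, ?_, ?_, ?_, ?_, ?_, ?_, ?_, ?_,
    ?_, ?_, ?_, ?_, ?_, ?_, ?_, ?_, ?_, ?_, List.forall_mem_nil _⟩
    · show x * (x * (x * 1)) = 1
      simp only [mul_assoc, mul_one] at r0 ⊢
      exact r0
    · show w * (w * (w * (w * 1))) = 1
      simp only [mul_assoc, mul_one] at r1 ⊢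
      exact r1
    · show w * (x * (w⁻¹ * (y⁻¹ * 1))) = 1
      simp only [mul_assoc, mul_one] at r2 ⊢
      exact r2
    · show w * (y * (w⁻¹ * (x * 1))) = 1
      simp only [mul_assoc, mul_one] at r3 ⊢
      exact r3
    · show x * (y * (x⁻¹ * (y⁻¹ * 1))) = 1
      simp only [mul_assoc, mul_one] at r4 ⊢
      exact r4
    · show u * (u * 1) = 1
      simp only [mul_one] at r5 ⊢
      exact r5
    · show u * (w * (u * (w * 1))) = 1
      simp only [mul_assoc, mul_one] at r6 ⊢
      exact r6
    · show u * (x * (u * (x * (u * (x * 1))))) = 1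
      simp only [mul_assoc, mul_one] at r7 ⊢
      exact r7
    · show u * (y * (u * (y * (u * (y * (u * (y * 1))))))) = 1
      simp only [mul_assoc, mul_one] at r8 ⊢
      exact r8
    · show u * (x * (w * (u * (x * (w * (u * (x * (w * (u * (x * (w * (u * (x * (w *
    1)))))))))))))) = 1
      simp only [mul_assoc, mul_one] at r9 ⊢
      exact r9
    · show a * (a * 1) = 1
      simp only [mul_one] at r10 ⊢
      exact r10
    · show b * (b * 1) = 1
      simp only [mul_one] at r11 ⊢
      exact r11
    · show c * (c * 1) = 1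
      simp only [mul_one] at r12 ⊢
      exact r12
    · show d * (d * 1) = 1
      simp only [mul_one] at r13 ⊢
      exact r13
    · show a * (b * (a * (b * 1))) = 1
      simp only [mul_assoc, mul_one] at r14 ⊢
      exact r14
    · show a * (c * (a * (c * 1))) = 1
      simp only [mul_assoc, mul_one] at r15 ⊢
      exact r15
    · show a * (d * (a * (d * 1))) = 1
      simp only [mul_assoc, mul_one] at r16 ⊢
      exact r16
    · show b * (c * (b * (c * 1))) = 1
      simp only [mul_assoc, mul_one] at r17 ⊢
      exact r17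
    · show b * (d * (b * (d * 1))) = 1
      simp only [mul_assoc, mul_one] at r18 ⊢
      exact r18
    · show c * (d * (c * (d * 1))) = 1
      simp only [mul_assoc, mul_one] at r19 ⊢
      exact r19
    · show x * (a * (x⁻¹ * (a * 1))) = 1
      simp only [mul_assoc, mul_one] at r20 ⊢
      exact r20
    · show x * (b * (x⁻¹ * (b * 1))) = 1
      simp only [mul_assoc, mul_one] at r21 ⊢
      exact r21
    · show x * (c * (x⁻¹ * (d * (c * 1)))) = 1
      simp only [mul_assoc, mul_one] at r22 ⊢
      exact r22
    · show x * (d * (x⁻¹ * (c * 1))) = 1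
      simp only [mul_assoc, mul_one] at r23 ⊢
      exact r23
    · show w * (a * (w⁻¹ * (c * 1))) = 1
      simp only [mul_assoc, mul_one] at r24 ⊢
      exact r24
    · show w * (b * (w⁻¹ * (d * 1))) = 1
      simp only [mul_assoc, mul_one] at r25 ⊢
      exact r25
    · show w * (c * (w⁻¹ * (a * 1))) = 1
      simp only [mul_assoc, mul_one] at r26 ⊢
      exact r26
    · show w * (d * (w⁻¹ * (b * (a * 1)))) = 1
      simp only [mul_assoc, mul_one] at r27 ⊢
      exact r27
    · show u * (a * (u * (a * 1))) = 1
      simp only [mul_assoc, mul_one] at r28 ⊢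
      exact r28
    · show u * (b * (u * (c * (b * (a * 1))))) = 1
      simp only [mul_assoc, mul_one] at r29 ⊢
      exact r29
    · show u * (c * (u * (c * 1))) = 1
      simp only [mul_assoc, mul_one] at r30 ⊢
      exact r30
    · show u * (d * (u * (d * (a * 1)))) = 1
      simp only [mul_assoc, mul_one] at r31 ⊢
      exact r31) H
    (TC.forall_subs (K := 12) (by decide +kernel) (by
      intro a ha hb
      interval_cases a
      · exact absurd hb (by decide +kernel)
      · exact m1
      · exact H.inv_mem m1
      · exact m3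
      · exact H.inv_mem m3
      · exact m5
      · exact H.inv_mem m5
      · exact m7
      · exact absurd hb (by decide +kernel)
      · exact absurd hb (by decide +kernel)
      · exact absurd hb (by decide +kernel)
      · exact absurd hb (by decide +kernel)))
  have e : {g₀ | ∃ ak ∈ pn_gl, TC.lett [x, x⁻¹, y, y⁻¹, w, w⁻¹, u, a, b, c, d] (ak % 256) = g₀} =
      {x, y, w, u, a, b, c, d} := by
    ext g₀
    simp only [pn_gl, List.mem_cons, List.not_mem_nil, or_false, exists_eq_or_imp,
      exists_eq_left, Set.mem_ofPred_eq, Set.mem_insert_iff, Set.mem_singleton_iff]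
    exact or_congr eq_comm (or_congr eq_comm (or_congr eq_comm (or_congr eq_comm (or_congr eq_comm (or_congr eq_comm (or_congr eq_comm (eq_comm)))))))
  rw [e] at h
  exact h

theorem pn_card {G : Type*} [Group G] {x y w u a b c d : G}
    (e0 : x ^ 3 = 1)
    (e1 : w ^ 4 = 1)
    (e2 : w * x * w⁻¹ = y)
    (e3 : w * y * w⁻¹ = x⁻¹)
    (e4 : x * y = y * x)
    (e5 : u * u = 1)
    (e6 : u * w * u = w⁻¹)
    (e7 : (u * x) ^ 3 = 1)
    (e8 : (u * y) ^ 4 = 1)
    (e9 : (u * x * w) ^ 5 = 1)
    (e10 : a * a = 1)
    (e11 : b * b = 1)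
    (e12 : c * c = 1)
    (e13 : d * d = 1)
    (e14 : a * b = b * a)
    (e15 : a * c = c * a)
    (e16 : a * d = d * a)
    (e17 : b * c = c * b)
    (e18 : b * d = d * b)
    (e19 : c * d = d * c)
    (e20 : x * a * x⁻¹ = a)
    (e21 : x * b * x⁻¹ = b)
    (e22 : x * c * x⁻¹ = c * d)
    (e23 : x * d * x⁻¹ = c)
    (e24 : w * a * w⁻¹ = c)
    (e25 : w * b * w⁻¹ = d)
    (e26 : w * c * w⁻¹ = a)
    (e27 : w * d * w⁻¹ = a * b)
    (e28 : u * a * u = a)
    (e29 : u * b * u = a * b * c)
    (e30 : u * c * u = c)
    (e31 : u * d * u = a * d)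
    (H : Subgroup G) [Finite H] (mx : x ∈ H) (my : y ∈ H) (mw : w ∈ H) (mu : u ∈ H) :
    Finite (Subgroup.closure ({x, y, w, u, a, b, c, d} : Set G)) ∧
      Nat.card (Subgroup.closure ({x, y, w, u, a, b, c, d} : Set G)) ≤ 16 * Nat.card H := by
  have iu : u⁻¹ = u := inv_eq_of_mul_eq_one_right e5
  have ia : a⁻¹ = a := inv_eq_of_mul_eq_one_right e10
  have ib : b⁻¹ = b := inv_eq_of_mul_eq_one_right e11
  have ic : c⁻¹ = c := inv_eq_of_mul_eq_one_right e12
  have id : d⁻¹ = d := inv_eq_of_mul_eq_one_right e13
  refine pn_bound ?_ ?_ ?_ ?_ ?_ ?_ ?_ ?_ ?_ ?_ ?_ ?_ ?_ ?_ ?_ ?_ ?_ ?_ ?_ ?_ ?_ ?_ ?_ ?_ ?_ ?_ ?_ ?_ ?_ ?_ ?_ ?_ H mx my mw mu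
  · have h := mul_inv_eq_one.mpr e0
    simp only [pow_succ, pow_zero, mul_inv_rev, inv_inv, inv_one, one_mul, mul_one, mul_assoc,
      mul_inv_cancel_left, inv_mul_cancel_left, mul_inv_cancel, inv_mul_cancel, iu, ia, ib, ic, id] at h ⊢
    exact h
  · have h := mul_inv_eq_one.mpr e1
    simp only [pow_succ, pow_zero, mul_inv_rev, inv_inv, inv_one, one_mul, mul_one, mul_assoc,
      mul_inv_cancel_left, inv_mul_cancel_left, mul_inv_cancel, inv_mul_cancel, iu, ia, ib, ic, id] at h ⊢
    exact h
  · have h := mul_inv_eq_one.mpr e2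
    simp only [pow_succ, pow_zero, mul_inv_rev, inv_inv, inv_one, one_mul, mul_one, mul_assoc,
      mul_inv_cancel_left, inv_mul_cancel_left, mul_inv_cancel, inv_mul_cancel, iu, ia, ib, ic, id] at h ⊢
    exact h
  · have h := mul_inv_eq_one.mpr e3
    simp only [pow_succ, pow_zero, mul_inv_rev, inv_inv, inv_one, one_mul, mul_one, mul_assoc,
      mul_inv_cancel_left, inv_mul_cancel_left, mul_inv_cancel, inv_mul_cancel, iu, ia, ib, ic, id] at h ⊢
    exact h
  · have h := mul_inv_eq_one.mpr e4
    simp only [pow_succ, pow_zero, mul_inv_rev, inv_inv, inv_one, one_mul, mul_one, mul_assoc,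
      mul_inv_cancel_left, inv_mul_cancel_left, mul_inv_cancel, inv_mul_cancel, iu, ia, ib, ic, id] at h ⊢
    exact h
  · have h := mul_inv_eq_one.mpr e5
    simp only [pow_succ, pow_zero, mul_inv_rev, inv_inv, inv_one, one_mul, mul_one, mul_assoc,
      mul_inv_cancel_left, inv_mul_cancel_left, mul_inv_cancel, inv_mul_cancel, iu, ia, ib, ic, id] at h ⊢
    exact h
  · have h := mul_inv_eq_one.mpr e6
    simp only [pow_succ, pow_zero, mul_inv_rev, inv_inv, inv_one, one_mul, mul_one, mul_assoc,
      mul_inv_cancel_left, inv_mul_cancel_left, mul_inv_cancel, inv_mul_cancel, iu, ia, ib, ic, id] at h ⊢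
    exact h
  · have h := mul_inv_eq_one.mpr e7
    simp only [pow_succ, pow_zero, mul_inv_rev, inv_inv, inv_one, one_mul, mul_one, mul_assoc,
      mul_inv_cancel_left, inv_mul_cancel_left, mul_inv_cancel, inv_mul_cancel, iu, ia, ib, ic, id] at h ⊢
    exact h
  · have h := mul_inv_eq_one.mpr e8
    simp only [pow_succ, pow_zero, mul_inv_rev, inv_inv, inv_one, one_mul, mul_one, mul_assoc,
      mul_inv_cancel_left, inv_mul_cancel_left, mul_inv_cancel, inv_mul_cancel, iu, ia, ib, ic, id] at h ⊢
    exact h
  · have h := mul_inv_eq_one.mpr e9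
    simp only [pow_succ, pow_zero, mul_inv_rev, inv_inv, inv_one, one_mul, mul_one, mul_assoc,
      mul_inv_cancel_left, inv_mul_cancel_left, mul_inv_cancel, inv_mul_cancel, iu, ia, ib, ic, id] at h ⊢
    exact h
  · have h := mul_inv_eq_one.mpr e10
    simp only [pow_succ, pow_zero, mul_inv_rev, inv_inv, inv_one, one_mul, mul_one, mul_assoc,
      mul_inv_cancel_left, inv_mul_cancel_left, mul_inv_cancel, inv_mul_cancel, iu, ia, ib, ic, id] at h ⊢
    exact h
  · have h := mul_inv_eq_one.mpr e11
    simp only [pow_succ, pow_zero, mul_inv_rev, inv_inv, inv_one, one_mul, mul_one, mul_assoc,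
      mul_inv_cancel_left, inv_mul_cancel_left, mul_inv_cancel, inv_mul_cancel, iu, ia, ib, ic, id] at h ⊢
    exact h
  · have h := mul_inv_eq_one.mpr e12
    simp only [pow_succ, pow_zero, mul_inv_rev, inv_inv, inv_one, one_mul, mul_one, mul_assoc,
      mul_inv_cancel_left, inv_mul_cancel_left, mul_inv_cancel, inv_mul_cancel, iu, ia, ib, ic, id] at h ⊢
    exact h
  · have h := mul_inv_eq_one.mpr e13
    simp only [pow_succ, pow_zero, mul_inv_rev, inv_inv, inv_one, one_mul, mul_one, mul_assoc,
      mul_inv_cancel_left, inv_mul_cancel_left, mul_inv_cancel, inv_mul_cancel, iu, ia, ib, ic, id] at h ⊢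
    exact h
  · have h := mul_inv_eq_one.mpr e14
    simp only [pow_succ, pow_zero, mul_inv_rev, inv_inv, inv_one, one_mul, mul_one, mul_assoc,
      mul_inv_cancel_left, inv_mul_cancel_left, mul_inv_cancel, inv_mul_cancel, iu, ia, ib, ic, id] at h ⊢
    exact h
  · have h := mul_inv_eq_one.mpr e15
    simp only [pow_succ, pow_zero, mul_inv_rev, inv_inv, inv_one, one_mul, mul_one, mul_assoc,
      mul_inv_cancel_left, inv_mul_cancel_left, mul_inv_cancel, inv_mul_cancel, iu, ia, ib, ic, id] at h ⊢
    exact h
  · have h := mul_inv_eq_one.mpr e16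
    simp only [pow_succ, pow_zero, mul_inv_rev, inv_inv, inv_one, one_mul, mul_one, mul_assoc,
      mul_inv_cancel_left, inv_mul_cancel_left, mul_inv_cancel, inv_mul_cancel, iu, ia, ib, ic, id] at h ⊢
    exact h
  · have h := mul_inv_eq_one.mpr e17
    simp only [pow_succ, pow_zero, mul_inv_rev, inv_inv, inv_one, one_mul, mul_one, mul_assoc,
      mul_inv_cancel_left, inv_mul_cancel_left, mul_inv_cancel, inv_mul_cancel, iu, ia, ib, ic, id] at h ⊢
    exact h
  · have h := mul_inv_eq_one.mpr e18
    simp only [pow_succ, pow_zero, mul_inv_rev, inv_inv, inv_one, one_mul, mul_one, mul_assoc,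
      mul_inv_cancel_left, inv_mul_cancel_left, mul_inv_cancel, inv_mul_cancel, iu, ia, ib, ic, id] at h ⊢
    exact h
  · have h := mul_inv_eq_one.mpr e19
    simp only [pow_succ, pow_zero, mul_inv_rev, inv_inv, inv_one, one_mul, mul_one, mul_assoc,
      mul_inv_cancel_left, inv_mul_cancel_left, mul_inv_cancel, inv_mul_cancel, iu, ia, ib, ic, id] at h ⊢
    exact h
  · have h := mul_inv_eq_one.mpr e20
    simp only [pow_succ, pow_zero, mul_inv_rev, inv_inv, inv_one, one_mul, mul_one, mul_assoc,
      mul_inv_cancel_left, inv_mul_cancel_left, mul_inv_cancel, inv_mul_cancel, iu, ia, ib, ic, id] at h ⊢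
    exact h
  · have h := mul_inv_eq_one.mpr e21
    simp only [pow_succ, pow_zero, mul_inv_rev, inv_inv, inv_one, one_mul, mul_one, mul_assoc,
      mul_inv_cancel_left, inv_mul_cancel_left, mul_inv_cancel, inv_mul_cancel, iu, ia, ib, ic, id] at h ⊢
    exact h
  · have h := mul_inv_eq_one.mpr e22
    simp only [pow_succ, pow_zero, mul_inv_rev, inv_inv, inv_one, one_mul, mul_one, mul_assoc,
      mul_inv_cancel_left, inv_mul_cancel_left, mul_inv_cancel, inv_mul_cancel, iu, ia, ib, ic, id] at h ⊢
    exact h
  · have h := mul_inv_eq_one.mpr e23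
    simp only [pow_succ, pow_zero, mul_inv_rev, inv_inv, inv_one, one_mul, mul_one, mul_assoc,
      mul_inv_cancel_left, inv_mul_cancel_left, mul_inv_cancel, inv_mul_cancel, iu, ia, ib, ic, id] at h ⊢
    exact h
  · have h := mul_inv_eq_one.mpr e24
    simp only [pow_succ, pow_zero, mul_inv_rev, inv_inv, inv_one, one_mul, mul_one, mul_assoc,
      mul_inv_cancel_left, inv_mul_cancel_left, mul_inv_cancel, inv_mul_cancel, iu, ia, ib, ic, id] at h ⊢
    exact h
  · have h := mul_inv_eq_one.mpr e25
    simp only [pow_succ, pow_zero, mul_inv_rev, inv_inv, inv_one, one_mul, mul_one, mul_assoc,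
      mul_inv_cancel_left, inv_mul_cancel_left, mul_inv_cancel, inv_mul_cancel, iu, ia, ib, ic, id] at h ⊢
    exact h
  · have h := mul_inv_eq_one.mpr e26
    simp only [pow_succ, pow_zero, mul_inv_rev, inv_inv, inv_one, one_mul, mul_one, mul_assoc,
      mul_inv_cancel_left, inv_mul_cancel_left, mul_inv_cancel, inv_mul_cancel, iu, ia, ib, ic, id] at h ⊢
    exact h
  · have h := mul_inv_eq_one.mpr e27
    simp only [pow_succ, pow_zero, mul_inv_rev, inv_inv, inv_one, one_mul, mul_one, mul_assoc,
      mul_inv_cancel_left, inv_mul_cancel_left, mul_inv_cancel, inv_mul_cancel, iu, ia, ib, ic, id] at h ⊢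
    exact h
  · have h := mul_inv_eq_one.mpr e28
    simp only [pow_succ, pow_zero, mul_inv_rev, inv_inv, inv_one, one_mul, mul_one, mul_assoc,
      mul_inv_cancel_left, inv_mul_cancel_left, mul_inv_cancel, inv_mul_cancel, iu, ia, ib, ic, id] at h ⊢
    exact h
  · have h := mul_inv_eq_one.mpr e29
    simp only [pow_succ, pow_zero, mul_inv_rev, inv_inv, inv_one, one_mul, mul_one, mul_assoc,
      mul_inv_cancel_left, inv_mul_cancel_left, mul_inv_cancel, inv_mul_cancel, iu, ia, ib, ic, id] at h ⊢
    exact h
  · have h := mul_inv_eq_one.mpr e30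
    simp only [pow_succ, pow_zero, mul_inv_rev, inv_inv, inv_one, one_mul, mul_one, mul_assoc,
      mul_inv_cancel_left, inv_mul_cancel_left, mul_inv_cancel, inv_mul_cancel, iu, ia, ib, ic, id] at h ⊢
    exact h
  · have h := mul_inv_eq_one.mpr e31
    simp only [pow_succ, pow_zero, mul_inv_rev, inv_inv, inv_one, one_mul, mul_one, mul_assoc,
      mul_inv_cancel_left, inv_mul_cancel_left, mul_inv_cancel, inv_mul_cancel, iu, ia, ib, ic, id] at h ⊢
    exact h

/-- Certificate data. -/
def pg_par : Trie :=
    (.node (.node (.node (.node (.node (.node (.node (.node (.node (.leaf (nat_lit 0)) (.leaf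
    (nat_lit 37645))) (.leaf (nat_lit 10763))) (.node (.leaf (nat_lit 5639)) (.leaf (nat_lit
    23048)))) (.node (.node (.node (.leaf (nat_lit 3081)) (.leaf (nat_lit 68620))) (.leaf (nat_lit
    13324))) (.node (.leaf (nat_lit 8456)) (.leaf (nat_lit 31496))))) (.node (.node (.node (.node
    (.leaf (nat_lit 781)) (.leaf (nat_lit 47626))) (.leaf (nat_lit 12045))) (.node (.leaf (nat_lit
    6922)) (.leaf (nat_lit 26380)))) (.node (.node (.leaf (nat_lit 4619)) (.leaf (nat_lit 16651)))
    (.node (.leaf (nat_lit 9484)) (.leaf (nat_lit 34573)))))) (.node (.node (.node (.node (.node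
    (.leaf (nat_lit 524)) (.leaf (nat_lit 42505))) (.leaf (nat_lit 11276))) (.node (.leaf (nat_lit
    6146)) (.leaf (nat_lit 24844)))) (.node (.node (.node (.leaf (nat_lit 3597)) (.leaf (nat_lit
    70152))) (.leaf (nat_lit 14347))) (.node (.leaf (nat_lit 8716)) (.leaf (nat_lit 33549)))))
    (.node (.node (.node (.node (.leaf (nat_lit 1805)) (.leaf (nat_lit 55816))) (.leaf (nat_lit
    12807))) (.node (.leaf (nat_lit 7946)) (.leaf (nat_lit 29707)))) (.node (.node (.leaf (nat_lit
    5129)) (.leaf (nat_lit 19981))) (.node (.leaf (nat_lit 10245)) (.leaf (nat_lit 36365)))))))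
    (.node (.node (.node (.node (.node (.node (.leaf (nat_lit 268)) (.leaf (nat_lit 39181))) (.leaf
    (nat_lit 11020))) (.node (.leaf (nat_lit 5645)) (.leaf (nat_lit 24588)))) (.node (.node (.node
    (.leaf (nat_lit 3341)) (.leaf (nat_lit 69128))) (.leaf (nat_lit 13833))) (.node (.leaf (nat_lit
    8710)) (.leaf (nat_lit 32265))))) (.node (.node (.node (.node (.leaf (nat_lit 1549)) (.leaf
    (nat_lit 50184))) (.leaf (nat_lit 12300))) (.node (.leaf (nat_lit 7178)) (.leaf (nat_lit
    29448)))) (.node (.node (.leaf (nat_lit 4875)) (.leaf (nat_lit 16907))) (.node (.leaf (nat_lit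
    9736)) (.leaf (nat_lit 36109)))))) (.node (.node (.node (.node (.node (.leaf (nat_lit 775))
    (.leaf (nat_lit 45320))) (.leaf (nat_lit 11785))) (.node (.leaf (nat_lit 6153)) (.leaf (nat_lit
    26124)))) (.node (.node (.node (.leaf (nat_lit 4363)) (.leaf (nat_lit 76552))) (.leaf (nat_lit
    14860))) (.node (.leaf (nat_lit 9221)) (.leaf (nat_lit 34317))))) (.node (.node (.node (.node
    (.leaf (nat_lit 2313)) (.leaf (nat_lit 68364))) (.leaf (nat_lit 13069))) (.node (.leaf (nat_lit
    8202)) (.leaf (nat_lit 29962)))) (.node (.node (.leaf (nat_lit 5388)) (.leaf (nat_lit 21000)))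
    (.node (.leaf (nat_lit 10507)) (.leaf (nat_lit 37389)))))))) (.node (.node (.node (.node (.node
    (.node (.node (.leaf (nat_lit 266)) (.leaf (nat_lit 39179))) (.leaf (nat_lit 10765))) (.node
    (.leaf (nat_lit 5641)) (.leaf (nat_lit 24586)))) (.node (.node (.node (.leaf (nat_lit 3339))
    (.leaf (nat_lit 68875))) (.leaf (nat_lit 13831))) (.node (.leaf (nat_lit 8460)) (.leaf (nat_lit
    32263))))) (.node (.node (.node (.node (.leaf (nat_lit 1288)) (.leaf (nat_lit 48138))) (.leaf
    (nat_lit 12296))) (.node (.leaf (nat_lit 6924)) (.leaf (nat_lit 29442)))) (.node (.node (.leaf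
    (nat_lit 4621)) (.leaf (nat_lit 16653))) (.node (.leaf (nat_lit 9734)) (.leaf (nat_lit
    36107)))))) (.node (.node (.node (.node (.node (.leaf (nat_lit 771)) (.leaf (nat_lit 42761)))
    (.leaf (nat_lit 11528))) (.node (.leaf (nat_lit 6151)) (.leaf (nat_lit 26122)))) (.node (.node
    (.node (.leaf (nat_lit 4105)) (.leaf (nat_lit 70666))) (.leaf (nat_lit 14858))) (.node (.leaf
    (nat_lit 8968)) (.leaf (nat_lit 34315))))) (.node (.node (.node (.node (.leaf (nat_lit 2056))
    (.leaf (nat_lit 68362))) (.leaf (nat_lit 12809))) (.node (.leaf (nat_lit 7948)) (.leaf (nat_lit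
    29709)))) (.node (.node (.leaf (nat_lit 5384)) (.leaf (nat_lit 20488))) (.node (.leaf (nat_lit
    10248)) (.leaf (nat_lit 37387))))))) (.node (.node (.node (.node (.node (.node (.leaf (nat_lit
    516)) (.leaf (nat_lit 40196))) (.leaf (nat_lit 11272))) (.node (.leaf (nat_lit 5896)) (.leaf
    (nat_lit 24842)))) (.node (.node (.node (.leaf (nat_lit 3595)) (.leaf (nat_lit 69640))) (.leaf
    (nat_lit 14091))) (.node (.leaf (nat_lit 8712)) (.leaf (nat_lit 33547))))) (.node (.node (.node
    (.node (.leaf (nat_lit 1803)) (.leaf (nat_lit 52232))) (.leaf (nat_lit 12552))) (.node (.leaf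
    (nat_lit 7180)) (.leaf (nat_lit 29703)))) (.node (.node (.leaf (nat_lit 4877)) (.leaf (nat_lit
    16909))) (.node (.leaf (nat_lit 9740)) (.leaf (nat_lit 36363)))))) (.node (.node (.node (.node
    (.node (.leaf (nat_lit 777)) (.leaf (nat_lit 46858))) (.leaf (nat_lit 12041))) (.node (.leaf
    (nat_lit 6667)) (.leaf (nat_lit 26378)))) (.node (.node (.leaf (nat_lit 4365)) (.leaf (nat_lit
    15879))) (.node (.leaf (nat_lit 9224)) (.leaf (nat_lit 34571))))) (.node (.node (.node (.node
    (.leaf (nat_lit 3073)) (.leaf (nat_lit 68618))) (.leaf (nat_lit 13320))) (.node (.leaf (nat_lit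
    8204)) (.leaf (nat_lit 29964)))) (.node (.node (.leaf (nat_lit 5635)) (.leaf (nat_lit 22536)))
    (.node (.leaf (nat_lit 10509)) (.leaf (nat_lit 37643))))))))) (.node (.node (.node (.node
    (.node (.node (.node (.node (.leaf (nat_lit 8)) (.leaf (nat_lit 39178))) (.leaf (nat_lit
    10764))) (.node (.leaf (nat_lit 5640)) (.leaf (nat_lit 23049)))) (.node (.node (.node (.leaf
    (nat_lit 3338)) (.leaf (nat_lit 68621))) (.leaf (nat_lit 13325))) (.node (.leaf (nat_lit 8457))
    (.leaf (nat_lit 31497))))) (.node (.node (.node (.node (.leaf (nat_lit 1032)) (.leaf (nat_lit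
    47882))) (.leaf (nat_lit 12295))) (.node (.leaf (nat_lit 6923)) (.leaf (nat_lit 26381))))
    (.node (.node (.leaf (nat_lit 4620)) (.leaf (nat_lit 16652))) (.node (.leaf (nat_lit 9485))
    (.leaf (nat_lit 36106)))))) (.node (.node (.node (.node (.node (.leaf (nat_lit 525)) (.leaf
    (nat_lit 42760))) (.leaf (nat_lit 11277))) (.node (.leaf (nat_lit 6149)) (.leaf (nat_lit
    24845)))) (.node (.node (.node (.leaf (nat_lit 4104)) (.leaf (nat_lit 70153))) (.leaf (nat_lit
    14348))) (.node (.leaf (nat_lit 8717)) (.leaf (nat_lit 34314))))) (.node (.node (.node (.node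
    (.leaf (nat_lit 2049)) (.leaf (nat_lit 55817))) (.leaf (nat_lit 12808))) (.node (.leaf (nat_lit
    7947)) (.leaf (nat_lit 29708)))) (.node (.node (.leaf (nat_lit 5380)) (.leaf (nat_lit 20232)))
    (.node (.leaf (nat_lit 10247)) (.leaf (nat_lit 37386))))))) (.node (.node (.node (.node (.node
    (.node (.leaf (nat_lit 269)) (.leaf (nat_lit 39434))) (.leaf (nat_lit 11271))) (.node (.leaf
    (nat_lit 5889)) (.leaf (nat_lit 24589)))) (.node (.node (.node (.leaf (nat_lit 3594)) (.leaf
    (nat_lit 69384))) (.leaf (nat_lit 14090))) (.node (.leaf (nat_lit 8711)) (.leaf (nat_lit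
    33546))))) (.node (.node (.node (.node (.leaf (nat_lit 1802)) (.leaf (nat_lit 50185))) (.leaf
    (nat_lit 12301))) (.node (.leaf (nat_lit 7179)) (.leaf (nat_lit 29449)))) (.node (.node (.leaf
    (nat_lit 4876)) (.leaf (nat_lit 16908))) (.node (.leaf (nat_lit 9737)) (.leaf (nat_lit
    36362)))))) (.node (.node (.node (.node (.node (.leaf (nat_lit 776)) (.leaf (nat_lit 45321)))
    (.leaf (nat_lit 12040))) (.node (.leaf (nat_lit 6666)) (.leaf (nat_lit 26125)))) (.node (.node
    (.node (.leaf (nat_lit 4364)) (.leaf (nat_lit 76810))) (.leaf (nat_lit 14861))) (.node (.leaf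
    (nat_lit 9223)) (.leaf (nat_lit 34570))))) (.node (.node (.node (.node (.leaf (nat_lit 2827))
    (.leaf (nat_lit 68365))) (.leaf (nat_lit 13319))) (.node (.leaf (nat_lit 8203)) (.leaf (nat_lit
    29963)))) (.node (.node (.leaf (nat_lit 5389)) (.leaf (nat_lit 21001))) (.node (.leaf (nat_lit
    10508)) (.leaf (nat_lit 37642)))))))) (.node (.node (.node (.node (.node (.node (.node (.leaf
    (nat_lit 267)) (.leaf (nat_lit 39180))) (.leaf (nat_lit 11016))) (.node (.leaf (nat_lit 5644))
    (.leaf (nat_lit 24587)))) (.node (.node (.node (.leaf (nat_lit 3340)) (.leaf (nat_lit 68877)))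
    (.leaf (nat_lit 13832))) (.node (.leaf (nat_lit 8461)) (.leaf (nat_lit 32264))))) (.node (.node
    (.node (.node (.leaf (nat_lit 1289)) (.leaf (nat_lit 48394))) (.leaf (nat_lit 12297))) (.node
    (.leaf (nat_lit 6925)) (.leaf (nat_lit 29444)))) (.node (.node (.leaf (nat_lit 4874)) (.leaf
    (nat_lit 16906))) (.node (.leaf (nat_lit 9735)) (.leaf (nat_lit 36108)))))) (.node (.node
    (.node (.node (.node (.leaf (nat_lit 774)) (.leaf (nat_lit 44296))) (.leaf (nat_lit 11784)))
    (.node (.leaf (nat_lit 6152)) (.leaf (nat_lit 26123)))) (.node (.node (.node (.leaf (nat_lit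
    4362)) (.leaf (nat_lit 72204))) (.leaf (nat_lit 14859))) (.node (.leaf (nat_lit 8969)) (.leaf
    (nat_lit 34316))))) (.node (.node (.node (.node (.leaf (nat_lit 2312)) (.leaf (nat_lit 68363)))
    (.leaf (nat_lit 13068))) (.node (.leaf (nat_lit 7949)) (.leaf (nat_lit 29959)))) (.node (.node
    (.leaf (nat_lit 5387)) (.leaf (nat_lit 20489))) (.node (.leaf (nat_lit 10506)) (.leaf (nat_lit
    37388))))))) (.node (.node (.node (.node (.node (.node (.leaf (nat_lit 520)) (.leaf (nat_lit
    42504))) (.leaf (nat_lit 11273))) (.node (.leaf (nat_lit 5901)) (.leaf (nat_lit 24843))))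
    (.node (.node (.node (.leaf (nat_lit 3596)) (.leaf (nat_lit 69641))) (.leaf (nat_lit 14092)))
    (.node (.leaf (nat_lit 8713)) (.leaf (nat_lit 33548))))) (.node (.node (.node (.node (.leaf
    (nat_lit 1804)) (.leaf (nat_lit 52233))) (.leaf (nat_lit 12553))) (.node (.leaf (nat_lit 7181))
    (.leaf (nat_lit 29706)))) (.node (.node (.leaf (nat_lit 5128)) (.leaf (nat_lit 19976))) (.node
    (.leaf (nat_lit 9741)) (.leaf (nat_lit 36364)))))) (.node (.node (.node (.node (.node (.leaf
    (nat_lit 780)) (.leaf (nat_lit 47370))) (.leaf (nat_lit 12044))) (.node (.leaf (nat_lit 6669))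
    (.leaf (nat_lit 26379)))) (.node (.node (.leaf (nat_lit 4618)) (.leaf (nat_lit 16650))) (.node
    (.leaf (nat_lit 9225)) (.leaf (nat_lit 34572))))) (.node (.node (.node (.node (.leaf (nat_lit
    3080)) (.leaf (nat_lit 68619))) (.leaf (nat_lit 13321))) (.node (.leaf (nat_lit 8205)) (.leaf
    (nat_lit 29965)))) (.node (.node (.leaf (nat_lit 5638)) (.leaf (nat_lit 22537))) (.node (.leaf
    (nat_lit 10762)) (.leaf (nat_lit 37644))))))))))

/-- Certificate data. -/
def pg_fact : Trie :=
    (.node (.node (.node (.node (.node (.node (.node (.node (.node (.node (.node (.leaf (nat_lit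
    1)) (.leaf (nat_lit 25344260))) (.node (.leaf (nat_lit 17312524)) (.leaf (nat_lit 22219016))))
    (.node (.node (.leaf (nat_lit 5519365)) (.leaf (nat_lit 20108556))) (.node (.leaf (nat_lit
    2530304)) (.leaf (nat_lit 39398410))))) (.node (.node (.node (.leaf (nat_lit 3803915)) (.leaf
    (nat_lit 23260422))) (.node (.leaf (nat_lit 21378568)) (.leaf (nat_lit 37948429)))) (.node
    (.node (.leaf (nat_lit 11555076)) (.leaf (nat_lit 28110848))) (.leaf (nat_lit 17729031)))))
    (.node (.node (.node (.node (.leaf (nat_lit 790025)) (.leaf (nat_lit 19979016))) (.node (.leaf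
    (nat_lit 14586630)) (.leaf (nat_lit 25236235)))) (.node (.node (.leaf (nat_lit 9443330)) (.leaf
    (nat_lit 23245066))) (.leaf (nat_lit 7617031)))) (.node (.node (.node (.leaf (nat_lit 2763527))
    (.leaf (nat_lit 33198858))) (.node (.leaf (nat_lit 2917632)) (.leaf (nat_lit 37295373))))
    (.node (.node (.leaf (nat_lit 5271818)) (.leaf (nat_lit 24043531))) (.leaf (nat_lit
    23609867)))))) (.node (.node (.node (.node (.node (.leaf (nat_lit 786955)) (.leaf (nat_lit
    27710218))) (.node (.leaf (nat_lit 18361865)) (.leaf (nat_lit 34803467)))) (.node (.node (.leaf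
    (nat_lit 4995844)) (.leaf (nat_lit 15234059))) (.leaf (nat_lit 20218626)))) (.node (.node
    (.node (.leaf (nat_lit 4201475)) (.leaf (nat_lit 27325702))) (.node (.leaf (nat_lit 6185984))
    (.leaf (nat_lit 38742278)))) (.node (.node (.leaf (nat_lit 12740354)) (.leaf (nat_lit
    25480709))) (.leaf (nat_lit 22194442))))) (.node (.node (.node (.node (.leaf (nat_lit 2494979))
    (.leaf (nat_lit 24175107))) (.node (.leaf (nat_lit 20329228)) (.leaf (nat_lit 36755976))))
    (.node (.node (.leaf (nat_lit 10754828)) (.leaf (nat_lit 25740301))) (.leaf (nat_lit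
    10374924)))) (.node (.node (.node (.leaf (nat_lit 6173442)) (.leaf (nat_lit 28509446))) (.node
    (.leaf (nat_lit 10513664)) (.leaf (nat_lit 38738187)))) (.node (.node (.leaf (nat_lit
    11434250)) (.leaf (nat_lit 34385411))) (.leaf (nat_lit 18529287))))))) (.node (.node (.node
    (.node (.node (.node (.leaf (nat_lit 262663)) (.leaf (nat_lit 27027210))) (.node (.leaf
    (nat_lit 17729027)) (.leaf (nat_lit 34923523)))) (.node (.node (.leaf (nat_lit 7486209)) (.leaf
    (nat_lit 15390218))) (.leaf (nat_lit 6698251)))) (.node (.node (.node (.leaf (nat_lit 2629132))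
    (.leaf (nat_lit 23252996))) (.node (.leaf (nat_lit 4086029)) (.leaf (nat_lit 38610435))))
    (.node (.node (.leaf (nat_lit 12984589)) (.leaf (nat_lit 17618701))) (.leaf (nat_lit
    16688902))))) (.node (.node (.node (.node (.leaf (nat_lit 921861)) (.leaf (nat_lit 29391624)))
    (.node (.leaf (nat_lit 15112197)) (.leaf (nat_lit 36246786)))) (.node (.node (.leaf (nat_lit
    9836552)) (.leaf (nat_lit 26265856))) (.leaf (nat_lit 4217867)))) (.node (.node (.node (.leaf
    (nat_lit 5252099)) (.leaf (nat_lit 30212610))) (.node (.leaf (nat_lit 6854920)) (.leaf (nat_lit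
    36509709)))) (.node (.node (.leaf (nat_lit 15345161)) (.leaf (nat_lit 25355274))) (.leaf
    (nat_lit 24268552)))))) (.node (.node (.node (.node (.node (.leaf (nat_lit 1444611)) (.leaf
    (nat_lit 27842054))) (.node (.leaf (nat_lit 14716678)) (.leaf (nat_lit 35459329)))) (.node
    (.node (.leaf (nat_lit 8787468)) (.leaf (nat_lit 13421067))) (.leaf (nat_lit 5137928)))) (.node
    (.node (.node (.leaf (nat_lit 5246477)) (.leaf (nat_lit 27313156))) (.node (.leaf (nat_lit
    6855424)) (.leaf (nat_lit 38611456)))) (.node (.node (.leaf (nat_lit 6843402)) (.leaf (nat_lit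
    18662410))) (.leaf (nat_lit 10792458))))) (.node (.node (.node (.node (.leaf (nat_lit 1448202))
    (.leaf (nat_lit 22341381))) (.node (.leaf (nat_lit 15899910)) (.leaf (nat_lit 35199235))))
    (.node (.node (.leaf (nat_lit 11426306)) (.leaf (nat_lit 23643652))) (.leaf (nat_lit
    11836682)))) (.node (.node (.node (.leaf (nat_lit 6959363)) (.leaf (nat_lit 20093194))) (.node
    (.leaf (nat_lit 8132610)) (.leaf (nat_lit 38742797)))) (.node (.node (.leaf (nat_lit 10518274))
    (.leaf (nat_lit 34529284))) (.leaf (nat_lit 12107529)))))))) (.node (.node (.node (.node (.node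
    (.node (.node (.leaf (nat_lit 131080)) (.leaf (nat_lit 26370317))) (.node (.leaf (nat_lit
    9995781)) (.leaf (nat_lit 29428229)))) (.node (.node (.leaf (nat_lit 7476484)) (.leaf (nat_lit
    32963584))) (.leaf (nat_lit 8292105)))) (.node (.node (.node (.leaf (nat_lit 3935233)) (.leaf
    (nat_lit 23130118))) (.node (.leaf (nat_lit 10134786)) (.leaf (nat_lit 35595528)))) (.node
    (.node (.leaf (nat_lit 10641158)) (.leaf (nat_lit 22472704))) (.leaf (nat_lit 21781507)))))
    (.node (.node (.node (.node (.leaf (nat_lit 1183493)) (.leaf (nat_lit 25615618))) (.node (.leaf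
    (nat_lit 19542029)) (.leaf (nat_lit 36114179)))) (.node (.node (.leaf (nat_lit 9324805)) (.leaf
    (nat_lit 30205450))) (.leaf (nat_lit 5640460)))) (.node (.node (.node (.leaf (nat_lit 2895366))
    (.leaf (nat_lit 25493253))) (.node (.leaf (nat_lit 12345088)) (.leaf (nat_lit 36773888))))
    (.node (.node (.leaf (nat_lit 13136388)) (.leaf (nat_lit 24830731))) (.leaf (nat_lit
    24006152)))))) (.node (.node (.node (.node (.node (.leaf (nat_lit 1180173)) (.leaf (nat_lit
    22860808))) (.node (.leaf (nat_lit 6720776)) (.leaf (nat_lit 24973324)))) (.node (.node (.leaf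
    (nat_lit 8011782)) (.leaf (nat_lit 8564480))) (.leaf (nat_lit 5641478)))) (.node (.node (.node
    (.leaf (nat_lit 4853258)) (.leaf (nat_lit 26539781))) (.node (.leaf (nat_lit 8404746)) (.leaf
    (nat_lit 38742540)))) (.node (.node (.leaf (nat_lit 5138952)) (.leaf (nat_lit 18532362)))
    (.leaf (nat_lit 22174212))))) (.node (.node (.node (.node (.leaf (nat_lit 2754314)) (.leaf
    (nat_lit 25224193))) (.node (.leaf (nat_lit 7117834)) (.leaf (nat_lit 36768775)))) (.node
    (.node (.leaf (nat_lit 11410445)) (.leaf (nat_lit 26265611))) (.leaf (nat_lit 16678668))))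
    (.node (.node (.node (.leaf (nat_lit 6304770)) (.leaf (nat_lit 29152779))) (.node (.leaf
    (nat_lit 13527808)) (.leaf (nat_lit 37298443)))) (.node (.node (.leaf (nat_lit 16263435))
    (.leaf (nat_lit 34520842))) (.leaf (nat_lit 24821253))))))) (.node (.node (.node (.node (.node
    (.node (.leaf (nat_lit 655629)) (.leaf (nat_lit 16568842))) (.node (.leaf (nat_lit 7637509))
    (.leaf (nat_lit 23792648)))) (.node (.node (.leaf (nat_lit 8132099)) (.leaf (nat_lit
    19977992))) (.leaf (nat_lit 20222724)))) (.node (.node (.node (.leaf (nat_lit 4070401)) (.leaf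
    (nat_lit 23644675))) (.node (.leaf (nat_lit 7118848)) (.leaf (nat_lit 38742021)))) (.node
    (.node (.leaf (nat_lit 13246983)) (.leaf (nat_lit 18531852))) (.leaf (nat_lit 22063117)))))
    (.node (.node (.node (.node (.leaf (nat_lit 2363649)) (.leaf (nat_lit 29654535))) (.node (.leaf
    (nat_lit 20092419)) (.leaf (nat_lit 36621321)))) (.node (.node (.leaf (nat_lit 3427596)) (.leaf
    (nat_lit 25742337))) (.leaf (nat_lit 5384459)))) (.node (.node (.node (.leaf (nat_lit 4337925))
    (.leaf (nat_lit 34117901))) (.node (.leaf (nat_lit 5009408)) (.leaf (nat_lit 39002630))))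
    (.node (.node (.leaf (nat_lit 8943106)) (.leaf (nat_lit 27723266))) (.leaf (nat_lit
    24426241)))))) (.node (.node (.node (.node (.node (.leaf (nat_lit 1051659)) (.leaf (nat_lit
    26138625))) (.node (.leaf (nat_lit 19148808)) (.leaf (nat_lit 35721733)))) (.node (.node (.leaf
    (nat_lit 9180936)) (.leaf (nat_lit 32306701))) (.leaf (nat_lit 19161350)))) (.node (.node
    (.node (.leaf (nat_lit 3942921)) (.leaf (nat_lit 31521538))) (.node (.leaf (nat_lit 15235584))
    (.leaf (nat_lit 37034500)))) (.node (.node (.leaf (nat_lit 9072393)) (.leaf (nat_lit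
    28620037))) (.leaf (nat_lit 23085323))))) (.node (.node (.node (.node (.leaf (nat_lit 1055240))
    (.leaf (nat_lit 30729475))) (.node (.leaf (nat_lit 21008131)) (.leaf (nat_lit 37297159))))
    (.node (.node (.leaf (nat_lit 10509313)) (.leaf (nat_lit 22457095))) (.leaf (nat_lit
    11819531)))) (.node (.node (.node (.leaf (nat_lit 5519110)) (.leaf (nat_lit 15365388))) (.node
    (.leaf (nat_lit 4859659)) (.leaf (nat_lit 39398407)))) (.node (.node (.leaf (nat_lit 10912002))
    (.leaf (nat_lit 34651658))) (.leaf (nat_lit 12632071))))))))) (.node (.node (.node (.node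
    (.node (.node (.node (.node (.leaf (nat_lit 10)) (.leaf (nat_lit 25845773))) (.node (.leaf
    (nat_lit 17443847)) (.leaf (nat_lit 29952257)))) (.node (.node (.leaf (nat_lit 7223298)) (.leaf
    (nat_lit 18517259))) (.leaf (nat_lit 6828812)))) (.node (.node (.node (.leaf (nat_lit 2104577))
    (.leaf (nat_lit 31360780))) (.node (.leaf (nat_lit 13149193)) (.leaf (nat_lit 35464200))))
    (.node (.node (.leaf (nat_lit 6446599)) (.leaf (nat_lit 15119368))) (.leaf (nat_lit
    10266114))))) (.node (.node (.node (.node (.leaf (nat_lit 1838339)) (.leaf (nat_lit 25484290)))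
    (.node (.leaf (nat_lit 19410956)) (.leaf (nat_lit 35853061)))) (.node (.node (.leaf (nat_lit
    4605965)) (.leaf (nat_lit 30205452))) (.leaf (nat_lit 4086016)))) (.node (.node (.node (.leaf
    (nat_lit 2764038)) (.leaf (nat_lit 33329931))) (.node (.leaf (nat_lit 17730560)) (.leaf
    (nat_lit 37033739)))) (.node (.node (.leaf (nat_lit 8155654)) (.leaf (nat_lit 25223946)))
    (.leaf (nat_lit 22721794)))))) (.node (.node (.node (.node (.node (.leaf (nat_lit 1049100))
    (.leaf (nat_lit 24171266))) (.node (.leaf (nat_lit 18385667)) (.leaf (nat_lit 35458823))))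
    (.node (.node (.leaf (nat_lit 4865539)) (.leaf (nat_lit 18543373))) (.leaf (nat_lit 2888973))))
    (.node (.node (.node (.leaf (nat_lit 2892289)) (.leaf (nat_lit 23907587))) (.node (.leaf
    (nat_lit 6829580)) (.leaf (nat_lit 39003396)))) (.node (.node (.leaf (nat_lit 13640204)) (.leaf
    (nat_lit 19320842))) (.leaf (nat_lit 16689413))))) (.node (.node (.node (.node (.leaf (nat_lit
    1184779)) (.leaf (nat_lit 25355010))) (.node (.leaf (nat_lit 20350980)) (.leaf (nat_lit
    36509698)))) (.node (.node (.leaf (nat_lit 4871175)) (.leaf (nat_lit 29286156))) (.leaf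
    (nat_lit 10243845)))) (.node (.node (.node (.leaf (nat_lit 5120771)) (.leaf (nat_lit
    34276621))) (.node (.leaf (nat_lit 1729280)) (.leaf (nat_lit 36118793)))) (.node (.node (.leaf
    (nat_lit 16008707)) (.leaf (nat_lit 29820678))) (.leaf (nat_lit 24296705))))))) (.node (.node
    (.node (.node (.node (.node (.leaf (nat_lit 263174)) (.leaf (nat_lit 26398722))) (.node (.leaf
    (nat_lit 8030213)) (.leaf (nat_lit 35064581)))) (.node (.node (.leaf (nat_lit 3030026)) (.leaf
    (nat_lit 22468099))) (.leaf (nat_lit 19947018)))) (.node (.node (.node (.leaf (nat_lit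
    3546885)) (.leaf (nat_lit 31886604))) (.node (.leaf (nat_lit 11575819)) (.leaf (nat_lit
    38610690)))) (.node (.node (.leaf (nat_lit 13115910)) (.leaf (nat_lit 17214221))) (.leaf
    (nat_lit 21913091))))) (.node (.node (.node (.node (.leaf (nat_lit 2360584)) (.leaf (nat_lit
    29522697))) (.node (.leaf (nat_lit 15243525)) (.leaf (nat_lit 36378118)))) (.node (.node (.leaf
    (nat_lit 9325577)) (.leaf (nat_lit 32700928))) (.leaf (nat_lit 4071179)))) (.node (.node (.node
    (.leaf (nat_lit 6302467)) (.leaf (nat_lit 30475010))) (.node (.leaf (nat_lit 5140736)) (.leaf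
    (nat_lit 36250119)))) (.node (.node (.leaf (nat_lit 15350276)) (.leaf (nat_lit 23239179)))
    (.leaf (nat_lit 24295175)))))) (.node (.node (.node (.node (.node (.leaf (nat_lit 788992))
    (.leaf (nat_lit 27055874))) (.node (.leaf (nat_lit 15503366)) (.leaf (nat_lit 29954571))))
    (.node (.node (.leaf (nat_lit 4736257)) (.leaf (nat_lit 8536330))) (.leaf (nat_lit 18507526))))
    (.node (.node (.node (.leaf (nat_lit 5381889)) (.leaf (nat_lit 28617987))) (.node (.leaf
    (nat_lit 3160832)) (.leaf (nat_lit 38741516)))) (.node (.node (.leaf (nat_lit 10513677)) (.leaf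
    (nat_lit 26266629))) (.leaf (nat_lit 22827531))))) (.node (.node (.node (.node (.leaf (nat_lit
    1969156)) (.leaf (nat_lit 23259397))) (.node (.leaf (nat_lit 20984844)) (.leaf (nat_lit
    37161739)))) (.node (.node (.leaf (nat_lit 11817476)) (.leaf (nat_lit 23113738))) (.leaf
    (nat_lit 11039500)))) (.node (.node (.node (.leaf (nat_lit 7089668)) (.leaf (nat_lit
    17203978))) (.node (.leaf (nat_lit 11301642)) (.leaf (nat_lit 39267076)))) (.node (.node (.leaf
    (nat_lit 10649602)) (.leaf (nat_lit 22087689))) (.leaf (nat_lit 25188872)))))))) (.node (.node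
    (.node (.node (.node (.node (.node (.leaf (nat_lit 131329)) (.leaf (nat_lit 25611009))) (.node
    (.leaf (nat_lit 17705993)) (.leaf (nat_lit 29821442)))) (.node (.node (.leaf (nat_lit 7607560))
    (.leaf (nat_lit 17203980))) (.leaf (nat_lit 8268555)))) (.node (.node (.node (.leaf (nat_lit
    3808772)) (.leaf (nat_lit 27324677))) (.node (.leaf (nat_lit 16284928)) (.leaf (nat_lit
    38604808)))) (.node (.node (.leaf (nat_lit 12722441)) (.leaf (nat_lit 17749517))) (.leaf
    (nat_lit 10386948))))) (.node (.node (.node (.node (.leaf (nat_lit 659467)) (.leaf (nat_lit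
    25878018))) (.node (.leaf (nat_lit 19804425)) (.leaf (nat_lit 36244225)))) (.node (.node (.leaf
    (nat_lit 5654795)) (.leaf (nat_lit 23770624))) (.leaf (nat_lit 3677195)))) (.node (.node (.node
    (.leaf (nat_lit 5123846)) (.leaf (nat_lit 28508421))) (.node (.leaf (nat_lit 3162880)) (.leaf
    (nat_lit 38868748)))) (.node (.node (.leaf (nat_lit 8156168)) (.leaf (nat_lit 29673992)))
    (.leaf (nat_lit 10401803)))))) (.node (.node (.node (.node (.node (.leaf (nat_lit 1311491))
    (.leaf (nat_lit 27841793))) (.node (.leaf (nat_lit 14061062)) (.leaf (nat_lit 35830538))))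
    (.node (.node (.leaf (nat_lit 8656393)) (.leaf (nat_lit 17729292))) (.leaf (nat_lit
    10506253)))) (.node (.node (.node (.leaf (nat_lit 2893314)) (.leaf (nat_lit 31127810))) (.node
    (.leaf (nat_lit 20332292)) (.leaf (nat_lit 38873354)))) (.node (.node (.leaf (nat_lit 9071621))
    (.leaf (nat_lit 17619466))) (.leaf (nat_lit 22690317))))) (.node (.node (.node (.node (.leaf
    (nat_lit 3278849)) (.leaf (nat_lit 30180107))) (.node (.leaf (nat_lit 7890948)) (.leaf (nat_lit
    29301001)))) (.node (.node (.leaf (nat_lit 11294726)) (.leaf (nat_lit 29284871))) (.leaf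
    (nat_lit 10768909)))) (.node (.node (.node (.leaf (nat_lit 6951692)) (.leaf (nat_lit
    17229056))) (.node (.leaf (nat_lit 2889738)) (.leaf (nat_lit 38084869)))) (.node (.node (.leaf
    (nat_lit 11959554)) (.leaf (nat_lit 29558529))) (.leaf (nat_lit 24950531))))))) (.node (.node
    (.node (.node (.node (.node (.leaf (nat_lit 262916)) (.leaf (nat_lit 17093127))) (.node (.leaf
    (nat_lit 18230792)) (.leaf (nat_lit 29560331)))) (.node (.node (.leaf (nat_lit 6045452)) (.leaf
    (nat_lit 25477888))) (.leaf (nat_lit 20221443)))) (.node (.node (.node (.leaf (nat_lit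
    3547142)) (.leaf (nat_lit 26670086))) (.node (.leaf (nat_lit 8144896)) (.leaf (nat_lit
    38873089)))) (.node (.node (.leaf (nat_lit 13393922)) (.leaf (nat_lit 26526213))) (.leaf
    (nat_lit 16558086))))) (.node (.node (.node (.node (.leaf (nat_lit 1708806)) (.leaf (nat_lit
    16704013))) (.node (.leaf (nat_lit 14981641)) (.leaf (nat_lit 35329793)))) (.node (.node (.leaf
    (nat_lit 10243846)) (.leaf (nat_lit 30599435))) (.leaf (nat_lit 5515788)))) (.node (.node
    (.node (.leaf (nat_lit 2761220)) (.leaf (nat_lit 34249226))) (.node (.leaf (nat_lit 6173195))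
    (.leaf (nat_lit 37036546)))) (.node (.node (.leaf (nat_lit 5797892)) (.leaf (nat_lit
    34407946))) (.leaf (nat_lit 24427266)))))) (.node (.node (.node (.node (.node (.leaf (nat_lit
    789768)) (.leaf (nat_lit 26270209))) (.node (.leaf (nat_lit 19172866)) (.leaf (nat_lit
    35459331)))) (.node (.node (.leaf (nat_lit 3163916)) (.leaf (nat_lit 28235531))) (.leaf
    (nat_lit 17711365)))) (.node (.node (.node (.leaf (nat_lit 5515523)) (.leaf (nat_lit
    25623558))) (.node (.leaf (nat_lit 8151552)) (.leaf (nat_lit 35593224)))) (.node (.node (.leaf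
    (nat_lit 14689548)) (.leaf (nat_lit 17751819))) (.leaf (nat_lit 23347469))))) (.node (.node
    (.node (.node (.leaf (nat_lit 1710855)) (.leaf (nat_lit 30967309))) (.node (.leaf (nat_lit
    21139459)) (.leaf (nat_lit 35331596)))) (.node (.node (.leaf (nat_lit 12197899)) (.leaf
    (nat_lit 15118345))) (.leaf (nat_lit 19952387)))) (.node (.node (.node (.leaf (nat_lit
    7217155)) (.leaf (nat_lit 28105984))) (.node (.leaf (nat_lit 5121293)) (.leaf (nat_lit
    39529730)))) (.node (.node (.leaf (nat_lit 17181448)) (.leaf (nat_lit 34660611))) (.leaf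
    (nat_lit 24559878)))))))))) (.node (.node (.node (.node (.node (.node (.node (.node (.node
    (.leaf (nat_lit 5)) (.leaf (nat_lit 25583627))) (.node (.leaf (nat_lit 7898117)) (.leaf
    (nat_lit 34791687)))) (.node (.node (.leaf (nat_lit 3815433)) (.leaf (nat_lit 32953604)))
    (.node (.leaf (nat_lit 6566660)) (.leaf (nat_lit 39398413))))) (.node (.node (.node (.leaf
    (nat_lit 1973517)) (.leaf (nat_lit 31229707))) (.node (.leaf (nat_lit 20226819)) (.leaf
    (nat_lit 38210829)))) (.node (.node (.leaf (nat_lit 10509830)) (.leaf (nat_lit 20230156)))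
    (.leaf (nat_lit 21772043))))) (.node (.node (.node (.node (.leaf (nat_lit 921090)) (.leaf
    (nat_lit 28759820))) (.node (.leaf (nat_lit 18518786)) (.leaf (nat_lit 35984130)))) (.node
    (.node (.leaf (nat_lit 9062403)) (.leaf (nat_lit 23770378))) (.leaf (nat_lit 17185285))))
    (.node (.node (.node (.leaf (nat_lit 3156997)) (.leaf (nat_lit 30604545))) (.node (.leaf
    (nat_lit 8276480)) (.leaf (nat_lit 36382474)))) (.node (.node (.leaf (nat_lit 11432199)) (.leaf
    (nat_lit 24830732))) (.leaf (nat_lit 23114753)))))) (.node (.node (.node (.node (.node (.leaf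
    (nat_lit 918024)) (.leaf (nat_lit 27698700))) (.node (.leaf (nat_lit 8293385)) (.leaf (nat_lit
    35458821)))) (.node (.node (.leaf (nat_lit 7479811)) (.leaf (nat_lit 12764928))) (.leaf
    (nat_lit 11818497)))) (.node (.node (.node (.leaf (nat_lit 2760961)) (.leaf (nat_lit
    31258113))) (.node (.leaf (nat_lit 20094720)) (.leaf (nat_lit 39004417)))) (.node (.node (.leaf
    (nat_lit 8675588)) (.leaf (nat_lit 27045891))) (.leaf (nat_lit 21932290))))) (.node (.node
    (.node (.node (.leaf (nat_lit 2622989)) (.leaf (nat_lit 29785608))) (.node (.leaf (nat_lit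
    12884742)) (.leaf (nat_lit 35198982)))) (.node (.node (.leaf (nat_lit 10885901)) (.leaf
    (nat_lit 33873669))) (.leaf (nat_lit 7354378)))) (.node (.node (.node (.leaf (nat_lit 5124869))
    (.leaf (nat_lit 33740045))) (.node (.leaf (nat_lit 4984333)) (.leaf (nat_lit 35987720))))
    (.node (.node (.leaf (nat_lit 16001032)) (.leaf (nat_lit 34514440))) (.leaf (nat_lit
    24793609))))))) (.node (.node (.node (.node (.node (.node (.leaf (nat_lit 393986)) (.leaf
    (nat_lit 27158283))) (.node (.leaf (nat_lit 8423434)) (.leaf (nat_lit 24316427)))) (.node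
    (.node (.leaf (nat_lit 7741700)) (.leaf (nat_lit 26531329))) (.leaf (nat_lit 10771969))))
    (.node (.node (.node (.leaf (nat_lit 2629127)) (.leaf (nat_lit 31755531))) (.node (.leaf
    (nat_lit 20470023)) (.leaf (nat_lit 35858185)))) (.node (.node (.leaf (nat_lit 7889665)) (.leaf
    (nat_lit 23123717))) (.leaf (nat_lit 21931783))))) (.node (.node (.node (.node (.leaf (nat_lit
    528648)) (.leaf (nat_lit 25092098))) (.node (.leaf (nat_lit 12097549)) (.leaf (nat_lit
    36490248)))) (.node (.node (.leaf (nat_lit 9848321)) (.leaf (nat_lit 17755403))) (.leaf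
    (nat_lit 3545869)))) (.node (.node (.node (.leaf (nat_lit 5779458)) (.leaf (nat_lit 33880323)))
    (.node (.leaf (nat_lit 6855177)) (.leaf (nat_lit 35725833)))) (.node (.node (.leaf (nat_lit
    13399297)) (.leaf (nat_lit 22460424))) (.leaf (nat_lit 24033542)))))) (.node (.node (.node
    (.node (.node (.leaf (nat_lit 527117)) (.leaf (nat_lit 19977737))) (.node (.leaf (nat_lit
    18886413)) (.leaf (nat_lit 24580365)))) (.node (.node (.leaf (nat_lit 3163147)) (.leaf (nat_lit
    13526795))) (.leaf (nat_lit 18638342)))) (.node (.node (.node (.leaf (nat_lit 5378056)) (.leaf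
    (nat_lit 26789891))) (.node (.leaf (nat_lit 4465408)) (.leaf (nat_lit 36251146)))) (.node
    (.node (.leaf (nat_lit 14296071)) (.leaf (nat_lit 18662411))) (.leaf (nat_lit 22851085)))))
    (.node (.node (.node (.node (.leaf (nat_lit 1054989)) (.leaf (nat_lit 22472710))) (.node (.leaf
    (nat_lit 20853769)) (.leaf (nat_lit 37030666)))) (.node (.node (.leaf (nat_lit 10508805))
    (.leaf (nat_lit 22472709))) (.leaf (nat_lit 15102731)))) (.node (.node (.node (.leaf (nat_lit
    5912065)) (.leaf (nat_lit 18543104))) (.node (.leaf (nat_lit 8669952)) (.leaf (nat_lit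
    39267078)))) (.node (.node (.leaf (nat_lit 16154375)) (.leaf (nat_lit 29820933))) (.leaf
    (nat_lit 25081604)))))))) (.node (.node (.node (.node (.node (.node (.node (.leaf (nat_lit
    264)) (.leaf (nat_lit 25479681))) (.node (.leaf (nat_lit 9602568)) (.leaf (nat_lit 22219273))))
    (.node (.node (.leaf (nat_lit 7480587)) (.leaf (nat_lit 8565248))) (.leaf (nat_lit 2262016))))
    (.node (.node (.node (.leaf (nat_lit 3808773)) (.leaf (nat_lit 31624458))) (.node (.leaf
    (nat_lit 10124548)) (.leaf (nat_lit 38479105)))) (.node (.node (.leaf (nat_lit 4874248)) (.leaf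
    (nat_lit 26014464))) (.leaf (nat_lit 16666116))))) (.node (.node (.node (.node (.leaf (nat_lit
    1968131)) (.leaf (nat_lit 29127948))) (.node (.leaf (nat_lit 6985224)) (.leaf (nat_lit
    36226056)))) (.node (.node (.leaf (nat_lit 8407308)) (.leaf (nat_lit 22719756))) (.leaf
    (nat_lit 11554820)))) (.node (.node (.node (.leaf (nat_lit 5648130)) (.leaf (nat_lit
    30867457))) (.node (.leaf (nat_lit 19306240)) (.leaf (nat_lit 35330058)))) (.node (.node (.leaf
    (nat_lit 15083015)) (.leaf (nat_lit 24428045))) (.leaf (nat_lit 24137229)))))) (.node (.node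
    (.node (.node (.node (.leaf (nat_lit 1050881)) (.leaf (nat_lit 27947785))) (.node (.leaf
    (nat_lit 18624265)) (.leaf (nat_lit 35459074)))) (.node (.node (.leaf (nat_lit 7749896)) (.leaf
    (nat_lit 17597964))) (.leaf (nat_lit 5117188)))) (.node (.node (.node (.leaf (nat_lit 4334849))
    (.leaf (nat_lit 31389697))) (.node (.leaf (nat_lit 2899200)) (.leaf (nat_lit 38608138))))
    (.node (.node (.leaf (nat_lit 5139209)) (.leaf (nat_lit 26802432))) (.leaf (nat_lit
    22428171))))) (.node (.node (.node (.node (.leaf (nat_lit 3016460)) (.leaf (nat_lit 30049034)))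
    (.node (.leaf (nat_lit 13671430)) (.leaf (nat_lit 35199237)))) (.node (.node (.leaf (nat_lit
    11032578)) (.leaf (nat_lit 27316235))) (.leaf (nat_lit 10781186)))) (.node (.node (.node (.leaf
    (nat_lit 5256197)) (.leaf (nat_lit 20224522))) (.node (.leaf (nat_lit 12611072)) (.leaf
    (nat_lit 37298435)))) (.node (.node (.leaf (nat_lit 11172865)) (.leaf (nat_lit 34520845)))
    (.leaf (nat_lit 12107272))))))) (.node (.node (.node (.node (.node (.node (.leaf (nat_lit
    394502)) (.leaf (nat_lit 16175629))) (.node (.leaf (nat_lit 5933576)) (.leaf (nat_lit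
    23792905)))) (.node (.node (.leaf (nat_lit 7749382)) (.leaf (nat_lit 28235532))) (.leaf
    (nat_lit 8268810)))) (.node (.node (.node (.leaf (nat_lit 4197385)) (.leaf (nat_lit 28879620)))
    (.node (.leaf (nat_lit 6459392)) (.leaf (nat_lit 36120584)))) (.node (.node (.leaf (nat_lit
    7497224)) (.leaf (nat_lit 18531853))) (.leaf (nat_lit 10266625))))) (.node (.node (.node (.node
    (.leaf (nat_lit 2491657)) (.leaf (nat_lit 17097226))) (.node (.leaf (nat_lit 15374853)) (.leaf
    (nat_lit 36247302)))) (.node (.node (.leaf (nat_lit 10230283)) (.leaf (nat_lit 19200267)))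
    (.leaf (nat_lit 3427584)))) (.node (.node (.node (.leaf (nat_lit 2893059)) (.leaf (nat_lit
    34141188))) (.node (.leaf (nat_lit 5779972)) (.leaf (nat_lit 36250122)))) (.node (.node (.leaf
    (nat_lit 13661953)) (.leaf (nat_lit 26019337))) (.leaf (nat_lit 11057929)))))) (.node (.node
    (.node (.node (.node (.leaf (nat_lit 1574916)) (.leaf (nat_lit 27449602))) (.node (.leaf
    (nat_lit 14455302)) (.leaf (nat_lit 26284551)))) (.node (.node (.leaf (nat_lit 9189895)) (.leaf
    (nat_lit 27053579))) (.leaf (nat_lit 3162376)))) (.node (.node (.node (.leaf (nat_lit 3549698))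
    (.leaf (nat_lit 33067533))) (.node (.leaf (nat_lit 4867328)) (.leaf (nat_lit 38738434))))
    (.node (.node (.leaf (nat_lit 14568195)) (.leaf (nat_lit 23781125))) (.leaf (nat_lit
    23216396))))) (.node (.node (.node (.node (.leaf (nat_lit 3541256)) (.leaf (nat_lit 22997765)))
    (.node (.leaf (nat_lit 7119115)) (.leaf (nat_lit 37166342)))) (.node (.node (.leaf (nat_lit
    10771462)) (.leaf (nat_lit 28224259))) (.leaf (nat_lit 11574540)))) (.node (.node (.node (.leaf
    (nat_lit 3684099)) (.leaf (nat_lit 12633344))) (.node (.leaf (nat_lit 8136449)) (.leaf (nat_lit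
    39398404)))) (.node (.node (.leaf (nat_lit 12354049)) (.leaf (nat_lit 34650635))) (.leaf
    (nat_lit 25319945))))))))) (.node (.node (.node (.node (.node (.node (.node (.node (.leaf
    (nat_lit 12)) (.leaf (nat_lit 26108171))) (.node (.leaf (nat_lit 7767308)) (.leaf (nat_lit
    24709380)))) (.node (.node (.leaf (nat_lit 7347972)) (.leaf (nat_lit 20108557))) (.leaf
    (nat_lit 3161863)))) (.node (.node (.node (.leaf (nat_lit 2104583)) (.leaf (nat_lit 31385348)))
    (.node (.leaf (nat_lit 21534979)) (.leaf (nat_lit 38348037)))) (.node (.node (.leaf (nat_lit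
    12460045)) (.leaf (nat_lit 20100103))) (.leaf (nat_lit 17081862))))) (.node (.node (.node
    (.node (.leaf (nat_lit 1576714)) (.leaf (nat_lit 28105740))) (.node (.leaf (nat_lit 13014021))
    (.leaf (nat_lit 25760519)))) (.node (.node (.leaf (nat_lit 9450502)) (.leaf (nat_lit
    30205447))) (.leaf (nat_lit 11556875)))) (.node (.node (.node (.leaf (nat_lit 3026183)) (.leaf
    (nat_lit 33461004))) (.node (.leaf (nat_lit 5647616)) (.leaf (nat_lit 35199242)))) (.node
    (.node (.leaf (nat_lit 6451714)) (.leaf (nat_lit 25481993))) (.leaf (nat_lit 23872013))))))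
    (.node (.node (.node (.node (.node (.leaf (nat_lit 1050630)) (.leaf (nat_lit 27572227))) (.node
    (.leaf (nat_lit 14060805)) (.leaf (nat_lit 35699210)))) (.node (.node (.leaf (nat_lit 4341259))
    (.leaf (nat_lit 8536333))) (.leaf (nat_lit 4859404)))) (.node (.node (.node (.leaf (nat_lit
    4721933)) (.leaf (nat_lit 32411148))) (.node (.leaf (nat_lit 7500032)) (.leaf (nat_lit
    39130122)))) (.node (.node (.leaf (nat_lit 13771277)) (.leaf (nat_lit 28633344))) (.leaf
    (nat_lit 10397953))))) (.node (.node (.node (.node (.leaf (nat_lit 2102278)) (.leaf (nat_lit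
    29916681))) (.node (.leaf (nat_lit 14828548)) (.leaf (nat_lit 36768770)))) (.node (.node (.leaf
    (nat_lit 11279372)) (.leaf (nat_lit 28629516))) (.leaf (nat_lit 10374919)))) (.node (.node
    (.node (.leaf (nat_lit 6695940)) (.leaf (nat_lit 30074124))) (.node (.leaf (nat_lit 10773760))
    (.leaf (nat_lit 36643079)))) (.node (.node (.leaf (nat_lit 11565826)) (.leaf (nat_lit
    24971010))) (.leaf (nat_lit 18660615))))))) (.node (.node (.node (.node (.node (.node (.leaf
    (nat_lit 525319)) (.leaf (nat_lit 27554562))) (.node (.leaf (nat_lit 17968141)) (.leaf (nat_lit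
    35064583)))) (.node (.node (.leaf (nat_lit 3161354)) (.leaf (nat_lit 15390471))) (.leaf
    (nat_lit 20091395)))) (.node (.node (.node (.leaf (nat_lit 1974024)) (.leaf (nat_lit
    26538758))) (.node (.leaf (nat_lit 6988032)) (.leaf (nat_lit 38741763)))) (.node (.node (.leaf
    (nat_lit 7103489)) (.leaf (nat_lit 19188236))) (.leaf (nat_lit 22034443))))) (.node (.node
    (.node (.node (.leaf (nat_lit 1839622)) (.leaf (nat_lit 24961281))) (.node (.leaf (nat_lit
    14981384)) (.leaf (nat_lit 35067395)))) (.node (.node (.leaf (nat_lit 9849858)) (.leaf (nat_lit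
    27314177))) (.leaf (nat_lit 5537547)))) (.node (.node (.node (.leaf (nat_lit 6041858)) (.leaf
    (nat_lit 34011907))) (.node (.leaf (nat_lit 3032064)) (.leaf (nat_lit 38740481)))) (.node
    (.node (.leaf (nat_lit 15476236)) (.leaf (nat_lit 27592198))) (.leaf (nat_lit 11057672))))))
    (.node (.node (.node (.node (.node (.leaf (nat_lit 1573639)) (.leaf (nat_lit 28341259))) (.node
    (.leaf (nat_lit 19017735)) (.leaf (nat_lit 29954573)))) (.node (.node (.leaf (nat_lit 5260556))
    (.leaf (nat_lit 19305229))) (.leaf (nat_lit 19161093)))) (.node (.node (.node (.leaf (nat_lit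
    3418372)) (.leaf (nat_lit 31259138))) (.node (.leaf (nat_lit 2901760)) (.leaf (nat_lit
    35461640)))) (.node (.node (.leaf (nat_lit 9072136)) (.leaf (nat_lit 19188747))) (.leaf
    (nat_lit 22954250))))) (.node (.node (.node (.node (.leaf (nat_lit 3409928)) (.leaf (nat_lit
    30705163))) (.node (.leaf (nat_lit 19570690)) (.leaf (nat_lit 37035014)))) (.node (.node (.leaf
    (nat_lit 11164422)) (.leaf (nat_lit 30993420))) (.leaf (nat_lit 16153355)))) (.node (.node
    (.node (.leaf (nat_lit 7214088)) (.leaf (nat_lit 17623552))) (.node (.leaf (nat_lit 20607749))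
    (.leaf (nat_lit 39398405)))) (.node (.node (.leaf (nat_lit 16808707)) (.leaf (nat_lit
    29427714))) (.leaf (nat_lit 24428550)))))))) (.node (.node (.node (.node (.node (.node (.node
    (.leaf (nat_lit 262410)) (.leaf (nat_lit 26895885))) (.node (.leaf (nat_lit 9996038)) (.leaf
    (nat_lit 34933002)))) (.node (.node (.leaf (nat_lit 7738635)) (.leaf (nat_lit 17623808)))
    (.leaf (nat_lit 5649667)))) (.node (.node (.node (.leaf (nat_lit 3808778)) (.leaf (nat_lit
    23776259))) (.node (.leaf (nat_lit 11688704)) (.leaf (nat_lit 38348290)))) (.node (.node (.leaf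
    (nat_lit 12853516)) (.leaf (nat_lit 23647749))) (.leaf (nat_lit 21931786))))) (.node (.node
    (.node (.node (.leaf (nat_lit 2099459)) (.leaf (nat_lit 29259021))) (.node (.leaf (nat_lit
    18257665)) (.leaf (nat_lit 26285321)))) (.node (.node (.leaf (nat_lit 9705479)) (.leaf (nat_lit
    23246081))) (.leaf (nat_lit 7251200)))) (.node (.node (.node (.leaf (nat_lit 3154948)) (.leaf
    (nat_lit 33747460))) (.node (.leaf (nat_lit 18653952)) (.leaf (nat_lit 36643584)))) (.node
    (.node (.leaf (nat_lit 15229186)) (.leaf (nat_lit 26530312))) (.leaf (nat_lit 24164358))))))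
    (.node (.node (.node (.node (.node (.leaf (nat_lit 789254)) (.leaf (nat_lit 28079111))) (.node
    (.leaf (nat_lit 17731073)) (.leaf (nat_lit 25104652)))) (.node (.node (.leaf (nat_lit 8536577))
    (.leaf (nat_lit 12632587))) (.leaf (nat_lit 4328717)))) (.node (.node (.node (.leaf (nat_lit
    5115404)) (.leaf (nat_lit 26278149))) (.node (.leaf (nat_lit 6584320)) (.leaf (nat_lit
    35066893)))) (.node (.node (.leaf (nat_lit 5663747)) (.leaf (nat_lit 29289728))) (.leaf
    (nat_lit 19967493))))) (.node (.node (.node (.node (.leaf (nat_lit 1972485)) (.leaf (nat_lit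
    30311180))) (.node (.leaf (nat_lit 20482308)) (.leaf (nat_lit 35330306)))) (.node (.node (.leaf
    (nat_lit 11673355)) (.leaf (nat_lit 31503366))) (.leaf (nat_lit 11819533)))) (.node (.node
    (.node (.leaf (nat_lit 4338950)) (.leaf (nat_lit 15259904))) (.node (.leaf (nat_lit 8263685))
    (.leaf (nat_lit 37301002)))) (.node (.node (.leaf (nat_lit 11304449)) (.leaf (nat_lit
    29417740))) (.leaf (nat_lit 24690437))))))) (.node (.node (.node (.node (.node (.node (.leaf
    (nat_lit 656902)) (.leaf (nat_lit 27579141))) (.node (.leaf (nat_lit 8293128)) (.leaf (nat_lit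
    35436300)))) (.node (.node (.leaf (nat_lit 8270338)) (.leaf (nat_lit 28235268))) (.leaf
    (nat_lit 17203975)))) (.node (.node (.node (.leaf (nat_lit 3547137)) (.leaf (nat_lit
    31126785))) (.node (.leaf (nat_lit 6304000)) (.leaf (nat_lit 38998537)))) (.node (.node (.leaf
    (nat_lit 13509129)) (.leaf (nat_lit 19320332))) (.leaf (nat_lit 22040579))))) (.node (.node
    (.node (.node (.leaf (nat_lit 2233089)) (.leaf (nat_lit 22864386))) (.node (.leaf (nat_lit
    20093442)) (.leaf (nat_lit 35329027)))) (.node (.node (.leaf (nat_lit 4345863)) (.leaf (nat_lit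
    31650059))) (.leaf (nat_lit 3414540)))) (.node (.node (.node (.leaf (nat_lit 4993542)) (.leaf
    (nat_lit 30082305))) (.node (.leaf (nat_lit 12357888)) (.leaf (nat_lit 36380416)))) (.node
    (.node (.leaf (nat_lit 6191115)) (.leaf (nat_lit 34384139))) (.leaf (nat_lit 24662536))))))
    (.node (.node (.node (.node (.node (.leaf (nat_lit 920836)) (.leaf (nat_lit 27843333))) (.node
    (.leaf (nat_lit 19279881)) (.leaf (nat_lit 35721476)))) (.node (.node (.leaf (nat_lit 4605698))
    (.leaf (nat_lit 31256076))) (.leaf (nat_lit 17580549)))) (.node (.node (.node (.leaf (nat_lit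
    3025669)) (.leaf (nat_lit 26658307))) (.node (.leaf (nat_lit 2263296)) (.leaf (nat_lit
    38870019)))) (.node (.node (.leaf (nat_lit 8024066)) (.leaf (nat_lit 22719750))) (.leaf
    (nat_lit 23478794))))) (.node (.node (.node (.node (.leaf (nat_lit 3283977)) (.leaf (nat_lit
    31098634))) (.node (.leaf (nat_lit 11969034)) (.leaf (nat_lit 37817356)))) (.node (.node (.leaf
    (nat_lit 11427077)) (.leaf (nat_lit 20230151))) (.leaf (nat_lit 12359691)))) (.node (.node
    (.node (.leaf (nat_lit 3418627)) (.leaf (nat_lit 13553920))) (.node (.leaf (nat_lit 4341260))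
    (.leaf (nat_lit 39529485)))) (.node (.node (.leaf (nat_lit 9208582)) (.leaf (nat_lit
    29559045))) (.leaf (nat_lit 12763399))))))))))) (.node (.node (.node (.node (.node (.node
    (.node (.node (.node (.node (.leaf (nat_lit 3)) (.leaf (nat_lit 25452554))) (.node (.leaf
    (nat_lit 7898118)) (.leaf (nat_lit 25233666)))) (.node (.node (.leaf (nat_lit 5388294)) (.leaf
    (nat_lit 30463234))) (.node (.leaf (nat_lit 4469510)) (.leaf (nat_lit 39398412))))) (.node
    (.node (.node (.leaf (nat_lit 2104588)) (.leaf (nat_lit 30600455))) (.node (.leaf (nat_lit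
    13148936)) (.leaf (nat_lit 38079755)))) (.node (.node (.leaf (nat_lit 12328972)) (.leaf
    (nat_lit 23113741))) (.leaf (nat_lit 8536327))))) (.node (.node (.node (.node (.leaf (nat_lit
    1707521)) (.leaf (nat_lit 20634377))) (.node (.leaf (nat_lit 17601281)) (.leaf (nat_lit
    25236236)))) (.node (.node (.leaf (nat_lit 5130242)) (.leaf (nat_lit 30599436))) (.leaf
    (nat_lit 17185286)))) (.node (.node (.node (.leaf (nat_lit 5771531)) (.leaf (nat_lit
    31653122))) (.node (.leaf (nat_lit 8268812)) (.leaf (nat_lit 36246796)))) (.node (.node (.leaf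
    (nat_lit 12873985)) (.leaf (nat_lit 25345037))) (.leaf (nat_lit 22459394)))))) (.node (.node
    (.node (.node (.node (.leaf (nat_lit 787210)) (.leaf (nat_lit 27698955))) (.node (.leaf
    (nat_lit 8555526)) (.leaf (nat_lit 34934541)))) (.node (.node (.leaf (nat_lit 7749121)) (.leaf
    (nat_lit 13553408))) (.leaf (nat_lit 3691776)))) (.node (.node (.node (.leaf (nat_lit 4328714))
    (.leaf (nat_lit 32280075))) (.node (.leaf (nat_lit 6960141)) (.leaf (nat_lit 36120841))))
    (.node (.node (.leaf (nat_lit 13524996)) (.leaf (nat_lit 27053581))) (.leaf (nat_lit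
    22194445))))) (.node (.node (.node (.node (.leaf (nat_lit 2233091)) (.leaf (nat_lit 29676035)))
    (.node (.leaf (nat_lit 18914050)) (.leaf (nat_lit 35330053)))) (.node (.node (.leaf (nat_lit
    4608519)) (.leaf (nat_lit 29279233))) (.leaf (nat_lit 7354381)))) (.node (.node (.node (.leaf
    (nat_lit 5649153)) (.leaf (nat_lit 27854092))) (.node (.leaf (nat_lit 8270851)) (.leaf (nat_lit
    37955840)))) (.node (.node (.leaf (nat_lit 11041037)) (.leaf (nat_lit 34390537))) (.leaf
    (nat_lit 24688897))))))) (.node (.node (.node (.node (.node (.node (.leaf (nat_lit 393483))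
    (.leaf (nat_lit 26004994))) (.node (.leaf (nat_lit 17837068)) (.leaf (nat_lit 34913540))))
    (.node (.node (.leaf (nat_lit 6044422)) (.leaf (nat_lit 25482754))) (.leaf (nat_lit 4218381))))
    (.node (.node (.node (.leaf (nat_lit 1580557)) (.leaf (nat_lit 26392067))) (.node (.leaf
    (nat_lit 11163910)) (.leaf (nat_lit 38735881)))) (.node (.node (.leaf (nat_lit 4743946)) (.leaf
    (nat_lit 23648006))) (.leaf (nat_lit 16164613))))) (.node (.node (.node (.node (.leaf (nat_lit
    921862)) (.leaf (nat_lit 16703496))) (.node (.leaf (nat_lit 12490762)) (.leaf (nat_lit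
    36375555)))) (.node (.node (.leaf (nat_lit 9325320)) (.leaf (nat_lit 26791168))) (.leaf
    (nat_lit 11033604)))) (.node (.node (.node (.leaf (nat_lit 6296075)) (.leaf (nat_lit
    28639749))) (.node (.leaf (nat_lit 17205760)) (.leaf (nat_lit 38086144)))) (.node (.node (.leaf
    (nat_lit 8156425)) (.leaf (nat_lit 24699916))) (.leaf (nat_lit 24033541)))))) (.node (.node
    (.node (.node (.node (.leaf (nat_lit 658188)) (.leaf (nat_lit 20633096))) (.node (.leaf
    (nat_lit 12881669)) (.leaf (nat_lit 27332871)))) (.node (.node (.leaf (nat_lit 8918541)) (.leaf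
    (nat_lit 26003972))) (.leaf (nat_lit 18507269)))) (.node (.node (.node (.leaf (nat_lit
    4597761)) (.leaf (nat_lit 23775236))) (.node (.leaf (nat_lit 1865472)) (.leaf (nat_lit
    35067403)))) (.node (.node (.leaf (nat_lit 6712331)) (.leaf (nat_lit 27313158))) (.leaf
    (nat_lit 10530316))))) (.node (.node (.node (.node (.leaf (nat_lit 1186060)) (.leaf (nat_lit
    30442253))) (.node (.leaf (nat_lit 20722696)) (.leaf (nat_lit 36902147)))) (.node (.node (.leaf
    (nat_lit 11033094)) (.leaf (nat_lit 32436226))) (.leaf (nat_lit 20618509)))) (.node (.node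
    (.node (.leaf (nat_lit 7082765)) (.leaf (nat_lit 27984640))) (.node (.leaf (nat_lit 8539136))
    (.leaf (nat_lit 39267074)))) (.node (.node (.leaf (nat_lit 12091137)) (.leaf (nat_lit
    34645513))) (.leaf (nat_lit 13549319)))))))) (.node (.node (.node (.node (.node (.node (.node
    (.leaf (nat_lit 131333)) (.leaf (nat_lit 26502666))) (.node (.leaf (nat_lit 9864710)) (.leaf
    (nat_lit 29559302)))) (.node (.node (.leaf (nat_lit 7092486)) (.leaf (nat_lit 7617036))) (.leaf
    (nat_lit 6296076)))) (.node (.node (.node (.leaf (nat_lit 2629121)) (.leaf (nat_lit 31516676)))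
    (.node (.leaf (nat_lit 16426245)) (.leaf (nat_lit 38479111)))) (.node (.node (.leaf (nat_lit
    12591368)) (.leaf (nat_lit 26540800))) (.leaf (nat_lit 10387971))))) (.node (.node (.node
    (.node (.leaf (nat_lit 790279)) (.leaf (nat_lit 26664193))) (.node (.leaf (nat_lit 19673352))
    (.leaf (nat_lit 36114948)))) (.node (.node (.leaf (nat_lit 6834436)) (.leaf (nat_lit
    33882634))) (.leaf (nat_lit 3559435)))) (.node (.node (.node (.leaf (nat_lit 6165002)) (.leaf
    (nat_lit 33592077))) (.node (.leaf (nat_lit 19174912)) (.leaf (nat_lit 35198988)))) (.node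
    (.node (.leaf (nat_lit 6976013)) (.leaf (nat_lit 25345035))) (.leaf (nat_lit 10270472))))))
    (.node (.node (.node (.node (.node (.leaf (nat_lit 657674)) (.leaf (nat_lit 20239367))) (.node
    (.leaf (nat_lit 17599746)) (.leaf (nat_lit 34672653)))) (.node (.node (.leaf (nat_lit 8525320))
    (.leaf (nat_lit 8696576))) (.leaf (nat_lit 5641477)))) (.node (.node (.node (.leaf (nat_lit
    2761986)) (.leaf (nat_lit 32542221))) (.node (.leaf (nat_lit 5914379)) (.leaf (nat_lit
    37037581)))) (.node (.node (.leaf (nat_lit 14033673)) (.leaf (nat_lit 27314181))) (.leaf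
    (nat_lit 22297098))))) (.node (.node (.node (.node (.leaf (nat_lit 2885387)) (.leaf (nat_lit
    29932803))) (.node (.leaf (nat_lit 17341441)) (.leaf (nat_lit 36887049)))) (.node (.node (.leaf
    (nat_lit 11542282)) (.leaf (nat_lit 28629515))) (.leaf (nat_lit 17072652)))) (.node (.node
    (.node (.leaf (nat_lit 5780481)) (.leaf (nat_lit 20251904))) (.node (.leaf (nat_lit 6299910))
    (.leaf (nat_lit 38871306)))) (.node (.node (.leaf (nat_lit 11697154)) (.leaf (nat_lit
    34519820))) (.leaf (nat_lit 24690182))))))) (.node (.node (.node (.node (.node (.node (.leaf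
    (nat_lit 525569)) (.leaf (nat_lit 27578891))) (.node (.leaf (nat_lit 7637510)) (.leaf (nat_lit
    35303689)))) (.node (.node (.leaf (nat_lit 8263174)) (.leaf (nat_lit 20633353))) (.leaf
    (nat_lit 2894855)))) (.node (.node (.node (.leaf (nat_lit 4070148)) (.leaf (nat_lit 25473028)))
    (.node (.leaf (nat_lit 8292352)) (.leaf (nat_lit 38610950)))) (.node (.node (.leaf (nat_lit
    13378056)) (.leaf (nat_lit 26527238))) (.leaf (nat_lit 21800962))))) (.node (.node (.node
    (.node (.leaf (nat_lit 2363651)) (.leaf (nat_lit 27714053))) (.node (.leaf (nat_lit 20197897))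
    (.leaf (nat_lit 36378373)))) (.node (.node (.leaf (nat_lit 10112262)) (.leaf (nat_lit
    18674955))) (.leaf (nat_lit 5384460)))) (.node (.node (.node (.leaf (nat_lit 6434051)) (.leaf
    (nat_lit 29033478))) (.node (.leaf (nat_lit 2758400)) (.leaf (nat_lit 37036557)))) (.node
    (.node (.leaf (nat_lit 15607309)) (.leaf (nat_lit 24184321))) (.leaf (nat_lit 24530953))))))
    (.node (.node (.node (.node (.node (.leaf (nat_lit 789516)) (.leaf (nat_lit 28472332))) (.node
    (.leaf (nat_lit 14586373)) (.leaf (nat_lit 35852806)))) (.node (.node (.leaf (nat_lit 3032584))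
    (.leaf (nat_lit 32438029))) (.leaf (nat_lit 19292421)))) (.node (.node (.node (.leaf (nat_lit
    4205057)) (.leaf (nat_lit 26016517))) (.node (.leaf (nat_lit 5126400)) (.leaf (nat_lit
    38607361)))) (.node (.node (.leaf (nat_lit 14053121)) (.leaf (nat_lit 17751818))) (.leaf
    (nat_lit 22458369))))) (.node (.node (.node (.node (.leaf (nat_lit 3414535)) (.leaf (nat_lit
    30836236))) (.node (.leaf (nat_lit 21115917)) (.leaf (nat_lit 37423885)))) (.node (.node (.leaf
    (nat_lit 11295749)) (.leaf (nat_lit 22457100))) (.leaf (nat_lit 20618507)))) (.node (.node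
    (.node (.leaf (nat_lit 3815176)) (.leaf (nat_lit 28105728))) (.node (.leaf (nat_lit 4466436))
    (.leaf (nat_lit 39398401)))) (.node (.node (.leaf (nat_lit 17050125)) (.leaf (nat_lit
    34650636))) (.leaf (nat_lit 25213187))))))))) (.node (.node (.node (.node (.node (.node (.node
    (.node (.leaf (nat_lit 11)) (.leaf (nat_lit 25977098))) (.node (.leaf (nat_lit 7898379)) (.leaf
    (nat_lit 29821187)))) (.node (.node (.leaf (nat_lit 7354375)) (.leaf (nat_lit 19332608)))
    (.leaf (nat_lit 932864)))) (.node (.node (.node (.leaf (nat_lit 2104581)) (.leaf (nat_lit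
    23523077))) (.node (.leaf (nat_lit 18260994)) (.leaf (nat_lit 38473480)))) (.node (.node (.leaf
    (nat_lit 12342787)) (.leaf (nat_lit 22852617))) (.leaf (nat_lit 16557573))))) (.node (.node
    (.node (.node (.leaf (nat_lit 1966860)) (.leaf (nat_lit 26532865))) (.node (.leaf (nat_lit
    17994754)) (.leaf (nat_lit 35721990)))) (.node (.node (.leaf (nat_lit 4737036)) (.leaf (nat_lit
    22719751))) (.leaf (nat_lit 11556877)))) (.node (.node (.node (.leaf (nat_lit 2764037)) (.leaf
    (nat_lit 31784450))) (.node (.leaf (nat_lit 2397184)) (.leaf (nat_lit 36904448)))) (.node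
    (.node (.leaf (nat_lit 6058497)) (.leaf (nat_lit 29802509))) (.leaf (nat_lit 23770375))))))
    (.node (.node (.node (.node (.node (.leaf (nat_lit 526346)) (.leaf (nat_lit 21811981))) (.node
    (.leaf (nat_lit 18493192)) (.leaf (nat_lit 35567884)))) (.node (.node (.leaf (nat_lit 4472330))
    (.leaf (nat_lit 19200781))) (.leaf (nat_lit 3151115)))) (.node (.node (.node (.leaf (nat_lit
    4590860)) (.leaf (nat_lit 25735428))) (.node (.leaf (nat_lit 6198528)) (.leaf (nat_lit
    39004163)))) (.node (.node (.leaf (nat_lit 4614155)) (.leaf (nat_lit 26276096))) (.leaf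
    (nat_lit 22194439))))) (.node (.node (.node (.node (.leaf (nat_lit 1577985)) (.leaf (nat_lit
    24699651))) (.node (.leaf (nat_lit 15491587)) (.leaf (nat_lit 36247555)))) (.node (.node (.leaf
    (nat_lit 11148299)) (.leaf (nat_lit 33878276))) (.leaf (nat_lit 10243591)))) (.node (.node
    (.node (.leaf (nat_lit 5249028)) (.leaf (nat_lit 20224525))) (.node (.leaf (nat_lit 6169094))
    (.leaf (nat_lit 37953793)))) (.node (.node (.leaf (nat_lit 16132362)) (.leaf (nat_lit
    22087432))) (.leaf (nat_lit 24689922))))))) (.node (.node (.node (.node (.node (.node (.leaf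
    (nat_lit 263173)) (.leaf (nat_lit 27420429))) (.node (.leaf (nat_lit 7768071)) (.leaf (nat_lit
    22743816)))) (.node (.node (.leaf (nat_lit 8000781)) (.leaf (nat_lit 12607501))) (.leaf
    (nat_lit 6984200)))) (.node (.node (.node (.leaf (nat_lit 3677958)) (.leaf (nat_lit 30995202)))
    (.node (.leaf (nat_lit 11163149)) (.leaf (nat_lit 36382471)))) (.node (.node (.leaf (nat_lit
    7496710)) (.leaf (nat_lit 22457093))) (.leaf (nat_lit 21911044))))) (.node (.node (.node (.node
    (.leaf (nat_lit 1708549)) (.leaf (nat_lit 16703753))) (.node (.leaf (nat_lit 15374598)) (.leaf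
    (nat_lit 27334152)))) (.node (.node (.leaf (nat_lit 9194497)) (.leaf (nat_lit 12765197)))
    (.leaf (nat_lit 4071181)))) (.node (.node (.node (.leaf (nat_lit 6427148)) (.leaf (nat_lit
    28246789))) (.node (.leaf (nat_lit 11294464)) (.leaf (nat_lit 38085123)))) (.node (.node (.leaf
    (nat_lit 15365123)) (.leaf (nat_lit 34381060))) (.leaf (nat_lit 24399880)))))) (.node (.node
    (.node (.node (.node (.leaf (nat_lit 394756)) (.leaf (nat_lit 26007297))) (.node (.leaf
    (nat_lit 12488711)) (.leaf (nat_lit 25367052)))) (.node (.node (.leaf (nat_lit 6309125)) (.leaf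
    (nat_lit 8667658))) (.leaf (nat_lit 18638597)))) (.node (.node (.node (.leaf (nat_lit 5381122))
    (.leaf (nat_lit 32805387))) (.node (.leaf (nat_lit 6825478)) (.leaf (nat_lit 35461641))))
    (.node (.node (.leaf (nat_lit 14427144)) (.leaf (nat_lit 25742342))) (.leaf (nat_lit
    20622852))))) (.node (.node (.node (.node (.leaf (nat_lit 2625539)) (.leaf (nat_lit 23783686)))
    (.node (.leaf (nat_lit 6987787)) (.leaf (nat_lit 37292812)))) (.node (.node (.leaf (nat_lit
    11935501)) (.leaf (nat_lit 22457098))) (.leaf (nat_lit 16153356)))) (.node (.node (.node (.leaf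
    (nat_lit 7090691)) (.leaf (nat_lit 7646208))) (.node (.leaf (nat_lit 11039501)) (.leaf (nat_lit
    39398152)))) (.node (.node (.leaf (nat_lit 12222465)) (.leaf (nat_lit 25102337))) (.leaf
    (nat_lit 24559621)))))))) (.node (.node (.node (.node (.node (.node (.node (.leaf (nat_lit
    131332)) (.leaf (nat_lit 26764812))) (.node (.leaf (nat_lit 9864965)) (.leaf (nat_lit
    29428231)))) (.node (.node (.leaf (nat_lit 2767368)) (.leaf (nat_lit 7645696))) (.leaf (nat_lit
    6305028)))) (.node (.node (.node (.leaf (nat_lit 3284483)) (.leaf (nat_lit 26800390))) (.node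
    (.leaf (nat_lit 5405708)) (.leaf (nat_lit 35857928)))) (.node (.node (.leaf (nat_lit 4874505))
    (.leaf (nat_lit 23123462))) (.leaf (nat_lit 21903116))))) (.node (.node (.node (.node (.leaf
    (nat_lit 1970177)) (.leaf (nat_lit 28237319))) (.node (.leaf (nat_lit 6985481)) (.leaf (nat_lit
    36357129)))) (.node (.node (.leaf (nat_lit 9585415)) (.leaf (nat_lit 8697101))) (.leaf (nat_lit
    5405696)))) (.node (.node (.node (.leaf (nat_lit 3024643)) (.leaf (nat_lit 27984140))) (.node
    (.leaf (nat_lit 8269572)) (.leaf (nat_lit 36907021)))) (.node (.node (.leaf (nat_lit 13530114))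
    (.leaf (nat_lit 27577864))) (.leaf (nat_lit 24164364)))))) (.node (.node (.node (.node (.node
    (.leaf (nat_lit 1442566)) (.leaf (nat_lit 20108551))) (.node (.leaf (nat_lit 6721033)) (.leaf
    (nat_lit 34541835)))) (.node (.node (.leaf (nat_lit 7750153)) (.leaf (nat_lit 18675712)))
    (.leaf (nat_lit 4459788)))) (.node (.node (.node (.leaf (nat_lit 4466177)) (.leaf (nat_lit
    32176385))) (.node (.leaf (nat_lit 6328320)) (.leaf (nat_lit 36248832)))) (.node (.node (.leaf
    (nat_lit 6319108)) (.leaf (nat_lit 23255557))) (.leaf (nat_lit 22822407))))) (.node (.node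
    (.node (.node (.leaf (nat_lit 1186049)) (.leaf (nat_lit 22734341))) (.node (.leaf (nat_lit
    15622915)) (.leaf (nat_lit 36641025)))) (.node (.node (.leaf (nat_lit 6707207)) (.leaf (nat_lit
    23639050))) (.leaf (nat_lit 16547340)))) (.node (.node (.node (.leaf (nat_lit 6567170)) (.leaf
    (nat_lit 15392256))) (.node (.leaf (nat_lit 4331523)) (.leaf (nat_lit 39262732)))) (.node
    (.node (.leaf (nat_lit 16525581)) (.leaf (nat_lit 29417738))) (.leaf (nat_lit 25057289)))))))
    (.node (.node (.node (.node (.node (.node (.leaf (nat_lit 786948)) (.leaf (nat_lit 27685636)))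
    (.node (.leaf (nat_lit 8686342)) (.leaf (nat_lit 29560333)))) (.node (.node (.leaf (nat_lit
    5914381)) (.leaf (nat_lit 26528512))) (.leaf (nat_lit 20090116)))) (.node (.node (.node (.leaf
    (nat_lit 1974281)) (.leaf (nat_lit 32149002))) (.node (.leaf (nat_lit 5778944)) (.leaf (nat_lit
    38872323)))) (.node (.node (.leaf (nat_lit 12740100)) (.leaf (nat_lit 25477645))) (.leaf
    (nat_lit 22042628))))) (.node (.node (.node (.node (.leaf (nat_lit 1446665)) (.leaf (nat_lit
    19980801))) (.node (.leaf (nat_lit 18127361)) (.leaf (nat_lit 36637443)))) (.node (.node (.leaf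
    (nat_lit 10492682)) (.leaf (nat_lit 33225995))) (.leaf (nat_lit 3414538)))) (.node (.node
    (.node (.leaf (nat_lit 6558221)) (.leaf (nat_lit 33752322))) (.node (.leaf (nat_lit 2769920))
    (.leaf (nat_lit 36247563)))) (.node (.node (.leaf (nat_lit 6322186)) (.leaf (nat_lit
    34407949))) (.leaf (nat_lit 19315463)))))) (.node (.node (.node (.node (.node (.leaf (nat_lit
    1705730)) (.leaf (nat_lit 28734727))) (.node (.leaf (nat_lit 19172611)) (.leaf (nat_lit
    35459076)))) (.node (.node (.leaf (nat_lit 5261057)) (.leaf (nat_lit 33488653))) (.leaf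
    (nat_lit 3162633)))) (.node (.node (.node (.leaf (nat_lit 5640458)) (.leaf (nat_lit 27050756)))
    (.node (.leaf (nat_lit 6831621)) (.leaf (nat_lit 37297153)))) (.node (.node (.leaf (nat_lit
    5140490)) (.leaf (nat_lit 17214731))) (.leaf (nat_lit 22589953))))) (.node (.node (.node (.node
    (.leaf (nat_lit 3672329)) (.leaf (nat_lit 23653382))) (.node (.leaf (nat_lit 21247495)) (.leaf
    (nat_lit 37686283)))) (.node (.node (.leaf (nat_lit 10640641)) (.leaf (nat_lit 22851592)))
    (.leaf (nat_lit 19946508)))) (.node (.node (.node (.leaf (nat_lit 7215617)) (.leaf (nat_lit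
    15234060))) (.node (.leaf (nat_lit 4472333)) (.leaf (nat_lit 39398668)))) (.node (.node (.leaf
    (nat_lit 9208581)) (.leaf (nat_lit 34776840))) (.leaf (nat_lit 12370185)))))))))) (.node (.node
    (.node (.node (.node (.node (.node (.node (.node (.leaf (nat_lit 7)) (.leaf (nat_lit
    25714700))) (.node (.leaf (nat_lit 7898119)) (.leaf (nat_lit 24316173)))) (.node (.node (.leaf
    (nat_lit 3422209)) (.leaf (nat_lit 31905027))) (.node (.leaf (nat_lit 11575808)) (.leaf
    (nat_lit 39398411))))) (.node (.node (.node (.leaf (nat_lit 1973506)) (.leaf (nat_lit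
    23916037))) (.node (.leaf (nat_lit 21509641)) (.leaf (nat_lit 38342152)))) (.node (.node (.leaf
    (nat_lit 11034117)) (.leaf (nat_lit 28240896))) (.leaf (nat_lit 21800458))))) (.node (.node
    (.node (.node (.leaf (nat_lit 1836804)) (.leaf (nat_lit 28865802))) (.node (.leaf (nat_lit
    19303940)) (.leaf (nat_lit 35590913)))) (.node (.node (.leaf (nat_lit 9324548)) (.leaf (nat_lit
    22719754))) (.leaf (nat_lit 6689549)))) (.node (.node (.node (.leaf (nat_lit 5902604)) (.leaf
    (nat_lit 25754885))) (.node (.leaf (nat_lit 17599232)) (.leaf (nat_lit 36640266)))) (.node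
    (.node (.leaf (nat_lit 14951942)) (.leaf (nat_lit 29803015))) (.leaf (nat_lit 23740940))))))
    (.node (.node (.node (.node (.node (.leaf (nat_lit 263944)) (.leaf (nat_lit 27695107))) (.node
    (.leaf (nat_lit 18385412)) (.leaf (nat_lit 35458822)))) (.node (.node (.leaf (nat_lit 8141057))
    (.leaf (nat_lit 19305227))) (.leaf (nat_lit 12082432)))) (.node (.node (.node (.leaf (nat_lit
    4459787)) (.leaf (nat_lit 26932741))) (.node (.leaf (nat_lit 20225536)) (.leaf (nat_lit
    36645127)))) (.node (.node (.leaf (nat_lit 8546052)) (.leaf (nat_lit 27327744))) (.leaf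
    (nat_lit 16165126))))) (.node (.node (.node (.node (.leaf (nat_lit 2102282)) (.leaf (nat_lit
    17097480))) (.node (.leaf (nat_lit 14719749)) (.leaf (nat_lit 29300744)))) (.node (.node (.leaf
    (nat_lit 11017226)) (.leaf (nat_lit 27318786))) (.leaf (nat_lit 10243594)))) (.node (.node
    (.node (.leaf (nat_lit 4600582)) (.leaf (nat_lit 27841549))) (.node (.leaf (nat_lit 1730560))
    (.leaf (nat_lit 38740230)))) (.node (.node (.leaf (nat_lit 14055938)) (.leaf (nat_lit
    29951749))) (.leaf (nat_lit 11320585))))))) (.node (.node (.node (.node (.node (.node (.leaf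
    (nat_lit 524556)) (.leaf (nat_lit 27289356))) (.node (.leaf (nat_lit 5933067)) (.leaf (nat_lit
    35040520)))) (.node (.node (.leaf (nat_lit 7869708)) (.leaf (nat_lit 28104204))) (.leaf
    (nat_lit 10506496)))) (.node (.node (.node (.leaf (nat_lit 4066312)) (.leaf (nat_lit
    27456005))) (.node (.leaf (nat_lit 21256458)) (.leaf (nat_lit 38348545)))) (.node (.node (.leaf
    (nat_lit 10904327)) (.leaf (nat_lit 27066112))) (.leaf (nat_lit 7251725))))) (.node (.node
    (.node (.node (.leaf (nat_lit 2230023)) (.leaf (nat_lit 24436739))) (.node (.leaf (nat_lit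
    20066824)) (.leaf (nat_lit 36247045)))) (.node (.node (.leaf (nat_lit 9967625)) (.leaf (nat_lit
    32175616))) (.leaf (nat_lit 5538048)))) (.node (.node (.node (.leaf (nat_lit 4730885)) (.leaf
    (nat_lit 33986828))) (.node (.leaf (nat_lit 6303501)) (.leaf (nat_lit 35856904)))) (.node
    (.node (.leaf (nat_lit 12612866)) (.leaf (nat_lit 24161032))) (.leaf (nat_lit 10402056))))))
    (.node (.node (.node (.node (.node (.leaf (nat_lit 1443074)) (.leaf (nat_lit 28210186))) (.node
    (.leaf (nat_lit 6590474)) (.leaf (nat_lit 35961866)))) (.node (.node (.leaf (nat_lit 9049857))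
    (.leaf (nat_lit 12738827))) (.leaf (nat_lit 5138185)))) (.node (.node (.node (.leaf (nat_lit
    3942664)) (.leaf (nat_lit 28630788))) (.node (.leaf (nat_lit 4334592)) (.leaf (nat_lit
    37037056)))) (.node (.node (.leaf (nat_lit 10906890)) (.leaf (nat_lit 19188746))) (.leaf
    (nat_lit 19967490))))) (.node (.node (.node (.node (.leaf (nat_lit 1448199)) (.leaf (nat_lit
    30574090))) (.node (.leaf (nat_lit 17211138)) (.leaf (nat_lit 37034503)))) (.node (.node (.leaf
    (nat_lit 6969863)) (.leaf (nat_lit 31518732))) (.leaf (nat_lit 11294219)))) (.node (.node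
    (.node (.leaf (nat_lit 4470278)) (.leaf (nat_lit 27984896))) (.node (.leaf (nat_lit 5772805))
    (.leaf (nat_lit 39267079)))) (.node (.node (.leaf (nat_lit 16787979)) (.leaf (nat_lit
    29952006))) (.leaf (nat_lit 25083395)))))))) (.node (.node (.node (.node (.node (.node (.node
    (.leaf (nat_lit 131335)) (.leaf (nat_lit 26633739))) (.node (.leaf (nat_lit 17597187)) (.leaf
    (nat_lit 25364993)))) (.node (.node (.leaf (nat_lit 7480842)) (.leaf (nat_lit 17597963)))
    (.leaf (nat_lit 8268557)))) (.node (.node (.node (.leaf (nat_lit 2629126)) (.leaf (nat_lit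
    30601474))) (.node (.leaf (nat_lit 21648644)) (.leaf (nat_lit 38347780)))) (.node (.node (.leaf
    (nat_lit 8544259)) (.leaf (nat_lit 20100109))) (.leaf (nat_lit 16141827))))) (.node (.node
    (.node (.node (.leaf (nat_lit 2097933)) (.leaf (nat_lit 28106250))) (.node (.leaf (nat_lit
    18388482)) (.leaf (nat_lit 26285064)))) (.node (.node (.leaf (nat_lit 5785866)) (.leaf (nat_lit
    22720769))) (.leaf (nat_lit 16678912)))) (.node (.node (.node (.leaf (nat_lit 4599557)) (.leaf
    (nat_lit 33724682))) (.node (.leaf (nat_lit 5783552)) (.leaf (nat_lit 36514060)))) (.node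
    (.node (.leaf (nat_lit 15214088)) (.leaf (nat_lit 27706889))) (.leaf (nat_lit 24164362))))))
    (.node (.node (.node (.node (.node (.leaf (nat_lit 657671)) (.leaf (nat_lit 22861065))) (.node
    (.leaf (nat_lit 13929989)) (.leaf (nat_lit 26808327)))) (.node (.node (.leaf (nat_lit 8534530))
    (.leaf (nat_lit 19333120))) (.leaf (nat_lit 3560192)))) (.node (.node (.node (.leaf (nat_lit
    4984331)) (.leaf (nat_lit 32674314))) (.node (.leaf (nat_lit 7749383)) (.leaf (nat_lit
    39001099)))) (.node (.node (.leaf (nat_lit 14164997)) (.leaf (nat_lit 23790080))) (.leaf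
    (nat_lit 22559244))))) (.node (.node (.node (.node (.leaf (nat_lit 3147533)) (.leaf (nat_lit
    22603013))) (.node (.leaf (nat_lit 11967495)) (.leaf (nat_lit 35330310)))) (.node (.node (.leaf
    (nat_lit 10770437)) (.leaf (nat_lit 33882631))) (.leaf (nat_lit 16538113)))) (.node (.node
    (.node (.leaf (nat_lit 6827779)) (.leaf (nat_lit 20119808))) (.node (.leaf (nat_lit 12742400))
    (.leaf (nat_lit 36512012)))) (.node (.node (.leaf (nat_lit 16394508)) (.leaf (nat_lit
    34519555))) (.leaf (nat_lit 13417991))))))) (.node (.node (.node (.node (.node (.node (.leaf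
    (nat_lit 656644)) (.leaf (nat_lit 27578892))) (.node (.leaf (nat_lit 17205767)) (.leaf (nat_lit
    35436298)))) (.node (.node (.leaf (nat_lit 6962946)) (.leaf (nat_lit 15390219))) (.leaf
    (nat_lit 2889740)))) (.node (.node (.node (.leaf (nat_lit 3678213)) (.leaf (nat_lit 32017677)))
    (.node (.leaf (nat_lit 4990976)) (.leaf (nat_lit 36513799)))) (.node (.node (.leaf (nat_lit
    8676867)) (.leaf (nat_lit 18661900))) (.leaf (nat_lit 17082373))))) (.node (.node (.node (.node
    (.leaf (nat_lit 1839877)) (.leaf (nat_lit 29680140))) (.node (.leaf (nat_lit 15243782)) (.leaf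
    (nat_lit 27334409)))) (.node (.node (.leaf (nat_lit 10361357)) (.leaf (nat_lit 23245069)))
    (.leaf (nat_lit 7223050)))) (.node (.node (.node (.leaf (nat_lit 4335108)) (.leaf (nat_lit
    34143235))) (.node (.leaf (nat_lit 6304266)) (.leaf (nat_lit 38740492)))) (.node (.node (.leaf
    (nat_lit 15738885)) (.leaf (nat_lit 22087175))) (.leaf (nat_lit 24034049)))))) (.node (.node
    (.node (.node (.node (.leaf (nat_lit 1704712)) (.leaf (nat_lit 28603405))) (.node (.leaf
    (nat_lit 17732098)) (.leaf (nat_lit 35983108)))) (.node (.node (.leaf (nat_lit 9312013)) (.leaf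
    (nat_lit 26002955))) (.leaf (nat_lit 17580294)))) (.node (.node (.node (.leaf (nat_lit
    5384711)) (.leaf (nat_lit 32439297))) (.node (.leaf (nat_lit 8153344)) (.leaf (nat_lit
    35593225)))) (.node (.node (.leaf (nat_lit 14044163)) (.leaf (nat_lit 23256838))) (.leaf
    (nat_lit 23245063))))) (.node (.node (.node (.node (.leaf (nat_lit 3283720)) (.leaf (nat_lit
    30861059))) (.node (.leaf (nat_lit 17867009)) (.leaf (nat_lit 37555210)))) (.node (.node (.leaf
    (nat_lit 6183943)) (.leaf (nat_lit 23122944))) (.leaf (nat_lit 20607745)))) (.node (.node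
    (.node (.leaf (nat_lit 7223047)) (.leaf (nat_lit 28236544))) (.node (.leaf (nat_lit 6300933))
    (.leaf (nat_lit 39529482)))) (.node (.node (.leaf (nat_lit 17071619)) (.leaf (nat_lit
    34650884))) (.leaf (nat_lit 24428805))))))))) (.node (.node (.node (.node (.node (.node (.node
    (.node (.leaf (nat_lit 13)) (.leaf (nat_lit 26239244))) (.node (.leaf (nat_lit 17574920))
    (.leaf (nat_lit 34907913)))) (.node (.node (.leaf (nat_lit 7346947)) (.leaf (nat_lit
    31912960))) (.leaf (nat_lit 8291848)))) (.node (.node (.node (.leaf (nat_lit 3807491)) (.leaf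
    (nat_lit 31491853))) (.node (.leaf (nat_lit 21640970)) (.leaf (nat_lit 38348038)))) (.node
    (.node (.leaf (nat_lit 10772225)) (.leaf (nat_lit 20100108))) (.leaf (nat_lit 21779460)))))
    (.node (.node (.node (.node (.leaf (nat_lit 528139)) (.leaf (nat_lit 28996875))) (.node (.leaf
    (nat_lit 19432451)) (.leaf (nat_lit 24843021)))) (.node (.node (.leaf (nat_lit 9574405)) (.leaf
    (nat_lit 30190853))) (.leaf (nat_lit 2754316)))) (.node (.node (.node (.leaf (nat_lit 6033677))
    (.leaf (nat_lit 26017542))) (.node (.leaf (nat_lit 6974464)) (.leaf (nat_lit 35330316))))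
    (.node (.node (.leaf (nat_lit 8286723)) (.leaf (nat_lit 27058696))) (.leaf (nat_lit
    23246337)))))) (.node (.node (.node (.node (.node (.leaf (nat_lit 1050631)) (.leaf (nat_lit
    27816712))) (.node (.leaf (nat_lit 13929734)) (.leaf (nat_lit 24973323)))) (.node (.node (.leaf
    (nat_lit 8394247)) (.leaf (nat_lit 7617034))) (.leaf (nat_lit 5121546)))) (.node (.node (.node
    (.leaf (nat_lit 3023873)) (.leaf (nat_lit 27064070))) (.node (.leaf (nat_lit 6590208)) (.leaf
    (nat_lit 37038594)))) (.node (.node (.leaf (nat_lit 13902600)) (.leaf (nat_lit 25752832)))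
    (.leaf (nat_lit 22172163))))) (.node (.node (.node (.node (.leaf (nat_lit 2623748)) (.leaf
    (nat_lit 17097737))) (.node (.leaf (nat_lit 20460301)) (.leaf (nat_lit 36769027)))) (.node
    (.node (.leaf (nat_lit 5133831)) (.leaf (nat_lit 30598659))) (.leaf (nat_lit 10374922))))
    (.node (.node (.node (.leaf (nat_lit 6820619)) (.leaf (nat_lit 28498187))) (.node (.leaf
    (nat_lit 13396480)) (.leaf (nat_lit 38871300)))) (.node (.node (.leaf (nat_lit 11041537))
    (.leaf (nat_lit 27068167))) (.leaf (nat_lit 24926216))))))) (.node (.node (.node (.node (.node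
    (.node (.leaf (nat_lit 525315)) (.leaf (nat_lit 20632066))) (.node (.leaf (nat_lit 18099464))
    (.leaf (nat_lit 35172616)))) (.node (.node (.leaf (nat_lit 6044935)) (.leaf (nat_lit
    27842309))) (.leaf (nat_lit 6984457)))) (.node (.node (.node (.leaf (nat_lit 2498311)) (.leaf
    (nat_lit 27063045))) (.node (.leaf (nat_lit 6844928)) (.leaf (nat_lit 38867464)))) (.node
    (.node (.leaf (nat_lit 8283140)) (.leaf (nat_lit 19188237))) (.leaf (nat_lit 22063114)))))
    (.node (.node (.node (.node (.leaf (nat_lit 1446408)) (.leaf (nat_lit 29539075))) (.node (.leaf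
    (nat_lit 18127106)) (.leaf (nat_lit 36506625)))) (.node (.node (.leaf (nat_lit 10099210))
    (.leaf (nat_lit 13421581))) (.leaf (nat_lit 16154372)))) (.node (.node (.node (.leaf (nat_lit
    4862214)) (.leaf (nat_lit 34009860))) (.node (.leaf (nat_lit 6173196)) (.leaf (nat_lit
    38871557)))) (.node (.node (.leaf (nat_lit 5142027)) (.leaf (nat_lit 29689349))) (.leaf
    (nat_lit 19184135)))))) (.node (.node (.node (.node (.node (.leaf (nat_lit 1182726)) (.leaf
    (nat_lit 27187202))) (.node (.leaf (nat_lit 14323974)) (.leaf (nat_lit 35590658)))) (.node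
    (.node (.leaf (nat_lit 5129485)) (.leaf (nat_lit 18648589))) (.leaf (nat_lit 19292166))))
    (.node (.node (.node (.leaf (nat_lit 5509129)) (.leaf (nat_lit 32936460))) (.node (.leaf
    (nat_lit 15104256)) (.leaf (nat_lit 37299456)))) (.node (.node (.leaf (nat_lit 14558217))
    (.leaf (nat_lit 20100363))) (.leaf (nat_lit 22327041))))) (.node (.node (.node (.node (.leaf
    (nat_lit 3414533)) (.leaf (nat_lit 23390725))) (.node (.leaf (nat_lit 14852101)) (.leaf
    (nat_lit 37035013)))) (.node (.node (.leaf (nat_lit 12066826)) (.leaf (nat_lit 30998273)))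
    (.leaf (nat_lit 16547339)))) (.node (.node (.node (.leaf (nat_lit 5388037)) (.leaf (nat_lit
    17229568))) (.node (.leaf (nat_lit 7620096)) (.leaf (nat_lit 39267336)))) (.node (.node (.leaf
    (nat_lit 16919052)) (.leaf (nat_lit 26544135))) (.leaf (nat_lit 12369928)))))))) (.node (.node
    (.node (.node (.node (.node (.node (.leaf (nat_lit 262658)) (.leaf (nat_lit 25742593))) (.node
    (.leaf (nat_lit 17728260)) (.leaf (nat_lit 34933004)))) (.node (.node (.leaf (nat_lit 2898698))
    (.leaf (nat_lit 17755904))) (.leaf (nat_lit 6829322)))) (.node (.node (.node (.leaf (nat_lit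
    3284491)) (.leaf (nat_lit 29273348))) (.node (.leaf (nat_lit 10124292)) (.leaf (nat_lit
    36251143)))) (.node (.node (.leaf (nat_lit 4612618)) (.leaf (nat_lit 25491200))) (.leaf
    (nat_lit 10397442))))) (.node (.node (.node (.node (.leaf (nat_lit 2229256)) (.leaf (nat_lit
    26795777))) (.node (.leaf (nat_lit 19935751)) (.leaf (nat_lit 35067137)))) (.node (.node (.leaf
    (nat_lit 6048266)) (.leaf (nat_lit 31124992))) (.leaf (nat_lit 11279373)))) (.node (.node
    (.node (.leaf (nat_lit 3023620)) (.leaf (nat_lit 33855755))) (.node (.leaf (nat_lit 18523136))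
    (.leaf (nat_lit 35329805)))) (.node (.node (.leaf (nat_lit 15219203)) (.leaf (nat_lit
    29935111))) (.leaf (nat_lit 24164359)))))) (.node (.node (.node (.node (.node (.leaf (nat_lit
    527106)) (.leaf (nat_lit 27973125))) (.node (.leaf (nat_lit 18755340)) (.leaf (nat_lit
    35721474)))) (.node (.node (.leaf (nat_lit 7619074)) (.leaf (nat_lit 27050500))) (.leaf
    (nat_lit 4477447)))) (.node (.node (.node (.leaf (nat_lit 3155714)) (.leaf (nat_lit 25753862)))
    (.node (.leaf (nat_lit 12488960)) (.leaf (nat_lit 36510464)))) (.node (.node (.leaf (nat_lit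
    9595905)) (.leaf (nat_lit 22734336))) (.leaf (nat_lit 20622854))))) (.node (.node (.node (.node
    (.leaf (nat_lit 1579270)) (.leaf (nat_lit 22341382))) (.node (.leaf (nat_lit 20591623)) (.leaf
    (nat_lit 35330311)))) (.node (.node (.leaf (nat_lit 11804428)) (.leaf (nat_lit 30978054)))
    (.leaf (nat_lit 11031563)))) (.node (.node (.node (.leaf (nat_lit 4863237)) (.leaf (nat_lit
    27826700))) (.node (.leaf (nat_lit 4986884)) (.leaf (nat_lit 38873867)))) (.node (.node (.leaf
    (nat_lit 16656906)) (.leaf (nat_lit 24043533))) (.leaf (nat_lit 24821510))))))) (.node (.node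
    (.node (.node (.node (.node (.leaf (nat_lit 787970)) (.leaf (nat_lit 21811975))) (.node (.leaf
    (nat_lit 18254339)) (.leaf (nat_lit 35567882)))) (.node (.node (.leaf (nat_lit 6569478)) (.leaf
    (nat_lit 13526797))) (.leaf (nat_lit 20087553)))) (.node (.node (.node (.leaf (nat_lit
    2367495)) (.leaf (nat_lit 26801413))) (.node (.leaf (nat_lit 8276224)) (.leaf (nat_lit
    38611205)))) (.node (.node (.leaf (nat_lit 7497481)) (.leaf (nat_lit 26004998))) (.leaf
    (nat_lit 22165516))))) (.node (.node (.node (.node (.leaf (nat_lit 2364162)) (.leaf (nat_lit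
    29655563))) (.node (.leaf (nat_lit 20223748)) (.leaf (nat_lit 36640260)))) (.node (.node (.leaf
    (nat_lit 10623755)) (.leaf (nat_lit 27316237))) (.leaf (nat_lit 10243596)))) (.node (.node
    (.node (.leaf (nat_lit 6689546)) (.leaf (nat_lit 29164805))) (.node (.leaf (nat_lit 6315527))
    (.leaf (nat_lit 35198219)))) (.node (.node (.leaf (nat_lit 15869959)) (.leaf (nat_lit
    34383884))) (.leaf (nat_lit 11320328)))))) (.node (.node (.node (.node (.node (.leaf (nat_lit
    1835785)) (.leaf (nat_lit 27974406))) (.node (.leaf (nat_lit 14455557)) (.leaf (nat_lit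
    36093194)))) (.node (.node (.leaf (nat_lit 5785349)) (.leaf (nat_lit 23901706))) (.leaf
    (nat_lit 17711622)))) (.node (.node (.node (.leaf (nat_lit 3025670)) (.leaf (nat_lit
    29021955))) (.node (.leaf (nat_lit 6698496)) (.leaf (nat_lit 39001092)))) (.node (.node (.leaf
    (nat_lit 14820621)) (.leaf (nat_lit 25082635))) (.leaf (nat_lit 22328066))))) (.node (.node
    (.node (.node (.leaf (nat_lit 1842183)) (.leaf (nat_lit 23784709))) (.node (.leaf (nat_lit
    11575821)) (.leaf (nat_lit 35332106)))) (.node (.node (.leaf (nat_lit 12211203)) (.leaf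
    (nat_lit 23647488))) (.leaf (nat_lit 8667655)))) (.node (.node (.node (.leaf (nat_lit 7345161))
    (.leaf (nat_lit 15259648))) (.node (.leaf (nat_lit 5771533)) (.leaf (nat_lit 39398656))))
    (.node (.node (.leaf (nat_lit 5669640)) (.leaf (nat_lit 29427974))) (.leaf (nat_lit
    25346051))))))))))))

/-- Certificate data. -/
def pg_just : Trie :=
    (.node (.node (.node (.node (.node (.node (.node (.node (.node (.node (.node (.leaf (nat_lit
    1)) (.leaf (nat_lit 41481674426939166741243313986666607))) (.node (.leaf (nat_lit 0)) (.leaf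
    (nat_lit 134275434197041741846)))) (.node (.node (.leaf (nat_lit 26376670418563170350)) (.leaf
    (nat_lit 43481162278109186))) (.node (.leaf (nat_lit 14075935613836787714)) (.leaf (nat_lit
    62907453976739842))))) (.node (.node (.node (.leaf (nat_lit 0)) (.leaf (nat_lit
    137515049559362043970))) (.node (.leaf (nat_lit 0)) (.leaf (nat_lit 0)))) (.node (.node (.leaf
    (nat_lit 52255252161254064166)) (.leaf (nat_lit 154612930441906421762))) (.leaf (nat_lit
    119791218437996609633))))) (.node (.node (.node (.node (.leaf (nat_lit 6630882493694410789))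
    (.leaf (nat_lit 349816288746137050153077))) (.node (.leaf (nat_lit 63273996402729091119))
    (.leaf (nat_lit 212766121802441359452)))) (.node (.node (.leaf (nat_lit 0)) (.leaf (nat_lit
    139406647791829844019))) (.leaf (nat_lit 11072009077391362)))) (.node (.node (.node (.leaf
    (nat_lit 14990919082751229961)) (.leaf (nat_lit 0))) (.node (.leaf (nat_lit
    402622046420078271135746)) (.leaf (nat_lit 248728930664696709198)))) (.node (.node (.leaf
    (nat_lit 25370205512043528216)) (.leaf (nat_lit 142293473934866317374))) (.leaf (nat_lit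
    0)))))) (.node (.node (.node (.node (.node (.leaf (nat_lit 18007481314830432075796)) (.leaf
    (nat_lit 152145220826954924117))) (.node (.leaf (nat_lit 0)) (.leaf (nat_lit
    223505306682749288540)))) (.node (.node (.leaf (nat_lit 32003654502100172817)) (.leaf (nat_lit
    37957336119246850))) (.leaf (nat_lit 21310334937726978)))) (.node (.node (.node (.leaf (nat_lit
    6471044718461141906166423864410153)) (.leaf (nat_lit 150341055273796567106))) (.node (.leaf
    (nat_lit 33962457951864291330)) (.leaf (nat_lit 242313659231523504175)))) (.node (.node (.leaf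
    (nat_lit 233788708236285136076835)) (.leaf (nat_lit 43077933568491522))) (.leaf (nat_lit
    133625274571897896983))))) (.node (.node (.node (.node (.leaf (nat_lit 13766132630569549863))
    (.leaf (nat_lit 39581506172381823358760136730935337))) (.node (.leaf (nat_lit 0)) (.leaf
    (nat_lit 0)))) (.node (.node (.leaf (nat_lit 0)) (.leaf (nat_lit 175724732882771705977)))
    (.leaf (nat_lit 50038302176065028171)))) (.node (.node (.node (.leaf (nat_lit
    28970497238446047240)) (.leaf (nat_lit 155809745176543559746))) (.node (.leaf (nat_lit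
    55654292801181646850)) (.leaf (nat_lit 1021741148364429395755091)))) (.node (.node (.leaf
    (nat_lit 64867618943890817109)) (.leaf (nat_lit 60836108041502727955407531122556969))) (.leaf
    (nat_lit 482330648858757125374007))))))) (.node (.node (.node (.node (.node (.node (.leaf
    (nat_lit 2018017377895251977)) (.leaf (nat_lit 0))) (.node (.leaf (nat_lit
    75888701644734660653)) (.leaf (nat_lit 62866157888888514960977644176736297)))) (.node (.node
    (.leaf (nat_lit 38340606102824222779)) (.leaf (nat_lit 38414681416794114))) (.leaf (nat_lit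
    15240944853057538)))) (.node (.node (.node (.leaf (nat_lit 57853531050259278725172)) (.leaf
    (nat_lit 164332243834194034695))) (.node (.leaf (nat_lit 13146985087500290)) (.leaf (nat_lit
    68144765531713388386904299232755753)))) (.node (.node (.leaf (nat_lit 0)) (.leaf (nat_lit
    40421376036831234))) (.leaf (nat_lit 71345751634372395019))))) (.node (.node (.node (.node
    (.leaf (nat_lit 4900620764920872963)) (.leaf (nat_lit 0))) (.node (.leaf (nat_lit
    66012572150292217947)) (.leaf (nat_lit 951435045070388437712931)))) (.node (.node (.leaf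
    (nat_lit 0)) (.leaf (nat_lit 173202118527621988354))) (.leaf (nat_lit 13394555592376322))))
    (.node (.node (.node (.leaf (nat_lit 25587748075192123435)) (.leaf (nat_lit
    163166533385858514954))) (.node (.leaf (nat_lit 22048803024666626)) (.leaf (nat_lit
    249596807035387838564)))) (.node (.node (.leaf (nat_lit 0)) (.leaf (nat_lit
    147394014896155983957))) (.leaf (nat_lit 0)))))) (.node (.node (.node (.node (.node (.leaf
    (nat_lit 6485817172953333774)) (.leaf (nat_lit 153575975858905219104))) (.node (.leaf (nat_lit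
    64210498705768513547)) (.leaf (nat_lit 225286779514206224448)))) (.node (.node (.leaf (nat_lit
    0)) (.leaf (nat_lit 36444665817464834))) (.leaf (nat_lit 14924560382164994)))) (.node (.node
    (.node (.leaf (nat_lit 0)) (.leaf (nat_lit 170674508678830424081))) (.node (.leaf (nat_lit
    33530887753787703298)) (.leaf (nat_lit 245920673165859815426)))) (.node (.node (.leaf (nat_lit
    47065065092079091794)) (.leaf (nat_lit 41582769553408002))) (.leaf (nat_lit
    117536252984306106453))))) (.node (.node (.node (.node (.leaf (nat_lit 6846774187378540595))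
    (.leaf (nat_lit 135065267146493984780))) (.node (.leaf (nat_lit 69039413587228164128)) (.leaf
    (nat_lit 236695084002462335021)))) (.node (.node (.leaf (nat_lit 51886836480852819998)) (.leaf
    (nat_lit 200434682130486984711))) (.leaf (nat_lit 518333283971751982923870)))) (.node (.node
    (.node (.leaf (nat_lit 34521588335034695694)) (.leaf (nat_lit 43199635761790978))) (.node
    (.leaf (nat_lit 10191824249552898)) (.leaf (nat_lit 252983866103834017899)))) (.node (.node
    (.leaf (nat_lit 50302749187995009032)) (.leaf (nat_lit 217721590081416003622))) (.leaf (nat_lit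
    54416299247255355429)))))))) (.node (.node (.node (.node (.node (.node (.node (.leaf (nat_lit
    0)) (.leaf (nat_lit 0))) (.node (.leaf (nat_lit 49082467409182523395)) (.leaf (nat_lit
    159351441823767920686)))) (.node (.node (.leaf (nat_lit 0)) (.leaf (nat_lit
    184800260389972672514))) (.leaf (nat_lit 19216753129291778)))) (.node (.node (.node (.leaf
    (nat_lit 0)) (.leaf (nat_lit 137226819260519743504))) (.node (.leaf (nat_lit
    49440434310325927944)) (.leaf (nat_lit 240659131515778826244)))) (.node (.node (.leaf (nat_lit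
    50589923131040923664)) (.leaf (nat_lit 138544211160427855874))) (.leaf (nat_lit
    130094729218847080493))))) (.node (.node (.node (.node (.leaf (nat_lit 5981713288009023500))
    (.leaf (nat_lit 147878623477867151370))) (.node (.leaf (nat_lit 0)) (.leaf (nat_lit
    65179159651924509058516504390598697)))) (.node (.node (.leaf (nat_lit 46051648763811004496))
    (.leaf (nat_lit 2737771128058244654963163258))) (.leaf (nat_lit 18038677959737346)))) (.node
    (.node (.node (.leaf (nat_lit 15134946395796209680)) (.leaf (nat_lit 147747052609362657292)))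
    (.node (.leaf (nat_lit 229426571495814375669762)) (.leaf (nat_lit 966268686412210151620616))))
    (.node (.node (.leaf (nat_lit 58228626757372805137)) (.leaf (nat_lit
    2415084542712800794349207668))) (.leaf (nat_lit 0)))))) (.node (.node (.node (.node (.node
    (.leaf (nat_lit 0)) (.leaf (nat_lit 135999358839008985110))) (.node (.leaf (nat_lit
    32793352434960498710)) (.leaf (nat_lit 220333875403721736290)))) (.node (.node (.leaf (nat_lit
    40287252072131395616)) (.leaf (nat_lit 43135942796819759106))) (.leaf (nat_lit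
    6708889240338434)))) (.node (.node (.node (.leaf (nat_lit 0)) (.leaf (nat_lit
    148899797917231153164))) (.node (.leaf (nat_lit 18653433808683010)) (.leaf (nat_lit
    324968369037329240036536996603440318200055910937205211222)))) (.node (.node (.leaf (nat_lit
    32578040587631132694)) (.leaf (nat_lit 40914249303851010))) (.leaf (nat_lit
    134707598182936936515))))) (.node (.node (.node (.node (.leaf (nat_lit 0)) (.leaf (nat_lit
    599518335552585183002630))) (.node (.leaf (nat_lit 34739629320548057112)) (.leaf (nat_lit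
    965640176731295699959864)))) (.node (.node (.leaf (nat_lit 0)) (.leaf (nat_lit
    196836131442092343338))) (.leaf (nat_lit 71367280913857839202)))) (.node (.node (.node (.leaf
    (nat_lit 30123418811772370954)) (.leaf (nat_lit 736279351634725733400596))) (.node (.leaf
    (nat_lit 59687968735162990594)) (.leaf (nat_lit 60092446511595522)))) (.node (.node (.leaf
    (nat_lit 0)) (.leaf (nat_lit 217866707190872735829))) (.leaf (nat_lit
    143479485426594676739))))))) (.node (.node (.node (.node (.node (.node (.leaf (nat_lit 0))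
    (.leaf (nat_lit 71291568878176632944))) (.node (.leaf (nat_lit 38629771141168955395)) (.leaf
    (nat_lit 211324512181248262166)))) (.node (.node (.leaf (nat_lit 0)) (.leaf (nat_lit
    38291553294352386))) (.leaf (nat_lit 21363051366318082)))) (.node (.node (.node (.leaf (nat_lit
    366360318261195407395979327)) (.leaf (nat_lit 165629632456496971790))) (.node (.leaf (nat_lit
    91392344289670529026)) (.leaf (nat_lit 242529867137879834627)))) (.node (.node (.leaf (nat_lit
    0)) (.leaf (nat_lit 41265861096505346))) (.leaf (nat_lit 132328202617533694010))))) (.node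
    (.node (.node (.node (.leaf (nat_lit 51657729687765280620550)) (.leaf (nat_lit 0))) (.node
    (.leaf (nat_lit 86416323737486032935)) (.leaf (nat_lit 0)))) (.node (.node (.leaf (nat_lit
    22897242271371737784505996970068770016539366305590739030)) (.leaf (nat_lit 36568257796374530)))
    (.leaf (nat_lit 17194828555223042)))) (.node (.node (.node (.leaf (nat_lit
    23205537785791578124)) (.leaf (nat_lit 0))) (.node (.leaf (nat_lit 32017466756146855938))
    (.leaf (nat_lit 59670096607576066)))) (.node (.node (.leaf (nat_lit 43961188116699742238))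
    (.leaf (nat_lit 151784672740660936723))) (.leaf (nat_lit 580035849694570376069126)))))) (.node
    (.node (.node (.node (.node (.leaf (nat_lit 95526395083633783101259809)) (.leaf (nat_lit
    148454925754467287099))) (.node (.leaf (nat_lit 0)) (.leaf (nat_lit 227232844786755108929))))
    (.node (.node (.leaf (nat_lit 0)) (.leaf (nat_lit 170823479189995454522))) (.leaf (nat_lit
    20043920880828418)))) (.node (.node (.node (.leaf (nat_lit 19964652238433091621)) (.leaf
    (nat_lit 167049603628725895198))) (.node (.leaf (nat_lit 66172343447644733442)) (.leaf (nat_lit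
    247216496109374603266)))) (.node (.node (.leaf (nat_lit 44611095979450630181)) (.leaf (nat_lit
    43394799075721218))) (.leaf (nat_lit 0))))) (.node (.node (.node (.node (.leaf (nat_lit
    17081837749469904900)) (.leaf (nat_lit 164829416316232466446))) (.node (.leaf (nat_lit
    91024561464110415886)) (.leaf (nat_lit 238277254936747245581)))) (.node (.node (.leaf (nat_lit
    50301762994784370752)) (.leaf (nat_lit 3378292623267149269040431165))) (.leaf (nat_lit
    115611455530813554750)))) (.node (.node (.node (.leaf (nat_lit 26594162537320874028)) (.leaf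
    (nat_lit 38660868942200834))) (.node (.leaf (nat_lit 9382626641182722)) (.leaf (nat_lit
    1051573353922306186149893)))) (.node (.node (.leaf (nat_lit 51023325197093765150)) (.leaf
    (nat_lit 220172303857942200405))) (.leaf (nat_lit 486222680063855498100791))))))))) (.node
    (.node (.node (.node (.node (.node (.node (.node (.leaf (nat_lit 1)) (.leaf (nat_lit 0)))
    (.node (.leaf (nat_lit 0)) (.leaf (nat_lit 3595960103283910076665233471)))) (.node (.node
    (.leaf (nat_lit 147298985650873570689059)) (.leaf (nat_lit 41194186682269698))) (.leaf (nat_lit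
    23790678551166978)))) (.node (.node (.node (.leaf (nat_lit 11026624986772340795)) (.leaf
    (nat_lit 0))) (.node (.leaf (nat_lit 58231091312686465061)) (.leaf (nat_lit
    226316151843547447318)))) (.node (.node (.leaf (nat_lit 30702132686739406861)) (.leaf (nat_lit
    37536223165808642))) (.leaf (nat_lit 49872782030627078154))))) (.node (.node (.node (.node
    (.leaf (nat_lit 9586035514801324071)) (.leaf (nat_lit 147734508255431557128))) (.node (.leaf
    (nat_lit 0)) (.leaf (nat_lit 228097747124521992257)))) (.node (.node (.leaf (nat_lit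
    45839768414962516046)) (.leaf (nat_lit 163401968765582376988))) (.leaf (nat_lit
    21860478243433545730)))) (.node (.node (.node (.leaf (nat_lit 14990831173360615435)) (.leaf
    (nat_lit 0))) (.node (.leaf (nat_lit 75539901573895487490)) (.leaf (nat_lit
    237850346028022300764)))) (.node (.node (.leaf (nat_lit 41440948972953993242)) (.leaf (nat_lit
    146529182927133278293))) (.leaf (nat_lit 135478945932449611806)))))) (.node (.node (.node
    (.node (.node (.leaf (nat_lit 0)) (.leaf (nat_lit 139823407460906106910))) (.node (.leaf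
    (nat_lit 78625465422905016365)) (.leaf (nat_lit 225286550704118497289)))) (.node (.node (.leaf
    (nat_lit 24436833149241196583)) (.leaf (nat_lit 41511026419695618))) (.leaf (nat_lit
    10755126390292482)))) (.node (.node (.node (.leaf (nat_lit 15134259991302832187)) (.leaf
    (nat_lit 166494781093458411565))) (.node (.leaf (nat_lit 22119085869498370)) (.leaf (nat_lit
    68956046845374552328690070639280239)))) (.node (.node (.leaf (nat_lit 0)) (.leaf (nat_lit
    42814188216778754))) (.leaf (nat_lit 71346033263967928332))))) (.node (.node (.node (.node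
    (.leaf (nat_lit 5765751861235875882)) (.leaf (nat_lit 604018489380848613458010))) (.node (.leaf
    (nat_lit 88142151900368928785)) (.leaf (nat_lit 963302210602093905182810)))) (.node (.node
    (.leaf (nat_lit 24215823065721012233)) (.leaf (nat_lit 198495057101268910200))) (.leaf (nat_lit
    511836335625997327269984)))) (.node (.node (.node (.leaf (nat_lit 29407381621032812558)) (.leaf
    (nat_lit 737728573316355491889205))) (.node (.leaf (nat_lit 9896137749914910722)) (.leaf
    (nat_lit 59723010604662786)))) (.node (.node (.leaf (nat_lit 69695283044974526503)) (.leaf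
    (nat_lit 161728955081098985516))) (.leaf (nat_lit 578329382737945628508166))))))) (.node (.node
    (.node (.node (.node (.node (.leaf (nat_lit 2017947052100747275)) (.leaf (nat_lit
    148741519756669157406))) (.node (.leaf (nat_lit 40142910195681656844)) (.leaf (nat_lit
    224150851846569918467)))) (.node (.node (.leaf (nat_lit 15279889069451182103)) (.leaf (nat_lit
    41475721788522498))) (.leaf (nat_lit 20888045163249666)))) (.node (.node (.node (.leaf (nat_lit
    17583989352734851075)) (.leaf (nat_lit 0))) (.node (.leaf (nat_lit 52038483632816586844))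
    (.leaf (nat_lit 990451357309874966102051)))) (.node (.node (.leaf (nat_lit 0)) (.leaf (nat_lit
    40034390893527042))) (.leaf (nat_lit 131666380012992528398))))) (.node (.node (.node (.node
    (.leaf (nat_lit 0)) (.leaf (nat_lit 0))) (.node (.leaf (nat_lit 66156687372727812099)) (.leaf
    (nat_lit 232725354234528333868)))) (.node (.node (.leaf (nat_lit 46051648866890219557)) (.leaf
    (nat_lit 172481648453891588098))) (.leaf (nat_lit 12902257850974210)))) (.node (.node (.node
    (.leaf (nat_lit 30486257292456165390)) (.leaf (nat_lit 163887109360597532702))) (.node (.leaf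
    (nat_lit 24529331321700354)) (.leaf (nat_lit 59089554468110338)))) (.node (.node (.leaf
    (nat_lit 67387768413014392870)) (.leaf (nat_lit 195399847747850010728))) (.leaf (nat_lit
    576254197547252754677765)))))) (.node (.node (.node (.node (.node (.leaf (nat_lit
    18011445731805425303583)) (.leaf (nat_lit 149896024832897908744))) (.node (.leaf (nat_lit
    67957493621510570000)) (.leaf (nat_lit 214567579142496387164)))) (.node (.node (.leaf (nat_lit
    5896023729897520)) (.leaf (nat_lit 33454088679194626))) (.leaf (nat_lit 19375392041336834))))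
    (.node (.node (.node (.leaf (nat_lit 105977701725233819680774)) (.leaf (nat_lit
    156335203776322535467))) (.node (.leaf (nat_lit 33097923705679577090)) (.leaf (nat_lit
    59968880302489602)))) (.node (.node (.leaf (nat_lit 206921889937936823353433)) (.leaf (nat_lit
    42163337462677506))) (.leaf (nat_lit 2286285665975793989517115495))))) (.node (.node (.node
    (.node (.leaf (nat_lit 10452187189835137041)) (.leaf (nat_lit 137515014280500674625))) (.node
    (.leaf (nat_lit 0)) (.leaf (nat_lit 0)))) (.node (.node (.leaf (nat_lit 53263301859166322695))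
    (.leaf (nat_lit 167222710335676022879))) (.leaf (nat_lit 862412785965062698714857573)))) (.node
    (.node (.node (.leaf (nat_lit 35097837843666632711)) (.leaf (nat_lit 39786760259108866)))
    (.node (.leaf (nat_lit 104500405827897851906)) (.leaf (nat_lit 256371399895015424007)))) (.node
    (.node (.leaf (nat_lit 50590979598506459146)) (.leaf (nat_lit 133122125561262702629))) (.leaf
    (nat_lit 0)))))))) (.node (.node (.node (.node (.node (.node (.node (.leaf (nat_lit
    6198106044036681039878)) (.leaf (nat_lit 147876705414192234555))) (.node (.leaf (nat_lit 0))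
    (.leaf (nat_lit 663327871307030024421411)))) (.node (.node (.leaf (nat_lit 0)) (.leaf (nat_lit
    39927592236744706))) (.leaf (nat_lit 23984252727197698)))) (.node (.node (.node (.leaf (nat_lit
    18955229791663620134)) (.leaf (nat_lit 150341019926215721025))) (.node (.leaf (nat_lit
    289634008848625299619914)) (.leaf (nat_lit 0)))) (.node (.node (.leaf (nat_lit 0)) (.leaf
    (nat_lit 40808378360004610))) (.leaf (nat_lit 50255816723141951495))))) (.node (.node (.node
    (.node (.leaf (nat_lit 3459380888872353834)) (.leaf (nat_lit 148166853879788666910))) (.node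
    (.leaf (nat_lit 0)) (.leaf (nat_lit 951417961632286908874758)))) (.node (.node (.leaf (nat_lit
    111577657330756753817683)) (.leaf (nat_lit 2332817305524777523079348297))) (.leaf (nat_lit
    12585297854464002)))) (.node (.node (.node (.leaf (nat_lit 25079070312070578242)) (.leaf
    (nat_lit 155809498739910049857))) (.node (.leaf (nat_lit 408583155053254240632834)) (.leaf
    (nat_lit 323531678097349921663063202717288188184936464978878988374)))) (.node (.node (.leaf
    (nat_lit 41440949041673469974)) (.leaf (nat_lit 213269080975522070532))) (.leaf (nat_lit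
    50020169983782486058)))))) (.node (.node (.node (.node (.node (.leaf (nat_lit 0)) (.leaf
    (nat_lit 628506470661165108428806))) (.node (.leaf (nat_lit 61256102122891706415)) (.leaf
    (nat_lit 0)))) (.node (.node (.leaf (nat_lit 0)) (.leaf (nat_lit 40701854581129218))) (.leaf
    (nat_lit 15346712717688834)))) (.node (.node (.node (.leaf (nat_lit 15134418389696708618))
    (.leaf (nat_lit 165752566832963977224))) (.node (.leaf (nat_lit 21538552319967234)) (.leaf
    (nat_lit 997550618263915319263253)))) (.node (.node (.leaf (nat_lit 44611095876371415120))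
    (.leaf (nat_lit 40105017335742466))) (.leaf (nat_lit 0))))) (.node (.node (.node (.node (.leaf
    (nat_lit 0)) (.leaf (nat_lit 0))) (.node (.leaf (nat_lit 73952805553367613457)) (.leaf (nat_lit
    211396464926544560165)))) (.node (.node (.leaf (nat_lit 51598482907859189826)) (.leaf (nat_lit
    198711598082339045473))) (.leaf (nat_lit 125987415439215624270)))) (.node (.node (.node (.leaf
    (nat_lit 0)) (.leaf (nat_lit 115408445517791952898))) (.node (.leaf (nat_lit 9540913365909506))
    (.leaf (nat_lit 61675743255592962)))) (.node (.node (.leaf (nat_lit 53761320153409323038))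
    (.leaf (nat_lit 160146766722131755082))) (.leaf (nat_lit 144366307336115126317))))))) (.node
    (.node (.node (.node (.node (.node (.leaf (nat_lit 2883183598452801553)) (.leaf (nat_lit
    2114892669687402512112746609))) (.node (.leaf (nat_lit 0)) (.leaf (nat_lit
    218746620323375022172)))) (.node (.node (.leaf (nat_lit 39353001319797555228)) (.leaf (nat_lit
    186962303612033892354))) (.leaf (nat_lit 22594538749165570)))) (.node (.node (.node (.leaf
    (nat_lit 17802150112001196079)) (.leaf (nat_lit 149187993014521495568))) (.node (.leaf (nat_lit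
    65163412645781635074)) (.leaf (nat_lit 4090762008108082138546765887)))) (.node (.node (.leaf
    (nat_lit 59314046558795923475)) (.leaf (nat_lit 41951999301910530))) (.leaf (nat_lit
    291052902605325651411015))))) (.node (.node (.node (.node (.leaf (nat_lit 8720042779327266863))
    (.leaf (nat_lit 294332374703075485810777))) (.node (.leaf (nat_lit 65003765919660572709))
    (.leaf (nat_lit 921647509434278739181574)))) (.node (.node (.leaf (nat_lit
    49868062591713214480)) (.leaf (nat_lit 164411619567173042275))) (.leaf (nat_lit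
    17722645676163074)))) (.node (.node (.node (.leaf (nat_lit 24363155978870521923)) (.leaf
    (nat_lit 0))) (.node (.leaf (nat_lit 16824026848690178)) (.leaf (nat_lit 60584890281885698))))
    (.node (.node (.leaf (nat_lit 45983920118850322439)) (.leaf (nat_lit 216133071834007666773)))
    (.leaf (nat_lit 580088000727486176690211)))))) (.node (.node (.node (.node (.node (.leaf
    (nat_lit 4396446133275262998)) (.leaf (nat_lit 148599040985492815887))) (.node (.leaf (nat_lit
    20112661832400973)) (.leaf (nat_lit 226460952491223875598)))) (.node (.node (.leaf (nat_lit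
    15424074969868599371)) (.leaf (nat_lit 155187085896283521086))) (.leaf (nat_lit
    18531044420616194)))) (.node (.node (.node (.leaf (nat_lit 26882884927746146343)) (.leaf
    (nat_lit 147891132509987209232))) (.node (.leaf (nat_lit 394364535146750455054338)) (.leaf
    (nat_lit 58843040525189122)))) (.node (.node (.leaf (nat_lit 0)) (.leaf (nat_lit
    47933608844984322))) (.leaf (nat_lit 0))))) (.node (.node (.node (.node (.leaf (nat_lit
    50187251070268619358263)) (.leaf (nat_lit 0))) (.node (.leaf (nat_lit 91606757685676146731))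
    (.leaf (nat_lit 314813106035771828357498318894059931852064215050266411094)))) (.node (.node
    (.leaf (nat_lit 0)) (.leaf (nat_lit 37430635689803778))) (.leaf (nat_lit
    85419622313832415246)))) (.node (.node (.node (.leaf (nat_lit
    10184250761187512312685462255239209)) (.leaf (nat_lit 181125128312976506882))) (.node (.leaf
    (nat_lit 10948339789070338)) (.leaf (nat_lit 257596678142427332616)))) (.node (.node (.leaf
    (nat_lit 0)) (.leaf (nat_lit 220045345462191063079))) (.leaf (nat_lit
    141966487221239480367)))))))))) (.node (.node (.node (.node (.node (.node (.node (.node (.node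
    (.leaf (nat_lit 1)) (.leaf (nat_lit 0))) (.node (.leaf (nat_lit 39854538936012701708)) (.leaf
    (nat_lit 905055324587806987386885)))) (.node (.node (.leaf (nat_lit 19242968608808304677))
    (.leaf (nat_lit 43586715394375682))) (.node (.leaf (nat_lit 8643806366924802)) (.leaf (nat_lit
    63013007093006338))))) (.node (.node (.node (.leaf (nat_lit 10305996269834928186)) (.leaf
    (nat_lit 0))) (.node (.leaf (nat_lit 357501223317936753868868)) (.leaf (nat_lit 0)))) (.node
    (.node (.leaf (nat_lit 50301692711939538955)) (.leaf (nat_lit 44467510107570178))) (.leaf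
    (nat_lit 0))))) (.node (.node (.node (.node (.leaf (nat_lit 20959537126864333307939)) (.leaf
    (nat_lit 208747919932625480961415689418380107367000562107851538551))) (.node (.leaf (nat_lit
    326171589110095375761443)) (.leaf (nat_lit 228745896034956410888)))) (.node (.node (.leaf
    (nat_lit 44466803847312113707)) (.leaf (nat_lit 164482762380421562463))) (.leaf (nat_lit
    17968146006802434)))) (.node (.node (.node (.leaf (nat_lit 15423141536036225084)) (.leaf
    (nat_lit 164167511050750722112))) (.node (.leaf (nat_lit 396136286476761194299394)) (.leaf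
    (nat_lit 249307538535575912471)))) (.node (.node (.leaf (nat_lit 212524872348024399200328))
    (.leaf (nat_lit 143806753933025804408))) (.leaf (nat_lit 137208292979217989691)))))) (.node
    (.node (.node (.node (.node (.leaf (nat_lit 0)) (.leaf (nat_lit 2552572527047327606200664165)))
    (.node (.leaf (nat_lit 40503409400952848421)) (.leaf (nat_lit 225718773123043754049)))) (.node
    (.node (.leaf (nat_lit 39209483338334273575)) (.leaf (nat_lit 66698284578409480194))) (.leaf
    (nat_lit 12971673112412162)))) (.node (.node (.node (.leaf (nat_lit 14990144786047107136))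
    (.leaf (nat_lit 166328570102530900027))) (.node (.leaf (nat_lit 86276290275874897922)) (.leaf
    (nat_lit 1000190518220691410780166)))) (.node (.node (.leaf (nat_lit 178013472816992549601316))
    (.leaf (nat_lit 207643574764461817870))) (.leaf (nat_lit 131946610587353677854))))) (.node
    (.node (.node (.node (.leaf (nat_lit 0)) (.leaf (nat_lit 0))) (.node (.leaf (nat_lit
    57582009715743981579)) (.leaf (nat_lit 224726715125972795436)))) (.node (.node (.leaf (nat_lit
    0)) (.leaf (nat_lit 177880357572561797169))) (.leaf (nat_lit 510938740423865407897694))))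
    (.node (.node (.node (.leaf (nat_lit 25079246422909583425)) (.leaf (nat_lit
    179467381201415897166))) (.node (.leaf (nat_lit 16665722944094210)) (.leaf (nat_lit
    59635049674440706)))) (.node (.node (.leaf (nat_lit 0)) (.leaf (nat_lit 0))) (.leaf (nat_lit
    0))))))) (.node (.node (.node (.node (.node (.node (.leaf (nat_lit 2450398152264712202)) (.leaf
    (nat_lit 0))) (.node (.leaf (nat_lit 47569680232750448663)) (.leaf (nat_lit
    577823415428010555473940)))) (.node (.node (.leaf (nat_lit 39423035254094626823)) (.leaf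
    (nat_lit 38467457974927362))) (.leaf (nat_lit 13763209815261186)))) (.node (.node (.node (.leaf
    (nat_lit 245443819951521198741192758)) (.leaf (nat_lit 0))) (.node (.leaf (nat_lit
    21802340621352962)) (.leaf (nat_lit 229631540161365082149)))) (.node (.node (.leaf (nat_lit
    39637380029407756303)) (.leaf (nat_lit 48971178454417410))) (.leaf (nat_lit
    131009562643079036941))))) (.node (.node (.node (.node (.leaf (nat_lit 11460025665550745604))
    (.leaf (nat_lit 596933052454631612088410))) (.node (.leaf (nat_lit 224046234982351406104665))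
    (.leaf (nat_lit 0)))) (.node (.node (.leaf (nat_lit 199270743986911175770118)) (.leaf (nat_lit
    40632035592765442))) (.leaf (nat_lit 12479830637543426)))) (.node (.node (.node (.leaf (nat_lit
    27817346915161538570)) (.leaf (nat_lit 177804252233840394254))) (.node (.leaf (nat_lit
    22013627242512386)) (.leaf (nat_lit 59001593537888258)))) (.node (.node (.leaf (nat_lit
    242355639638086675333126)) (.leaf (nat_lit 828045210348362030907519))) (.leaf (nat_lit
    139534050480472916012)))))) (.node (.node (.node (.node (.node (.leaf (nat_lit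
    12693378151462587334685)) (.leaf (nat_lit 348950665513167688564854))) (.node (.leaf (nat_lit
    0)) (.leaf (nat_lit 584290060879346859769981)))) (.node (.node (.leaf (nat_lit
    15424039699597164586)) (.leaf (nat_lit 36690990781825026))) (.leaf (nat_lit
    19551305311846402)))) (.node (.node (.node (.leaf (nat_lit 0)) (.leaf (nat_lit
    170530393482164633645))) (.node (.leaf (nat_lit 24955397038019903490)) (.leaf (nat_lit
    59916103744356354)))) (.node (.node (.leaf (nat_lit 0)) (.leaf (nat_lit 48179839320064002)))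
    (.leaf (nat_lit 555510682279374353596505))))) (.node (.node (.node (.node (.leaf (nat_lit
    21252884243490168635445)) (.leaf (nat_lit 135209417544711733264))) (.node (.leaf (nat_lit 0))
    (.leaf (nat_lit 0)))) (.node (.node (.leaf (nat_lit 50301411082344005644)) (.leaf (nat_lit
    138543629583201271931))) (.leaf (nat_lit 109342374098517557347)))) (.node (.node (.node (.leaf
    (nat_lit 28105771080237645839)) (.leaf (nat_lit 114976170180574642178))) (.node (.leaf (nat_lit
    43475097273055248386)) (.leaf (nat_lit 255790664202848501771)))) (.node (.node (.leaf (nat_lit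
    69902449950683496457)) (.leaf (nat_lit 161945163176433877038))) (.leaf (nat_lit
    595367618656978910576676)))))))) (.node (.node (.node (.node (.node (.node (.node (.leaf
    (nat_lit 1225295835303182340)) (.leaf (nat_lit 147732590208936509504))) (.node (.leaf (nat_lit
    47132496731461320726)) (.leaf (nat_lit 134419514286644854821)))) (.node (.node (.leaf (nat_lit
    156758272631380082163732)) (.leaf (nat_lit 43135098423429234690))) (.leaf (nat_lit
    12923260060532146178)))) (.node (.node (.node (.leaf (nat_lit 19459474620254715953)) (.leaf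
    (nat_lit 0))) (.node (.leaf (nat_lit 49814602532484481031)) (.leaf (nat_lit
    987500816062253489192966)))) (.node (.node (.leaf (nat_lit 34451924803012198422)) (.leaf
    (nat_lit 200729914832339533826))) (.leaf (nat_lit 71729138067528941635))))) (.node (.node
    (.node (.node (.leaf (nat_lit 2981801452528072127220978607915049)) (.leaf (nat_lit 0))) (.node
    (.leaf (nat_lit 34379077209869713430)) (.leaf (nat_lit 0)))) (.node (.node (.leaf (nat_lit
    42739954925321781329)) (.leaf (nat_lit 163330087097699860561))) (.leaf (nat_lit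
    13517563455733762)))) (.node (.node (.node (.leaf (nat_lit 27240886094138638344)) (.leaf
    (nat_lit 165032202256515268623))) (.node (.leaf (nat_lit 82745696540017491970)) (.leaf (nat_lit
    58526527205277698)))) (.node (.node (.leaf (nat_lit 0)) (.leaf (nat_lit
    598772717820380306472989))) (.leaf (nat_lit 0)))))) (.node (.node (.node (.node (.node (.leaf
    (nat_lit 5188692476390735887)) (.leaf (nat_lit 0))) (.node (.leaf (nat_lit 0)) (.leaf (nat_lit
    225286691501736394760)))) (.node (.node (.leaf (nat_lit 39422560960856129558)) (.leaf (nat_lit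
    40314817898217474))) (.leaf (nat_lit 7236654821670914)))) (.node (.node (.node (.leaf (nat_lit
    23204833711802744896)) (.leaf (nat_lit 166616800547402088463))) (.node (.leaf (nat_lit
    40591827624932868098)) (.leaf (nat_lit 245846521715135545368)))) (.node (.node (.leaf (nat_lit
    29406662042212040741)) (.leaf (nat_lit 167945063408968335362))) (.leaf (nat_lit 0))))) (.node
    (.node (.node (.node (.leaf (nat_lit 0)) (.leaf (nat_lit 0))) (.node (.leaf (nat_lit
    60752543913542352912)) (.leaf (nat_lit 224943292605675012142)))) (.node (.node (.leaf (nat_lit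
    51166260488933933064)) (.leaf (nat_lit 196910053820735881278))) (.leaf (nat_lit
    207810960934148707188809)))) (.node (.node (.node (.leaf (nat_lit 25367476867780771900)) (.leaf
    (nat_lit 43797752907431938))) (.node (.leaf (nat_lit 56661585073021321218)) (.leaf (nat_lit
    60796133953372162)))) (.node (.node (.leaf (nat_lit 51455512302797914171)) (.leaf (nat_lit
    892382043288161535393881))) (.leaf (nat_lit 54560379199419514902))))))) (.node (.node (.node
    (.node (.node (.node (.leaf (nat_lit 2450292659277987856)) (.leaf (nat_lit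
    70287266161273012302))) (.node (.leaf (nat_lit 77192599418823704580)) (.leaf (nat_lit
    211107846835105103909)))) (.node (.node (.leaf (nat_lit 39422560823417176090)) (.leaf (nat_lit
    38379514224574466))) (.leaf (nat_lit 23949111304781826)))) (.node (.node (.node (.leaf (nat_lit
    0)) (.leaf (nat_lit 157631360833933213763))) (.node (.leaf (nat_lit 34683000249764741122))
    (.leaf (nat_lit 231432962471666843670)))) (.node (.node (.leaf (nat_lit 38271153346321776662))
    (.leaf (nat_lit 46314818491252738))) (.leaf (nat_lit 49872975716472258619))))) (.node (.node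
    (.node (.node (.leaf (nat_lit 0)) (.leaf (nat_lit 151646078226237947989))) (.node (.leaf
    (nat_lit 66877263364646699054)) (.leaf (nat_lit 232293008721840373807)))) (.node (.node (.leaf
    (nat_lit 0)) (.leaf (nat_lit 42426481518968834))) (.leaf (nat_lit 26258700654923153410))))
    (.node (.node (.node (.leaf (nat_lit 28830568921929285646)) (.leaf (nat_lit
    178957630980665573383))) (.node (.leaf (nat_lit 16753658104512514)) (.leaf (nat_lit
    60321007491219458)))) (.node (.node (.leaf (nat_lit 60534469955565060111)) (.leaf (nat_lit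
    614712058563758097956992))) (.leaf (nat_lit 53191548675230466085)))))) (.node (.node (.node
    (.node (.node (.leaf (nat_lit 7999888600441487367)) (.leaf (nat_lit 150616600824816795678)))
    (.node (.leaf (nat_lit 62985765975037771820)) (.leaf (nat_lit 208785766461510713353)))) (.node
    (.node (.leaf (nat_lit 185085269323679030050872)) (.leaf (nat_lit 171688240738734375011)))
    (.leaf (nat_lit 11951566840004610)))) (.node (.node (.node (.leaf (nat_lit
    72921064850789981487139)) (.leaf (nat_lit 0))) (.node (.leaf (nat_lit 42105140848959356930))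
    (.leaf (nat_lit 59247626444472322)))) (.node (.node (.leaf (nat_lit 260677071578830712602692))
    (.leaf (nat_lit 40509706334240770))) (.leaf (nat_lit 0))))) (.node (.node (.node (.node (.leaf
    (nat_lit 0)) (.leaf (nat_lit 136938553579736858636))) (.node (.leaf (nat_lit
    34739910950143590442)) (.leaf (nat_lit 238133069414286950416)))) (.node (.node (.leaf (nat_lit
    50734038190267760706)) (.leaf (nat_lit 52840313878154932005668784890642473))) (.leaf (nat_lit
    884187619551319811974037605)))) (.node (.node (.node (.leaf (nat_lit 90041299568088762810436))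
    (.leaf (nat_lit 67346169777851924482))) (.node (.leaf (nat_lit 10244643757359106)) (.leaf
    (nat_lit 256876102159098380295)))) (.node (.node (.leaf (nat_lit 55490860860253077519)) (.leaf
    (nat_lit 3693878345930102124581290100))) (.leaf (nat_lit 0))))))))) (.node (.node (.node (.node
    (.node (.node (.node (.node (.leaf (nat_lit 1)) (.leaf (nat_lit 0))) (.node (.leaf (nat_lit
    652881345396607876763811874)) (.leaf (nat_lit 40268484540235832378650159617605743)))) (.node
    (.node (.leaf (nat_lit 37550821488933928998)) (.leaf (nat_lit 43657101318422530))) (.leaf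
    (nat_lit 11775241252634626)))) (.node (.node (.node (.leaf (nat_lit
    239426653301718777864716349)) (.leaf (nat_lit 166847099360988299281))) (.node (.leaf (nat_lit
    93045464162380218407)) (.leaf (nat_lit 240295307511899291651)))) (.node (.node (.leaf (nat_lit
    0)) (.leaf (nat_lit 37624184096030722))) (.leaf (nat_lit 298135155046475033215047))))) (.node
    (.node (.node (.node (.leaf (nat_lit 8287784995641294871)) (.leaf (nat_lit
    205309470820023522279303783964589135657978712997701156950))) (.node (.leaf (nat_lit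
    57869676901424103436)) (.leaf (nat_lit 209938899175429308425)))) (.node (.node (.leaf (nat_lit
    191583712457196749193287)) (.leaf (nat_lit 2737479589662065832843608148))) (.leaf (nat_lit
    23228312713297922)))) (.node (.node (.node (.leaf (nat_lit 15279149510442549261)) (.leaf
    (nat_lit 0))) (.node (.leaf (nat_lit 30648052859434893314)) (.leaf (nat_lit
    58403356133163010)))) (.node (.node (.leaf (nat_lit 31208647474265915419)) (.leaf (nat_lit
    871143413343439418556534))) (.leaf (nat_lit 0)))))) (.node (.node (.node (.node (.node (.leaf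
    (nat_lit 5405076330377314315)) (.leaf (nat_lit 151934729625148784685))) (.node (.leaf (nat_lit
    61472310046427906051)) (.leaf (nat_lit 0)))) (.node (.node (.leaf (nat_lit
    24508961112023302206)) (.leaf (nat_lit 33664937213689858))) (.leaf (nat_lit
    15645711160967170)))) (.node (.node (.node (.leaf (nat_lit 0)) (.leaf (nat_lit 0))) (.node
    (.leaf (nat_lit 38285950281750609922)) (.leaf (nat_lit 0)))) (.node (.node (.leaf (nat_lit 0))
    (.leaf (nat_lit 198857683466402856962))) (.leaf (nat_lit 510360745146082893496428))))) (.node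
    (.node (.node (.node (.leaf (nat_lit 11025868265074393104)) (.leaf (nat_lit 0))) (.node (.leaf
    (nat_lit 64801366711118004291)) (.leaf (nat_lit 236045492309433974803)))) (.node (.node (.leaf
    (nat_lit 0)) (.leaf (nat_lit 198855292307785318520))) (.leaf (nat_lit 125194619052523454561))))
    (.node (.node (.node (.leaf (nat_lit 32648266622930452497)) (.leaf (nat_lit
    179611585883725299832))) (.node (.leaf (nat_lit 50969017302730866690)) (.leaf (nat_lit
    59793379348840450)))) (.node (.node (.leaf (nat_lit 52031937844959445000)) (.leaf (nat_lit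
    592796528781073519476826))) (.leaf (nat_lit 327130696976893082861624))))))) (.node (.node
    (.node (.node (.node (.node (.leaf (nat_lit 2738593361224204301)) (.leaf (nat_lit 0))) (.node
    (.leaf (nat_lit 0)) (.leaf (nat_lit 918104523296756673544197)))) (.node (.node (.leaf (nat_lit
    15424004274706907160)) (.leaf (nat_lit 38203592364130306))) (.leaf (nat_lit
    21116752171761666)))) (.node (.node (.node (.leaf (nat_lit 15856595012847599638)) (.leaf
    (nat_lit 148899762578240241675))) (.node (.leaf (nat_lit 3675093604589086674607522840669))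
    (.leaf (nat_lit 68388342615046792894353621798813737)))) (.node (.node (.leaf (nat_lit
    38200731782636306519)) (.leaf (nat_lit 42497305529679874))) (.leaf (nat_lit 0))))) (.node
    (.node (.node (.node (.leaf (nat_lit 9296503480091082796)) (.leaf (nat_lit
    591843205242828380962822))) (.node (.leaf (nat_lit 65222243226606567446)) (.leaf (nat_lit
    952084067802338818261060)))) (.node (.node (.leaf (nat_lit 199271396463727010381859)) (.leaf
    (nat_lit 36761763252928514))) (.leaf (nat_lit 17581839468331010)))) (.node (.node (.node (.leaf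
    (nat_lit 28682038077976412190)) (.leaf (nat_lit 178380466790028476430))) (.node (.leaf (nat_lit
    29569092315162804226)) (.leaf (nat_lit 59283068514598914)))) (.node (.node (.leaf (nat_lit 0))
    (.leaf (nat_lit 150771186902642130962))) (.leaf (nat_lit 55786184976189554710)))))) (.node
    (.node (.node (.node (.node (.leaf (nat_lit 0)) (.leaf (nat_lit 0))) (.node (.leaf (nat_lit 0))
    (.leaf (nat_lit 214567297667519676516)))) (.node (.node (.leaf (nat_lit
    103901650032916271726644)) (.leaf (nat_lit 43129816773427202))) (.leaf (nat_lit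
    20079096662982658)))) (.node (.node (.node (.leaf (nat_lit 69670546555023453847588)) (.leaf
    (nat_lit 166329027671166746634))) (.node (.leaf (nat_lit 24811283048239923202)) (.leaf (nat_lit
    58702268677095426)))) (.node (.node (.leaf (nat_lit 61696327981444825110)) (.leaf (nat_lit
    48215049461956610))) (.leaf (nat_lit 0))))) (.node (.node (.node (.node (.leaf (nat_lit 0))
    (.leaf (nat_lit 0))) (.node (.leaf (nat_lit 84171438009398525982)) (.leaf (nat_lit
    237844839003775500299)))) (.node (.node (.leaf (nat_lit 51454367822862549008)) (.leaf (nat_lit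
    200513355949845708828))) (.leaf (nat_lit 2140092791184481725643554919)))) (.node (.node (.node
    (.leaf (nat_lit 0)) (.leaf (nat_lit 75416585503684886530))) (.node (.leaf (nat_lit
    21978614669115394)) (.leaf (nat_lit 256731723079641923587)))) (.node (.node (.leaf (nat_lit
    72287246617850085419)) (.leaf (nat_lit 652702618390950289080355))) (.leaf (nat_lit
    141390026417396449324)))))))) (.node (.node (.node (.node (.node (.node (.node (.leaf (nat_lit
    0)) (.leaf (nat_lit 0))) (.node (.leaf (nat_lit 48861879031321264175)) (.leaf (nat_lit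
    223359871831611998293)))) (.node (.node (.leaf (nat_lit 0)) (.leaf (nat_lit
    75416972557547667458))) (.leaf (nat_lit 15135391736791042)))) (.node (.node (.node (.leaf
    (nat_lit 18953628902733578291)) (.leaf (nat_lit 164476359030859825166))) (.node (.leaf (nat_lit
    70495271410238423042)) (.leaf (nat_lit 989280925809873952964698)))) (.node (.node (.leaf
    (nat_lit 0)) (.leaf (nat_lit 48935968312524802))) (.leaf (nat_lit 131030954741309046807)))))
    (.node (.node (.node (.node (.leaf (nat_lit 11171531080190853163)) (.leaf (nat_lit 0))) (.node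
    (.leaf (nat_lit 320276342224721799282694)) (.leaf (nat_lit 208946242605946175525)))) (.node
    (.node (.leaf (nat_lit 0)) (.leaf (nat_lit 34034940056305666))) (.leaf (nat_lit
    36129042891387633666)))) (.node (.node (.node (.leaf (nat_lit 25227389736258306115)) (.leaf
    (nat_lit 177083605692788703249))) (.node (.leaf (nat_lit 79863463598216118274)) (.leaf (nat_lit
    4209269809407390404177100931)))) (.node (.node (.leaf (nat_lit 16241165426884685)) (.leaf
    (nat_lit 207000088333084983318))) (.leaf (nat_lit 140182586367460704272)))))) (.node (.node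
    (.node (.node (.node (.leaf (nat_lit 4396446013016178714)) (.leaf (nat_lit 0))) (.node (.leaf
    (nat_lit 309348591739873995784198)) (.leaf (nat_lit 218027469496094228578)))) (.node (.node
    (.leaf (nat_lit 176244958535633019863046)) (.leaf (nat_lit 36127997878730754))) (.leaf (nat_lit
    14097701868273666)))) (.node (.node (.node (.leaf (nat_lit 0)) (.leaf (nat_lit
    148611778690261647425))) (.node (.leaf (nat_lit 81160973871172747266)) (.leaf (nat_lit
    58332781230555138)))) (.node (.node (.leaf (nat_lit 27603937978862469165)) (.leaf (nat_lit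
    200082767555523182594))) (.leaf (nat_lit 85182182155043930203))))) (.node (.node (.node (.node
    (.leaf (nat_lit 10665879447946854449)) (.leaf (nat_lit 0))) (.node (.leaf (nat_lit
    89011663713001996355)) (.leaf (nat_lit 921620135042961610375203)))) (.node (.node (.leaf
    (nat_lit 0)) (.leaf (nat_lit 684272650836049513414727))) (.leaf (nat_lit
    126203728963112730702)))) (.node (.node (.node (.leaf (nat_lit 23205784273964695563)) (.leaf
    (nat_lit 86945695889990287362))) (.node (.leaf (nat_lit 9945533644931074)) (.leaf (nat_lit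
    238280492929771569175)))) (.node (.node (.leaf (nat_lit 51599627533823442959)) (.leaf (nat_lit
    159516755364099063928))) (.leaf (nat_lit 142903024725830860846))))))) (.node (.node (.node
    (.node (.node (.node (.leaf (nat_lit 3675694013337501714)) (.leaf (nat_lit
    150987338312998649970))) (.node (.leaf (nat_lit 40722168200055422998)) (.leaf (nat_lit
    225665767454175068235)))) (.node (.node (.leaf (nat_lit 167970006193473916764233)) (.leaf
    (nat_lit 42777569325613058))) (.leaf (nat_lit 18970574193819650)))) (.node (.node (.node (.leaf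
    (nat_lit 72917099079225252773894)) (.leaf (nat_lit 165752109315867738176))) (.node (.leaf
    (nat_lit 33458054776418926594)) (.leaf (nat_lit 0)))) (.node (.node (.leaf (nat_lit 0)) (.leaf
    (nat_lit 43025157010358274))) (.leaf (nat_lit 133265280884277444653))))) (.node (.node (.node
    (.node (.leaf (nat_lit 48703008202642734448646)) (.leaf (nat_lit
    2275648249676968595850330222))) (.node (.leaf (nat_lit 353357697035751148224547)) (.leaf
    (nat_lit 234676855380895793191)))) (.node (.node (.leaf (nat_lit 23206911144534147081)) (.leaf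
    (nat_lit 167726304274858311742))) (.leaf (nat_lit 12110798457536514)))) (.node (.node (.node
    (.leaf (nat_lit 24646724919641702416)) (.leaf (nat_lit 162878338305748041792))) (.node (.leaf
    (nat_lit 25057174212444162)) (.leaf (nat_lit 3930038331335200795294761031)))) (.node (.node
    (.leaf (nat_lit 118661930059994585366611)) (.leaf (nat_lit 3626111147204376718595129460)))
    (.leaf (nat_lit 0)))))) (.node (.node (.node (.node (.node (.leaf (nat_lit
    20072220494406248300580)) (.leaf (nat_lit 153575940803382149211))) (.node (.leaf (nat_lit 0))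
    (.leaf (nat_lit 228190528180576256067)))) (.node (.node (.leaf (nat_lit
    97407603485504811827273)) (.leaf (nat_lit 170967629571033333880))) (.leaf (nat_lit
    18355131150106626)))) (.node (.node (.node (.leaf (nat_lit 15279026313600630849)) (.leaf
    (nat_lit 149418097622571483179))) (.node (.leaf (nat_lit 28774540549566955522)) (.leaf (nat_lit
    59581912339054594)))) (.node (.node (.leaf (nat_lit 39925857074121211934)) (.leaf (nat_lit
    47564181527986178))) (.leaf (nat_lit 0))))) (.node (.node (.node (.node (.leaf (nat_lit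
    15927280227395502117)) (.leaf (nat_lit 0))) (.node (.leaf (nat_lit 89228998060431048789))
    (.leaf (nat_lit 0)))) (.node (.node (.leaf (nat_lit 51886924553452191804)) (.leaf (nat_lit
    37483412247937026))) (.leaf (nat_lit 55514191431842594856)))) (.node (.node (.node (.leaf
    (nat_lit 17230686347988238350)) (.leaf (nat_lit 66481513679150055426))) (.node (.leaf (nat_lit
    14026989526712322)) (.leaf (nat_lit 257740934046516707406)))) (.node (.node (.leaf (nat_lit
    44970628078345846828)) (.leaf (nat_lit 159927902490171998211))) (.leaf (nat_lit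
    233791453378960385376312))))))))))) (.node (.node (.node (.node (.node (.node (.node (.node
    (.node (.node (.leaf (nat_lit 1)) (.leaf (nat_lit 0))) (.node (.leaf (nat_lit
    39854574120384790539)) (.leaf (nat_lit 600471527624501321007194)))) (.node (.node (.leaf
    (nat_lit 25873586674251005999)) (.leaf (nat_lit 43498754464153602))) (.node (.leaf (nat_lit
    8555845436702722)) (.leaf (nat_lit 62960230534873090))))) (.node (.node (.node (.leaf (nat_lit
    11026537025842118713)) (.leaf (nat_lit 164178751890697420809))) (.node (.leaf (nat_lit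
    58448055717402443798)) (.leaf (nat_lit 0)))) (.node (.node (.leaf (nat_lit 0)) (.leaf (nat_lit
    202237654168068358146))) (.leaf (nat_lit 119286868034814410857))))) (.node (.node (.node (.node
    (.leaf (nat_lit 35717438038035449249798)) (.leaf (nat_lit 367858362227172946739318))) (.node
    (.leaf (nat_lit 308491689675107126738950)) (.leaf (nat_lit 212765910696208826466)))) (.node
    (.node (.leaf (nat_lit 6177610375757901)) (.leaf (nat_lit 164410669589126643740))) (.leaf
    (nat_lit 17932961634713602)))) (.node (.node (.node (.leaf (nat_lit 0)) (.leaf (nat_lit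
    167482195560867495944))) (.node (.leaf (nat_lit 10015704820613122)) (.leaf (nat_lit
    951795201487194384760963)))) (.node (.node (.leaf (nat_lit 57363830041441665039)) (.leaf
    (nat_lit 147121331880708997241))) (.leaf (nat_lit 135190715530528096266)))))) (.node (.node
    (.node (.node (.node (.leaf (nat_lit 18007481314856201879573)) (.leaf (nat_lit
    2552573210587441593919537268))) (.node (.leaf (nat_lit 43028011243628855343)) (.leaf (nat_lit
    223432721323130028132)))) (.node (.node (.leaf (nat_lit 41583303473546592330)) (.leaf (nat_lit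
    66482111787705761794))) (.leaf (nat_lit 51979057245538418690)))) (.node (.node (.node (.leaf
    (nat_lit 0)) (.leaf (nat_lit 0))) (.node (.leaf (nat_lit 16084957466329090)) (.leaf (nat_lit
    231288882528092618789)))) (.node (.node (.leaf (nat_lit 60038510518319906854)) (.leaf (nat_lit
    205699585481535324162))) (.leaf (nat_lit 133625239387525808235))))) (.node (.node (.node (.node
    (.leaf (nat_lit 13550206194894962727)) (.leaf (nat_lit 161226254417804853287))) (.node (.leaf
    (nat_lit 81000622224954294302)) (.leaf (nat_lit 225231522904517312515)))) (.node (.node (.leaf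
    (nat_lit 23783371922607374349)) (.leaf (nat_lit 38837709925646384))) (.leaf (nat_lit
    37428222459218427982)))) (.node (.node (.node (.leaf (nat_lit 27241079797163688000)) (.leaf
    (nat_lit 205404526635498326037487609074307288156692406972839690326))) (.node (.leaf (nat_lit
    24089616864903170)) (.leaf (nat_lit 4024328938103761198844805253)))) (.node (.node (.leaf
    (nat_lit 210464673958635856199769)) (.leaf (nat_lit 216007252016906829953))) (.leaf (nat_lit
    2400059085478100240548823103))))))) (.node (.node (.node (.node (.node (.node (.leaf (nat_lit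
    0)) (.leaf (nat_lit 148309174166671785992))) (.node (.leaf (nat_lit 0)) (.leaf (nat_lit
    62870249319788555989065014998138991)))) (.node (.node (.leaf (nat_lit
    117480471213112991940679)) (.leaf (nat_lit 38432273602838530))) (.leaf (nat_lit
    13745617629216770)))) (.node (.node (.node (.leaf (nat_lit 33946550730731699830837)) (.leaf
    (nat_lit 150497377596446277675))) (.node (.leaf (nat_lit 13164577273544706)) (.leaf (nat_lit
    0)))) (.node (.node (.leaf (nat_lit 23928806936953421848)) (.leaf (nat_lit 40438968222875650)))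
    (.leaf (nat_lit 69904564569241747468))))) (.node (.node (.node (.node (.leaf (nat_lit
    4900655949292961836)) (.leaf (nat_lit 134348139016881373206))) (.node (.leaf (nat_lit
    81444912737477132373)) (.leaf (nat_lit 953847028440167119847492)))) (.node (.node (.leaf
    (nat_lit 47281289869066960918)) (.leaf (nat_lit 168158087103880822786))) (.leaf (nat_lit
    13500108708642818)))) (.node (.node (.node (.leaf (nat_lit 0)) (.leaf (nat_lit
    156097729150421499964))) (.node (.leaf (nat_lit 90383959932201533442)) (.leaf (nat_lit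
    983093777991631609528362)))) (.node (.node (.leaf (nat_lit 65155937152123732005)) (.leaf
    (nat_lit 143084720963646062701))) (.leaf (nat_lit 139515754606986723331)))))) (.node (.node
    (.node (.node (.node (.leaf (nat_lit 4324617117396828188)) (.leaf (nat_lit
    556784577754245496045685))) (.node (.leaf (nat_lit 57581164869907054604)) (.leaf (nat_lit
    208209200095961481225)))) (.node (.node (.leaf (nat_lit 0)) (.leaf (nat_lit
    42742668421365762))) (.leaf (nat_lit 19410567823491074)))) (.node (.node (.node (.leaf (nat_lit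
    23781294532825645071)) (.leaf (nat_lit 165918672279365156871))) (.node (.leaf (nat_lit
    25459820331092082690)) (.leaf (nat_lit 58156876549980162)))) (.node (.node (.leaf (nat_lit
    131649302226758527090771)) (.leaf (nat_lit 41670730483630082))) (.leaf (nat_lit
    50539332737031143533))))) (.node (.node (.node (.node (.leaf (nat_lit 23614067484924991242292))
    (.leaf (nat_lit 0))) (.node (.leaf (nat_lit 0)) (.leaf (nat_lit 237343021574735986727))))
    (.node (.node (.leaf (nat_lit 51166137395171229707)) (.leaf (nat_lit 171898768138524885019)))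
    (.leaf (nat_lit 126924322538627727460)))) (.node (.node (.node (.leaf (nat_lit 0)) (.leaf
    (nat_lit 177161891474737135618))) (.node (.leaf (nat_lit 43042751734597484546)) (.leaf (nat_lit
    256081234339744120862)))) (.node (.node (.leaf (nat_lit 54049708893595172928)) (.leaf (nat_lit
    0))) (.leaf (nat_lit 244493302919067464892472)))))))) (.node (.node (.node (.node (.node (.node
    (.node (.leaf (nat_lit 1153009538551709699)) (.leaf (nat_lit 0))) (.node (.leaf (nat_lit
    48429533424144023596)) (.leaf (nat_lit 159711764978329649199)))) (.node (.node (.leaf (nat_lit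
    34954884293920489490)) (.leaf (nat_lit 33066622499553282))) (.leaf (nat_lit
    20430622556291074)))) (.node (.node (.node (.leaf (nat_lit 3572386293219376)) (.leaf (nat_lit
    167279233836163203079))) (.node (.leaf (nat_lit 70769253447134019649)) (.leaf (nat_lit
    986919742357272768282679)))) (.node (.node (.leaf (nat_lit 0)) (.leaf (nat_lit
    169601034199364730882))) (.leaf (nat_lit 125195714531176939534))))) (.node (.node (.node (.node
    (.leaf (nat_lit 8216466273417232397)) (.leaf (nat_lit 149175624986177765435))) (.node (.leaf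
    (nat_lit 0)) (.leaf (nat_lit 65179275065908777567780397795180655)))) (.node (.node (.leaf
    (nat_lit 47064870719039143943)) (.leaf (nat_lit 177669549157356077107))) (.leaf (nat_lit
    12374071362846722)))) (.node (.node (.node (.leaf (nat_lit 0)) (.leaf (nat_lit 0))) (.node
    (.leaf (nat_lit 81881005385792552962)) (.leaf (nat_lit 58508935019233282)))) (.node (.node
    (.leaf (nat_lit 141400063970504916336669)) (.leaf (nat_lit 162037570428599468136))) (.leaf
    (nat_lit 125104253322867703830)))))) (.node (.node (.node (.node (.node (.leaf (nat_lit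
    3459275035108376600)) (.leaf (nat_lit 356309686563975677083703))) (.node (.leaf (nat_lit
    308797926445108921892954)) (.leaf (nat_lit 220260181736381677668)))) (.node (.node (.leaf
    (nat_lit 0)) (.leaf (nat_lit 43784461211880587266))) (.leaf (nat_lit 6744073612427266))))
    (.node (.node (.node (.leaf (nat_lit 14990303175851048968)) (.leaf (nat_lit 0))) (.node (.leaf
    (nat_lit 18688618180771842)) (.leaf (nat_lit 245488151525152981070)))) (.node (.node (.leaf
    (nat_lit 0)) (.leaf (nat_lit 40967025861984258))) (.leaf (nat_lit 0))))) (.node (.node (.node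
    (.node (.leaf (nat_lit 0)) (.leaf (nat_lit 162669780805592743979))) (.node (.leaf (nat_lit
    73794898065663131663)) (.leaf (nat_lit 0)))) (.node (.node (.leaf (nat_lit 0)) (.leaf (nat_lit
    156341625950725931112))) (.leaf (nat_lit 72808432880515743819)))) (.node (.node (.node (.leaf
    (nat_lit 27817540618186588219)) (.leaf (nat_lit 2575750904584354662734692424))) (.node (.leaf
    (nat_lit 7447434636689410)) (.leaf (nat_lit 60110038697639938)))) (.node (.node (.leaf (nat_lit
    52752513811108528138)) (.leaf (nat_lit 217880727991351443565))) (.leaf (nat_lit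
    142686816707805380652))))))) (.node (.node (.node (.node (.node (.node (.leaf (nat_lit
    2738610996359921679)) (.leaf (nat_lit 150775545925080383592))) (.node (.leaf (nat_lit
    38629806325541044268)) (.leaf (nat_lit 0)))) (.node (.node (.leaf (nat_lit 0)) (.leaf (nat_lit
    38326737666441218))) (.leaf (nat_lit 10403128050581506)))) (.node (.node (.node (.leaf (nat_lit
    21550587509689483271)) (.leaf (nat_lit 149056507152009723942))) (.node (.leaf (nat_lit
    40879953332731576322)) (.leaf (nat_lit 241593083231014682668)))) (.node (.node (.leaf (nat_lit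
    0)) (.leaf (nat_lit 41318637654638594))) (.leaf (nat_lit 129424594718716788746))))) (.node
    (.node (.node (.node (.leaf (nat_lit 12468304225090338861)) (.leaf (nat_lit
    152145309281806385243))) (.node (.leaf (nat_lit 0)) (.leaf (nat_lit 232509216688326246446))))
    (.node (.node (.leaf (nat_lit 49435716997420875787)) (.leaf (nat_lit 41722785487257602)))
    (.leaf (nat_lit 22982657763835906)))) (.node (.node (.node (.leaf (nat_lit
    31206657371104542734)) (.leaf (nat_lit 157827146669013270544))) (.node (.leaf (nat_lit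
    163905456745468850864130)) (.leaf (nat_lit 60004348142419970)))) (.node (.node (.leaf (nat_lit
    0)) (.leaf (nat_lit 153159255789427425349))) (.leaf (nat_lit 0)))))) (.node (.node (.node
    (.node (.node (.leaf (nat_lit 77379518254622146595979298)) (.leaf (nat_lit 0))) (.node (.leaf
    (nat_lit 63493634793954017283)) (.leaf (nat_lit 228097711837070688322)))) (.node (.node (.leaf
    (nat_lit 27388626226022383638)) (.leaf (nat_lit 171544055173324406891))) (.leaf (nat_lit
    20290211485450242)))) (.node (.node (.node (.leaf (nat_lit 90920114547384119459846)) (.leaf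
    (nat_lit 148323548417189150732))) (.node (.leaf (nat_lit 46284498624762281986)) (.leaf (nat_lit
    59071704584028162)))) (.node (.node (.leaf (nat_lit 250901235112863999459334)) (.leaf (nat_lit
    40492114148196354))) (.leaf (nat_lit 135190592316506308667))))) (.node (.node (.node (.node
    (.leaf (nat_lit 69660602342630853181445)) (.leaf (nat_lit 0))) (.node (.leaf (nat_lit 0))
    (.leaf (nat_lit 0)))) (.node (.node (.leaf (nat_lit 51598694134350807105)) (.leaf (nat_lit
    3385546112341330882629795941))) (.leaf (nat_lit 126924674382348615772)))) (.node (.node (.node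
    (.leaf (nat_lit 19892806291793575958)) (.leaf (nat_lit 158426986156669468674))) (.node (.leaf
    (nat_lit 10227051571314690)) (.leaf (nat_lit 1053048805182646721445894)))) (.node (.node (.leaf
    (nat_lit 0)) (.leaf (nat_lit 220186289474048819309))) (.leaf (nat_lit
    41238057735568544696028986564083753))))))))) (.node (.node (.node (.node (.node (.node (.node
    (.node (.leaf (nat_lit 1)) (.leaf (nat_lit 0))) (.node (.leaf (nat_lit
    1245495873515882204474179617)) (.leaf (nat_lit 59844768175358326318110456985092137)))) (.node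
    (.node (.leaf (nat_lit 150545468809317724717112)) (.leaf (nat_lit 83415190205257416706)))
    (.leaf (nat_lit 15228926585244680194)))) (.node (.node (.node (.leaf (nat_lit
    10810241098426023996)) (.leaf (nat_lit 138091615916321341452))) (.node (.leaf (nat_lit
    320294146309119566676003)) (.leaf (nat_lit 0)))) (.node (.node (.leaf (nat_lit
    15761814955915532139325903922987049)) (.leaf (nat_lit 37553815351853058))) (.leaf (nat_lit
    71057485979359313980))))) (.node (.node (.node (.node (.leaf (nat_lit 0)) (.leaf (nat_lit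
    148887394575666315328))) (.node (.leaf (nat_lit 76964904137102917662)) (.leaf (nat_lit
    227232809705462235202)))) (.node (.node (.leaf (nat_lit 98889828230092311232591)) (.leaf
    (nat_lit 795263954111444229029913))) (.leaf (nat_lit 22489440899432450)))) (.node (.node (.node
    (.leaf (nat_lit 14990795988988526604)) (.leaf (nat_lit 168635117099834081290))) (.node (.leaf
    (nat_lit 30792188762138017794)) (.leaf (nat_lit 971581276454300353298496)))) (.node (.node
    (.leaf (nat_lit 39353600914411946071)) (.leaf (nat_lit 870893537789173934850173))) (.leaf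
    (nat_lit 138814441998656929805)))))) (.node (.node (.node (.node (.node (.leaf (nat_lit
    2738699060369358871)) (.leaf (nat_lit 531685852367945266888810))) (.node (.leaf (nat_lit 0))
    (.leaf (nat_lit 226676240398405533805)))) (.node (.node (.leaf (nat_lit 24941341860622958643))
    (.leaf (nat_lit 42601750544384002))) (.leaf (nat_lit 10772718576336898)))) (.node (.node (.node
    (.leaf (nat_lit 0)) (.leaf (nat_lit 149777505347803742246))) (.node (.leaf (nat_lit
    396737390752842054369282)) (.leaf (nat_lit 1002862125823472102015044)))) (.node (.node (.leaf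
    (nat_lit 23784762289420435496)) (.leaf (nat_lit 196984186012826796034))) (.leaf (nat_lit
    133603988026784153613))))) (.node (.node (.node (.node (.leaf (nat_lit 8287732468191264783))
    (.leaf (nat_lit 588668406988081063002180))) (.node (.leaf (nat_lit 81302398601540075534))
    (.leaf (nat_lit 954150741664699215249476)))) (.node (.node (.leaf (nat_lit 0)) (.leaf (nat_lit
    177814631331548823569))) (.leaf (nat_lit 2096481737793703507919175741)))) (.node (.node (.node
    (.leaf (nat_lit 25588487020020432963)) (.leaf (nat_lit 179395413080136679524))) (.node (.leaf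
    (nat_lit 7165951070044162)) (.leaf (nat_lit 253846604396559007746)))) (.node (.node (.leaf
    (nat_lit 0)) (.leaf (nat_lit 133266205436117450774))) (.leaf (nat_lit
    585334456517463537614883))))))) (.node (.node (.node (.node (.node (.node (.leaf (nat_lit
    2017929459914702860)) (.leaf (nat_lit 0))) (.node (.leaf (nat_lit 74669827107661742093)) (.leaf
    (nat_lit 224225935300902453252)))) (.node (.node (.leaf (nat_lit 0)) (.leaf (nat_lit
    36198074565132290))) (.leaf (nat_lit 20624170962518018)))) (.node (.node (.node (.leaf (nat_lit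
    18234495616099221548)) (.leaf (nat_lit 165463702940546170910))) (.node (.leaf (nat_lit
    387919414614614436216861)) (.leaf (nat_lit 952357749968938545184824)))) (.node (.node (.leaf
    (nat_lit 38271153303372103706)) (.leaf (nat_lit 49059182334312450))) (.leaf (nat_lit
    131666344635346911249))))) (.node (.node (.node (.node (.leaf (nat_lit 8503711615999475715))
    (.leaf (nat_lit 131465201971026395173))) (.node (.leaf (nat_lit 67095740671592693804)) (.leaf
    (nat_lit 208874290607974187030)))) (.node (.node (.leaf (nat_lit 185081811052352009142278))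
    (.leaf (nat_lit 36339550787862530))) (.leaf (nat_lit 23088133570691074)))) (.node (.node (.node
    (.leaf (nat_lit 0)) (.leaf (nat_lit 154944807680174391308))) (.node (.leaf (nat_lit
    51834887468428230658)) (.leaf (nat_lit 251540127931208761346)))) (.node (.node (.leaf (nat_lit
    67388543860769751079)) (.leaf (nat_lit 0))) (.leaf (nat_lit 0)))))) (.node (.node (.node (.node
    (.node (.leaf (nat_lit 1566155529650178)) (.leaf (nat_lit 148310810540621627456))) (.node
    (.leaf (nat_lit 230238359506876117549128)) (.leaf (nat_lit 214495820615621214306)))) (.node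
    (.node (.leaf (nat_lit 30559160320741539889)) (.leaf (nat_lit 33735572245839874))) (.leaf
    (nat_lit 19586498273869826)))) (.node (.node (.node (.leaf (nat_lit 105978494112267178868771))
    (.leaf (nat_lit 0))) (.node (.leaf (nat_lit 8256469036302338)) (.leaf (nat_lit
    58684676491051010)))) (.node (.node (.leaf (nat_lit 0)) (.leaf (nat_lit 42198521834766338)))
    (.leaf (nat_lit 25274210610291116809290193450762351))))) (.node (.node (.node (.node (.leaf
    (nat_lit 14631791230472880171)) (.leaf (nat_lit 138812156526299643970))) (.node (.leaf (nat_lit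
    34019334966814638120)) (.leaf (nat_lit 0)))) (.node (.node (.leaf (nat_lit 0)) (.leaf (nat_lit
    137390899810229485619))) (.leaf (nat_lit 287878333872002839085158)))) (.node (.node (.node
    (.leaf (nat_lit 35098137099807948845)) (.leaf (nat_lit 120164351289568985090))) (.node (.leaf
    (nat_lit 16929657274368002)) (.leaf (nat_lit 0)))) (.node (.node (.leaf (nat_lit
    54770284868334190651)) (.leaf (nat_lit 593299562968326445727750))) (.leaf (nat_lit
    142182624767441567747)))))))) (.node (.node (.node (.node (.node (.node (.node (.leaf (nat_lit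
    1297476578938388487)) (.leaf (nat_lit 0))) (.node (.leaf (nat_lit 48650121887904628782)) (.leaf
    (nat_lit 652703483592441118064696)))) (.node (.node (.leaf (nat_lit 28397608086456696854))
    (.leaf (nat_lit 120308853540097556482))) (.leaf (nat_lit 15100207364702210)))) (.node (.node
    (.node (.leaf (nat_lit 15566499770485899303)) (.leaf (nat_lit 149476223244644319298))) (.node
    (.leaf (nat_lit 17298723814113282)) (.leaf (nat_lit 231217264584086978582)))) (.node (.node
    (.leaf (nat_lit 30992386258775506981)) (.leaf (nat_lit 40825970546049026))) (.leaf (nat_lit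
    0))))) (.node (.node (.node (.node (.leaf (nat_lit 9944599536657956879)) (.leaf (nat_lit
    157195797076480557069))) (.node (.leaf (nat_lit 34523157239343284261)) (.leaf (nat_lit 0))))
    (.node (.node (.leaf (nat_lit 804049316978916578797355092)) (.leaf (nat_lit
    34017347870261250))) (.leaf (nat_lit 26113035932841213954)))) (.node (.node (.node (.leaf
    (nat_lit 27533109922292236302)) (.leaf (nat_lit
    208278657243502806114364975350356716530754125342830297174))) (.node (.leaf (nat_lit
    14325816171298818)) (.leaf (nat_lit 237202794912610975822)))) (.node (.node (.leaf (nat_lit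
    247671900711994624573530)) (.leaf (nat_lit 151936581146895384598))) (.leaf (nat_lit
    139822122475410620491)))))) (.node (.node (.node (.node (.node (.leaf (nat_lit 0)) (.leaf
    (nat_lit 425408019329979758411832))) (.node (.leaf (nat_lit 32649272474206404645)) (.leaf
    (nat_lit 217953934158428569692)))) (.node (.node (.leaf (nat_lit 40650372427223859237)) (.leaf
    (nat_lit 80533906558602641410))) (.leaf (nat_lit 14801380720115714)))) (.node (.node (.node
    (.leaf (nat_lit 23493064113724260411)) (.leaf (nat_lit 170220190439873642560))) (.node (.leaf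
    (nat_lit 23579250196086786)) (.leaf (nat_lit 4060579889762735506153865288)))) (.node (.node
    (.leaf (nat_lit 44542451166426103815)) (.leaf (nat_lit 40122609521786882))) (.leaf (nat_lit
    0))))) (.node (.node (.node (.node (.leaf (nat_lit 1496267821809712)) (.leaf (nat_lit
    135497612693541683260))) (.node (.leaf (nat_lit 68404492098028634155)) (.leaf (nat_lit
    958799397433477834211334)))) (.node (.node (.leaf (nat_lit 32143002886362824713)) (.leaf
    (nat_lit 138397489571448422470))) (.leaf (nat_lit 291041788178472770994228)))) (.node (.node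
    (.node (.leaf (nat_lit 31852801111632314398)) (.leaf (nat_lit 86801580693324496898))) (.node
    (.leaf (nat_lit 9664058668220418)) (.leaf (nat_lit 0)))) (.node (.node (.leaf (nat_lit 0))
    (.leaf (nat_lit 159516684995354886195))) (.leaf (nat_lit 0))))))) (.node (.node (.node (.node
    (.node (.node (.leaf (nat_lit 0)) (.leaf (nat_lit 0))) (.node (.leaf (nat_lit
    43460356773496684588)) (.leaf (nat_lit 218748273988863197284)))) (.node (.node (.leaf (nat_lit
    116598414239773577445405)) (.leaf (nat_lit 187106418808699682818))) (.leaf (nat_lit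
    22752877013499906)))) (.node (.node (.node (.leaf (nat_lit 10450287603109527589)) (.leaf
    (nat_lit 0))) (.node (.leaf (nat_lit 33602169955904847874)) (.leaf (nat_lit
    999318837364662359818308)))) (.node (.node (.leaf (nat_lit 234667170105746195218468)) (.leaf
    (nat_lit 205122983957383806978))) (.leaf (nat_lit 133251893174863069191))))) (.node (.node
    (.node (.node (.leaf (nat_lit 6486099034477101093)) (.leaf (nat_lit
    1429090272389094947951018047))) (.node (.leaf (nat_lit 317909178379015358251014)) (.leaf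
    (nat_lit 961521941099209201811524)))) (.node (.node (.leaf (nat_lit 0)) (.leaf (nat_lit
    175652640091476787304))) (.leaf (nat_lit 12093206271492098)))) (.node (.node (.node (.leaf
    (nat_lit 0)) (.leaf (nat_lit 176850668188734783496))) (.node (.leaf (nat_lit
    25655643545403394)) (.leaf (nat_lit 234392653791441911907)))) (.node (.node (.leaf (nat_lit
    44542521947487141970)) (.leaf (nat_lit 885281041873219470229593))) (.leaf (nat_lit
    338937173284009168601144)))))) (.node (.node (.node (.node (.node (.leaf (nat_lit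
    35717076395222121054243)) (.leaf (nat_lit 0))) (.node (.leaf (nat_lit 82380412084048560167))
    (.leaf (nat_lit 228334643317112504358)))) (.node (.node (.leaf (nat_lit 44686512615871152143))
    (.leaf (nat_lit 176372054990526808185))) (.leaf (nat_lit 11846022313672706)))) (.node (.node
    (.node (.leaf (nat_lit 0)) (.leaf (nat_lit 171683807688239808529))) (.node (.leaf (nat_lit
    11493439858409474)) (.leaf (nat_lit 247792921711665676290)))) (.node (.node (.leaf (nat_lit
    25081975110122012695)) (.leaf (nat_lit 39858804040531970))) (.leaf (nat_lit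
    135334707538941902863))))) (.node (.node (.node (.node (.leaf (nat_lit 0)) (.leaf (nat_lit
    138379811039381487632))) (.node (.leaf (nat_lit 0)) (.leaf (nat_lit 0)))) (.node (.node (.leaf
    (nat_lit 50589993413885755451)) (.leaf (nat_lit 37448227875848194))) (.leaf (nat_lit
    351002515191770164494388)))) (.node (.node (.node (.leaf (nat_lit 36107242144199278661)) (.leaf
    (nat_lit 38062743206625282))) (.node (.leaf (nat_lit 14871405866909698)) (.leaf (nat_lit
    341542547092947050906632784897728481396001240704495714390)))) (.node (.node (.leaf (nat_lit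
    44970663262717935619)) (.leaf (nat_lit 0))) (.leaf (nat_lit 55857627161543508005))))))))))
    (.node (.node (.node (.node (.node (.node (.node (.node (.node (.leaf (nat_lit 1)) (.leaf
    (nat_lit 0))) (.node (.leaf (nat_lit 39638436522643095565)) (.leaf (nat_lit
    578708858510126837137538)))) (.node (.node (.leaf (nat_lit 71136701629900456722438)) (.leaf
    (nat_lit 43621899766464514))) (.node (.leaf (nat_lit 52698841331387269122)) (.leaf (nat_lit
    256948458816004096099))))) (.node (.node (.node (.leaf (nat_lit 10305890716718661642)) (.leaf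
    (nat_lit 139244537403748319292))) (.node (.leaf (nat_lit 0)) (.leaf (nat_lit 0)))) (.node
    (.node (.leaf (nat_lit 51166348656022585356)) (.leaf (nat_lit 187903540875998986242))) (.leaf
    (nat_lit 129445687577985351750))))) (.node (.node (.node (.node (.leaf (nat_lit
    9585841962100129830)) (.leaf (nat_lit 0))) (.node (.leaf (nat_lit 83390819452718350374)) (.leaf
    (nat_lit 225863557089067204672)))) (.node (.node (.leaf (nat_lit 45764632188366815299)) (.leaf
    (nat_lit 138974407754948739184))) (.leaf (nat_lit 21662582385541122)))) (.node (.node (.node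
    (.leaf (nat_lit 0)) (.leaf (nat_lit 148035282933974761537))) (.node (.leaf (nat_lit
    74819325599156469762)) (.leaf (nat_lit 234320103495935656031)))) (.node (.node (.leaf (nat_lit
    0)) (.leaf (nat_lit 212532988739936518157))) (.leaf (nat_lit 0)))))) (.node (.node (.node
    (.node (.node (.leaf (nat_lit 3027140525573734422)) (.leaf (nat_lit
    42825110414245677180886314213900329))) (.node (.leaf (nat_lit 78625359835429011463)) (.leaf
    (nat_lit 225718808307415842882)))) (.node (.node (.leaf (nat_lit 40358025393638408266)) (.leaf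
    (nat_lit 42953568495468546))) (.leaf (nat_lit 54428995449755205634)))) (.node (.node (.node
    (.leaf (nat_lit 0)) (.leaf (nat_lit 149620373814660759612))) (.node (.leaf (nat_lit
    87140981395740098562)) (.leaf (nat_lit 958850932353167519907896)))) (.node (.node (.leaf
    (nat_lit 43537497439854592038)) (.leaf (nat_lit 615828532680491828248674))) (.leaf (nat_lit
    69904916567581458443))))) (.node (.node (.node (.node (.leaf (nat_lit 10809818628262920216))
    (.leaf (nat_lit 133050856188212871190))) (.node (.leaf (nat_lit 64211273182861262860)) (.leaf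
    (nat_lit 211540175417031983126)))) (.node (.node (.leaf (nat_lit 0)) (.leaf (nat_lit
    172986702501565890579))) (.leaf (nat_lit 50182487741474996319)))) (.node (.node (.node (.leaf
    (nat_lit 23782244914598969410)) (.leaf (nat_lit 630613086844519237025898))) (.node (.leaf
    (nat_lit 9391733333223997442)) (.leaf (nat_lit 59687826232573954)))) (.node (.node (.leaf
    (nat_lit 261550126385629214539866)) (.leaf (nat_lit 162521623799888281603))) (.leaf (nat_lit
    52470726521555976229))))))) (.node (.node (.node (.node (.node (.node (.leaf (nat_lit 0))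
    (.leaf (nat_lit 0))) (.node (.leaf (nat_lit 28109274399161647144)) (.leaf (nat_lit 0)))) (.node
    (.node (.leaf (nat_lit 0)) (.leaf (nat_lit 38502642347016194))) (.leaf (nat_lit
    55653517241757138946)))) (.node (.node (.node (.leaf (nat_lit 0)) (.leaf (nat_lit
    150629250371086909500))) (.node (.leaf (nat_lit 22470843691040770)) (.leaf (nat_lit
    985136894298075294859270)))) (.node (.node (.leaf (nat_lit 208982664893613606174792)) (.leaf
    (nat_lit 155117599535956951042))) (.leaf (nat_lit 149469148297518825865322))))) (.node (.node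
    (.node (.node (.leaf (nat_lit 46636614407918524301317)) (.leaf (nat_lit
    583354447411714805989444))) (.node (.leaf (nat_lit 0)) (.leaf (nat_lit
    232076871072559071235)))) (.node (.node (.leaf (nat_lit 0)) (.leaf (nat_lit
    170464035649030914050))) (.leaf (nat_lit 26906021431238393858)))) (.node (.node (.node (.leaf
    (nat_lit 23926113691811119164)) (.leaf (nat_lit 0))) (.node (.leaf (nat_lit 20571085166739458))
    (.leaf (nat_lit 59019185723932674)))) (.node (.node (.leaf (nat_lit 232903192410805978267683))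
    (.leaf (nat_lit 214853978569794846724))) (.leaf (nat_lit 140762917456528474116)))))) (.node
    (.node (.node (.node (.node (.leaf (nat_lit 7279471088520855582)) (.leaf (nat_lit 0))) (.node
    (.leaf (nat_lit 31856551047578451992)) (.leaf (nat_lit 0)))) (.node (.node (.leaf (nat_lit 0))
    (.leaf (nat_lit 36268786906693634))) (.leaf (nat_lit 14994937716277250)))) (.node (.node (.node
    (.leaf (nat_lit 20107676668024520726)) (.leaf (nat_lit 156335240150400565315))) (.node (.leaf
    (nat_lit 31584695951502278658)) (.leaf (nat_lit 245488432948590084098)))) (.node (.node (.leaf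
    (nat_lit 58092551052290359381)) (.leaf (nat_lit 42075376532455426))) (.leaf (nat_lit
    1429119550177856945842880622))))) (.node (.node (.node (.node (.leaf (nat_lit
    123335822446823808092667958)) (.leaf (nat_lit 0))) (.node (.leaf (nat_lit
    301966939644099979116579)) (.leaf (nat_lit 237844909346749874185)))) (.node (.node (.leaf
    (nat_lit 34016500382888558605)) (.leaf (nat_lit 200369012054761340956))) (.leaf (nat_lit
    108982121299815104604)))) (.node (.node (.node (.leaf (nat_lit 23494014693066080272)) (.leaf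
    (nat_lit 180260368061317709826))) (.node (.leaf (nat_lit 11229780406042626)) (.leaf (nat_lit
    255574350683246362637)))) (.node (.node (.leaf (nat_lit 0)) (.leaf (nat_lit
    162305415962251427887))) (.leaf (nat_lit 145231156996108124205)))))))) (.node (.node (.node
    (.node (.node (.node (.node (.leaf (nat_lit 4722871185176678105093)) (.leaf (nat_lit 0)))
    (.node (.leaf (nat_lit 75167967280191701037)) (.leaf (nat_lit 601036747620919145660422))))
    (.node (.node (.leaf (nat_lit 156758272631405851967509)) (.leaf (nat_lit 40209058623520770)))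
    (.leaf (nat_lit 10051241380020226)))) (.node (.node (.node (.leaf (nat_lit
    14845800684804309042)) (.leaf (nat_lit 164166666161964122120))) (.node (.leaf (nat_lit
    93620146175452839953)) (.leaf (nat_lit 240731294667227987975)))) (.node (.node (.leaf (nat_lit
    176537075870905737150532)) (.leaf (nat_lit 45259192839307266))) (.leaf (nat_lit
    70287951002398294059))))) (.node (.node (.node (.node (.leaf (nat_lit 0)) (.leaf (nat_lit
    157700411340978585623))) (.node (.leaf (nat_lit 323559933812616693284954)) (.leaf (nat_lit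
    210459610384647258134)))) (.node (.node (.leaf (nat_lit 45983883663167914066)) (.leaf (nat_lit
    799396006048397290373228))) (.leaf (nat_lit 71580885275463843842)))) (.node (.node (.node
    (.leaf (nat_lit 23781998435015786561)) (.leaf (nat_lit 0))) (.node (.leaf (nat_lit
    101696876740161503234)) (.leaf (nat_lit
    331765471634693282279688290711448255717444907801657540740)))) (.node (.node (.leaf (nat_lit 0))
    (.leaf (nat_lit 160452271972144054398))) (.leaf (nat_lit 139822263212898975768)))))) (.node
    (.node (.node (.node (.node (.leaf (nat_lit 24207893413119998033945)) (.leaf (nat_lit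
    135849420663122231333))) (.node (.leaf (nat_lit 61184079713225867310)) (.leaf (nat_lit
    210370716759327178761)))) (.node (.node (.leaf (nat_lit 176242792673377578647587)) (.leaf
    (nat_lit 83272060222549721090))) (.leaf (nat_lit 50394157671285719042)))) (.node (.node (.node
    (.leaf (nat_lit 0)) (.leaf (nat_lit 0))) (.node (.leaf (nat_lit 18758986924949506)) (.leaf
    (nat_lit 244407322545553080419)))) (.node (.node (.leaf (nat_lit 0)) (.leaf (nat_lit
    173133194163766099970))) (.leaf (nat_lit 0))))) (.node (.node (.node (.node (.leaf (nat_lit 0))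
    (.leaf (nat_lit 135353497488285958209))) (.node (.leaf (nat_lit 220202178583784967110728))
    (.leaf (nat_lit 225014945579433918511)))) (.node (.node (.leaf (nat_lit 50733756595031965761))
    (.leaf (nat_lit 3272080106524819114961469501))) (.leaf (nat_lit 73169229881639370821)))) (.node
    (.node (.node (.leaf (nat_lit 33801258573590888462)) (.leaf (nat_lit 87378041428448051202)))
    (.node (.leaf (nat_lit 57093930654428758018)) (.leaf (nat_lit 61200754232393730)))) (.node
    (.node (.leaf (nat_lit 0)) (.leaf (nat_lit 61326869771500667960431134095376425))) (.leaf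
    (nat_lit 483237477846834317885495))))))) (.node (.node (.node (.node (.node (.node (.leaf
    (nat_lit 3819686026046275591)) (.leaf (nat_lit 617576914162618244268111))) (.node (.leaf
    (nat_lit 301390982097904486055991)) (.leaf (nat_lit 0)))) (.node (.node (.leaf (nat_lit
    34523277747535675419)) (.leaf (nat_lit 38555444674953218))) (.leaf (nat_lit
    10719795989315586)))) (.node (.node (.node (.leaf (nat_lit 18016334977091960878)) (.leaf
    (nat_lit 0))) (.node (.leaf (nat_lit 65091354261469724674)) (.leaf (nat_lit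
    956807090755815602389047)))) (.node (.node (.leaf (nat_lit 178607290618121589882948)) (.leaf
    (nat_lit 41899222743777282))) (.leaf (nat_lit 72787185067417075772))))) (.node (.node (.node
    (.node (.leaf (nat_lit 9080172419842506798)) (.leaf (nat_lit 160286972983162110061))) (.node
    (.leaf (nat_lit 66375164782753021999)) (.leaf (nat_lit 210027247348492730405)))) (.node (.node
    (.leaf (nat_lit 0)) (.leaf (nat_lit 195395788715992481870))) (.leaf (nat_lit
    22789152307281922)))) (.node (.node (.node (.leaf (nat_lit 24507271235665854502)) (.leaf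
    (nat_lit 178957596071171391533))) (.node (.leaf (nat_lit 16788842476601346)) (.leaf (nat_lit
    60391376235397122)))) (.node (.node (.leaf (nat_lit 0)) (.leaf (nat_lit
    37566495581260922806217165381238899))) (.leaf (nat_lit 572424694935365003509766)))))) (.node
    (.node (.node (.node (.node (.leaf (nat_lit 0)) (.leaf (nat_lit 0))) (.node (.leaf (nat_lit
    311750991045609470034010)) (.leaf (nat_lit 229703315331238526983)))) (.node (.node (.leaf
    (nat_lit 0)) (.leaf (nat_lit 150070996423237894248))) (.leaf (nat_lit 18319938188083202))))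
    (.node (.node (.node (.leaf (nat_lit 105978062646810469728312)) (.leaf (nat_lit
    171517227261405364239))) (.node (.leaf (nat_lit 394364390996584165539842)) (.leaf (nat_lit
    58755079594967042)))) (.node (.node (.leaf (nat_lit 63570352371673530407)) (.leaf (nat_lit
    40544890706329602))) (.leaf (nat_lit 137517475597408993293))))) (.node (.node (.node (.node
    (.leaf (nat_lit 16070797255376044054)) (.leaf (nat_lit 165261550817177174030))) (.node (.leaf
    (nat_lit 76245137892548214799)) (.leaf (nat_lit 0)))) (.node (.node (.leaf (nat_lit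
    28972750343929790473)) (.leaf (nat_lit
    3065529561262999901076724143956987437028467135294304190999756924))) (.leaf (nat_lit
    128347335819012538383)))) (.node (.node (.node (.leaf (nat_lit 146715103282966280011831))
    (.leaf (nat_lit 158715216481281572866))) (.node (.leaf (nat_lit 10877971044892674)) (.leaf
    (nat_lit 0)))) (.node (.node (.leaf (nat_lit 73008033724591439915)) (.leaf (nat_lit
    61975931666634593692592586009018479))) (.leaf (nat_lit 141606164066677751854))))))))) (.node
    (.node (.node (.node (.node (.node (.node (.node (.leaf (nat_lit 1)) (.leaf (nat_lit 0)))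
    (.node (.leaf (nat_lit 0)) (.leaf (nat_lit 0)))) (.node (.node (.leaf (nat_lit
    37550874317031669799)) (.leaf (nat_lit 184944375569458593794))) (.leaf (nat_lit
    19076007051001858)))) (.node (.node (.node (.leaf (nat_lit 19242105341856645134)) (.leaf
    (nat_lit 0))) (.node (.leaf (nat_lit 0)) (.leaf (nat_lit 240295272327527202860)))) (.node
    (.node (.leaf (nat_lit 50734108687860957199)) (.leaf (nat_lit 45048086606774274))) (.leaf
    (nat_lit 130081781451522768903))))) (.node (.node (.node (.node (.leaf (nat_lit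
    2738804896953466920)) (.leaf (nat_lit 0))) (.node (.leaf (nat_lit 83961263179178377230)) (.leaf
    (nat_lit 589602867604585844047997)))) (.node (.node (.leaf (nat_lit 0)) (.leaf (nat_lit
    194595396975990079579))) (.leaf (nat_lit 9699938825011202)))) (.node (.node (.node (.leaf
    (nat_lit 0)) (.leaf (nat_lit 148323583730410258443))) (.node (.leaf (nat_lit
    34611239944773107714)) (.leaf (nat_lit 58420948319207426)))) (.node (.node (.leaf (nat_lit
    40502423439670444046)) (.leaf (nat_lit 850533796268143202795637))) (.leaf (nat_lit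
    137496523406909308943)))))) (.node (.node (.node (.node (.node (.leaf (nat_lit
    5188727626403086349)) (.leaf (nat_lit 0))) (.node (.leaf (nat_lit 60967871703790321708)) (.leaf
    (nat_lit 220333910588093825116)))) (.node (.node (.leaf (nat_lit 0)) (.leaf (nat_lit
    32996459913805826))) (.leaf (nat_lit 15663303347011586)))) (.node (.node (.node (.leaf (nat_lit
    15278375205148491791)) (.leaf (nat_lit 149908709786878410763))) (.node (.leaf (nat_lit
    35403646524528459778)) (.leaf (nat_lit 237846809749519269896)))) (.node (.node (.leaf (nat_lit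
    0)) (.leaf (nat_lit 175727213076061290498))) (.leaf (nat_lit 134707492625525702699))))) (.node
    (.node (.node (.node (.leaf (nat_lit 14774534189382565895)) (.leaf (nat_lit
    130023628032421593125))) (.node (.leaf (nat_lit 0)) (.leaf (nat_lit 235613938535312326701))))
    (.node (.node (.leaf (nat_lit 25080514219945951245)) (.leaf (nat_lit 167654581529355681835)))
    (.leaf (nat_lit 204850168423864621858910)))) (.node (.node (.node (.leaf (nat_lit 0)) (.leaf
    (nat_lit 179899816277056880739))) (.node (.leaf (nat_lit 58967392777603842050)) (.leaf (nat_lit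
    59881340279062530)))) (.node (.node (.leaf (nat_lit 51167281900876398656)) (.leaf (nat_lit
    849944651042912794312759))) (.leaf (nat_lit 0))))))) (.node (.node (.node (.node (.node (.node
    (.leaf (nat_lit 3099004489601056782)) (.leaf (nat_lit 31358264897830989))) (.node (.leaf
    (nat_lit 0)) (.leaf (nat_lit 0)))) (.node (.node (.leaf (nat_lit 117480831501143311122504))
    (.leaf (nat_lit 38221184550174722))) (.leaf (nat_lit 20729732668719106)))) (.node (.node (.node
    (.leaf (nat_lit 54610867173092042735671)) (.leaf (nat_lit 149908674447887499276))) (.node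
    (.leaf (nat_lit 91320285218163851266)) (.leaf (nat_lit 0)))) (.node (.node (.leaf (nat_lit
    40502141560966807569)) (.leaf (nat_lit 46349994273406978))) (.leaf (nat_lit
    132328237801905782854))))) (.node (.node (.node (.node (.leaf (nat_lit 6702430094725677078))
    (.leaf (nat_lit 160075249946080772139))) (.node (.leaf (nat_lit 323265725189520523264090))
    (.leaf (nat_lit 233883729303924047941)))) (.node (.node (.leaf (nat_lit 0)) (.leaf (nat_lit
    36550665610330114))) (.leaf (nat_lit 17687392584597506)))) (.node (.node (.node (.leaf (nat_lit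
    24214379286694658059)) (.leaf (nat_lit 178380431313598611473))) (.node (.leaf (nat_lit
    19691493044387842)) (.leaf (nat_lit 59458990375043074)))) (.node (.node (.leaf (nat_lit
    25082080886576578600)) (.leaf (nat_lit 161226047146978115698))) (.leaf (nat_lit
    485279805706731109220407)))))) (.node (.node (.node (.node (.node (.leaf (nat_lit
    6269943535311716384)) (.leaf (nat_lit 150184255234819424266))) (.node (.leaf (nat_lit
    62553420393630335008)) (.leaf (nat_lit 225863469025057767432)))) (.node (.node (.leaf (nat_lit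
    102721058412198860423221)) (.leaf (nat_lit 42003934046453762))) (.leaf (nat_lit
    20255018523426818)))) (.node (.node (.node (.leaf (nat_lit 0)) (.leaf (nat_lit 0))) (.node
    (.leaf (nat_lit 66028228233799073794)) (.leaf (nat_lit 238643049402902708226)))) (.node (.node
    (.leaf (nat_lit 0)) (.leaf (nat_lit 43342022517587970))) (.leaf (nat_lit
    135046477111250583616))))) (.node (.node (.node (.node (.leaf (nat_lit 17006930216997814275))
    (.leaf (nat_lit 137803244682422190140))) (.node (.leaf (nat_lit 64643900393864232972)) (.leaf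
    (nat_lit 237844821411589455884)))) (.node (.node (.leaf (nat_lit 0)) (.leaf (nat_lit
    825399007429265474191468))) (.leaf (nat_lit 71296032547493052520)))) (.node (.node (.node
    (.leaf (nat_lit 25656094400874479619)) (.leaf (nat_lit 743953557915056581378050))) (.node
    (.leaf (nat_lit 66821882153661562882)) (.leaf (nat_lit 256803921415463174148)))) (.node (.node
    (.leaf (nat_lit 0)) (.leaf (nat_lit 876454639889595330986040))) (.leaf (nat_lit
    55713547106300133398)))))))) (.node (.node (.node (.node (.node (.node (.node (.leaf (nat_lit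
    2018052562267340808)) (.leaf (nat_lit 148020820628037894159))) (.node (.leaf (nat_lit
    75888666365873291271)) (.leaf (nat_lit 223359907015984087149)))) (.node (.node (.leaf (nat_lit
    15135773838425653318)) (.leaf (nat_lit 75993433404340371458))) (.leaf (nat_lit
    15205760480968706)))) (.node (.node (.node (.leaf (nat_lit 15566411809555677246)) (.leaf
    (nat_lit 159072160896740687939))) (.node (.leaf (nat_lit 22875446790193154)) (.leaf (nat_lit
    955922150915575738794039)))) (.node (.node (.leaf (nat_lit 23784691731697696791)) (.leaf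
    (nat_lit 186966950500360192002))) (.leaf (nat_lit 50016897313192214558))))) (.node (.node
    (.node (.node (.leaf (nat_lit 0)) (.leaf (nat_lit 149463855422459019279))) (.node (.leaf
    (nat_lit 0)) (.leaf (nat_lit 919581042579197296640006)))) (.node (.node (.leaf (nat_lit
    40217939194123845717)) (.leaf (nat_lit 165996358999275143170))) (.leaf (nat_lit
    23281346969468930)))) (.node (.node (.node (.leaf (nat_lit 27388994725626445831)) (.leaf
    (nat_lit 0))) (.node (.leaf (nat_lit 79142887683606642690)) (.leaf (nat_lit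
    58649724047196162)))) (.node (.node (.leaf (nat_lit 66523921709489389607)) (.leaf (nat_lit
    665710187671174909263877))) (.leaf (nat_lit 573612202097064183857177)))))) (.node (.node (.node
    (.node (.node (.leaf (nat_lit 3099462096891609115)) (.leaf (nat_lit 154152190320604020827)))
    (.node (.leaf (nat_lit 0)) (.leaf (nat_lit 226872081767412727816)))) (.node (.node (.leaf
    (nat_lit 159116432023458345648163)) (.leaf (nat_lit 42689883273297922))) (.leaf (nat_lit
    14379194024853506)))) (.node (.node (.node (.leaf (nat_lit 15422648791618224158)) (.leaf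
    (nat_lit 148035247569214046274))) (.node (.leaf (nat_lit 81449205016123604994)) (.leaf (nat_lit
    233454691427155116034)))) (.node (.node (.leaf (nat_lit 47132918153652404312)) (.leaf (nat_lit
    173637632519288586242))) (.leaf (nat_lit 89808434503516094496))))) (.node (.node (.node (.node
    (.leaf (nat_lit 8360018846547116082)) (.leaf (nat_lit 135065302330866073611))) (.node (.leaf
    (nat_lit 0)) (.leaf (nat_lit 921663225800855640080440)))) (.node (.node (.leaf (nat_lit 0))
    (.leaf (nat_lit 165709342531205136410))) (.leaf (nat_lit 53209399452665839715)))) (.node (.node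
    (.node (.leaf (nat_lit 24214555406123597836)) (.leaf (nat_lit 43956082581831682))) (.node
    (.leaf (nat_lit 10139047691419650)) (.leaf (nat_lit 250821399410882314280)))) (.node (.node
    (.leaf (nat_lit 0)) (.leaf (nat_lit 582840136531339374755946))) (.leaf (nat_lit
    143263277511648411695))))))) (.node (.node (.node (.node (.node (.node (.leaf (nat_lit
    4179868473184419859)) (.leaf (nat_lit 36674356684627334111831830401843315))) (.node (.leaf
    (nat_lit 78049057412799987757)) (.leaf (nat_lit 0)))) (.node (.node (.leaf (nat_lit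
    41298890601766518815)) (.leaf (nat_lit 36796243250380802))) (.leaf (nat_lit
    21099228705193986)))) (.node (.node (.node (.leaf (nat_lit 51657370508725582037048)) (.leaf
    (nat_lit 149476258592225165377))) (.node (.leaf (nat_lit 65595758231484039170)) (.leaf (nat_lit
    241809291257630097454)))) (.node (.node (.leaf (nat_lit 58380869217573601317)) (.leaf (nat_lit
    43042749196402690))) (.leaf (nat_lit 0))))) (.node (.node (.node (.node (.leaf (nat_lit
    51657874788188789407779)) (.leaf (nat_lit 2697770040442738174207524967))) (.node (.leaf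
    (nat_lit 87280874154222616643)) (.leaf (nat_lit 234460225266369363975)))) (.node (.node (.leaf
    (nat_lit 0)) (.leaf (nat_lit 167798432250525319289))) (.leaf (nat_lit 49894186979399237689))))
    (.node (.node (.node (.leaf (nat_lit 0)) (.leaf (nat_lit 158259668189461020737))) (.node (.leaf
    (nat_lit 19938256095412226)) (.leaf (nat_lit 58473939625705474)))) (.node (.node (.leaf
    (nat_lit 0)) (.leaf (nat_lit 3626110462222723830614655077))) (.leaf (nat_lit
    54344751697763696662)))))) (.node (.node (.node (.node (.node (.leaf (nat_lit 0)) (.leaf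
    (nat_lit 154152225633825128480))) (.node (.leaf (nat_lit 63205404469341913134)) (.leaf (nat_lit
    0)))) (.node (.node (.leaf (nat_lit 113954407967887945105484)) (.leaf (nat_lit
    166500269580626362450))) (.leaf (nat_lit 18495868638461954)))) (.node (.node (.node (.leaf
    (nat_lit 15279061497972719682)) (.leaf (nat_lit 158065009203475578919))) (.node (.leaf (nat_lit
    33170033702613483522)) (.leaf (nat_lit 59828202943676418)))) (.node (.node (.leaf (nat_lit 0))
    (.leaf (nat_lit 2441435625541414991190884468))) (.leaf (nat_lit 135046600325272371208)))))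
    (.node (.node (.node (.node (.leaf (nat_lit 37192384561494465183800)) (.leaf (nat_lit
    138812191805161013313))) (.node (.leaf (nat_lit 215785264875549774577753)) (.leaf (nat_lit
    239289597359982575639)))) (.node (.node (.leaf (nat_lit 55137010461924589582)) (.leaf (nat_lit
    138760241371102248962))) (.leaf (nat_lit 490942899014221890322487)))) (.node (.node (.node
    (.leaf (nat_lit 0)) (.leaf (nat_lit 745134293720849776377858))) (.node (.leaf (nat_lit
    18812081310662658)) (.leaf (nat_lit 4316921472969909551174582406)))) (.node (.node (.leaf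
    (nat_lit 73300539130800963588)) (.leaf (nat_lit 159135304140126879788))) (.leaf (nat_lit
    41481620219059888771487323925184553))))))))))))

/-- Certificate data. -/
def pg_rel : Trie :=
    (.node (.node (.node (.node (.node (.node (.node (.node (.leaf (nat_lit 0)) (.leaf (nat_lit
    30233397005))) (.leaf (nat_lit 168168453))) (.node (.leaf (nat_lit 7743944133388)) (.leaf
    (nat_lit 168561164)))) (.node (.node (.leaf (nat_lit 50725381)) (.leaf (nat_lit 101451018)))
    (.node (.leaf (nat_lit 33948677)) (.leaf (nat_lit 50659590))))) (.node (.node (.node (.leaf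
    (nat_lit 184683265)) (.leaf (nat_lit 67175170))) (.node (.leaf (nat_lit 218828043)) (.leaf
    (nat_lit 51573948685)))) (.node (.node (.leaf (nat_lit 84215045)) (.leaf (nat_lit
    38688785153))) (.node (.leaf (nat_lit 185404173)) (.leaf (nat_lit 7743944264458)))))) (.node
    (.node (.node (.node (.node (.leaf (nat_lit 34410137858)) (.leaf (nat_lit 51757845505))) (.leaf
    (nat_lit 185207562))) (.node (.leaf (nat_lit 33816835)) (.leaf (nat_lit 4497146380)))) (.node
    (.node (.leaf (nat_lit 151323913)) (.leaf (nat_lit 203540875446522151479224922670604))) (.node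
    (.leaf (nat_lit 2229122040327)) (.leaf (nat_lit 30166025992))))) (.node (.node (.node (.leaf
    (nat_lit 84018692)) (.leaf (nat_lit 17564173))) (.node (.leaf (nat_lit 134613254)) (.leaf
    (nat_lit 7700993869569)))) (.node (.node (.leaf (nat_lit 201460993)) (.leaf (nat_lit
    30283336970))) (.node (.leaf (nat_lit 34275595)) (.leaf (nat_lit 84477192))))))) (.node (.node
    (.node (.node (.node (.node (.leaf (nat_lit 84216073)) (.leaf (nat_lit
    163055283202251844486299455654412))) (.leaf (nat_lit 38672007684))) (.node (.leaf (nat_lit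
    4446095363)) (.leaf (nat_lit 168626701)))) (.node (.node (.leaf (nat_lit 43051189515)) (.leaf
    (nat_lit 13241552407303))) (.node (.leaf (nat_lit 8791330060)) (.leaf (nat_lit
    7748306208523))))) (.node (.node (.node (.leaf (nat_lit 201656838)) (.leaf (nat_lit
    55919119110))) (.node (.leaf (nat_lit 151324677)) (.leaf (nat_lit 51557239810)))) (.node (.node
    (.leaf (nat_lit 84542988)) (.leaf (nat_lit 168495627))) (.node (.leaf (nat_lit 184880390))
    (.leaf (nat_lit 31295918340141651576601529328994050)))))) (.node (.node (.node (.node (.leaf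
    (nat_lit 167905793)) (.leaf (nat_lit 56002809095))) (.node (.leaf (nat_lit 202050571)) (.leaf
    (nat_lit 17498635)))) (.node (.node (.leaf (nat_lit 218762506)) (.leaf (nat_lit 100926722)))
    (.node (.leaf (nat_lit 34477574407)) (.leaf (nat_lit 34406668))))) (.node (.node (.node (.leaf
    (nat_lit 218499845)) (.leaf (nat_lit 101058054))) (.node (.leaf (nat_lit 131586)) (.leaf
    (nat_lit 17433098)))) (.node (.node (.leaf (nat_lit 117769989)) (.leaf (nat_lit 55919184390)))
    (.node (.leaf (nat_lit 167840258)) (.leaf (nat_lit 12902269448)))))))) (.node (.node (.node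
    (.node (.node (.node (.node (.leaf (nat_lit 151390214)) (.leaf (nat_lit 55868915980))) (.leaf
    (nat_lit 17039875))) (.node (.leaf (nat_lit 34393557249)) (.leaf (nat_lit 84739595)))) (.node
    (.node (.leaf (nat_lit 50463745)) (.leaf (nat_lit 25988237835))) (.node (.leaf (nat_lit
    34210058)) (.leaf (nat_lit 218146435601203975))))) (.node (.node (.node (.leaf (nat_lit
    201722373)) (.leaf (nat_lit 218893580))) (.node (.leaf (nat_lit 16974340)) (.leaf (nat_lit
    202181645)))) (.node (.node (.leaf (nat_lit 84149761)) (.leaf (nat_lit 117835526))) (.node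
    (.leaf (nat_lit 184617730)) (.leaf (nat_lit 67437062)))))) (.node (.node (.node (.node (.leaf
    (nat_lit 100795651)) (.leaf (nat_lit 47412808965))) (.node (.leaf (nat_lit 33751300)) (.leaf
    (nat_lit 11025366060043)))) (.node (.node (.leaf (nat_lit 201985034)) (.leaf (nat_lit
    84084226))) (.node (.leaf (nat_lit 38772671751)) (.leaf (nat_lit
    203540875446411183626628192929804))))) (.node (.node (.node (.leaf (nat_lit 218172418)) (.leaf
    (nat_lit 4513858060))) (.node (.leaf (nat_lit 134547717)) (.leaf (nat_lit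
    505255292779562755)))) (.node (.node (.leaf (nat_lit 67502341)) (.leaf (nat_lit 84674058)))
    (.node (.leaf (nat_lit 7705288902402)) (.leaf (nat_lit 4429317129))))))) (.node (.node (.node
    (.node (.node (.node (.leaf (nat_lit 25921259527)) (.leaf (nat_lit 30283336205))) (.leaf
    (nat_lit 50398210))) (.node (.leaf (nat_lit 134612488)) (.leaf (nat_lit 12137695741708))))
    (.node (.node (.leaf (nat_lit 47346156810)) (.leaf (nat_lit 118097674))) (.node (.leaf (nat_lit
    8791329805)) (.leaf (nat_lit 30199449097))))) (.node (.node (.node (.leaf (nat_lit 201788423))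
    (.leaf (nat_lit 65793))) (.node (.leaf (nat_lit 100730116)) (.leaf (nat_lit 118228748))))
    (.node (.node (.leaf (nat_lit 21660042765)) (.leaf (nat_lit 12124861172743))) (.node (.leaf
    (nat_lit 12124894726663)) (.leaf (nat_lit 43067967245)))))) (.node (.node (.node (.node (.leaf
    (nat_lit 168233479)) (.leaf (nat_lit 56036035585))) (.node (.leaf (nat_lit 505536772051306244))
    (.leaf (nat_lit 84346119)))) (.node (.node (.leaf (nat_lit 55952869895)) (.leaf (nat_lit
    30283532045))) (.node (.leaf (nat_lit 185338636)) (.leaf (nat_lit 101385485))))) (.node (.node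
    (.node (.leaf (nat_lit 83953155)) (.leaf (nat_lit 101319948))) (.node (.leaf (nat_lit
    33882886)) (.leaf (nat_lit 1129593635079)))) (.node (.node (.leaf (nat_lit 7739716405003))
    (.leaf (nat_lit 101123591))) (.node (.leaf (nat_lit 168102918)) (.leaf (nat_lit
    101058568)))))))))

/-- Certificate data. -/
def pg_rc : Trie :=
    (.node (.node (.node (.node (.node (.node (.node (.node (.leaf (nat_lit 74)) (.leaf (nat_lit
    131134))) (.leaf (nat_lit 52))) (.node (.leaf (nat_lit 393274)) (.leaf (nat_lit 131102))))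
    (.node (.node (.leaf (nat_lit 131077)) (.leaf (nat_lit 393268))) (.node (.leaf (nat_lit
    131079)) (.leaf (nat_lit 262150))))) (.node (.node (.node (.leaf (nat_lit 42)) (.leaf (nat_lit
    393225))) (.node (.leaf (nat_lit 36)) (.leaf (nat_lit 131117)))) (.node (.node (.leaf (nat_lit
    2)) (.leaf (nat_lit 65))) (.node (.leaf (nat_lit 131108)) (.leaf (nat_lit 59)))))) (.node
    (.node (.node (.node (.node (.leaf (nat_lit 393281)) (.leaf (nat_lit 44))) (.leaf (nat_lit
    28))) (.node (.leaf (nat_lit 9)) (.leaf (nat_lit 131116)))) (.node (.node (.leaf (nat_lit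
    393285)) (.leaf (nat_lit 1441864))) (.node (.leaf (nat_lit 131087)) (.leaf (nat_lit 262215)))))
    (.node (.node (.node (.leaf (nat_lit 262151)) (.leaf (nat_lit 131118))) (.node (.leaf (nat_lit
    262211)) (.leaf (nat_lit 131086)))) (.node (.node (.leaf (nat_lit 46)) (.leaf (nat_lit 63)))
    (.node (.leaf (nat_lit 393258)) (.leaf (nat_lit 66))))))) (.node (.node (.node (.node (.node
    (.node (.leaf (nat_lit 262213)) (.leaf (nat_lit 1441865))) (.leaf (nat_lit 393280))) (.node
    (.leaf (nat_lit 131137)) (.leaf (nat_lit 131104)))) (.node (.node (.leaf (nat_lit 131127))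
    (.leaf (nat_lit 393275))) (.node (.leaf (nat_lit 45)) (.leaf (nat_lit 524347))))) (.node (.node
    (.node (.leaf (nat_lit 262196)) (.leaf (nat_lit 262198))) (.node (.leaf (nat_lit 393282))
    (.leaf (nat_lit 524333)))) (.node (.node (.leaf (nat_lit 131124)) (.leaf (nat_lit 131100)))
    (.node (.leaf (nat_lit 262194)) (.leaf (nat_lit 131091)))))) (.node (.node (.node (.node (.leaf
    (nat_lit 40)) (.leaf (nat_lit 262207))) (.node (.leaf (nat_lit 34)) (.leaf (nat_lit 131114))))
    (.node (.node (.leaf (nat_lit 32)) (.leaf (nat_lit 7))) (.node (.leaf (nat_lit 393287)) (.leaf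
    (nat_lit 393262))))) (.node (.node (.node (.leaf (nat_lit 50)) (.leaf (nat_lit 3))) (.node
    (.leaf (nat_lit 1)) (.leaf (nat_lit 131112)))) (.node (.node (.leaf (nat_lit 131084)) (.leaf
    (nat_lit 524343))) (.node (.leaf (nat_lit 262184)) (.leaf (nat_lit 262209)))))))) (.node (.node
    (.node (.node (.node (.node (.node (.leaf (nat_lit 67)) (.leaf (nat_lit 524332))) (.leaf
    (nat_lit 131080))) (.node (.leaf (nat_lit 131136)) (.leaf (nat_lit 131122)))) (.node (.node
    (.leaf (nat_lit 131081)) (.leaf (nat_lit 393270))) (.node (.leaf (nat_lit 393256)) (.leaf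
    (nat_lit 16))))) (.node (.node (.node (.leaf (nat_lit 48)) (.leaf (nat_lit 38))) (.node (.leaf
    (nat_lit 262153)) (.leaf (nat_lit 131110)))) (.node (.node (.leaf (nat_lit 131076)) (.leaf
    (nat_lit 13))) (.node (.leaf (nat_lit 262186)) (.leaf (nat_lit 393223)))))) (.node (.node
    (.node (.node (.leaf (nat_lit 5)) (.leaf (nat_lit 262199))) (.node (.leaf (nat_lit 393224))
    (.leaf (nat_lit 131131)))) (.node (.node (.leaf (nat_lit 30)) (.leaf (nat_lit 262149))) (.node
    (.leaf (nat_lit 393286)) (.leaf (nat_lit 655432))))) (.node (.node (.node (.leaf (nat_lit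
    262190)) (.leaf (nat_lit 393261))) (.node (.leaf (nat_lit 131138)) (.leaf (nat_lit 131088))))
    (.node (.node (.leaf (nat_lit 4)) (.leaf (nat_lit 131120))) (.node (.leaf (nat_lit 15)) (.leaf
    (nat_lit 262208))))))) (.node (.node (.node (.node (.node (.node (.leaf (nat_lit 131143))
    (.leaf (nat_lit 393278))) (.leaf (nat_lit 262152))) (.node (.leaf (nat_lit 131140)) (.leaf
    (nat_lit 262203)))) (.node (.node (.leaf (nat_lit 524342)) (.leaf (nat_lit 131128))) (.node
    (.leaf (nat_lit 393260)) (.leaf (nat_lit 524359))))) (.node (.node (.node (.leaf (nat_lit 60))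
    (.leaf (nat_lit 0))) (.node (.leaf (nat_lit 393220)) (.leaf (nat_lit 131132)))) (.node (.node
    (.leaf (nat_lit 393271)) (.leaf (nat_lit 262202))) (.node (.leaf (nat_lit 655419)) (.leaf
    (nat_lit 131135)))))) (.node (.node (.node (.node (.leaf (nat_lit 56)) (.leaf (nat_lit
    262189))) (.node (.leaf (nat_lit 17)) (.leaf (nat_lit 12)))) (.node (.node (.leaf (nat_lit
    524351)) (.leaf (nat_lit 393279))) (.node (.leaf (nat_lit 131106)) (.leaf (nat_lit 393266)))))
    (.node (.node (.node (.leaf (nat_lit 131078)) (.leaf (nat_lit 393264))) (.node (.leaf (nat_lit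
    393221)) (.leaf (nat_lit 14)))) (.node (.node (.leaf (nat_lit 131130)) (.leaf (nat_lit
    131085))) (.node (.leaf (nat_lit 262192)) (.leaf (nat_lit 68)))))))))

/-- Certificate data. -/
def pg_lv : Trie :=
    (.node (.node (.node (.node (.node (.node (.node (.node (.leaf (nat_lit 0)) (.leaf (nat_lit
    264))) (.leaf (nat_lit 97))) (.node (.leaf (nat_lit 34)) (.leaf (nat_lit 183)))) (.node (.node
    (.node (.leaf (nat_lit 17)) (.leaf (nat_lit 280))) (.leaf (nat_lit 147))) (.node (.leaf
    (nat_lit 58)) (.leaf (nat_lit 204))))) (.node (.node (.node (.node (.leaf (nat_lit 8)) (.leaf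
    (nat_lit 272))) (.leaf (nat_lit 127))) (.node (.leaf (nat_lit 47)) (.leaf (nat_lit 191))))
    (.node (.node (.node (.leaf (nat_lit 26)) (.leaf (nat_lit 299))) (.leaf (nat_lit 169))) (.node
    (.leaf (nat_lit 82)) (.leaf (nat_lit 223)))))) (.node (.node (.node (.node (.node (.leaf
    (nat_lit 4)) (.leaf (nat_lit 268))) (.leaf (nat_lit 116))) (.node (.leaf (nat_lit 41)) (.leaf
    (nat_lit 187)))) (.node (.node (.node (.leaf (nat_lit 21)) (.leaf (nat_lit 289))) (.leaf
    (nat_lit 157))) (.node (.leaf (nat_lit 66)) (.leaf (nat_lit 211))))) (.node (.node (.node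
    (.node (.leaf (nat_lit 13)) (.leaf (nat_lit 276))) (.leaf (nat_lit 135))) (.node (.leaf
    (nat_lit 52)) (.leaf (nat_lit 196)))) (.node (.node (.leaf (nat_lit 30)) (.leaf (nat_lit 176)))
    (.node (.leaf (nat_lit 90)) (.leaf (nat_lit 227))))))) (.node (.node (.node (.node (.node
    (.node (.leaf (nat_lit 2)) (.leaf (nat_lit 266))) (.leaf (nat_lit 103))) (.node (.leaf (nat_lit
    38)) (.leaf (nat_lit 185)))) (.node (.node (.node (.leaf (nat_lit 19)) (.leaf (nat_lit 282)))
    (.leaf (nat_lit 153))) (.node (.leaf (nat_lit 63)) (.leaf (nat_lit 208))))) (.node (.node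
    (.node (.node (.leaf (nat_lit 11)) (.leaf (nat_lit 274))) (.leaf (nat_lit 131))) (.node (.leaf
    (nat_lit 50)) (.leaf (nat_lit 193)))) (.node (.node (.leaf (nat_lit 28)) (.leaf (nat_lit 173)))
    (.node (.leaf (nat_lit 86)) (.leaf (nat_lit 225)))))) (.node (.node (.node (.node (.node (.leaf
    (nat_lit 6)) (.leaf (nat_lit 270))) (.leaf (nat_lit 123))) (.node (.leaf (nat_lit 43)) (.leaf
    (nat_lit 189)))) (.node (.node (.node (.leaf (nat_lit 24)) (.leaf (nat_lit 295))) (.leaf
    (nat_lit 167))) (.node (.leaf (nat_lit 79)) (.leaf (nat_lit 215))))) (.node (.node (.node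
    (.node (.leaf (nat_lit 15)) (.leaf (nat_lit 278))) (.leaf (nat_lit 142))) (.node (.leaf
    (nat_lit 55)) (.leaf (nat_lit 200)))) (.node (.node (.leaf (nat_lit 32)) (.leaf (nat_lit 180)))
    (.node (.leaf (nat_lit 94)) (.leaf (nat_lit 262)))))))) (.node (.node (.node (.node (.node
    (.node (.node (.leaf (nat_lit 1)) (.leaf (nat_lit 265))) (.leaf (nat_lit 102))) (.node (.leaf
    (nat_lit 37)) (.leaf (nat_lit 184)))) (.node (.node (.node (.leaf (nat_lit 18)) (.leaf (nat_lit
    281))) (.leaf (nat_lit 152))) (.node (.leaf (nat_lit 62)) (.leaf (nat_lit 206))))) (.node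
    (.node (.node (.node (.leaf (nat_lit 9)) (.leaf (nat_lit 273))) (.leaf (nat_lit 130))) (.node
    (.leaf (nat_lit 48)) (.leaf (nat_lit 192)))) (.node (.node (.node (.leaf (nat_lit 27)) (.leaf
    (nat_lit 300))) (.leaf (nat_lit 171))) (.node (.leaf (nat_lit 84)) (.leaf (nat_lit 224))))))
    (.node (.node (.node (.node (.node (.leaf (nat_lit 5)) (.leaf (nat_lit 269))) (.leaf (nat_lit
    117))) (.node (.leaf (nat_lit 42)) (.leaf (nat_lit 188)))) (.node (.node (.node (.leaf (nat_lit
    22)) (.leaf (nat_lit 290))) (.leaf (nat_lit 166))) (.node (.leaf (nat_lit 78)) (.leaf (nat_lit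
    214))))) (.node (.node (.node (.node (.leaf (nat_lit 14)) (.leaf (nat_lit 277))) (.leaf
    (nat_lit 141))) (.node (.leaf (nat_lit 53)) (.leaf (nat_lit 198)))) (.node (.node (.leaf
    (nat_lit 31)) (.leaf (nat_lit 177))) (.node (.leaf (nat_lit 92)) (.leaf (nat_lit 228)))))))
    (.node (.node (.node (.node (.node (.node (.leaf (nat_lit 3)) (.leaf (nat_lit 267))) (.leaf
    (nat_lit 115))) (.node (.leaf (nat_lit 39)) (.leaf (nat_lit 186)))) (.node (.node (.node (.leaf
    (nat_lit 20)) (.leaf (nat_lit 284))) (.leaf (nat_lit 154))) (.node (.leaf (nat_lit 65)) (.leaf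
    (nat_lit 210))))) (.node (.node (.node (.node (.leaf (nat_lit 12)) (.leaf (nat_lit 275)))
    (.leaf (nat_lit 134))) (.node (.leaf (nat_lit 51)) (.leaf (nat_lit 194)))) (.node (.node (.leaf
    (nat_lit 29)) (.leaf (nat_lit 174))) (.node (.leaf (nat_lit 88)) (.leaf (nat_lit 226))))))
    (.node (.node (.node (.node (.node (.leaf (nat_lit 7)) (.leaf (nat_lit 271))) (.leaf (nat_lit
    126))) (.node (.leaf (nat_lit 44)) (.leaf (nat_lit 190)))) (.node (.node (.node (.leaf (nat_lit
    25)) (.leaf (nat_lit 296))) (.leaf (nat_lit 168))) (.node (.leaf (nat_lit 80)) (.leaf (nat_lit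
    218))))) (.node (.node (.node (.node (.leaf (nat_lit 16)) (.leaf (nat_lit 279))) (.leaf
    (nat_lit 146))) (.node (.leaf (nat_lit 56)) (.leaf (nat_lit 202)))) (.node (.node (.leaf
    (nat_lit 33)) (.leaf (nat_lit 181))) (.node (.leaf (nat_lit 96)) (.leaf (nat_lit 263)))))))))

/-- Certificate data. -/
def pg_tb : Trie :=
    (.node (.node (.node (.node (.node (.node (.node (.node (.node (.node (.node (.leaf (nat_lit
    0)) (.leaf (nat_lit 428926))) (.leaf (nat_lit 91660))) (.node (.node (.leaf (nat_lit 514258))
    (.leaf (nat_lit 370520))) (.leaf (nat_lit 630250)))) (.node (.node (.node (.leaf (nat_lit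
    429034)) (.leaf (nat_lit 305689))) (.leaf (nat_lit 33008))) (.node (.leaf (nat_lit 214655))
    (.leaf (nat_lit 519097))))) (.node (.node (.node (.node (.leaf (nat_lit 271169)) (.leaf
    (nat_lit 20578))) (.leaf (nat_lit 564323))) (.node (.node (.leaf (nat_lit 73913)) (.leaf
    (nat_lit 268974))) (.leaf (nat_lit 333352)))) (.node (.node (.node (.leaf (nat_lit 168360))
    (.leaf (nat_lit 437354))) (.leaf (nat_lit 535573))) (.node (.leaf (nat_lit 588981)) (.leaf
    (nat_lit 149169)))))) (.node (.node (.node (.node (.node (.leaf (nat_lit 86344)) (.leaf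
    (nat_lit 581055))) (.leaf (nat_lit 387853))) (.node (.node (.leaf (nat_lit 560251)) (.leaf
    (nat_lit 330349))) (.leaf (nat_lit 250606)))) (.node (.node (.node (.leaf (nat_lit 8251))
    (.leaf (nat_lit 568427))) (.leaf (nat_lit 415676))) (.node (.leaf (nat_lit 461675)) (.leaf
    (nat_lit 57487))))) (.node (.node (.node (.node (.leaf (nat_lit 407472)) (.leaf (nat_lit
    165294))) (.leaf (nat_lit 601319))) (.node (.node (.leaf (nat_lit 140651)) (.leaf (nat_lit
    585120))) (.leaf (nat_lit 387803)))) (.node (.node (.node (.leaf (nat_lit 296623)) (.leaf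
    (nat_lit 161278))) (.leaf (nat_lit 597209))) (.node (.leaf (nat_lit 119087)) (.leaf (nat_lit
    281153))))))) (.node (.node (.node (.node (.node (.node (.leaf (nat_lit 69808)) (.leaf (nat_lit
    354371))) (.leaf (nat_lit 428003))) (.node (.node (.leaf (nat_lit 481853)) (.leaf (nat_lit
    453291))) (.leaf (nat_lit 45196)))) (.node (.node (.node (.leaf (nat_lit 543949)) (.leaf
    (nat_lit 371349))) (.leaf (nat_lit 316490))) (.node (.leaf (nat_lit 482075)) (.leaf (nat_lit
    589190))))) (.node (.node (.node (.node (.leaf (nat_lit 308354)) (.leaf (nat_lit 238284)))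
    (.leaf (nat_lit 498714))) (.node (.node (.leaf (nat_lit 110868)) (.leaf (nat_lit 560211)))
    (.leaf (nat_lit 445281)))) (.node (.node (.node (.leaf (nat_lit 292633)) (.leaf (nat_lit 15)))
    (.leaf (nat_lit 243675))) (.node (.leaf (nat_lit 8225)) (.leaf (nat_lit 386944)))))) (.node
    (.node (.node (.node (.node (.leaf (nat_lit 213599)) (.leaf (nat_lit 605648))) (.leaf (nat_lit
    395177))) (.node (.node (.leaf (nat_lit 617772)) (.leaf (nat_lit 498655))) (.leaf (nat_lit
    190135)))) (.node (.node (.node (.leaf (nat_lit 128474)) (.leaf (nat_lit 498652))) (.leaf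
    (nat_lit 501931))) (.node (.leaf (nat_lit 523209)) (.leaf (nat_lit 91722))))) (.node (.node
    (.node (.node (.leaf (nat_lit 445104)) (.leaf (nat_lit 107213))) (.leaf (nat_lit 98540)))
    (.node (.leaf (nat_lit 226020)) (.leaf (nat_lit 318288)))) (.node (.node (.node (.leaf (nat_lit
    239403)) (.leaf (nat_lit 202235))) (.leaf (nat_lit 613797))) (.node (.leaf (nat_lit 275348))
    (.leaf (nat_lit 345843)))))))) (.node (.node (.node (.node (.node (.node (.node (.leaf (nat_lit
    94424)) (.leaf (nat_lit 322404))) (.leaf (nat_lit 144078))) (.node (.node (.leaf (nat_lit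
    461156)) (.leaf (nat_lit 231129))) (.leaf (nat_lit 12355)))) (.node (.node (.node (.leaf
    (nat_lit 564319)) (.leaf (nat_lit 387855))) (.leaf (nat_lit 267058))) (.node (.leaf (nat_lit
    374623)) (.leaf (nat_lit 396343))))) (.node (.node (.node (.node (.leaf (nat_lit 250850))
    (.leaf (nat_lit 184792))) (.leaf (nat_lit 531460))) (.node (.node (.leaf (nat_lit 157266))
    (.leaf (nat_lit 284829))) (.leaf (nat_lit 148427)))) (.node (.node (.node (.leaf (nat_lit
    106996)) (.leaf (nat_lit 626138))) (.leaf (nat_lit 219026))) (.node (.leaf (nat_lit 613848))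
    (.leaf (nat_lit 74191)))))) (.node (.node (.node (.node (.node (.leaf (nat_lit 176577)) (.leaf
    (nat_lit 593339))) (.leaf (nat_lit 371339))) (.node (.node (.leaf (nat_lit 539820)) (.leaf
    (nat_lit 362307))) (.leaf (nat_lit 65915)))) (.node (.node (.node (.leaf (nat_lit 45289))
    (.leaf (nat_lit 272423))) (.leaf (nat_lit 127769))) (.node (.leaf (nat_lit 473148)) (.leaf
    (nat_lit 131398))))) (.node (.node (.node (.node (.leaf (nat_lit 497829)) (.leaf (nat_lit
    161155))) (.leaf (nat_lit 4112))) (.node (.node (.leaf (nat_lit 308860)) (.leaf (nat_lit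
    617952))) (.leaf (nat_lit 572542)))) (.node (.node (.node (.leaf (nat_lit 341560)) (.leaf
    (nat_lit 221878))) (.leaf (nat_lit 351203))) (.node (.leaf (nat_lit 53502)) (.leaf (nat_lit
    494457))))))) (.node (.node (.node (.node (.node (.node (.leaf (nat_lit 188922)) (.leaf
    (nat_lit 420752))) (.leaf (nat_lit 304701))) (.node (.node (.leaf (nat_lit 347051)) (.leaf
    (nat_lit 506041))) (.leaf (nat_lit 87512)))) (.node (.node (.node (.leaf (nat_lit 626147))
    (.leaf (nat_lit 556106))) (.leaf (nat_lit 82458))) (.node (.leaf (nat_lit 436217)) (.leaf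
    (nat_lit 580996))))) (.node (.node (.node (.node (.leaf (nat_lit 223052)) (.leaf (nat_lit
    136780))) (.leaf (nat_lit 453748))) (.node (.node (.leaf (nat_lit 193027)) (.leaf (nat_lit
    527442))) (.leaf (nat_lit 354077)))) (.node (.node (.node (.leaf (nat_lit 354088)) (.leaf
    (nat_lit 94437))) (.leaf (nat_lit 584868))) (.node (.leaf (nat_lit 94439)) (.leaf (nat_lit
    247537)))))) (.node (.node (.node (.node (.node (.leaf (nat_lit 300757)) (.leaf (nat_lit
    32840))) (.leaf (nat_lit 264188))) (.node (.node (.leaf (nat_lit 8234)) (.leaf (nat_lit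
    523220))) (.leaf (nat_lit 222927)))) (.node (.node (.node (.leaf (nat_lit 188920)) (.leaf
    (nat_lit 531487))) (.leaf (nat_lit 169085))) (.node (.leaf (nat_lit 593093)) (.leaf (nat_lit
    94494))))) (.node (.node (.node (.node (.leaf (nat_lit 460958)) (.leaf (nat_lit 469030)))
    (.leaf (nat_lit 16548))) (.node (.leaf (nat_lit 341175)) (.leaf (nat_lit 280679)))) (.node
    (.node (.node (.leaf (nat_lit 449249)) (.leaf (nat_lit 169382))) (.leaf (nat_lit 494790)))
    (.node (.leaf (nat_lit 332958)) (.leaf (nat_lit 210801))))))))) (.node (.node (.node (.node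
    (.node (.node (.node (.node (.leaf (nat_lit 41055)) (.leaf (nat_lit 412543))) (.leaf (nat_lit
    222925))) (.node (.node (.leaf (nat_lit 403457)) (.leaf (nat_lit 391835))) (.leaf (nat_lit
    4125)))) (.node (.node (.node (.leaf (nat_lit 584878)) (.leaf (nat_lit 441143))) (.leaf
    (nat_lit 151921))) (.node (.leaf (nat_lit 259695)) (.leaf (nat_lit 531485))))) (.node (.node
    (.node (.node (.leaf (nat_lit 263069)) (.leaf (nat_lit 12427))) (.leaf (nat_lit 285228)))
    (.node (.node (.leaf (nat_lit 28832)) (.leaf (nat_lit 350282))) (.leaf (nat_lit 464928))))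
    (.node (.node (.node (.leaf (nat_lit 177669)) (.leaf (nat_lit 609751))) (.leaf (nat_lit
    375546))) (.node (.leaf (nat_lit 548034)) (.leaf (nat_lit 173497)))))) (.node (.node (.node
    (.node (.node (.leaf (nat_lit 106859)) (.leaf (nat_lit 425038))) (.leaf (nat_lit 354085)))
    (.node (.node (.leaf (nat_lit 556151)) (.leaf (nat_lit 345827))) (.leaf (nat_lit 144974))))
    (.node (.node (.node (.leaf (nat_lit 41056)) (.leaf (nat_lit 264207))) (.leaf (nat_lit
    432104))) (.node (.leaf (nat_lit 453480)) (.leaf (nat_lit 45169))))) (.node (.node (.node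
    (.node (.leaf (nat_lit 395190)) (.leaf (nat_lit 354074))) (.leaf (nat_lit 580906))) (.node
    (.node (.leaf (nat_lit 304772)) (.leaf (nat_lit 544001))) (.leaf (nat_lit 556094)))) (.node
    (.node (.node (.leaf (nat_lit 308246)) (.leaf (nat_lit 87624))) (.leaf (nat_lit 301254)))
    (.node (.leaf (nat_lit 206349)) (.leaf (nat_lit 153260))))))) (.node (.node (.node (.node
    (.node (.node (.leaf (nat_lit 135507)) (.leaf (nat_lit 314232))) (.leaf (nat_lit 295909)))
    (.node (.node (.leaf (nat_lit 527352)) (.leaf (nat_lit 489590))) (.leaf (nat_lit 176574))))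
    (.node (.node (.node (.leaf (nat_lit 609738)) (.leaf (nat_lit 338702))) (.leaf (nat_lit
    341413))) (.node (.leaf (nat_lit 403365)) (.leaf (nat_lit 539877))))) (.node (.node (.node
    (.node (.leaf (nat_lit 473135)) (.leaf (nat_lit 254722))) (.leaf (nat_lit 556105))) (.node
    (.node (.leaf (nat_lit 177667)) (.leaf (nat_lit 609536))) (.leaf (nat_lit 338401)))) (.node
    (.node (.node (.leaf (nat_lit 254730)) (.leaf (nat_lit 41061))) (.leaf (nat_lit 576660)))
    (.node (.leaf (nat_lit 57491)) (.leaf (nat_lit 374632)))))) (.node (.node (.node (.node (.node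
    (.leaf (nat_lit 209500)) (.leaf (nat_lit 622046))) (.leaf (nat_lit 321484))) (.node (.node
    (.leaf (nat_lit 4)) (.leaf (nat_lit 564325))) (.leaf (nat_lit 161333)))) (.node (.node (.node
    (.leaf (nat_lit 123200)) (.leaf (nat_lit 359359))) (.leaf (nat_lit 160793))) (.node (.leaf
    (nat_lit 510948)) (.leaf (nat_lit 217780))))) (.node (.node (.node (.node (.leaf (nat_lit
    519089)) (.leaf (nat_lit 123651))) (.leaf (nat_lit 24696))) (.node (.leaf (nat_lit 329330))
    (.leaf (nat_lit 330568)))) (.node (.node (.node (.leaf (nat_lit 489832)) (.leaf (nat_lit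
    291802))) (.leaf (nat_lit 453782))) (.node (.leaf (nat_lit 82304)) (.leaf (nat_lit
    519100)))))))) (.node (.node (.node (.node (.node (.node (.node (.leaf (nat_lit 28795)) (.leaf
    (nat_lit 326508))) (.leaf (nat_lit 169406))) (.node (.node (.leaf (nat_lit 444769)) (.leaf
    (nat_lit 247517))) (.leaf (nat_lit 94433)))) (.node (.node (.node (.leaf (nat_lit 580769))
    (.leaf (nat_lit 190235))) (.leaf (nat_lit 115046))) (.node (.leaf (nat_lit 296776)) (.leaf
    (nat_lit 416871))))) (.node (.node (.node (.node (.leaf (nat_lit 324727)) (.leaf (nat_lit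
    87606))) (.leaf (nat_lit 359350))) (.node (.node (.leaf (nat_lit 98542)) (.leaf (nat_lit
    433035))) (.leaf (nat_lit 305641)))) (.node (.node (.node (.leaf (nat_lit 165275)) (.leaf
    (nat_lit 613815))) (.leaf (nat_lit 227251))) (.node (.leaf (nat_lit 626149)) (.leaf (nat_lit
    366420)))))) (.node (.node (.node (.node (.node (.leaf (nat_lit 160210)) (.leaf (nat_lit
    576954))) (.leaf (nat_lit 338700))) (.node (.node (.leaf (nat_lit 601457)) (.leaf (nat_lit
    379651))) (.leaf (nat_lit 169398)))) (.node (.node (.node (.leaf (nat_lit 65730)) (.leaf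
    (nat_lit 485941))) (.leaf (nat_lit 201624))) (.node (.leaf (nat_lit 392052)) (.leaf (nat_lit
    160130))))) (.node (.node (.node (.node (.leaf (nat_lit 494274)) (.leaf (nat_lit 222913)))
    (.leaf (nat_lit 65694))) (.node (.leaf (nat_lit 250613)) (.leaf (nat_lit 514977)))) (.node
    (.node (.node (.leaf (nat_lit 316987)) (.leaf (nat_lit 45346))) (.leaf (nat_lit 392240)))
    (.node (.leaf (nat_lit 69950)) (.leaf (nat_lit 330311))))))) (.node (.node (.node (.node (.node
    (.node (.leaf (nat_lit 78098)) (.leaf (nat_lit 408565))) (.leaf (nat_lit 419789))) (.node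
    (.node (.leaf (nat_lit 420899)) (.leaf (nat_lit 482073))) (.leaf (nat_lit 234182)))) (.node
    (.node (.node (.leaf (nat_lit 12345)) (.leaf (nat_lit 510853))) (.leaf (nat_lit 86617))) (.node
    (.leaf (nat_lit 415708)) (.leaf (nat_lit 11))))) (.node (.node (.node (.node (.leaf (nat_lit
    366450)) (.leaf (nat_lit 67217))) (.leaf (nat_lit 621879))) (.node (.node (.leaf (nat_lit
    132555)) (.leaf (nat_lit 539996))) (.leaf (nat_lit 371335)))) (.node (.node (.node (.leaf
    (nat_lit 258883)) (.leaf (nat_lit 128604))) (.leaf (nat_lit 449431))) (.node (.leaf (nat_lit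
    24722)) (.leaf (nat_lit 264807)))))) (.node (.node (.node (.node (.node (.leaf (nat_lit
    292566)) (.leaf (nat_lit 45171))) (.leaf (nat_lit 568437))) (.node (.node (.leaf (nat_lit
    32845)) (.leaf (nat_lit 445121))) (.leaf (nat_lit 275945)))) (.node (.node (.node (.leaf
    (nat_lit 91615)) (.leaf (nat_lit 396349))) (.leaf (nat_lit 485939))) (.node (.leaf (nat_lit
    572555)) (.leaf (nat_lit 49479))))) (.node (.node (.node (.node (.leaf (nat_lit 535577)) (.leaf
    (nat_lit 288491))) (.leaf (nat_lit 197144))) (.node (.leaf (nat_lit 354081)) (.leaf (nat_lit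
    498650)))) (.node (.node (.node (.leaf (nat_lit 432114)) (.leaf (nat_lit 185666))) (.leaf
    (nat_lit 568772))) (.node (.leaf (nat_lit 188919)) (.leaf (nat_lit 498561)))))))))) (.node
    (.node (.node (.node (.node (.node (.node (.node (.node (.leaf (nat_lit 8223)) (.leaf (nat_lit
    510865))) (.leaf (nat_lit 214783))) (.node (.node (.leaf (nat_lit 395237)) (.leaf (nat_lit
    157207))) (.leaf (nat_lit 9)))) (.node (.node (.node (.leaf (nat_lit 437270)) (.leaf (nat_lit
    313945))) (.leaf (nat_lit 37115))) (.node (.leaf (nat_lit 267877)) (.leaf (nat_lit 424945)))))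
    (.node (.node (.node (.node (.leaf (nat_lit 279451)) (.leaf (nat_lit 132698))) (.leaf (nat_lit
    350270))) (.node (.node (.leaf (nat_lit 37008)) (.leaf (nat_lit 469695))) (.leaf (nat_lit
    448522)))) (.node (.node (.node (.leaf (nat_lit 180694)) (.leaf (nat_lit 580995))) (.leaf
    (nat_lit 539686))) (.node (.leaf (nat_lit 576678)) (.leaf (nat_lit 206360)))))) (.node (.node
    (.node (.node (.node (.leaf (nat_lit 131418)) (.leaf (nat_lit 502840))) (.leaf (nat_lit
    181471))) (.node (.node (.leaf (nat_lit 564349)) (.leaf (nat_lit 387863))) (.leaf (nat_lit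
    201291)))) (.node (.node (.node (.leaf (nat_lit 57492)) (.leaf (nat_lit 260103))) (.leaf
    (nat_lit 419783))) (.node (.leaf (nat_lit 469842)) (.leaf (nat_lit 8257))))) (.node (.node
    (.node (.node (.leaf (nat_lit 415682)) (.leaf (nat_lit 177673))) (.leaf (nat_lit 589260)))
    (.node (.node (.leaf (nat_lit 147950)) (.leaf (nat_lit 613811))) (.leaf (nat_lit 551990))))
    (.node (.node (.node (.leaf (nat_lit 218901)) (.leaf (nat_lit 177798))) (.leaf (nat_lit
    288937))) (.node (.leaf (nat_lit 156033)) (.leaf (nat_lit 288493))))))) (.node (.node (.node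
    (.node (.node (.node (.leaf (nat_lit 65724)) (.leaf (nat_lit 486009))) (.leaf (nat_lit
    481372))) (.node (.node (.leaf (nat_lit 370975)) (.leaf (nat_lit 272959))) (.leaf (nat_lit
    156026)))) (.node (.node (.node (.leaf (nat_lit 613817)) (.leaf (nat_lit 342788))) (.leaf
    (nat_lit 337062))) (.node (.leaf (nat_lit 486179)) (.leaf (nat_lit 548244))))) (.node (.node
    (.node (.node (.leaf (nat_lit 341181)) (.leaf (nat_lit 78112))) (.leaf (nat_lit 593104)))
    (.node (.node (.leaf (nat_lit 106806)) (.leaf (nat_lit 556099))) (.leaf (nat_lit 469833))))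
    (.node (.node (.node (.leaf (nat_lit 362318)) (.leaf (nat_lit 36944))) (.leaf (nat_lit
    247797))) (.node (.leaf (nat_lit 16429)) (.leaf (nat_lit 399257)))))) (.node (.node (.node
    (.node (.node (.leaf (nat_lit 172605)) (.leaf (nat_lit 597441))) (.leaf (nat_lit 329658)))
    (.node (.node (.leaf (nat_lit 626153)) (.leaf (nat_lit 531463))) (.leaf (nat_lit 199247))))
    (.node (.node (.node (.leaf (nat_lit 147821)) (.leaf (nat_lit 420740))) (.leaf (nat_lit
    156670))) (.node (.leaf (nat_lit 506798)) (.leaf (nat_lit 83531))))) (.node (.node (.node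
    (.node (.leaf (nat_lit 490183)) (.leaf (nat_lit 119519))) (.leaf (nat_lit 73915))) (.node
    (.leaf (nat_lit 234246)) (.leaf (nat_lit 326502)))) (.node (.node (.node (.leaf (nat_lit
    247633)) (.leaf (nat_lit 54725))) (.leaf (nat_lit 621870))) (.node (.leaf (nat_lit 151927))
    (.leaf (nat_lit 477250)))))))) (.node (.node (.node (.node (.node (.node (.node (.leaf (nat_lit
    20583)) (.leaf (nat_lit 453329))) (.leaf (nat_lit 185062))) (.node (.node (.leaf (nat_lit
    391452)) (.leaf (nat_lit 108191))) (.leaf (nat_lit 16458)))) (.node (.node (.node (.leaf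
    (nat_lit 572549)) (.leaf (nat_lit 243444))) (.leaf (nat_lit 279446))) (.node (.leaf (nat_lit
    288546)) (.leaf (nat_lit 408653))))) (.node (.node (.node (.node (.leaf (nat_lit 337470))
    (.leaf (nat_lit 30351))) (.leaf (nat_lit 441223))) (.node (.node (.leaf (nat_lit 206300))
    (.leaf (nat_lit 551995))) (.leaf (nat_lit 152543)))) (.node (.node (.node (.leaf (nat_lit
    279454)) (.leaf (nat_lit 585174))) (.leaf (nat_lit 223142))) (.node (.leaf (nat_lit 609735))
    (.leaf (nat_lit 349956)))))) (.node (.node (.node (.node (.node (.leaf (nat_lit 184795)) (.leaf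
    (nat_lit 540002))) (.leaf (nat_lit 342780))) (.node (.node (.leaf (nat_lit 576714)) (.leaf
    (nat_lit 198489))) (.leaf (nat_lit 70035)))) (.node (.node (.node (.leaf (nat_lit 69810))
    (.leaf (nat_lit 350277))) (.leaf (nat_lit 131901))) (.node (.leaf (nat_lit 379684)) (.leaf
    (nat_lit 16526))))) (.node (.node (.node (.node (.leaf (nat_lit 510153)) (.leaf (nat_lit
    391046))) (.leaf (nat_lit 28740))) (.node (.leaf (nat_lit 218824)) (.leaf (nat_lit 523216))))
    (.node (.node (.node (.leaf (nat_lit 320647)) (.leaf (nat_lit 239262))) (.leaf (nat_lit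
    355343))) (.node (.leaf (nat_lit 78116)) (.leaf (nat_lit 445285))))))) (.node (.node (.node
    (.node (.node (.node (.leaf (nat_lit 119088)) (.leaf (nat_lit 363453))) (.leaf (nat_lit
    308993))) (.node (.node (.leaf (nat_lit 412663)) (.leaf (nat_lit 367401))) (.leaf (nat_lit
    100027)))) (.node (.node (.node (.leaf (nat_lit 2)) (.leaf (nat_lit 523218))) (.leaf (nat_lit
    312849))) (.node (.leaf (nat_lit 427999)) (.leaf (nat_lit 605660))))) (.node (.node (.node
    (.node (.leaf (nat_lit 391049)) (.leaf (nat_lit 149171))) (.leaf (nat_lit 613801))) (.node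
    (.node (.leaf (nat_lit 83537)) (.leaf (nat_lit 515180))) (.leaf (nat_lit 362305)))) (.node
    (.node (.node (.leaf (nat_lit 267067)) (.leaf (nat_lit 16484))) (.leaf (nat_lit 588983)))
    (.node (.leaf (nat_lit 102649)) (.leaf (nat_lit 333565)))))) (.node (.node (.node (.node (.node
    (.leaf (nat_lit 247364)) (.leaf (nat_lit 4135))) (.leaf (nat_lit 572557))) (.node (.node (.leaf
    (nat_lit 41053)) (.leaf (nat_lit 416643))) (.leaf (nat_lit 374625)))) (.node (.node (.node
    (.leaf (nat_lit 144883)) (.leaf (nat_lit 593299))) (.leaf (nat_lit 181664))) (.node (.leaf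
    (nat_lit 556103)) (.leaf (nat_lit 251553))))) (.node (.node (.node (.node (.leaf (nat_lit
    424108)) (.leaf (nat_lit 281083))) (.leaf (nat_lit 20661))) (.node (.leaf (nat_lit 362311))
    (.leaf (nat_lit 314226)))) (.node (.node (.node (.leaf (nat_lit 423896)) (.leaf (nat_lit
    70075))) (.leaf (nat_lit 552300))) (.node (.leaf (nat_lit 345310)) (.leaf (nat_lit
    214913))))))))) (.node (.node (.node (.node (.node (.node (.node (.node (.leaf (nat_lit 24639))
    (.leaf (nat_lit 416659))) (.leaf (nat_lit 132702))) (.node (.node (.leaf (nat_lit 383307))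
    (.leaf (nat_lit 98999))) (.leaf (nat_lit 32843)))) (.node (.node (.node (.leaf (nat_lit
    560213)) (.leaf (nat_lit 465725))) (.leaf (nat_lit 45365))) (.node (.leaf (nat_lit 279720))
    (.leaf (nat_lit 597389))))) (.node (.node (.node (.node (.leaf (nat_lit 234446)) (.leaf
    (nat_lit 157328))) (.leaf (nat_lit 490201))) (.node (.node (.leaf (nat_lit 53430)) (.leaf
    (nat_lit 310048))) (.leaf (nat_lit 485478)))) (.node (.node (.node (.leaf (nat_lit 206274))
    (.leaf (nat_lit 544146))) (.leaf (nat_lit 277256))) (.node (.leaf (nat_lit 605421)) (.leaf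
    (nat_lit 165304)))))) (.node (.node (.node (.node (.node (.leaf (nat_lit 164245)) (.leaf
    (nat_lit 515176))) (.leaf (nat_lit 362315))) (.node (.node (.leaf (nat_lit 548028)) (.leaf
    (nat_lit 190246))) (.leaf (nat_lit 287690)))) (.node (.node (.node (.leaf (nat_lit 53384))
    (.leaf (nat_lit 268315))) (.leaf (nat_lit 436219))) (.node (.leaf (nat_lit 445283)) (.leaf
    (nat_lit 110848))))) (.node (.node (.node (.node (.leaf (nat_lit 403400)) (.leaf (nat_lit
    199187))) (.leaf (nat_lit 626151))) (.node (.node (.leaf (nat_lit 86579)) (.leaf (nat_lit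
    626145))) (.leaf (nat_lit 564312)))) (.node (.node (.node (.leaf (nat_lit 304159)) (.leaf
    (nat_lit 28887))) (.leaf (nat_lit 441283))) (.node (.leaf (nat_lit 98547)) (.leaf (nat_lit
    371579))))))) (.node (.node (.node (.node (.node (.node (.leaf (nat_lit 143711)) (.leaf
    (nat_lit 551993))) (.leaf (nat_lit 287716))) (.node (.node (.leaf (nat_lit 415946)) (.leaf
    (nat_lit 473141))) (.leaf (nat_lit 28881)))) (.node (.node (.node (.leaf (nat_lit 601461))
    (.leaf (nat_lit 551996))) (.leaf (nat_lit 111090))) (.node (.leaf (nat_lit 395170)) (.leaf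
    (nat_lit 622034))))) (.node (.node (.node (.node (.leaf (nat_lit 362309)) (.leaf (nat_lit
    50779))) (.leaf (nat_lit 461910))) (.node (.node (.leaf (nat_lit 172477)) (.leaf (nat_lit
    502842))) (.leaf (nat_lit 247520)))) (.node (.node (.node (.leaf (nat_lit 230121)) (.leaf
    (nat_lit 78020))) (.leaf (nat_lit 580765))) (.node (.leaf (nat_lit 32847)) (.leaf (nat_lit
    239335)))))) (.node (.node (.node (.node (.node (.leaf (nat_lit 354079)) (.leaf (nat_lit 13)))
    (.leaf (nat_lit 272354))) (.node (.node (.leaf (nat_lit 16425)) (.leaf (nat_lit 572559)))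
    (.leaf (nat_lit 215659)))) (.node (.node (.node (.leaf (nat_lit 94490)) (.leaf (nat_lit
    408563))) (.leaf (nat_lit 164949))) (.node (.leaf (nat_lit 498704)) (.leaf (nat_lit 108185)))))
    (.node (.node (.node (.node (.leaf (nat_lit 448618)) (.leaf (nat_lit 452622))) (.leaf (nat_lit
    123195))) (.node (.leaf (nat_lit 321130)) (.leaf (nat_lit 477249)))) (.node (.node (.node
    (.leaf (nat_lit 465732)) (.leaf (nat_lit 206358))) (.leaf (nat_lit 470186))) (.node (.leaf
    (nat_lit 250615)) (.leaf (nat_lit 306042)))))))) (.node (.node (.node (.node (.node (.node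
    (.node (.leaf (nat_lit 110855)) (.leaf (nat_lit 469717))) (.leaf (nat_lit 436221))) (.node
    (.node (.leaf (nat_lit 276539)) (.leaf (nat_lit 124450))) (.leaf (nat_lit 127298)))) (.node
    (.node (.node (.leaf (nat_lit 593097)) (.leaf (nat_lit 194367))) (.leaf (nat_lit 304120)))
    (.node (.leaf (nat_lit 371581)) (.leaf (nat_lit 613813))))) (.node (.node (.node (.node (.leaf
    (nat_lit 312412)) (.leaf (nat_lit 100029))) (.leaf (nat_lit 457710))) (.node (.node (.leaf
    (nat_lit 119083)) (.leaf (nat_lit 519099))) (.leaf (nat_lit 494451)))) (.node (.node (.node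
    (.leaf (nat_lit 262981)) (.leaf (nat_lit 601563))) (.leaf (nat_lit 231365))) (.node (.leaf
    (nat_lit 7)) (.leaf (nat_lit 157209)))))) (.node (.node (.node (.node (.node (.leaf (nat_lit
    193033)) (.leaf (nat_lit 589193))) (.leaf (nat_lit 403368))) (.node (.node (.leaf (nat_lit
    605652)) (.leaf (nat_lit 338710))) (.leaf (nat_lit 185887)))) (.node (.node (.node (.leaf
    (nat_lit 131513)) (.leaf (nat_lit 494281))) (.leaf (nat_lit 497824))) (.node (.leaf (nat_lit
    535571)) (.leaf (nat_lit 180686))))) (.node (.node (.node (.node (.leaf (nat_lit 469676))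
    (.leaf (nat_lit 103105))) (.leaf (nat_lit 53377))) (.node (.leaf (nat_lit 242393)) (.leaf
    (nat_lit 322400)))) (.node (.node (.node (.leaf (nat_lit 374635)) (.leaf (nat_lit 255523)))
    (.leaf (nat_lit 601451))) (.node (.leaf (nat_lit 231007)) (.leaf (nat_lit 392047))))))) (.node
    (.node (.node (.node (.node (.node (.leaf (nat_lit 102716)) (.leaf (nat_lit 404516))) (.leaf
    (nat_lit 411579))) (.node (.node (.leaf (nat_lit 580770)) (.leaf (nat_lit 322159))) (.leaf
    (nat_lit 110876)))) (.node (.node (.node (.leaf (nat_lit 16430)) (.leaf (nat_lit 564317)))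
    (.leaf (nat_lit 403360))) (.node (.leaf (nat_lit 407542)) (.leaf (nat_lit 24640))))) (.node
    (.node (.node (.node (.leaf (nat_lit 378756)) (.leaf (nat_lit 173487))) (.leaf (nat_lit
    543953))) (.node (.node (.leaf (nat_lit 201279)) (.leaf (nat_lit 593313))) (.leaf (nat_lit
    379625)))) (.node (.node (.node (.leaf (nat_lit 283562)) (.leaf (nat_lit 110853))) (.leaf
    (nat_lit 334384))) (.node (.leaf (nat_lit 28839)) (.leaf (nat_lit 272997)))))) (.node (.node
    (.node (.node (.node (.leaf (nat_lit 230948)) (.leaf (nat_lit 8265))) (.leaf (nat_lit 560215)))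
    (.node (.node (.leaf (nat_lit 12379)) (.leaf (nat_lit 264874))) (.leaf (nat_lit 345825))))
    (.node (.node (.node (.leaf (nat_lit 151928)) (.leaf (nat_lit 425040))) (.leaf (nat_lit
    531450))) (.node (.leaf (nat_lit 560240)) (.leaf (nat_lit 53591))))) (.node (.node (.node
    (.node (.leaf (nat_lit 400306)) (.leaf (nat_lit 296657))) (.leaf (nat_lit 214651))) (.node
    (.leaf (nat_lit 198275)) (.leaf (nat_lit 433032)))) (.node (.node (.node (.leaf (nat_lit
    501934)) (.leaf (nat_lit 354087))) (.leaf (nat_lit 560419))) (.node (.leaf (nat_lit 198273))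
    (.leaf (nat_lit 535589))))))))))) (.node (.node (.node (.node (.node (.node (.node (.node
    (.node (.node (.leaf (nat_lit 4120)) (.leaf (nat_lit 437138))) (.leaf (nat_lit 210691))) (.node
    (.node (.leaf (nat_lit 428006)) (.leaf (nat_lit 132602))) (.leaf (nat_lit 626158)))) (.node
    (.node (.node (.leaf (nat_lit 515080)) (.leaf (nat_lit 309845))) (.leaf (nat_lit 94454)))
    (.node (.leaf (nat_lit 271977)) (.leaf (nat_lit 429009))))) (.node (.node (.node (.node (.leaf
    (nat_lit 258873)) (.leaf (nat_lit 24690))) (.leaf (nat_lit 301112))) (.node (.node (.leaf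
    (nat_lit 69805)) (.leaf (nat_lit 465731))) (.leaf (nat_lit 440322)))) (.node (.node (.node
    (.leaf (nat_lit 173493)) (.leaf (nat_lit 433282))) (.leaf (nat_lit 400294))) (.node (.leaf
    (nat_lit 584873)) (.leaf (nat_lit 296621)))))) (.node (.node (.node (.node (.node (.leaf
    (nat_lit 127316)) (.leaf (nat_lit 613634))) (.leaf (nat_lit 379645))) (.node (.node (.leaf
    (nat_lit 572560)) (.leaf (nat_lit 251044))) (.leaf (nat_lit 49475)))) (.node (.node (.node
    (.leaf (nat_lit 49277)) (.leaf (nat_lit 322358))) (.leaf (nat_lit 411573))) (.node (.leaf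
    (nat_lit 465727)) (.leaf (nat_lit 61593))))) (.node (.node (.node (.node (.leaf (nat_lit
    477257)) (.leaf (nat_lit 181768))) (.leaf (nat_lit 605425))) (.node (.node (.leaf (nat_lit
    135646)) (.leaf (nat_lit 621979))) (.leaf (nat_lit 391813)))) (.node (.node (.node (.leaf
    (nat_lit 300022)) (.leaf (nat_lit 172474))) (.leaf (nat_lit 297122))) (.node (.leaf (nat_lit
    114981)) (.leaf (nat_lit 481847))))))) (.node (.node (.node (.node (.node (.node (.leaf
    (nat_lit 73919)) (.leaf (nat_lit 285238))) (.leaf (nat_lit 140181))) (.node (.node (.leaf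
    (nat_lit 493927)) (.leaf (nat_lit 461487))) (.leaf (nat_lit 78023)))) (.node (.node (.node
    (.leaf (nat_lit 589018)) (.leaf (nat_lit 227170))) (.leaf (nat_lit 324720))) (.node (.leaf
    (nat_lit 494455)) (.leaf (nat_lit 585095))))) (.node (.node (.node (.node (.leaf (nat_lit
    374631)) (.leaf (nat_lit 61698))) (.leaf (nat_lit 539693))) (.node (.node (.leaf (nat_lit
    102696)) (.leaf (nat_lit 404486))) (.leaf (nat_lit 461671)))) (.node (.node (.node (.leaf
    (nat_lit 358204)) (.leaf (nat_lit 20528))) (.leaf (nat_lit 255982))) (.node (.leaf (nat_lit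
    45164)) (.leaf (nat_lit 98997)))))) (.node (.node (.node (.node (.node (.leaf (nat_lit 91617))
    (.leaf (nat_lit 548099))) (.leaf (nat_lit 325550))) (.node (.node (.leaf (nat_lit 609743))
    (.leaf (nat_lit 219029))) (.leaf (nat_lit 194245)))) (.node (.node (.node (.leaf (nat_lit
    110862)) (.leaf (nat_lit 506039))) (.leaf (nat_lit 514255))) (.node (.leaf (nat_lit 527335))
    (.leaf (nat_lit 28883))))) (.node (.node (.node (.node (.leaf (nat_lit 485481)) (.leaf (nat_lit
    345845))) (.leaf (nat_lit 102644))) (.node (.leaf (nat_lit 238322)) (.leaf (nat_lit 268307))))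
    (.node (.node (.node (.leaf (nat_lit 243515)) (.leaf (nat_lit 144888))) (.leaf (nat_lit
    617765))) (.node (.leaf (nat_lit 238287)) (.leaf (nat_lit 190213)))))))) (.node (.node (.node
    (.node (.node (.node (.node (.leaf (nat_lit 32852)) (.leaf (nat_lit 449143))) (.leaf (nat_lit
    176858))) (.node (.node (.leaf (nat_lit 387376)) (.leaf (nat_lit 275947))) (.leaf (nat_lit
    82128)))) (.node (.node (.node (.leaf (nat_lit 552032)) (.leaf (nat_lit 379653))) (.leaf
    (nat_lit 262939))) (.node (.leaf (nat_lit 292618)) (.leaf (nat_lit 404543))))) (.node (.node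
    (.node (.node (.leaf (nat_lit 254964)) (.leaf (nat_lit 114977))) (.leaf (nat_lit 293041)))
    (.node (.node (.leaf (nat_lit 161254)) (.leaf (nat_lit 396254))) (.leaf (nat_lit 473137))))
    (.node (.node (.node (.leaf (nat_lit 119309)) (.leaf (nat_lit 539883))) (.leaf (nat_lit
    367524))) (.node (.leaf (nat_lit 621998)) (.leaf (nat_lit 177696)))))) (.node (.node (.node
    (.node (.node (.leaf (nat_lit 180689)) (.leaf (nat_lit 544190))) (.leaf (nat_lit 202587)))
    (.node (.node (.leaf (nat_lit 584895)) (.leaf (nat_lit 305960))) (.leaf (nat_lit 206388))))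
    (.node (.node (.node (.leaf (nat_lit 78058)) (.leaf (nat_lit 473143))) (.leaf (nat_lit
    144992))) (.node (.leaf (nat_lit 387868)) (.leaf (nat_lit 139606))))) (.node (.node (.node
    (.node (.leaf (nat_lit 531459)) (.leaf (nat_lit 382836))) (.leaf (nat_lit 20))) (.node (.node
    (.leaf (nat_lit 221881)) (.leaf (nat_lit 630277))) (.leaf (nat_lit 527344)))) (.node (.node
    (.node (.leaf (nat_lit 337452)) (.leaf (nat_lit 104101))) (.leaf (nat_lit 363520))) (.node
    (.leaf (nat_lit 61708)) (.leaf (nat_lit 317961))))))) (.node (.node (.node (.node (.node (.node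
    (.leaf (nat_lit 151925)) (.leaf (nat_lit 568425))) (.leaf (nat_lit 313088))) (.node (.node
    (.leaf (nat_lit 498657)) (.leaf (nat_lit 152563))) (.leaf (nat_lit 41184)))) (.node (.node
    (.node (.leaf (nat_lit 630258)) (.leaf (nat_lit 527346))) (.leaf (nat_lit 283555))) (.node
    (.leaf (nat_lit 423891)) (.leaf (nat_lit 609747))))) (.node (.node (.node (.node (.leaf
    (nat_lit 386947)) (.leaf (nat_lit 53597))) (.leaf (nat_lit 445580))) (.node (.node (.leaf
    (nat_lit 188913)) (.leaf (nat_lit 412772))) (.leaf (nat_lit 358191)))) (.node (.node (.node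
    (.leaf (nat_lit 209686)) (.leaf (nat_lit 8273))) (.leaf (nat_lit 474010))) (.node (.leaf
    (nat_lit 12397)) (.leaf (nat_lit 124576)))))) (.node (.node (.node (.node (.node (.leaf
    (nat_lit 242389)) (.leaf (nat_lit 57482))) (.leaf (nat_lit 510854))) (.node (.node (.leaf
    (nat_lit 24637)) (.leaf (nat_lit 510858))) (.leaf (nat_lit 103099)))) (.node (.node (.node
    (.leaf (nat_lit 139703)) (.leaf (nat_lit 605418))) (.leaf (nat_lit 481381))) (.node (.leaf
    (nat_lit 597207)) (.leaf (nat_lit 120489))))) (.node (.node (.node (.node (.leaf (nat_lit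
    527341)) (.leaf (nat_lit 235240))) (.leaf (nat_lit 41134))) (.node (.leaf (nat_lit 337067))
    (.leaf (nat_lit 310104)))) (.node (.node (.node (.leaf (nat_lit 452963)) (.leaf (nat_lit
    165287))) (.leaf (nat_lit 490707))) (.node (.leaf (nat_lit 242395)) (.leaf (nat_lit
    342953))))))))) (.node (.node (.node (.node (.node (.node (.node (.node (.leaf (nat_lit 16434))
    (.leaf (nat_lit 572545))) (.leaf (nat_lit 127676))) (.node (.node (.leaf (nat_lit 379187))
    (.leaf (nat_lit 399252))) (.leaf (nat_lit 24642)))) (.node (.node (.node (.leaf (nat_lit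
    597213)) (.leaf (nat_lit 457517))) (.leaf (nat_lit 57644))) (.node (.leaf (nat_lit 275616))
    (.leaf (nat_lit 601316))))) (.node (.node (.node (.node (.leaf (nat_lit 267172)) (.leaf
    (nat_lit 110851))) (.leaf (nat_lit 494296))) (.node (.node (.leaf (nat_lit 49322)) (.leaf
    (nat_lit 314136))) (.leaf (nat_lit 239080)))) (.node (.node (.node (.leaf (nat_lit 160205))
    (.leaf (nat_lit 621976))) (.leaf (nat_lit 543790))) (.node (.leaf (nat_lit 543956)) (.leaf
    (nat_lit 70051)))))) (.node (.node (.node (.node (.node (.leaf (nat_lit 123250)) (.leaf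
    (nat_lit 523354))) (.leaf (nat_lit 519095))) (.node (.node (.leaf (nat_lit 568467)) (.leaf
    (nat_lit 477259))) (.leaf (nat_lit 140879)))) (.node (.node (.node (.leaf (nat_lit 32885))
    (.leaf (nat_lit 326444))) (.leaf (nat_lit 428001))) (.node (.leaf (nat_lit 441152)) (.leaf
    (nat_lit 78025))))) (.node (.node (.node (.node (.leaf (nat_lit 419787)) (.leaf (nat_lit
    362302))) (.leaf (nat_lit 585014))) (.node (.node (.leaf (nat_lit 181626)) (.leaf (nat_lit
    601522))) (.leaf (nat_lit 560204)))) (.node (.node (.node (.leaf (nat_lit 312352)) (.leaf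
    (nat_lit 83529))) (.leaf (nat_lit 293069))) (.node (.leaf (nat_lit 41190)) (.leaf (nat_lit
    506046))))))) (.node (.node (.node (.node (.node (.node (.leaf (nat_lit 139609)) (.leaf
    (nat_lit 396160))) (.leaf (nat_lit 506032))) (.node (.node (.leaf (nat_lit 399552)) (.leaf
    (nat_lit 493724))) (.leaf (nat_lit 61638)))) (.node (.node (.node (.leaf (nat_lit 617900))
    (.leaf (nat_lit 214919))) (.leaf (nat_lit 329263))) (.node (.leaf (nat_lit 399261)) (.leaf
    (nat_lit 626141))))) (.node (.node (.node (.node (.leaf (nat_lit 358195)) (.leaf (nat_lit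
    202237))) (.leaf (nat_lit 552008))) (.node (.node (.leaf (nat_lit 169462)) (.leaf (nat_lit
    589215))) (.leaf (nat_lit 342485)))) (.node (.node (.node (.leaf (nat_lit 226965)) (.leaf
    (nat_lit 4145))) (.leaf (nat_lit 519093))) (.node (.leaf (nat_lit 65702)) (.leaf (nat_lit
    235231)))))) (.node (.node (.node (.node (.node (.leaf (nat_lit 349961)) (.leaf (nat_lit
    630279))) (.leaf (nat_lit 268246))) (.node (.node (.leaf (nat_lit 4114)) (.leaf (nat_lit
    437122))) (.leaf (nat_lit 211561)))) (.node (.node (.node (.leaf (nat_lit 114969)) (.leaf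
    (nat_lit 412627))) (.leaf (nat_lit 177232))) (.node (.leaf (nat_lit 502780)) (.leaf (nat_lit
    226963))))) (.node (.node (.node (.node (.leaf (nat_lit 457252)) (.leaf (nat_lit 444422)))
    (.leaf (nat_lit 12415))) (.node (.leaf (nat_lit 317026)) (.leaf (nat_lit 292912)))) (.node
    (.node (.node (.leaf (nat_lit 519104)) (.leaf (nat_lit 300018))) (.leaf (nat_lit 445595)))
    (.node (.leaf (nat_lit 87602)) (.leaf (nat_lit 198485)))))))) (.node (.node (.node (.node
    (.node (.node (.node (.leaf (nat_lit 49282)) (.leaf (nat_lit 465525))) (.leaf (nat_lit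
    432113))) (.node (.node (.leaf (nat_lit 506050)) (.leaf (nat_lit 332965))) (.leaf (nat_lit
    57485)))) (.node (.node (.node (.leaf (nat_lit 539806)) (.leaf (nat_lit 519102))) (.leaf
    (nat_lit 61807))) (.node (.leaf (nat_lit 367402)) (.leaf (nat_lit 420991))))) (.node (.node
    (.node (.node (.leaf (nat_lit 328837)) (.leaf (nat_lit 37090))) (.leaf (nat_lit 465870)))
    (.node (.node (.leaf (nat_lit 123193)) (.leaf (nat_lit 568429))) (.leaf (nat_lit 490329))))
    (.node (.node (.node (.leaf (nat_lit 271175)) (.leaf (nat_lit 589209))) (.leaf (nat_lit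
    239550))) (.node (.leaf (nat_lit 630252)) (.leaf (nat_lit 127564)))))) (.node (.node (.node
    (.node (.node (.leaf (nat_lit 205367)) (.leaf (nat_lit 617920))) (.leaf (nat_lit 391051)))
    (.node (.node (.leaf (nat_lit 621948)) (.leaf (nat_lit 383671))) (.leaf (nat_lit 74175))))
    (.node (.node (.node (.leaf (nat_lit 37071)) (.leaf (nat_lit 490189))) (.leaf (nat_lit
    140193))) (.node (.leaf (nat_lit 531455)) (.leaf (nat_lit 168354))))) (.node (.node (.node
    (.node (.leaf (nat_lit 464931)) (.leaf (nat_lit 374627))) (.leaf (nat_lit 69800))) (.node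
    (.leaf (nat_lit 246499)) (.leaf (nat_lit 260099)))) (.node (.node (.node (.leaf (nat_lit
    329265)) (.leaf (nat_lit 120491))) (.leaf (nat_lit 384051))) (.node (.leaf (nat_lit 225981))
    (.leaf (nat_lit 255740))))))) (.node (.node (.node (.node (.node (.node (.leaf (nat_lit
    147816)) (.leaf (nat_lit 556097))) (.leaf (nat_lit 407471))) (.node (.node (.leaf (nat_lit
    588986)) (.leaf (nat_lit 449333))) (.leaf (nat_lit 114973)))) (.node (.node (.node (.leaf
    (nat_lit 24683)) (.leaf (nat_lit 560209))) (.leaf (nat_lit 395152))) (.node (.leaf (nat_lit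
    411626)) (.leaf (nat_lit 12322))))) (.node (.node (.node (.node (.leaf (nat_lit 371350)) (.leaf
    (nat_lit 206210))) (.leaf (nat_lit 609741))) (.node (.node (.leaf (nat_lit 128467)) (.leaf
    (nat_lit 605568))) (.leaf (nat_lit 231264)))) (.node (.node (.node (.leaf (nat_lit 333560))
    (.leaf (nat_lit 140740))) (.leaf (nat_lit 346210))) (.node (.leaf (nat_lit 110861)) (.leaf
    (nat_lit 457313)))))) (.node (.node (.node (.node (.node (.leaf (nat_lit 226032)) (.leaf
    (nat_lit 83598))) (.leaf (nat_lit 527343))) (.node (.node (.leaf (nat_lit 45167)) (.leaf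
    (nat_lit 318260))) (.leaf (nat_lit 119507)))) (.node (.node (.node (.leaf (nat_lit 83541))
    (.leaf (nat_lit 404555))) (.leaf (nat_lit 523204))) (.node (.leaf (nat_lit 568435)) (.leaf
    (nat_lit 144881))))) (.node (.node (.node (.node (.leaf (nat_lit 432336)) (.leaf (nat_lit
    292571))) (.leaf (nat_lit 209490))) (.node (.leaf (nat_lit 349965)) (.leaf (nat_lit 301236))))
    (.node (.node (.node (.leaf (nat_lit 523222)) (.leaf (nat_lit 181571))) (.leaf (nat_lit
    564646))) (.node (.leaf (nat_lit 193035)) (.leaf (nat_lit 223128)))))))))) (.node (.node (.node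
    (.node (.node (.node (.node (.node (.node (.leaf (nat_lit 12325)) (.leaf (nat_lit 560207)))
    (.leaf (nat_lit 218827))) (.node (.node (.leaf (nat_lit 436222)) (.leaf (nat_lit 211533)))
    (.leaf (nat_lit 8220)))) (.node (.node (.node (.leaf (nat_lit 576664)) (.leaf (nat_lit
    449329))) (.leaf (nat_lit 193029))) (.node (.leaf (nat_lit 263793)) (.leaf (nat_lit 535580)))))
    (.node (.node (.node (.node (.leaf (nat_lit 345846)) (.leaf (nat_lit 143708))) (.leaf (nat_lit
    280669))) (.node (.node (.leaf (nat_lit 78029)) (.leaf (nat_lit 288820))) (.leaf (nat_lit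
    456722)))) (.node (.node (.node (.leaf (nat_lit 185883)) (.leaf (nat_lit 576898))) (.leaf
    (nat_lit 387851))) (.node (.leaf (nat_lit 580786)) (.leaf (nat_lit 65923)))))) (.node (.node
    (.node (.node (.node (.leaf (nat_lit 202228)) (.leaf (nat_lit 531520))) (.leaf (nat_lit
    477247))) (.node (.node (.leaf (nat_lit 552056)) (.leaf (nat_lit 342475))) (.leaf (nat_lit
    53585)))) (.node (.node (.node (.leaf (nat_lit 61596)) (.leaf (nat_lit 318256))) (.leaf
    (nat_lit 423886))) (.node (.leaf (nat_lit 449331)) (.leaf (nat_lit 86226))))) (.node (.node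
    (.node (.node (.leaf (nat_lit 411577)) (.leaf (nat_lit 74201))) (.leaf (nat_lit 576936)))
    (.node (.node (.leaf (nat_lit 152064)) (.leaf (nat_lit 580993))) (.leaf (nat_lit 399255))))
    (.node (.node (.node (.leaf (nat_lit 222994)) (.leaf (nat_lit 24773))) (.leaf (nat_lit
    465806))) (.node (.leaf (nat_lit 161331)) (.leaf (nat_lit 292591))))))) (.node (.node (.node
    (.node (.node (.node (.leaf (nat_lit 45258)) (.leaf (nat_lit 490195))) (.leaf (nat_lit
    485933))) (.node (.node (.leaf (nat_lit 407718)) (.leaf (nat_lit 234986))) (.leaf (nat_lit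
    164242)))) (.node (.node (.node (.leaf (nat_lit 605562)) (.leaf (nat_lit 210805))) (.leaf
    (nat_lit 320603))) (.node (.leaf (nat_lit 490352)) (.leaf (nat_lit 544140))))) (.node (.node
    (.node (.node (.leaf (nat_lit 304705)) (.leaf (nat_lit 246494))) (.leaf (nat_lit 597215)))
    (.node (.node (.leaf (nat_lit 184797)) (.leaf (nat_lit 576861))) (.leaf (nat_lit 255529))))
    (.node (.node (.node (.leaf (nat_lit 251555)) (.leaf (nat_lit 61590))) (.leaf (nat_lit
    478093))) (.node (.leaf (nat_lit 36951)) (.leaf (nat_lit 104082)))))) (.node (.node (.node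
    (.node (.node (.leaf (nat_lit 197207)) (.leaf (nat_lit 626143))) (.leaf (nat_lit 317376)))
    (.node (.node (.leaf (nat_lit 630261)) (.leaf (nat_lit 424853))) (.leaf (nat_lit 131658))))
    (.node (.node (.node (.leaf (nat_lit 193038)) (.leaf (nat_lit 416674))) (.leaf (nat_lit
    206350))) (.node (.leaf (nat_lit 515014)) (.leaf (nat_lit 114975))))) (.node (.node (.node
    (.node (.leaf (nat_lit 276525)) (.leaf (nat_lit 333562))) (.leaf (nat_lit 119078))) (.node
    (.leaf (nat_lit 325228)) (.leaf (nat_lit 272417)))) (.node (.node (.node (.leaf (nat_lit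
    486132)) (.leaf (nat_lit 136697))) (.leaf (nat_lit 609737))) (.node (.leaf (nat_lit 147830))
    (.leaf (nat_lit 194349)))))))) (.node (.node (.node (.node (.node (.node (.node (.leaf (nat_lit
    114960)) (.leaf (nat_lit 268896))) (.leaf (nat_lit 164598))) (.node (.node (.leaf (nat_lit
    440927)) (.leaf (nat_lit 243339))) (.leaf (nat_lit 20562)))) (.node (.node (.node (.leaf
    (nat_lit 556166)) (.leaf (nat_lit 477252))) (.leaf (nat_lit 271975))) (.node (.leaf (nat_lit
    300854)) (.leaf (nat_lit 412761))))) (.node (.node (.node (.node (.leaf (nat_lit 316499))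
    (.leaf (nat_lit 91703))) (.leaf (nat_lit 449439))) (.node (.node (.leaf (nat_lit 57564)) (.leaf
    (nat_lit 297144))) (.leaf (nat_lit 506037)))) (.node (.node (.node (.leaf (nat_lit 135752))
    (.leaf (nat_lit 617910))) (.leaf (nat_lit 235436))) (.node (.leaf (nat_lit 617776)) (.leaf
    (nat_lit 358188)))))) (.node (.node (.node (.node (.node (.leaf (nat_lit 156098)) (.leaf
    (nat_lit 601480))) (.leaf (nat_lit 382839))) (.node (.node (.leaf (nat_lit 543968)) (.leaf
    (nat_lit 374629))) (.leaf (nat_lit 173495)))) (.node (.node (.node (.leaf (nat_lit 73920))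
    (.leaf (nat_lit 481831))) (.leaf (nat_lit 379641))) (.node (.leaf (nat_lit 383834)) (.leaf
    (nat_lit 20632))))) (.node (.node (.node (.node (.leaf (nat_lit 481827)) (.leaf (nat_lit
    218815))) (.leaf (nat_lit 49270))) (.node (.leaf (nat_lit 254725)) (.leaf (nat_lit 510857))))
    (.node (.node (.node (.leaf (nat_lit 477254)) (.leaf (nat_lit 57604))) (.leaf (nat_lit
    371754))) (.node (.leaf (nat_lit 74030)) (.leaf (nat_lit 461677))))))) (.node (.node (.node
    (.node (.node (.node (.leaf (nat_lit 61704)) (.leaf (nat_lit 564315))) (.leaf (nat_lit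
    415681))) (.node (.node (.leaf (nat_lit 510986)) (.leaf (nat_lit 486177))) (.leaf (nat_lit
    225978)))) (.node (.node (.node (.leaf (nat_lit 4123)) (.leaf (nat_lit 514979))) (.leaf
    (nat_lit 91764))) (.node (.leaf (nat_lit 419792)) (.leaf (nat_lit 630273))))) (.node (.node
    (.node (.node (.leaf (nat_lit 506045)) (.leaf (nat_lit 153273))) (.leaf (nat_lit 617771)))
    (.node (.node (.leaf (nat_lit 90500)) (.leaf (nat_lit 421006))) (.leaf (nat_lit 367339))))
    (.node (.node (.node (.leaf (nat_lit 213814)) (.leaf (nat_lit 114979))) (.leaf (nat_lit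
    457628))) (.node (.leaf (nat_lit 106751)) (.leaf (nat_lit 440925)))))) (.node (.node (.node
    (.node (.node (.leaf (nat_lit 287693)) (.leaf (nat_lit 41059))) (.leaf (nat_lit 514974)))
    (.node (.node (.leaf (nat_lit 65699)) (.leaf (nat_lit 441147))) (.leaf (nat_lit 107207))))
    (.node (.node (.node (.leaf (nat_lit 86452)) (.leaf (nat_lit 597391))) (.leaf (nat_lit
    173235))) (.node (.leaf (nat_lit 552004)) (.leaf (nat_lit 201293))))) (.node (.node (.node
    (.node (.leaf (nat_lit 334010)) (.leaf (nat_lit 285169))) (.leaf (nat_lit 188908))) (.node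
    (.leaf (nat_lit 358201)) (.leaf (nat_lit 502747)))) (.node (.node (.node (.leaf (nat_lit
    473164)) (.leaf (nat_lit 75399))) (.leaf (nat_lit 556408))) (.node (.leaf (nat_lit 246503))
    (.leaf (nat_lit 338798))))))))) (.node (.node (.node (.node (.node (.node (.node (.node (.leaf
    (nat_lit 53381)) (.leaf (nat_lit 260700))) (.leaf (nat_lit 135880))) (.node (.node (.leaf
    (nat_lit 457315)) (.leaf (nat_lit 226905))) (.leaf (nat_lit 36947)))) (.node (.node (.node
    (.leaf (nat_lit 568431)) (.leaf (nat_lit 251643))) (.leaf (nat_lit 258834))) (.node (.leaf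
    (nat_lit 283828)) (.leaf (nat_lit 593301))))) (.node (.node (.node (.node (.leaf (nat_lit
    238556)) (.leaf (nat_lit 169490))) (.leaf (nat_lit 535579))) (.node (.node (.leaf (nat_lit
    114967)) (.leaf (nat_lit 280695))) (.leaf (nat_lit 481825)))) (.node (.node (.node (.leaf
    (nat_lit 157212)) (.leaf (nat_lit 548238))) (.leaf (nat_lit 547893))) (.node (.leaf (nat_lit
    601326)) (.leaf (nat_lit 185889)))))) (.node (.node (.node (.node (.node (.leaf (nat_lit
    168357)) (.leaf (nat_lit 433280))) (.leaf (nat_lit 367345))) (.node (.node (.leaf (nat_lit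
    597218)) (.leaf (nat_lit 358193))) (.leaf (nat_lit 295902)))) (.node (.node (.node (.leaf
    (nat_lit 28807)) (.leaf (nat_lit 330556))) (.leaf (nat_lit 135956))) (.node (.leaf (nat_lit
    519085)) (.leaf (nat_lit 32880))))) (.node (.node (.node (.node (.leaf (nat_lit 523213)) (.leaf
    (nat_lit 128508))) (.leaf (nat_lit 630257))) (.node (.node (.leaf (nat_lit 312952)) (.leaf
    (nat_lit 597402))) (.leaf (nat_lit 568422)))) (.node (.node (.node (.leaf (nat_lit 324730))
    (.leaf (nat_lit 32996))) (.leaf (nat_lit 359370))) (.node (.leaf (nat_lit 49400)) (.leaf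
    (nat_lit 309783))))))) (.node (.node (.node (.node (.node (.node (.leaf (nat_lit 37082)) (.leaf
    (nat_lit 301247))) (.leaf (nat_lit 473145))) (.node (.node (.leaf (nat_lit 535584)) (.leaf
    (nat_lit 148443))) (.leaf (nat_lit 91609)))) (.node (.node (.node (.leaf (nat_lit 621880))
    (.leaf (nat_lit 399259))) (.leaf (nat_lit 78335))) (.node (.leaf (nat_lit 432109)) (.leaf
    (nat_lit 576948))))) (.node (.node (.node (.node (.leaf (nat_lit 218932)) (.leaf (nat_lit
    140877))) (.leaf (nat_lit 470114))) (.node (.node (.leaf (nat_lit 164249)) (.leaf (nat_lit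
    535618))) (.leaf (nat_lit 349959)))) (.node (.node (.node (.leaf (nat_lit 349968)) (.leaf
    (nat_lit 90326))) (.leaf (nat_lit 506776))) (.node (.leaf (nat_lit 20566)) (.leaf (nat_lit
    243341)))))) (.node (.node (.node (.node (.node (.leaf (nat_lit 295905)) (.leaf (nat_lit
    16422))) (.leaf (nat_lit 260080))) (.node (.node (.leaf (nat_lit 20533)) (.leaf (nat_lit
    408468))) (.leaf (nat_lit 218823)))) (.node (.node (.node (.leaf (nat_lit 102707)) (.leaf
    (nat_lit 535582))) (.leaf (nat_lit 185898))) (.node (.leaf (nat_lit 539688)) (.leaf (nat_lit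
    41217))))) (.node (.node (.node (.node (.leaf (nat_lit 452728)) (.leaf (nat_lit 460826)))
    (.leaf (nat_lit 147812))) (.node (.leaf (nat_lit 345580)) (.leaf (nat_lit 285216)))) (.node
    (.node (.node (.leaf (nat_lit 469281)) (.leaf (nat_lit 67071))) (.leaf (nat_lit 462001)))
    (.node (.leaf (nat_lit 255423)) (.leaf (nat_lit 231273)))))))) (.node (.node (.node (.node
    (.node (.node (.node (.leaf (nat_lit 57498)) (.leaf (nat_lit 473139))) (.leaf (nat_lit
    423895))) (.node (.node (.leaf (nat_lit 367144)) (.leaf (nat_lit 260651))) (.leaf (nat_lit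
    135504)))) (.node (.node (.node (.leaf (nat_lit 548024)) (.leaf (nat_lit 367347))) (.leaf
    (nat_lit 308238))) (.node (.leaf (nat_lit 333660)) (.leaf (nat_lit 617861))))) (.node (.node
    (.node (.node (.leaf (nat_lit 320633)) (.leaf (nat_lit 230080))) (.leaf (nat_lit 502789)))
    (.node (.node (.leaf (nat_lit 61706)) (.leaf (nat_lit 429013))) (.leaf (nat_lit 453457))))
    (.node (.node (.node (.leaf (nat_lit 288534)) (.leaf (nat_lit 630275))) (.leaf (nat_lit
    251860))) (.node (.leaf (nat_lit 4119)) (.leaf (nat_lit 378736)))))) (.node (.node (.node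
    (.node (.node (.leaf (nat_lit 98822)) (.leaf (nat_lit 609745))) (.leaf (nat_lit 399263)))
    (.node (.node (.leaf (nat_lit 613802)) (.leaf (nat_lit 215706))) (.leaf (nat_lit 181790))))
    (.node (.node (.node (.leaf (nat_lit 201264)) (.leaf (nat_lit 502749))) (.leaf (nat_lit
    510148))) (.node (.leaf (nat_lit 477362)) (.leaf (nat_lit 37064))))) (.node (.node (.node
    (.node (.leaf (nat_lit 440340)) (.leaf (nat_lit 276201))) (.leaf (nat_lit 8262))) (.node (.leaf
    (nat_lit 230102)) (.leaf (nat_lit 264203)))) (.node (.node (.node (.leaf (nat_lit 235279))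
    (.leaf (nat_lit 50781))) (.leaf (nat_lit 605559))) (.node (.leaf (nat_lit 234185)) (.leaf
    (nat_lit 383912))))))) (.node (.node (.node (.node (.node (.node (.leaf (nat_lit 82244)) (.leaf
    (nat_lit 585059))) (.leaf (nat_lit 173215))) (.node (.node (.leaf (nat_lit 593102)) (.leaf
    (nat_lit 457519))) (.leaf (nat_lit 242386)))) (.node (.node (.node (.leaf (nat_lit 20535))
    (.leaf (nat_lit 572547))) (.leaf (nat_lit 407466))) (.node (.leaf (nat_lit 457528)) (.leaf
    (nat_lit 4131))))) (.node (.node (.node (.node (.leaf (nat_lit 383644)) (.leaf (nat_lit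
    71187))) (.leaf (nat_lit 548062))) (.node (.node (.leaf (nat_lit 143812)) (.leaf (nat_lit
    548254))) (.leaf (nat_lit 383617)))) (.node (.node (.node (.leaf (nat_lit 197545)) (.leaf
    (nat_lit 12439))) (.leaf (nat_lit 593088))) (.node (.leaf (nat_lit 123199)) (.leaf (nat_lit
    276197)))))) (.node (.node (.node (.node (.node (.leaf (nat_lit 283559)) (.leaf (nat_lit
    94435))) (.leaf (nat_lit 523215))) (.node (.node (.leaf (nat_lit 94431)) (.leaf (nat_lit
    326446))) (.leaf (nat_lit 123631)))) (.node (.node (.node (.leaf (nat_lit 98812)) (.leaf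
    (nat_lit 429148))) (.leaf (nat_lit 527337))) (.node (.leaf (nat_lit 564360)) (.leaf (nat_lit
    136688))))) (.node (.node (.node (.node (.leaf (nat_lit 502744)) (.leaf (nat_lit 300755)))
    (.leaf (nat_lit 106749))) (.node (.leaf (nat_lit 210551)) (.leaf (nat_lit 437152)))) (.node
    (.node (.node (.leaf (nat_lit 531469)) (.leaf (nat_lit 194243))) (.leaf (nat_lit 572724)))
    (.node (.leaf (nat_lit 374618)) (.leaf (nat_lit 527348))))))))))))

/-- Certificate data. -/
def pg_C : TC.Cert := ⟨9, 511, 12, 4095, 264625479259954576881248232342016, 15614, pg_par, pg_fact, pg_just, pg_rel, 133⟩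

/-- Certificate data. -/
def pg_rs : List (List ℕ) := [[1, 1, 1], [5, 5, 5, 5], [5, 1, 6, 4], [5, 3, 6, 1], [1, 3, 2, 4], [7, 7], [7, 5, 7, 5], [7, 1, 7, 1, 7, 1], [7, 3, 7, 3, 7, 3, 7, 3], [7, 1, 5, 7, 1, 5, 7, 1, 5, 7, 1, 5, 7, 1, 5], [10, 10], [11, 11], [12, 12], [13, 13], [10, 11, 10, 11], [10, 12, 10, 12], [10, 13, 10, 13], [11, 12, 11, 12], [11, 13, 11, 13], [12, 13, 12, 13], [1, 10, 2, 10], [1, 11, 2, 11], [1, 12, 2, 13, 12], [1, 13, 2, 12], [5, 10, 6, 12], [5, 11, 6, 13], [5, 12, 6, 10], [5, 13, 6, 11, 10], [7, 10, 7, 10], [7, 11, 7, 12, 11, 10], [7, 12, 7, 12], [7, 13, 7, 13, 10], [8, 1, 9, 4, 2], [8, 5, 9, 5], [8, 8, 6, 6], [8, 7, 9, 7, 5], [8, 10, 12, 9, 10, 12, 8, 10, 12, 9, 10, 12, 6, 6]]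

/-- Certificate data. -/
def pg_gl : List ℕ := [1, 39427, 78853, 118279, 157704, 197130, 236555, 275980, 315405]

theorem pg_h1_0 : allR pg_C.factChk 0 714 = true := by decide +kernel

theorem pg_h1_1 : allR pg_C.factChk 714 679 = true := by decide +kernel

theorem pg_h1_2 : allR pg_C.factChk 1393 403 = true := by decide +kernel

theorem pg_h1 : allB pg_C.factChk 1796 = true :=
  allB_of_allR (a := 1796)
    (allR_append (allR_append (pg_h1_0) pg_h1_1) pg_h1_2)

theorem pg_h2 : pg_C.finChk 1796 154 pg_lv pg_tb pg_gl = true := by decide +kernel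

theorem pg_h3 : TC.relChk pg_C.ivc pg_rs pg_C.rel pg_rc pg_C.nrel = true := by decide +kernel

theorem pg_bound {G : Type*} [Group G] {x y w u q a b c d : G}
    (r0 : x * x * x = 1)
    (r1 : w * w * w * w = 1)
    (r2 : w * x * w⁻¹ * y⁻¹ = 1)
    (r3 : w * y * w⁻¹ * x = 1)
    (r4 : x * y * x⁻¹ * y⁻¹ = 1)
    (r5 : u * u = 1)
    (r6 : u * w * u * w = 1)
    (r7 : u * x * u * x * u * x = 1)
    (r8 : u * y * u * y * u * y * u * y = 1)
    (r9 : u * x * w * u * x * w * u * x * w * u * x * w * u * x * w = 1)
    (r10 : a * a = 1)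
    (r11 : b * b = 1)
    (r12 : c * c = 1)
    (r13 : d * d = 1)
    (r14 : a * b * a * b = 1)
    (r15 : a * c * a * c = 1)
    (r16 : a * d * a * d = 1)
    (r17 : b * c * b * c = 1)
    (r18 : b * d * b * d = 1)
    (r19 : c * d * c * d = 1)
    (r20 : x * a * x⁻¹ * a = 1)
    (r21 : x * b * x⁻¹ * b = 1)
    (r22 : x * c * x⁻¹ * d * c = 1)
    (r23 : x * d * x⁻¹ * c = 1)
    (r24 : w * a * w⁻¹ * c = 1)
    (r25 : w * b * w⁻¹ * d = 1)
    (r26 : w * c * w⁻¹ * a = 1)
    (r27 : w * d * w⁻¹ * b * a = 1)
    (r28 : u * a * u * a = 1)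
    (r29 : u * b * u * c * b * a = 1)
    (r30 : u * c * u * c = 1)
    (r31 : u * d * u * d * a = 1)
    (r32 : q * x * q⁻¹ * y⁻¹ * x⁻¹ = 1)
    (r33 : q * w * q⁻¹ * w = 1)
    (r34 : q * q * w⁻¹ * w⁻¹ = 1)
    (r35 : q * u * q⁻¹ * u * w = 1)
    (r36 : q * a * c * q⁻¹ * a * c * q * a * c * q⁻¹ * a * c * w⁻¹ * w⁻¹ = 1)
    (H : Subgroup G) [Finite H] (m1 : x ∈ H) (m3 : y ∈ H) (m5 : w ∈ H) (m7 : u ∈ H) (m10 : a ∈ H) (m11 : b ∈ H) (m12 : c ∈ H) (m13 : d ∈ H) :
    Finite (Subgroup.closure ({x, y, w, u, q, a, b, c, d} : Set G)) ∧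
      Nat.card (Subgroup.closure ({x, y, w, u, q, a, b, c, d} : Set G)) ≤ 154 * Nat.card H := by
  have hL : TC.Lett (TC.lett [x, x⁻¹, y, y⁻¹, w, w⁻¹, u, q, q⁻¹, a, b, c, d]) pg_C.ivc :=
    TC.lett_ok (show Nat.shiftRight pg_C.ivc (8 * 14) = 0 by decide +kernel) (by
      intro a ha
      change a < 14 at ha
      interval_cases a
      · exact inv_one.symm
      · rfl
      · exact (inv_inv _).symm
      · rfl
      · exact (inv_inv _).symm
      · rfl
      · exact (inv_inv _).symm
      · exact (inv_eq_of_mul_eq_one_right r5).symm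
      · rfl
      · exact (inv_inv _).symm
      · exact (inv_eq_of_mul_eq_one_right r10).symm
      · exact (inv_eq_of_mul_eq_one_right r11).symm
      · exact (inv_eq_of_mul_eq_one_right r12).symm
      · exact (inv_eq_of_mul_eq_one_right r13).symm)
  have h := TC.card_le pg_h1 pg_h2 pg_h3 (by decide) hL (by
    simp only [pg_rs, List.forall_mem_cons]
    refine ⟨?_, ?_, ?_, ?_, ?_, ?_, ?_, ?_, ?_, ?_, ?_, ?_, ?_, ?_, ?_, ?_, ?_, ?_, ?_, ?_, ?_, ?_,
    ?_, ?_, ?_, ?_, ?_, ?_, ?_, ?_, ?_, ?_, ?_, ?_, ?_, ?_, ?_, List.forall_mem_nil _⟩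
    · show x * (x * (x * 1)) = 1
      simp only [mul_assoc, mul_one] at r0 ⊢
      exact r0
    · show w * (w * (w * (w * 1))) = 1
      simp only [mul_assoc, mul_one] at r1 ⊢
      exact r1
    · show w * (x * (w⁻¹ * (y⁻¹ * 1))) = 1
      simp only [mul_assoc, mul_one] at r2 ⊢
      exact r2
    · show w * (y * (w⁻¹ * (x * 1))) = 1
      simp only [mul_assoc, mul_one] at r3 ⊢
      exact r3
    · show x * (y * (x⁻¹ * (y⁻¹ * 1))) = 1
      simp only [mul_assoc, mul_one] at r4 ⊢
      exact r4
    · show u * (u * 1) = 1
      simp only [mul_one] at r5 ⊢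
      exact r5
    · show u * (w * (u * (w * 1))) = 1
      simp only [mul_assoc, mul_one] at r6 ⊢
      exact r6
    · show u * (x * (u * (x * (u * (x * 1))))) = 1
      simp only [mul_assoc, mul_one] at r7 ⊢
      exact r7
    · show u * (y * (u * (y * (u * (y * (u * (y * 1))))))) = 1
      simp only [mul_assoc, mul_one] at r8 ⊢
      exact r8
    · show u * (x * (w * (u * (x * (w * (u * (x * (w * (u * (x * (w * (u * (x * (w *
    1)))))))))))))) = 1
      simp only [mul_assoc, mul_one] at r9 ⊢
      exact r9
    · show a * (a * 1) = 1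
      simp only [mul_one] at r10 ⊢
      exact r10
    · show b * (b * 1) = 1
      simp only [mul_one] at r11 ⊢
      exact r11
    · show c * (c * 1) = 1
      simp only [mul_one] at r12 ⊢
      exact r12
    · show d * (d * 1) = 1
      simp only [mul_one] at r13 ⊢
      exact r13
    · show a * (b * (a * (b * 1))) = 1
      simp only [mul_assoc, mul_one] at r14 ⊢
      exact r14
    · show a * (c * (a * (c * 1))) = 1
      simp only [mul_assoc, mul_one] at r15 ⊢
      exact r15
    · show a * (d * (a * (d * 1))) = 1
      simp only [mul_assoc, mul_one] at r16 ⊢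
      exact r16
    · show b * (c * (b * (c * 1))) = 1
      simp only [mul_assoc, mul_one] at r17 ⊢
      exact r17
    · show b * (d * (b * (d * 1))) = 1
      simp only [mul_assoc, mul_one] at r18 ⊢
      exact r18
    · show c * (d * (c * (d * 1))) = 1
      simp only [mul_assoc, mul_one] at r19 ⊢
      exact r19
    · show x * (a * (x⁻¹ * (a * 1))) = 1
      simp only [mul_assoc, mul_one] at r20 ⊢
      exact r20
    · show x * (b * (x⁻¹ * (b * 1))) = 1
      simp only [mul_assoc, mul_one] at r21 ⊢
      exact r21
    · show x * (c * (x⁻¹ * (d * (c * 1)))) = 1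
      simp only [mul_assoc, mul_one] at r22 ⊢
      exact r22
    · show x * (d * (x⁻¹ * (c * 1))) = 1
      simp only [mul_assoc, mul_one] at r23 ⊢
      exact r23
    · show w * (a * (w⁻¹ * (c * 1))) = 1
      simp only [mul_assoc, mul_one] at r24 ⊢
      exact r24
    · show w * (b * (w⁻¹ * (d * 1))) = 1
      simp only [mul_assoc, mul_one] at r25 ⊢
      exact r25
    · show w * (c * (w⁻¹ * (a * 1))) = 1
      simp only [mul_assoc, mul_one] at r26 ⊢
      exact r26
    · show w * (d * (w⁻¹ * (b * (a * 1)))) = 1
      simp only [mul_assoc, mul_one] at r27 ⊢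
      exact r27
    · show u * (a * (u * (a * 1))) = 1
      simp only [mul_assoc, mul_one] at r28 ⊢
      exact r28
    · show u * (b * (u * (c * (b * (a * 1))))) = 1
      simp only [mul_assoc, mul_one] at r29 ⊢
      exact r29
    · show u * (c * (u * (c * 1))) = 1
      simp only [mul_assoc, mul_one] at r30 ⊢
      exact r30
    · show u * (d * (u * (d * (a * 1)))) = 1
      simp only [mul_assoc, mul_one] at r31 ⊢
      exact r31
    · show q * (x * (q⁻¹ * (y⁻¹ * (x⁻¹ * 1)))) = 1
      simp only [mul_assoc, mul_one] at r32 ⊢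
      exact r32
    · show q * (w * (q⁻¹ * (w * 1))) = 1
      simp only [mul_assoc, mul_one] at r33 ⊢
      exact r33
    · show q * (q * (w⁻¹ * (w⁻¹ * 1))) = 1
      simp only [mul_assoc, mul_one] at r34 ⊢
      exact r34
    · show q * (u * (q⁻¹ * (u * (w * 1)))) = 1
      simp only [mul_assoc, mul_one] at r35 ⊢
      exact r35
    · show q * (a * (c * (q⁻¹ * (a * (c * (q * (a * (c * (q⁻¹ * (a * (c * (w⁻¹ * (w⁻¹ *
    1))))))))))))) = 1
      simp only [mul_assoc, mul_one] at r36 ⊢
      exact r36) H
    (TC.forall_subs (K := 14) (by decide +kernel) (by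
      intro a ha hb
      interval_cases a
      · exact absurd hb (by decide +kernel)
      · exact m1
      · exact H.inv_mem m1
      · exact m3
      · exact H.inv_mem m3
      · exact m5
      · exact H.inv_mem m5
      · exact m7
      · exact absurd hb (by decide +kernel)
      · exact absurd hb (by decide +kernel)
      · exact m10
      · exact m11
      · exact m12
      · exact m13))
  have e : {g₀ | ∃ ak ∈ pg_gl, TC.lett [x, x⁻¹, y, y⁻¹, w, w⁻¹, u, q, q⁻¹, a, b, c, d] (ak % 256) = g₀} =
      {x, y, w, u, q, a, b, c, d} := by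
    ext g₀
    simp only [pg_gl, List.mem_cons, List.not_mem_nil, or_false, exists_eq_or_imp,
      exists_eq_left, Set.mem_ofPred_eq, Set.mem_insert_iff, Set.mem_singleton_iff]
    exact or_congr eq_comm (or_congr eq_comm (or_congr eq_comm (or_congr eq_comm (or_congr eq_comm (or_congr eq_comm (or_congr eq_comm (or_congr eq_comm (eq_comm))))))))
  rw [e] at h
  exact h

theorem pg_card {G : Type*} [Group G] {x y w u q a b c d : G}
    (e0 : x ^ 3 = 1)
    (e1 : w ^ 4 = 1)
    (e2 : w * x * w⁻¹ = y)
    (e3 : w * y * w⁻¹ = x⁻¹)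
    (e4 : x * y = y * x)
    (e5 : u * u = 1)
    (e6 : u * w * u = w⁻¹)
    (e7 : (u * x) ^ 3 = 1)
    (e8 : (u * y) ^ 4 = 1)
    (e9 : (u * x * w) ^ 5 = 1)
    (e10 : a * a = 1)
    (e11 : b * b = 1)
    (e12 : c * c = 1)
    (e13 : d * d = 1)
    (e14 : a * b = b * a)
    (e15 : a * c = c * a)
    (e16 : a * d = d * a)
    (e17 : b * c = c * b)
    (e18 : b * d = d * b)
    (e19 : c * d = d * c)
    (e20 : x * a * x⁻¹ = a)
    (e21 : x * b * x⁻¹ = b)
    (e22 : x * c * x⁻¹ = c * d)
    (e23 : x * d * x⁻¹ = c)
    (e24 : w * a * w⁻¹ = c)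
    (e25 : w * b * w⁻¹ = d)
    (e26 : w * c * w⁻¹ = a)
    (e27 : w * d * w⁻¹ = a * b)
    (e28 : u * a * u = a)
    (e29 : u * b * u = a * b * c)
    (e30 : u * c * u = c)
    (e31 : u * d * u = a * d)
    (e32 : q * x * q⁻¹ = x * y)
    (e33 : q * w * q⁻¹ = w⁻¹)
    (e34 : q * q = w * w)
    (e35 : q * u * q⁻¹ = w⁻¹ * u)
    (e36 : (q * (a * c) * q⁻¹ * (a * c)) ^ 2 = w * w)
    (H : Subgroup G) [Finite H] (mx : x ∈ H) (my : y ∈ H) (mw : w ∈ H) (mu : u ∈ H) (ma : a ∈ H) (mb : b ∈ H) (mc : c ∈ H) (md : d ∈ H) :
    Finite (Subgroup.closure ({x, y, w, u, q, a, b, c, d} : Set G)) ∧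
      Nat.card (Subgroup.closure ({x, y, w, u, q, a, b, c, d} : Set G)) ≤ 154 * Nat.card H := by
  have iu : u⁻¹ = u := inv_eq_of_mul_eq_one_right e5
  have ia : a⁻¹ = a := inv_eq_of_mul_eq_one_right e10
  have ib : b⁻¹ = b := inv_eq_of_mul_eq_one_right e11
  have ic : c⁻¹ = c := inv_eq_of_mul_eq_one_right e12
  have id : d⁻¹ = d := inv_eq_of_mul_eq_one_right e13
  refine pg_bound ?_ ?_ ?_ ?_ ?_ ?_ ?_ ?_ ?_ ?_ ?_ ?_ ?_ ?_ ?_ ?_ ?_ ?_ ?_ ?_ ?_ ?_ ?_ ?_ ?_ ?_ ?_ ?_ ?_ ?_ ?_ ?_ ?_ ?_ ?_ ?_ ?_ H mx my mw mu ma mb mc md
  · have h := mul_inv_eq_one.mpr e0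
    simp only [pow_succ, pow_zero, mul_inv_rev, inv_inv, inv_one, one_mul, mul_one, mul_assoc,
      mul_inv_cancel_left, inv_mul_cancel_left, mul_inv_cancel, inv_mul_cancel, iu, ia, ib, ic, id] at h ⊢
    exact h
  · have h := mul_inv_eq_one.mpr e1
    simp only [pow_succ, pow_zero, mul_inv_rev, inv_inv, inv_one, one_mul, mul_one, mul_assoc,
      mul_inv_cancel_left, inv_mul_cancel_left, mul_inv_cancel, inv_mul_cancel, iu, ia, ib, ic, id] at h ⊢
    exact h
  · have h := mul_inv_eq_one.mpr e2
    simp only [pow_succ, pow_zero, mul_inv_rev, inv_inv, inv_one, one_mul, mul_one, mul_assoc,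
      mul_inv_cancel_left, inv_mul_cancel_left, mul_inv_cancel, inv_mul_cancel, iu, ia, ib, ic, id] at h ⊢
    exact h
  · have h := mul_inv_eq_one.mpr e3
    simp only [pow_succ, pow_zero, mul_inv_rev, inv_inv, inv_one, one_mul, mul_one, mul_assoc,
      mul_inv_cancel_left, inv_mul_cancel_left, mul_inv_cancel, inv_mul_cancel, iu, ia, ib, ic, id] at h ⊢
    exact h
  · have h := mul_inv_eq_one.mpr e4
    simp only [pow_succ, pow_zero, mul_inv_rev, inv_inv, inv_one, one_mul, mul_one, mul_assoc,
      mul_inv_cancel_left, inv_mul_cancel_left, mul_inv_cancel, inv_mul_cancel, iu, ia, ib, ic, id] at h ⊢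
    exact h
  · have h := mul_inv_eq_one.mpr e5
    simp only [pow_succ, pow_zero, mul_inv_rev, inv_inv, inv_one, one_mul, mul_one, mul_assoc,
      mul_inv_cancel_left, inv_mul_cancel_left, mul_inv_cancel, inv_mul_cancel, iu, ia, ib, ic, id] at h ⊢
    exact h
  · have h := mul_inv_eq_one.mpr e6
    simp only [pow_succ, pow_zero, mul_inv_rev, inv_inv, inv_one, one_mul, mul_one, mul_assoc,
      mul_inv_cancel_left, inv_mul_cancel_left, mul_inv_cancel, inv_mul_cancel, iu, ia, ib, ic, id] at h ⊢
    exact h
  · have h := mul_inv_eq_one.mpr e7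
    simp only [pow_succ, pow_zero, mul_inv_rev, inv_inv, inv_one, one_mul, mul_one, mul_assoc,
      mul_inv_cancel_left, inv_mul_cancel_left, mul_inv_cancel, inv_mul_cancel, iu, ia, ib, ic, id] at h ⊢
    exact h
  · have h := mul_inv_eq_one.mpr e8
    simp only [pow_succ, pow_zero, mul_inv_rev, inv_inv, inv_one, one_mul, mul_one, mul_assoc,
      mul_inv_cancel_left, inv_mul_cancel_left, mul_inv_cancel, inv_mul_cancel, iu, ia, ib, ic, id] at h ⊢
    exact h
  · have h := mul_inv_eq_one.mpr e9
    simp only [pow_succ, pow_zero, mul_inv_rev, inv_inv, inv_one, one_mul, mul_one, mul_assoc,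
      mul_inv_cancel_left, inv_mul_cancel_left, mul_inv_cancel, inv_mul_cancel, iu, ia, ib, ic, id] at h ⊢
    exact h
  · have h := mul_inv_eq_one.mpr e10
    simp only [pow_succ, pow_zero, mul_inv_rev, inv_inv, inv_one, one_mul, mul_one, mul_assoc,
      mul_inv_cancel_left, inv_mul_cancel_left, mul_inv_cancel, inv_mul_cancel, iu, ia, ib, ic, id] at h ⊢
    exact h
  · have h := mul_inv_eq_one.mpr e11
    simp only [pow_succ, pow_zero, mul_inv_rev, inv_inv, inv_one, one_mul, mul_one, mul_assoc,
      mul_inv_cancel_left, inv_mul_cancel_left, mul_inv_cancel, inv_mul_cancel, iu, ia, ib, ic, id] at h ⊢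
    exact h
  · have h := mul_inv_eq_one.mpr e12
    simp only [pow_succ, pow_zero, mul_inv_rev, inv_inv, inv_one, one_mul, mul_one, mul_assoc,
      mul_inv_cancel_left, inv_mul_cancel_left, mul_inv_cancel, inv_mul_cancel, iu, ia, ib, ic, id] at h ⊢
    exact h
  · have h := mul_inv_eq_one.mpr e13
    simp only [pow_succ, pow_zero, mul_inv_rev, inv_inv, inv_one, one_mul, mul_one, mul_assoc,
      mul_inv_cancel_left, inv_mul_cancel_left, mul_inv_cancel, inv_mul_cancel, iu, ia, ib, ic, id] at h ⊢
    exact h
  · have h := mul_inv_eq_one.mpr e14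
    simp only [pow_succ, pow_zero, mul_inv_rev, inv_inv, inv_one, one_mul, mul_one, mul_assoc,
      mul_inv_cancel_left, inv_mul_cancel_left, mul_inv_cancel, inv_mul_cancel, iu, ia, ib, ic, id] at h ⊢
    exact h
  · have h := mul_inv_eq_one.mpr e15
    simp only [pow_succ, pow_zero, mul_inv_rev, inv_inv, inv_one, one_mul, mul_one, mul_assoc,
      mul_inv_cancel_left, inv_mul_cancel_left, mul_inv_cancel, inv_mul_cancel, iu, ia, ib, ic, id] at h ⊢
    exact h
  · have h := mul_inv_eq_one.mpr e16
    simp only [pow_succ, pow_zero, mul_inv_rev, inv_inv, inv_one, one_mul, mul_one, mul_assoc,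
      mul_inv_cancel_left, inv_mul_cancel_left, mul_inv_cancel, inv_mul_cancel, iu, ia, ib, ic, id] at h ⊢
    exact h
  · have h := mul_inv_eq_one.mpr e17
    simp only [pow_succ, pow_zero, mul_inv_rev, inv_inv, inv_one, one_mul, mul_one, mul_assoc,
      mul_inv_cancel_left, inv_mul_cancel_left, mul_inv_cancel, inv_mul_cancel, iu, ia, ib, ic, id] at h ⊢
    exact h
  · have h := mul_inv_eq_one.mpr e18
    simp only [pow_succ, pow_zero, mul_inv_rev, inv_inv, inv_one, one_mul, mul_one, mul_assoc,
      mul_inv_cancel_left, inv_mul_cancel_left, mul_inv_cancel, inv_mul_cancel, iu, ia, ib, ic, id] at h ⊢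
    exact h
  · have h := mul_inv_eq_one.mpr e19
    simp only [pow_succ, pow_zero, mul_inv_rev, inv_inv, inv_one, one_mul, mul_one, mul_assoc,
      mul_inv_cancel_left, inv_mul_cancel_left, mul_inv_cancel, inv_mul_cancel, iu, ia, ib, ic, id] at h ⊢
    exact h
  · have h := mul_inv_eq_one.mpr e20
    simp only [pow_succ, pow_zero, mul_inv_rev, inv_inv, inv_one, one_mul, mul_one, mul_assoc,
      mul_inv_cancel_left, inv_mul_cancel_left, mul_inv_cancel, inv_mul_cancel, iu, ia, ib, ic, id] at h ⊢
    exact h
  · have h := mul_inv_eq_one.mpr e21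
    simp only [pow_succ, pow_zero, mul_inv_rev, inv_inv, inv_one, one_mul, mul_one, mul_assoc,
      mul_inv_cancel_left, inv_mul_cancel_left, mul_inv_cancel, inv_mul_cancel, iu, ia, ib, ic, id] at h ⊢
    exact h
  · have h := mul_inv_eq_one.mpr e22
    simp only [pow_succ, pow_zero, mul_inv_rev, inv_inv, inv_one, one_mul, mul_one, mul_assoc,
      mul_inv_cancel_left, inv_mul_cancel_left, mul_inv_cancel, inv_mul_cancel, iu, ia, ib, ic, id] at h ⊢
    exact h
  · have h := mul_inv_eq_one.mpr e23
    simp only [pow_succ, pow_zero, mul_inv_rev, inv_inv, inv_one, one_mul, mul_one, mul_assoc,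
      mul_inv_cancel_left, inv_mul_cancel_left, mul_inv_cancel, inv_mul_cancel, iu, ia, ib, ic, id] at h ⊢
    exact h
  · have h := mul_inv_eq_one.mpr e24
    simp only [pow_succ, pow_zero, mul_inv_rev, inv_inv, inv_one, one_mul, mul_one, mul_assoc,
      mul_inv_cancel_left, inv_mul_cancel_left, mul_inv_cancel, inv_mul_cancel, iu, ia, ib, ic, id] at h ⊢
    exact h
  · have h := mul_inv_eq_one.mpr e25
    simp only [pow_succ, pow_zero, mul_inv_rev, inv_inv, inv_one, one_mul, mul_one, mul_assoc,
      mul_inv_cancel_left, inv_mul_cancel_left, mul_inv_cancel, inv_mul_cancel, iu, ia, ib, ic, id] at h ⊢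
    exact h
  · have h := mul_inv_eq_one.mpr e26
    simp only [pow_succ, pow_zero, mul_inv_rev, inv_inv, inv_one, one_mul, mul_one, mul_assoc,
      mul_inv_cancel_left, inv_mul_cancel_left, mul_inv_cancel, inv_mul_cancel, iu, ia, ib, ic, id] at h ⊢
    exact h
  · have h := mul_inv_eq_one.mpr e27
    simp only [pow_succ, pow_zero, mul_inv_rev, inv_inv, inv_one, one_mul, mul_one, mul_assoc,
      mul_inv_cancel_left, inv_mul_cancel_left, mul_inv_cancel, inv_mul_cancel, iu, ia, ib, ic, id] at h ⊢
    exact h
  · have h := mul_inv_eq_one.mpr e28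
    simp only [pow_succ, pow_zero, mul_inv_rev, inv_inv, inv_one, one_mul, mul_one, mul_assoc,
      mul_inv_cancel_left, inv_mul_cancel_left, mul_inv_cancel, inv_mul_cancel, iu, ia, ib, ic, id] at h ⊢
    exact h
  · have h := mul_inv_eq_one.mpr e29
    simp only [pow_succ, pow_zero, mul_inv_rev, inv_inv, inv_one, one_mul, mul_one, mul_assoc,
      mul_inv_cancel_left, inv_mul_cancel_left, mul_inv_cancel, inv_mul_cancel, iu, ia, ib, ic, id] at h ⊢
    exact h
  · have h := mul_inv_eq_one.mpr e30
    simp only [pow_succ, pow_zero, mul_inv_rev, inv_inv, inv_one, one_mul, mul_one, mul_assoc,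
      mul_inv_cancel_left, inv_mul_cancel_left, mul_inv_cancel, inv_mul_cancel, iu, ia, ib, ic, id] at h ⊢
    exact h
  · have h := mul_inv_eq_one.mpr e31
    simp only [pow_succ, pow_zero, mul_inv_rev, inv_inv, inv_one, one_mul, mul_one, mul_assoc,
      mul_inv_cancel_left, inv_mul_cancel_left, mul_inv_cancel, inv_mul_cancel, iu, ia, ib, ic, id] at h ⊢
    exact h
  · have h := mul_inv_eq_one.mpr e32
    simp only [pow_succ, pow_zero, mul_inv_rev, inv_inv, inv_one, one_mul, mul_one, mul_assoc,
      mul_inv_cancel_left, inv_mul_cancel_left, mul_inv_cancel, inv_mul_cancel, iu, ia, ib, ic, id] at h ⊢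
    exact h
  · have h := mul_inv_eq_one.mpr e33
    simp only [pow_succ, pow_zero, mul_inv_rev, inv_inv, inv_one, one_mul, mul_one, mul_assoc,
      mul_inv_cancel_left, inv_mul_cancel_left, mul_inv_cancel, inv_mul_cancel, iu, ia, ib, ic, id] at h ⊢
    exact h
  · have h := mul_inv_eq_one.mpr e34
    simp only [pow_succ, pow_zero, mul_inv_rev, inv_inv, inv_one, one_mul, mul_one, mul_assoc,
      mul_inv_cancel_left, inv_mul_cancel_left, mul_inv_cancel, inv_mul_cancel, iu, ia, ib, ic, id] at h ⊢
    exact h
  · have h := mul_inv_eq_one.mpr e35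
    simp only [pow_succ, pow_zero, mul_inv_rev, inv_inv, inv_one, one_mul, mul_one, mul_assoc,
      mul_inv_cancel_left, inv_mul_cancel_left, mul_inv_cancel, inv_mul_cancel, iu, ia, ib, ic, id] at h ⊢
    exact h
  · have h := mul_inv_eq_one.mpr e36
    simp only [pow_succ, pow_zero, mul_inv_rev, inv_inv, inv_one, one_mul, mul_one, mul_assoc,
      mul_inv_cancel_left, inv_mul_cancel_left, mul_inv_cancel, inv_mul_cancel, iu, ia, ib, ic, id] at h ⊢
    exact h

/-- The relations. -/
structure Rel {G : Type*} [Group G] (x y w u q a b c d : G) : Prop where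
  e0 : x ^ 3 = 1
  e1 : w ^ 4 = 1
  e2 : w * x * w⁻¹ = y
  e3 : w * y * w⁻¹ = x⁻¹
  e4 : x * y = y * x
  e5 : u * u = 1
  e6 : u * w * u = w⁻¹
  e7 : (u * x) ^ 3 = 1
  e8 : (u * y) ^ 4 = 1
  e9 : (u * x * w) ^ 5 = 1
  e10 : a * a = 1
  e11 : b * b = 1
  e12 : c * c = 1
  e13 : d * d = 1
  e14 : a * b = b * a
  e15 : a * c = c * a
  e16 : a * d = d * a
  e17 : b * c = c * b
  e18 : b * d = d * b
  e19 : c * d = d * c
  e20 : x * a * x⁻¹ = a
  e21 : x * b * x⁻¹ = b
  e22 : x * c * x⁻¹ = c * d
  e23 : x * d * x⁻¹ = c
  e24 : w * a * w⁻¹ = c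
  e25 : w * b * w⁻¹ = d
  e26 : w * c * w⁻¹ = a
  e27 : w * d * w⁻¹ = a * b
  e28 : u * a * u = a
  e29 : u * b * u = a * b * c
  e30 : u * c * u = c
  e31 : u * d * u = a * d
  e32 : q * x * q⁻¹ = x * y
  e33 : q * w * q⁻¹ = w⁻¹
  e34 : q * q = w * w
  e35 : q * u * q⁻¹ = w⁻¹ * u
  e36 : (q * (a * c) * q⁻¹ * (a * c)) ^ 2 = w * w

variable {G : Type*} [Group G] {x y w u q a b c d : G}

theorem Rel.card (r : Rel x y w u q a b c d) :
    Finite (Subgroup.closure ({x, y, w, u, q, a, b, c, d} : Set G)) ∧
      Nat.card (Subgroup.closure ({x, y, w, u, q, a, b, c, d} : Set G)) ≤ 887040 := by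
  obtain ⟨hf, hc⟩ := TC.finite_zpowers_of_pow (by norm_num) r.e1
  obtain ⟨f1, c1⟩ := pb_card r.e0 r.e1 r.e2 r.e3 r.e4 _ (Subgroup.mem_zpowers w)
  obtain ⟨f2, c2⟩ := pa_card r.e0 r.e1 r.e2 r.e3 r.e4 r.e5 r.e6 r.e7 r.e8 r.e9
    (Subgroup.closure {x, y, w})
    (Subgroup.subset_closure (by simp)) (Subgroup.subset_closure (by simp))
    (Subgroup.subset_closure (by simp))
  obtain ⟨f3, c3⟩ := pn_card
    r.e0 r.e1 r.e2 r.e3 r.e4 r.e5 r.e6 r.e7 r.e8 r.e9 r.e10 r.e11 r.e12 r.e13 r.e14 r.e15 r.e16
    r.e17 r.e18 r.e19 r.e20 r.e21 r.e22 r.e23 r.e24 r.e25 r.e26 r.e27 r.e28 r.e29 r.e30 r.e31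
    (Subgroup.closure {x, y, w, u})
    (Subgroup.subset_closure (by simp)) (Subgroup.subset_closure (by simp))
    (Subgroup.subset_closure (by simp)) (Subgroup.subset_closure (by simp))
  obtain ⟨f4, c4⟩ := pg_card
    r.e0 r.e1 r.e2 r.e3 r.e4 r.e5 r.e6 r.e7 r.e8 r.e9 r.e10 r.e11 r.e12 r.e13 r.e14 r.e15 r.e16
    r.e17 r.e18 r.e19 r.e20 r.e21 r.e22 r.e23 r.e24 r.e25 r.e26 r.e27 r.e28 r.e29 r.e30 r.e31 r.e32
    r.e33 r.e34 r.e35 r.e36
    (Subgroup.closure {x, y, w, u, a, b, c, d})
    (Subgroup.subset_closure (by simp)) (Subgroup.subset_closure (by simp))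
    (Subgroup.subset_closure (by simp)) (Subgroup.subset_closure (by simp))
    (Subgroup.subset_closure (by simp)) (Subgroup.subset_closure (by simp))
    (Subgroup.subset_closure (by simp)) (Subgroup.subset_closure (by simp))
  exact ⟨f4, by omega⟩

theorem Rel.prod {M : Type*} [Group M] {x' y' w' u' q' a' b' c' d' : M}
    (r : Rel x y w u q a b c d) (s : Rel x' y' w' u' q' a' b' c' d') :
    Rel (x, x') (y, y') (w, w') (u, u') (q, q') (a, a') (b, b') (c, c') (d, d') :=
    ⟨Prod.ext r.e0 s.e0, Prod.ext r.e1 s.e1, Prod.ext r.e2 s.e2, Prod.ext r.e3 s.e3, Prod.ext r.e4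
    s.e4, Prod.ext r.e5 s.e5, Prod.ext r.e6 s.e6, Prod.ext r.e7 s.e7, Prod.ext r.e8 s.e8, Prod.ext
    r.e9 s.e9, Prod.ext r.e10 s.e10, Prod.ext r.e11 s.e11, Prod.ext r.e12 s.e12, Prod.ext r.e13
    s.e13, Prod.ext r.e14 s.e14, Prod.ext r.e15 s.e15, Prod.ext r.e16 s.e16, Prod.ext r.e17 s.e17,
    Prod.ext r.e18 s.e18, Prod.ext r.e19 s.e19, Prod.ext r.e20 s.e20, Prod.ext r.e21 s.e21,
    Prod.ext r.e22 s.e22, Prod.ext r.e23 s.e23, Prod.ext r.e24 s.e24, Prod.ext r.e25 s.e25,
    Prod.ext r.e26 s.e26, Prod.ext r.e27 s.e27, Prod.ext r.e28 s.e28, Prod.ext r.e29 s.e29,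
    Prod.ext r.e30 s.e30, Prod.ext r.e31 s.e31, Prod.ext r.e32 s.e32, Prod.ext r.e33 s.e33,
    Prod.ext r.e34 s.e34, Prod.ext r.e35 s.e35, Prod.ext r.e36 s.e36⟩

end Cfsg.Agent.Ma
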