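import Cfsg.Agent.H9.MaAff
import Cfsg.Agent.H9.MaPres
import Cfsg.Agent.H4.Nse4

/-! The relations of `M₂₂` in a configuration of two groups `2⁴ : A₆`. -/

set_option autoImplicit false
set_option maxRecDepth 100000

namespace Cfsg.Agent.Ma

open Subgroup Cfsg.Agent.H7 Cfsg.Agent.H4 Cfsg.Agent.Fx4

/-- equality of codes -/
def eqc (p q : ℕ) : Bool := Nat.beq (Nat.mod p 1048576) (Nat.mod q 1048576)

theorem eqc_iff {p q : ℕ} : eqc p q = true ↔ p % 1048576 = q % 1048576 := Nat.beq_eq.to_iff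

/-- implication -/
noncomputable def bim (a b : Bool) : Bool := Bool.rec true b a

theorem bim_iff {a b : Bool} : bim a b = true ↔ (a = true → b = true) := by
  cases a <;> cases b <;> simp [bim]

/-- the dihedral group -/
def D0 : List ℕ := [33825, 12676, 50225, 8644, 38001, 24980, 54369, 29140]

/-- admissible orders -/
noncomputable def good (p : ℕ) : Bool :=
  bor (eqc (ap p 3) 33825) (bor (eqc (ap p 8) 33825) (eqc (ap p 5) 33825))

theorem chk1 : allB (fun m => bim (bor (eqc (am m 12676) (am 12676 m))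
    (eqc (am m 12676) (am 8644 m))) (bim (good m) (bim (good (am m 19489))
      (bim (good (am m 33842)) (bim (good (am m (am 19489 33842)))
        (anyL (fun n => Nat.beq m n) D0)))))) 65536 = true := by decide +kernel

/-- the Sylow subgroup -/
def TL : List ℕ := D0.flatMap fun m => (List.range 16).map fun v => m + 65536 * v

theorem chk4 : allL (fun p => force p fun p => bor (eqc (am p p) 33825)
    (allL (fun r => force r fun r => bim (eqc (am r r) 33825) (bim (eqc (am p r) (am r p))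
      (allL (fun s => force s fun s => bim (eqc (am s s) 33825) (bim (eqc (am p s) (am s p))
        (bor (eqc (ap (am r s) 2) 33825) (eqc (ap (am r s) 2) (am p p))))) TL))) TL)) TL =
    true := by decide +kernel

theorem chk5 : ∀ m ∈ D0, ∀ v < 16, ∃ p ∈ TL,
    am (33825 + 65536 * v) m % 1048576 = p % 1048576 := by decide +kernel

universe u
variable {G : Type u} [Group G] [Finite G] {F : Fr G} {A : Subgroup G} {x y w q g : G}

/-- The configuration. -/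
structure Cfg (F : Fr G) (A : Subgroup G) (x y w q : G) : Prop where
  hA : A ⊓ C[F.E] = ⊥
  AN : A ≤ N[F.E]
  rx : F.Rp A 19489 x
  ry : F.Rp A 33842 y
  rw : F.Rp A 12676 w
  qA : q ∈ N[A]
  qn : q ∉ A
  qx : q * x * q⁻¹ = x * y
  qw : (q * w * q⁻¹ = w⁻¹ ∧ q * q = w * w) ∨ (q * w * q⁻¹ = w ∧ q * q = w⁻¹)
  ord : ∀ g ∈ A, g ^ 3 = 1 ∨ g ^ 8 = 1 ∨ g ^ 5 = 1
  eight : 8 ∣ Nat.card A
  ten : ∀ g : G, g ^ 10 = 1 → g ^ 2 = 1 ∨ g ^ 5 = 1
  pw : IsPGroup 2 C₁[w]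
  syl : ¬ 256 ∣ Nat.card G
  nc : q * (F.a * F.c) * q⁻¹ ∉ C₁[F.a * F.c]

namespace Cfg

variable (h : Cfg F A x y w q)
include h

omit [Finite G] in
theorem eq {p r : ℕ} {g k : G} (hp : F.Rp A p g) (hr : F.Rp A r k) (e : eqc p r = true) :
    g = k := hp.eq h.hA hr (eqc_iff.mp e)

omit [Finite G] in
theorem code {p r : ℕ} {g k : G} (hp : F.Rp A p g) (hr : F.Rp A r k) (e : g = k) :
    eqc p r = true := eqc_iff.mpr (hp.code h.hA (e ▸ hr))

omit [Finite G] in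
theorem w4 : w ^ 4 = 1 := h.eq (h.rw.pow 4) Fr.Rp.one (by decide +kernel)

omit [Finite G] in
theorem rwi : F.Rp A 8644 w⁻¹ := (h.rw.inv 3 h.w4).congr (by decide +kernel)

omit [Finite G] in
theorem good {p : ℕ} (hp : F.Rp A p g) (hg : g ∈ A) : good p = true := by
  simp only [Ma.good, bor_eq_true]
  rcases h.ord g hg with e | e | e
  · exact Or.inl (h.code (hp.pow 3) Fr.Rp.one e)
  · exact Or.inr (Or.inl (h.code (hp.pow 8) Fr.Rp.one e))
  · exact Or.inr (Or.inr (h.code (hp.pow 5) Fr.Rp.one e))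

omit [Finite G] in
theorem xA : x ∈ A := h.rx.mem rfl
omit [Finite G] in
theorem yA : y ∈ A := h.ry.mem rfl
omit [Finite G] in
theorem wA : w ∈ A := h.rw.mem rfl

omit [Finite G] in
theorem norm_w (hg : g ∈ A) (e : g * w * g⁻¹ = w ∨ g * w * g⁻¹ = w⁻¹) :
    ∃ m ∈ D0, F.Rp A m g := by
  obtain ⟨m, hm, r⟩ := Fr.exists_R (h.AN hg)
  have r1 := Fr.Rp.of_R r hg hm
  have k := allB_iff.mp chk1 m hm
  simp only [bim_iff, bor_eq_true, anyL_iff, Nat.beq_eq] at k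
  obtain ⟨n, hn, rfl⟩ := k (e.imp
    (fun e => h.code (r1.mul h.rw) (h.rw.mul r1) (mul_inv_eq_iff_eq_mul.mp e))
    fun e => h.code (r1.mul h.rw) (h.rwi.mul r1) (mul_inv_eq_iff_eq_mul.mp e))
    (h.good r1 hg) (h.good (r1.mul h.rx) (mul_mem hg h.xA))
    (h.good (r1.mul h.ry) (mul_mem hg h.yA))
    (h.good (r1.mul (h.rx.mul h.ry)) (mul_mem hg (mul_mem h.xA h.yA)))
  exact ⟨m, hn, r1⟩

omit [Finite G] in
theorem ow : orderOf w = 4 := orderOf_eq_prime_pow (p := 2) (n := 1)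
  (fun e => absurd (h.code (h.rw.pow 2) Fr.Rp.one e) (by decide +kernel)) h.w4

theorem conj_w (hg : g * w * g⁻¹ ∈ zpowers w) : g * w * g⁻¹ = w ∨ g * w * g⁻¹ = w⁻¹ := by
  obtain ⟨k, hk, e⟩ := Nse.exists_pow h.ow hg
  have h2 : (g * w * g⁻¹) ^ 2 ≠ 1 := fun e => by
    have := orderOf_dvd_of_pow_eq_one e
    rw [Nse.orderOf_conj', h.ow] at this
    omega
  rw [e] at h2 ⊢
  interval_cases k
  · simp at h2
  · simp
  · exact absurd (by rw [← pow_mul, h.w4]) h2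
  · exact Or.inr (eq_inv_of_mul_eq_one_left (by rw [← pow_succ, h.w4]))

theorem exists_D : ∃ D ≤ A, Nat.card D = 8 ∧ (∀ g ∈ D, ∃ m ∈ D0, F.Rp A m g) ∧
    ∃ u, F.Rp A 38001 u := by
  have h4 : Nat.card (zpowers w) = 2 ^ 2 := by rw [Nat.card_zpowers, h.ow]; rfl
  obtain ⟨D, h1, h2, h3⟩ := Nse.exists_between (m := 3) Nat.prime_two (zpowers_le.mpr h.wA) h4
    (by norm_num) h.eight
  have h5 : ∀ g ∈ D, ∃ m ∈ D0, F.Rp A m g := fun g hg => h.norm_w (h2 hg) (h.conj_w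
    (conj_mem_of_norm (le_norm_of_card h1 (by rw [h3, h4]; norm_num) hg) (mem_zpowers w)))
  refine ⟨D, h2, h3, h5, ?_⟩
  obtain ⟨g, hg, hn⟩ := SetLike.exists_of_lt (lt_of_le_of_ne h1 fun e => by
    rw [e, h3] at h4; norm_num at h4)
  obtain ⟨m, hm, r⟩ := h5 g hg
  obtain ⟨k, e | e⟩ := (by decide +kernel : ∀ m ∈ D0, ∃ k : Fin 4, eqc m (ap 12676 k) = true ∨
    eqc (am m (ap 12676 k)) 38001 = true) m hm
  · exact absurd (h.eq r (h.rw.pow k) e ▸ pow_mem (mem_zpowers w) _) hn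
  · exact ⟨_, (r.mul (h.rw.pow k)).congr (eqc_iff.mp e)⟩

theorem rel0 : (q * (F.a * F.c) * q⁻¹ * (F.a * F.c)) ^ 2 = w * w ∨
    ¬ (q * w * q⁻¹ = w⁻¹) := by
  refine or_iff_not_imp_right.mpr fun k => ?_
  rw [not_not] at k
  obtain ⟨D, h1, h2, h3, -⟩ := h.exists_D
  have h4 : Nat.card ↥(F.E ⊔ D) = 128 := by
    rw [card_sup_of_inf_eq_bot (h1.trans h.AN) (inf_eq_bot_mono (Fr.inf_E h.hA) le_rfl h1),
      F.card_E, h2]
  obtain ⟨c, -, hc⟩ := Nse.exists_conj_le (p := 2) (H := ⊤) (T := F.E ⊔ D) le_top h.pw fun e => by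
    rw [relIndex_top_right] at e
    refine h.syl ?_
    rw [← (F.E ⊔ D).index_mul_card, h4]
    exact mul_dvd_mul_right e 128
  have h5 : ∀ g ∈ C₁[w], ∃ p ∈ TL, F.Rp A p (c * g * c⁻¹) := fun g hg => by
    obtain ⟨_, ⟨v, hv, rfl⟩, b, hb, e⟩ := (mem_sup_of_norm (h1.trans h.AN)).mp (hc g hg)
    obtain ⟨m, hm, r⟩ := h3 b hb
    obtain ⟨p, hp, f⟩ := chk5 m hm v hv
    exact ⟨p, hp, e ▸ ((Fr.Rp.vec hv).mul r).congr f⟩
  have z0 : F.a * F.c = F.e 5 := by rw [← F.e1, ← F.e4, ← F.e_xor]; rfl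
  have z1 : w * F.e 5 * w⁻¹ = F.e 5 := h.rw.R.app 5
  have z2 : F.e 5 ∈ C₁[w] := mem_cent1_iff.mpr (mul_inv_eq_iff_eq_mul.mp z1).symm
  have z3 : q * F.e 5 * q⁻¹ ∈ C₁[w] := by
    rw [mem_cent1_iff, ← inv_inv w, ← k]
    calc _ = q * (w⁻¹ * (w * F.e 5 * w⁻¹)) * q⁻¹ := by group
      _ = _ := by rw [z1]; group
  obtain ⟨p, hp, rp⟩ := h5 w (mem_cent1_self w)
  obtain ⟨r, hr, rr⟩ := h5 _ z3
  obtain ⟨s, hs, rs⟩ := h5 _ z2
  have k1 := allL_iff.mp chk4 p hp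
  simp only [force_eq, bor_eq_true, allL_iff, bim_iff] at k1
  have cm : ∀ g ∈ C₁[w], c * w * c⁻¹ * (c * g * c⁻¹) = c * g * c⁻¹ * (c * w * c⁻¹) :=
    fun g hg => by rw [conj_mul, conj_mul, mem_cent1_iff.mp hg]
  rw [z0]
  rcases (k1.resolve_left fun e => by
      have := h.eq (rp.mul rp) Fr.Rp.one e
      rw [conj_mul, conj_eq_one_iff, ← pow_two] at this
      have := h.ow ▸ orderOf_dvd_of_pow_eq_one this
      omega) r hr (h.code (rr.mul rr) Fr.Rp.one (conj_sq (conj_sq (F.e_sq 5) q) c))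
    (h.code (rp.mul rr) (rr.mul rp) (cm _ z3)) s hs
    (h.code (rs.mul rs) Fr.Rp.one (conj_sq (F.e_sq 5) c))
    (h.code (rp.mul rs) (rs.mul rp) (cm _ z2)) with e | e
  · have := h.eq ((rr.mul rs).pow 2) Fr.Rp.one e
    rw [conj_mul, conj_pow, conj_eq_one_iff, pow_two, mul_eq_one_iff_eq_inv, mul_inv_rev,
      F.e_inv, inv_eq_of_mul_eq_one_right (conj_sq (F.e_sq 5) q)] at this
    exact absurd (z0 ▸ mem_cent1_iff.mpr this) h.nc
  · have := h.eq ((rr.mul rs).pow 2) (rp.mul rp) e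
    rw [conj_mul, conj_pow, conj_mul] at this
    simpa using this

theorem exists_rel : ∃ u, F.Rp A 38001 u ∧ Rel x y w u q F.a F.b F.c F.d := by
  obtain ⟨-, -, -, -, u, ru⟩ := h.exists_D
  have uA : u ∈ A := ru.mem rfl
  have o := Fr.Rp.one (F := F) (A := A)
  have rx := h.rx
  have ry := h.ry
  have rw := h.rw
  have rwi := h.rwi
  have e0 : x ^ 3 = 1 := h.eq (rx.pow 3) o (by decide +kernel)
  have e2 : w * x * w⁻¹ = y := h.eq ((rw.mul rx).mul rwi) ry (by decide +kernel)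
  have e3 : w * y * w⁻¹ = x⁻¹ := h.eq ((rw.mul ry).mul rwi) (rx.inv 2 e0) (by decide +kernel)
  have e5 : u * u = 1 := h.eq (ru.mul ru) o (by decide +kernel)
  have ui := inv_eq_of_mul_eq_one_right e5
  have e6 : u * w * u = w⁻¹ := h.eq ((ru.mul rw).mul ru) rwi (by decide +kernel)
  have e7 : (u * x) ^ 3 = 1 := h.eq ((ru.mul rx).pow 3) o (by decide +kernel)
  have e8 : (u * y) ^ 4 = 1 := h.eq ((ru.mul ry).pow 4) o (by decide +kernel)
  have f6 : q * u * q⁻¹ * (q * w * q⁻¹) * (q * u * q⁻¹) = (q * w * q⁻¹)⁻¹ := by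
    rw [conj_mul, conj_mul, e6, conj_inv]
  have f7 : (q * u * q⁻¹ * (x * y)) ^ 3 = 1 := by rw [← h.qx, conj_mul, conj_pow, e7]; group
  have f8 : (q * u * q⁻¹ * (q * w * q⁻¹ * (x * y) * (q * w * q⁻¹)⁻¹)) ^ 4 = 1 := by
    rw [← h.qx, conj_inv, conj_mul, conj_mul, e2, conj_mul, conj_pow, e8]; group
  have qi : (q * u * q⁻¹)⁻¹ = q * u * q⁻¹ := by rw [conj_inv, ui]
  obtain ⟨m, hm, rm⟩ := h.norm_w (conj_mem_of_norm h.qA uA) (Or.inr (by
    rcases h.qw with ⟨k, -⟩ | ⟨k, -⟩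
    · rw [k, inv_inv] at f6
      generalize q * u * q⁻¹ = s at f6 qi
      have := congrArg Inv.inv f6
      rw [mul_inv_rev, mul_inv_rev, inv_inv, ← mul_assoc, qi] at this
      rwa [qi]
    · rw [k] at f6
      rwa [qi]))
  have key : ∀ m ∈ D0, eqc (ap (am m (am 19489 33842)) 3) 33825 = true →
      (eqc (ap (am m (am (am 8644 (am 19489 33842)) 12676)) 4) 33825 = true ∨
        eqc (ap (am m (am (am 12676 (am 19489 33842)) 8644)) 4) 33825 = true) →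
      eqc m (am 8644 38001) = true := by decide +kernel
  have e35 : q * u * q⁻¹ = w⁻¹ * u := h.eq rm (rwi.mul ru) (key m hm
    (h.code ((rm.mul (rx.mul ry)).pow 3) o f7) (h.qw.imp
      (fun k => h.code ((rm.mul ((rwi.mul (rx.mul ry)).mul rw)).pow 4) o
        (by rwa [k.1, inv_inv] at f8))
      fun k => h.code ((rm.mul ((rw.mul (rx.mul ry)).mul rwi)).pow 4) o (by rwa [k.1] at f8)))
  obtain ⟨k1, k2⟩ := h.qw.resolve_right fun ⟨_, k⟩ => by
    have r1 := ((((rx.mul ry).mul (rwi.mul ru)).mul rwi).mul (rx.mul ru))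
    have h1 : (q * (x * u)) ^ 2 = x * y * (w⁻¹ * u) * w⁻¹ * (x * u) := by
      rw [← h.qx, ← e35, ← k, pow_two]; group
    rw [← h1] at r1
    have h2 := h.eq (r1.pow 5) o (by decide +kernel)
    rcases h.ten _ (by rwa [← pow_mul] at h2) with e | e
    · exact absurd (h.code r1 o e) (by decide +kernel)
    · refine h.qn ((mul_mem_cancel_right (mul_mem h.xA uA)).mp ?_)
      have h3 := pow_mem (r1.mem (by decide +kernel)) 3
      rwa [← pow_mul, show 2 * 3 = 5 + 1 from rfl, pow_succ, e, one_mul] at h3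
  have v := fun i j => F.e_xor i j
  have a1 := F.e1
  have a2 := F.e2
  have a4 := F.e4
  have a8 := F.e8
  refine ⟨u, ru, e0, h.w4, e2, e3, h.eq (rx.mul ry) (ry.mul rx) (by decide +kernel), e5, e6, e7,
    e8, h.eq (((ru.mul rx).mul rw).pow 5) o (by decide +kernel), F.aa, F.bb, F.cc, F.dd, F.ab,
    F.ac, F.ad, F.bc, F.bd, F.cd, ?_, ?_, ?_, ?_, ?_, ?_, ?_, ?_, ?_, ?_, ?_, ?_, h.qx, k1, k2, e35,
    h.rel0.resolve_right (not_not.mpr k1)⟩
  · exact a1 ▸ rx.R.app 1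
  · exact a2 ▸ rx.R.app 2
  · rw [← a4, ← a8, ← v]; exact rx.R.app 4
  · rw [← a4, ← a8]; exact rx.R.app 8
  · rw [← a4, ← a1]; exact rw.R.app 1
  · rw [← a2, ← a8]; exact rw.R.app 2
  · rw [← a4, ← a1]; exact rw.R.app 4
  · rw [← a8, ← a1, ← a2, ← v]; exact rw.R.app 8
  · rw [← a1]; nth_rewrite 2 [← ui]; exact ru.R.app 1
  · rw [← a1, ← a2, ← a4, ← v, ← v]; nth_rewrite 2 [← ui]; exact ru.R.app 2
  · rw [← a4]; nth_rewrite 2 [← ui]; exact ru.R.app 4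
  · rw [← a1, ← a8, ← v]; nth_rewrite 2 [← ui]; exact ru.R.app 8

end Cfg

end Cfsg.Agent.Ma
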