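import Cfsg.Agent.H9.M22b

/-! Frames adapted to a Sylow three-subgroup. -/

set_option autoImplicit false

namespace Cfsg.Agent.Ma

open Subgroup Cfsg.Agent.H7 Cfsg.Agent.H4 Cfsg.Agent.Fx4 Cfsg.Agent.H4.Nse
open MulAut (conj)
open scoped Pointwise

universe u
variable {G : Type u} [Group G] [Finite G] {L P Q T K H R V D A : Subgroup G}
  {x y z g p s t v w q : G} {F : Fr G}

omit [Finite G] in
theorem cf_ind {a b : G} (a1 : a ≠ 1) (b1 : b ≠ 1) (ab : a * b ≠ 1) {i j : ℕ}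
    (h : cf a i * cf b j = 1) : i % 2 = 0 ∧ j % 2 = 0 := by
  rcases Nat.mod_two_eq_zero_or_one i with e | e <;>
    rcases Nat.mod_two_eq_zero_or_one j with f | f <;> simp_all [cf]

theorem exists_Fr (hV : Nat.card V = 4) (sq : ∀ g ∈ V, g * g = 1) (xV : x ∈ C[V]) (yV : y ∈ N[V])
    (yn : y ∉ C[V]) (y3 : y ^ 3 = 1) (wx : w * x * w⁻¹ = y) (wy : w * y * w⁻¹ = x⁻¹)
    (wV : w * w ∈ N[V]) (w4 : w * w * (w * w) = 1) (hi : V ⊓ conj w • V = ⊥)
    (hc : conj w • V ≤ C[V]) :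
    ∃ F : Fr G, F.E = V ⊔ conj w • V ∧ F.R 19489 x ∧ F.R 33842 y ∧ F.R 12676 w := by
  have cm := fun {a b} => comm_of_abel (x := a) (y := b) (abel_of_card_sq (p := 2) hV)
  obtain ⟨a, ha, a1, za⟩ : ∃ a ∈ V, a ≠ 1 ∧ w * w * a * (w * w)⁻¹ = a := by
    obtain ⟨v, hv, v1⟩ := exists_ne_one_of_ne_bot (A := V) fun e => by simp [e] at hV
    have h1 := conj_mem_of_norm wV hv
    by_cases e : w * w * v * (w * w)⁻¹ = v
    · exact ⟨v, hv, v1, e⟩
    refine ⟨_, mul_mem hv h1, fun k => e (mul_left_cancel (k.trans (sq v hv).symm)), ?_⟩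
    rw [← conj_mul, conj_conj, w4, one_mul, inv_one, mul_one, cm h1 hv]
  have hb := conj_mem_of_norm yV ha
  have nf : ∀ s ∈ V, s ≠ 1 → y * s ≠ s * y := fun s hs s1 e => yn (cent_four hV sq y3 yV hs s1 e)
  have b1 : y * a * y⁻¹ ≠ 1 := by simpa using a1
  have ab : a ≠ y * a * y⁻¹ := fun e => nf a ha a1 (mul_inv_eq_iff_eq_mul.mp e.symm)
  have yb : y * (y * a * y⁻¹) * y⁻¹ = a * (y * a * y⁻¹) := by
    rcases mem_four hV ha hb a1 b1 ab (sq a ha) (conj_mem_of_norm yV hb) with e | e | e | e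
    · exact absurd (conj_eq_one_iff.mp e) b1
    · rw [conj_conj] at e
      exact absurd (comm_of_sq y3 (mul_inv_eq_iff_eq_mul.mp e)) (nf a ha a1)
    · exact absurd (mul_inv_eq_iff_eq_mul.mp e) (nf _ hb b1)
    · exact e
  have y2 : y⁻¹ = y * y := inv_eq_of_mul_eq_one_right (by rw [← y3, pow_three])
  have ya : y⁻¹ * a * y = a * (y * a * y⁻¹) := by
    rw [← yb, conj_conj, ← y2, inv_inv]
  have xc : ∀ s, x * (w * s * w⁻¹) * x⁻¹ = w * (y⁻¹ * s * y) * w⁻¹ := fun s => by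
    rw [← inv_inv x, ← wy]; group
  have yc : ∀ s ∈ V, y * (w * s * w⁻¹) * y⁻¹ = w * s * w⁻¹ := fun s hs => by
    rw [← wx, conj_inv, conj_mul, conj_mul, conj_eq_of_mem_cent xV hs]
  have mc : ∀ s ∈ V, w * s * w⁻¹ ∈ conj w • V := fun s hs => conj_mem_conj_smul.mpr hs
  have cc : ∀ s ∈ V, ∀ t ∈ V, s * (w * t * w⁻¹) = w * t * w⁻¹ * s := fun s hs t ht =>
    comm_of_mem_cent (hc (mc t ht)) hs
  have ab1 : a * (y * a * y⁻¹) ≠ 1 := fun e => ab (mul_left_cancel ((sq a ha).trans e.symm))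
  let F : Fr G := ⟨a, y * a * y⁻¹, w * a * w⁻¹, w * (y * a * y⁻¹) * w⁻¹, sq a ha, sq _ hb,
    conj_sq (sq a ha) w, conj_sq (sq _ hb) w, cm ha hb, cc _ ha _ ha, cc _ ha _ hb, cc _ hb _ ha,
    cc _ hb _ hb, by rw [conj_mul, conj_mul, cm ha hb], fun v hv e => by
      have h1 : cf a v * cf (y * a * y⁻¹) (v / 2) = 1 := eq_one_of_mem_inf hi
        (mul_mem (pow_mem ha _) (pow_mem hb _)) (by
          rw [eq_inv_of_mul_eq_one_left e]
          exact inv_mem (mul_mem (pow_mem (mc _ ha) _) (pow_mem (mc _ hb) _)))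
      rw [h1, one_mul] at e
      have h2 := cf_ind a1 b1 ab1 h1
      have h3 := cf_ind (by simpa using a1) (by simpa using a1)
        (by rwa [conj_mul, Ne, conj_eq_one_iff]) e
      omega⟩
  have e3 : F.e 3 = F.a * F.b := by rw [← F.e1, ← F.e2, ← F.e_xor]; rfl
  have e12 : F.e 12 = F.c * F.d := by rw [← F.e4, ← F.e8, ← F.e_xor]; rfl
  refine ⟨F, Cfsg.Agent.H7.eq_of_le_of_card_le (F.E_le (mem_sup_left ha) (mem_sup_left hb)
    (mem_sup_right (mc _ ha)) (mem_sup_right (mc _ hb))) (by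
      rw [card_sup_of_inf_eq_bot (hc.trans (cent_le_norm V)) hi, card_conj_smul, hV, F.card_E]),
    .of ((conj_eq_of_mem_cent xV ha).trans F.e1.symm) ((conj_eq_of_mem_cent xV hb).trans F.e2.symm)
      ((xc a).trans ?_) ((xc _).trans ?_),
    .of F.e2.symm (yb.trans e3.symm) ((yc a ha).trans F.e4.symm) ((yc _ hb).trans F.e8.symm),
    .of F.e4.symm F.e8.symm (((conj_conj w w a).trans za).trans F.e1.symm) ?_⟩
  · rw [ya, ← conj_mul]; exact e12.symm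
  · rw [show y⁻¹ * (y * a * y⁻¹) * y = a by group]; exact F.e4.symm
  · refine (conj_conj w w _).trans (Eq.trans ?_ (ya.trans e3.symm))
    have : w * w * y * (w * w)⁻¹ = y⁻¹ := by rw [← conj_conj, wy, ← conj_inv, wx]
    rw [← conj_mul, ← conj_mul, za, ← conj_inv, this, inv_inv]

omit [Finite G] in
theorem irr (rx : F.R 19489 x) (ry : F.R 33842 y) (rw : F.R 12676 w) (hD : D ≤ F.E)
    (xD : x ∈ N[D]) (yD : y ∈ N[D]) (wD : w ∈ N[D]) : D = ⊥ ∨ D = F.E := by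
  refine or_iff_not_imp_left.mpr fun k => ?_
  obtain ⟨t, ht, t1⟩ := exists_ne_one_of_ne_bot k
  obtain ⟨v, hv, rfl⟩ := hD ht
  have X : ∀ {v}, F.e v ∈ D → F.e (app 19489 v) ∈ D := fun h => rx.app _ ▸ conj_mem_of_norm xD h
  have Y : ∀ {v}, F.e v ∈ D → F.e (app 33842 v) ∈ D := fun h => ry.app _ ▸ conj_mem_of_norm yD h
  have W : ∀ {v}, F.e v ∈ D → F.e (app 12676 v) ∈ D := fun h => rw.app _ ▸ conj_mem_of_norm wD h
  have S : ∀ {v}, F.e v ∈ D → F.e (v ^^^ app 19489 v) ∈ D := fun h =>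
    F.e_xor _ _ ▸ mul_mem h (X h)
  have h4 : F.e 4 ∈ D → F.e 1 ∈ D := W
  have h8 : F.e 8 ∈ D → F.e 1 ∈ D := fun h => h4 (X h)
  have h12 : F.e 12 ∈ D → F.e 1 ∈ D := fun h => h8 (X h)
  have h1 : F.e 1 ∈ D := by
    interval_cases v
    · exact absurd F.e0 t1
    · exact ht
    · exact Y (Y ht)
    · exact Y ht
    all_goals first | exact h8 (S ht) | exact h12 (S ht) | exact h4 (S ht)
  exact le_antisymm hD (F.E_le (F.e1 ▸ h1) (F.e2 ▸ Y h1) (F.e4 ▸ W h1) (F.e8 ▸ W (Y h1)))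

theorem cent_ww (rw : F.R 12676 w) : Nat.card ↥(F.E ⊓ C₁[w * w]) ≤ 4 := by
  classical
  refine (card_le_of_subset (s := {F.e 0, F.e 1, F.e 4, F.e 5}) ?_).trans Finset.card_le_four
  rintro _ ⟨⟨v, hv, rfl⟩, h⟩
  have h1 := (rw.mul rw).app v
  rw [← mem_cent1_iff.mp h, mul_inv_cancel_right] at h1
  have h2 := F.e_inj hv (by interval_cases v <;> decide) h1
  interval_cases v <;> first | (simp; done) | exact absurd h2 (by decide)

namespace NQ

variable (r : NQ P Q)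
include r

theorem w4 (hx : x ∈ P) (x1 : x ≠ 1) (hw : w ∈ Q) (wx : w * x * w⁻¹ = y)
    (wy : w * y * w⁻¹ = x⁻¹) : w * w ≠ 1 ∧ w * w * (w * w) = 1 :=
  r.sq_of_inv (mul_mem hw hw) hx x1 (by rw [← conj_conj, wx, wy])

theorem qw (hx : x ∈ P) (x1 : x ≠ 1) (hw : w ∈ Q) (hq : q ∈ Q) (wx : w * x * w⁻¹ = y)
    (wy : w * y * w⁻¹ = x⁻¹) (qx : q * x * q⁻¹ = x * y) :
    (q * w * q⁻¹ = w⁻¹ ∧ q * q = w * w) ∨ (q * w * q⁻¹ = w ∧ q * q = w⁻¹) := by
  obtain ⟨h1, h2⟩ := r.w4 hx x1 hw wx wy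
  have h3 : w ^ 4 = 1 := by rw [← h2, ← pow_two, ← pow_two, ← pow_mul]
  have ow : orderOf w = 4 := orderOf_eq_prime_pow (p := 2) (n := 1) (by rwa [pow_one, pow_two]) h3
  have hy : y ∈ P := wx ▸ conj_mem_of_norm (r.QN hw) hx
  have c := r.comm hx hy
  have x2 : x * x = x⁻¹ := eq_inv_of_mul_eq_one_left (by rw [← r.cube x hx, pow_three'])
  have y2 : y * y = y⁻¹ := eq_inv_of_mul_eq_one_left (by rw [← r.cube y hy, pow_three'])
  have e1 : w⁻¹ * x * w = y⁻¹ := by rw [← inv_inv x, ← wy]; group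
  have e2 : w⁻¹ * y * w = x := by rw [← wx]; group
  have e3 : q * y * q⁻¹ = q * w * q⁻¹ * (x * y) * (q * w * q⁻¹)⁻¹ := by rw [← qx, ← wx]; group
  obtain ⟨k, hk, e⟩ := exists_pow ow (conj_mem_of_index_two (zpowers_le.mpr hw)
    (by rw [Nat.card_zpowers, ow, r.cQ]) hq (mem_zpowers w))
  have h4 : (q * w * q⁻¹) ^ 2 ≠ 1 := by rwa [conj_pow, Ne, conj_eq_one_iff, pow_two]
  rw [e] at h4
  interval_cases k
  · simp at h4
  · rw [pow_one] at e
    refine Or.inr ⟨e, r.eq_of (mul_mem hq hq) (inv_mem hw) hx x1 ?_⟩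
    rw [← conj_conj, qx, ← conj_mul, qx, e3, e, ← conj_mul, wx, wy, inv_inv, e1, c, mul_assoc,
      ← mul_assoc x, c, mul_assoc, mul_inv_cancel, mul_one, y2]
  · exact absurd (by rw [← pow_mul, h3]) h4
  · rw [show w ^ 3 = w⁻¹ from eq_inv_of_mul_eq_one_left (by rw [← pow_succ, h3])] at e
    refine Or.inl ⟨e, r.eq_of (mul_mem hq hq) (mul_mem hw hw) hx x1 ?_⟩
    rw [← conj_conj, qx, ← conj_mul, qx, e3, e, ← conj_mul, inv_inv, e1, e2, ← conj_conj, wx, wy,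
      mul_assoc, mul_inv_cancel_left, x2]

end NQ

end Cfsg.Agent.Ma
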