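import Cfsg.Agent.H9.MaSum
import Cfsg.Agent.H9.MaData
import Cfsg.Agent.H2.L3m

/-! The group `M₂₄` as a permutation group on `Fin 24`. -/

set_option autoImplicit false

namespace Cfsg.Agent.Ma.Md

open Cfsg.Agent.H4 Equiv Finset Cfsg.Spor Cfsg.Agent.H4.Golay Cfsg.Agent.H2.L3
open scoped Classical

/-- The model. -/
def H0 : Subgroup (Perm (Fin 24)) :=
  M24.comap (e24.symm.permCongrHom : Perm (Fin 24) →* Perm GolayPt)

variable {g k : Perm (Fin 24)}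

theorem mem_H0 : g ∈ H0 ↔ lift24 g ∈ M24 := Iff.rfl

theorem ok : SSOK 8 255 24 ch := SSOK_of_ssChk ch_ok

theorem hF : List.Forall₂ (Rep 8 255) L0.S [pi0, pi1] := by decide +kernel

theorem s0 : ∀ c ∈ L0.S, InG 8 255 (⊤ : Subgroup (Perm (Fin 24))) c := InG_top_of_forall₂ hF

theorem mem_of {π : Perm (Fin 24)} (hn : List ℕ)
    (h : (∀ x ∈ rows.zip hn, word x.1 ∘ ⇑(lift24 π)⁻¹ = word (xorSel rows x.2)) ∧
      (rows.zip hn).map Prod.fst = rows) : π ∈ H0 := mem_M24_of fun r hr => by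
  rw [← h.2] at hr
  obtain ⟨x, hx, rfl⟩ := List.mem_map.mp hr
  exact h.1 x hx ▸ word_xorSel rows_mem _

theorem le0 : Grp 8 255 24 L0.S ≤ H0 := by
  rw [Grp_eq_closure (by norm_num) hF, Subgroup.closure_le]
  rintro _ (_ | ⟨_, _ | ⟨_, ⟨⟩⟩⟩)
  · exact mem_of hn0 (by decide +kernel)
  · exact mem_of hn1 (by decide +kernel)

theorem lift_fix {S : ℕ} (hS : ∀ i : Fin 24, S.testBit i → g i = i) (q : GolayPt)
    (hq : S.testBit (ix q)) : lift24 g q = q := by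
  simp [lift24, hS (e24 q) hq]

theorem oct (hg : g ∈ H0) {S : ℕ} (hS : ∀ i : Fin 24, S.testBit i → g i = i) (h : ℕ)
    (h8 : pc (xorSel rows h) = 8 ∧ 5 ≤ pc (xorSel rows h &&& S)) (i : Fin 24) :
    word (xorSel rows h) (e24.symm (g i)) = word (xorSel rows h) (e24.symm i) := by
  simpa [lift24] using congrFun (oct_inv hg (lift_fix hS) (word_xorSel rows_mem h) h8.1 h8.2)
    (e24.symm i)

theorem ne_of (g : Perm (Fin 24)) {a b : Fin 24} (h : g a = a) (hab : b ≠ a) : g b ≠ a :=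
  fun e => hab (g.injective (e.trans h.symm))

theorem c0 : ∀ x : Fin 24, ∃ i < L0.m, app 255 (L0.T.get i) (8 * L0.b) = 8 * x := by
  decide +kernel

theorem c1 : ∀ x : Fin 24, x ∉ [23] → ∃ i < L1.m, app 255 (L1.T.get i) (8 * L1.b) = 8 * x := by
  decide +kernel

theorem c2 : ∀ x : Fin 24, x ∉ [0, 23] → ∃ i < L2.m, app 255 (L2.T.get i) (8 * L2.b) = 8 * x := by
  decide +kernel

theorem c3 : ∀ x : Fin 24, x ∉ [1, 0, 23] →
    ∃ i < L3.m, app 255 (L3.T.get i) (8 * L3.b) = 8 * x := by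
  decide +kernel

theorem c4 : ∀ x : Fin 24, x ∉ [3, 1, 0, 23] →
    ∃ i < L4.m, app 255 (L4.T.get i) (8 * L4.b) = 8 * x := by
  decide +kernel

theorem cov : Cov 8 255 ch (· ∈ H0) := by
  refine ⟨23, rfl, fun g _ => c0 _, 0, rfl, fun g h => c1 _ ?_, 1, rfl, fun g h => c2 _ ?_,
    3, rfl, fun g h => c3 _ ?_, 6, rfl, fun g h => c4 _ ?_, 11, rfl, fun g h => ?_,
    17, rfl, fun g h => ?_, fun g h => ?_⟩
  · simp [ne_of g h.1]
  · simp [ne_of g h.1, ne_of g h.2.1]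
  · simp [ne_of g h.1, ne_of g h.2.1, ne_of g h.2.2.1]
  · simp [ne_of g h.1, ne_of g h.2.1, ne_of g h.2.2.1, ne_of g h.2.2.2.1]
  · obtain ⟨h1, h2, h3, h4, h5, h6⟩ := h
    have := oct h6 (S := 8388683) (fun i hi => by
      have : i = 6 ∨ i = 3 ∨ i = 1 ∨ i = 0 ∨ i = 23 := by revert i; decide +kernel
      rcases this with rfl | rfl | rfl | rfl | rfl <;> assumption) 3108 (by decide +kernel) 11
    revert this
    generalize g 11 = x
    revert x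
    decide +kernel
  · obtain ⟨h0, h1, h2, h3, h4, h5, h6⟩ := h
    have := oct h6 (S := 8390729) (fun i hi => by
      have : i = 6 ∨ i = 3 ∨ i = 11 ∨ i = 0 ∨ i = 23 := by revert i; decide +kernel
      rcases this with rfl | rfl | rfl | rfl | rfl <;> assumption) 2105 (by decide +kernel) 17
    have k : g 17 ∉ [6, 3, 11, 0, 23] := by
      simp [ne_of g h0, ne_of g h1, ne_of g h2, ne_of g h4, ne_of g h5]
    revert this k
    generalize g 17 = x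
    revert x
    decide +kernel
  · obtain ⟨h7, h0, h1, h2, h3, h4, h5, h6⟩ := h
    refine e24.symm.permCongrHom.injective ((eq_one_of_seven h6 (lift_fix fun i hi => ?_)).trans
      (map_one _).symm)
    have : i = 17 ∨ i = 11 ∨ i = 6 ∨ i = 3 ∨ i = 1 ∨ i = 0 ∨ i = 23 := by revert i; decide +kernel
    rcases this with rfl | rfl | rfl | rfl | rfl | rfl | rfl <;> assumption

theorem H0_eq : H0 = Grp 8 255 24 L0.S := 
  le_antisymm (le_Grp (H := H0) (Ls := ch) (by norm_num) ok s0 le0 cov) le0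

theorem card_H0 : Nat.card H0 = 244823040 := by
  rw [H0_eq]
  exact (ok.card (by norm_num) s0).trans (by decide +kernel)

theorem s1 : ∀ c ∈ L1.S, InG 8 255 (⊤ : Subgroup (Perm (Fin 24))) c := ok.valid s0
theorem s2 : ∀ c ∈ L2.S, InG 8 255 (⊤ : Subgroup (Perm (Fin 24))) c := ok.2.2.valid s1
theorem s3 : ∀ c ∈ L3.S, InG 8 255 (⊤ : Subgroup (Perm (Fin 24))) c := ok.2.2.2.2.valid s2
theorem s4 : ∀ c ∈ L4.S, InG 8 255 (⊤ : Subgroup (Perm (Fin 24))) c := ok.2.2.2.2.2.2.valid s3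

theorem m1 : k ∈ Grp 8 255 24 L1.S ↔ k ∈ H0 ∧ ∀ x ∈ [23], k x = x := by
  rw [H0_eq, List.forall_mem_singleton]
  exact SetLike.ext_iff.mp (ok.stabilizer (by norm_num) s0) k

theorem m2 : k ∈ Grp 8 255 24 L2.S ↔ k ∈ H0 ∧ ∀ x ∈ [0, 23], k x = x := by
  rw [List.forall_mem_cons, and_left_comm, ← m1, and_comm]
  exact SetLike.ext_iff.mp (ok.2.2.stabilizer (by norm_num) s1) k

theorem m3 : k ∈ Grp 8 255 24 L3.S ↔ k ∈ H0 ∧ ∀ x ∈ [1, 0, 23], k x = x := by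
  rw [List.forall_mem_cons, and_left_comm, ← m2, and_comm]
  exact SetLike.ext_iff.mp (ok.2.2.2.2.stabilizer (by norm_num) s2) k

theorem m4 : k ∈ Grp 8 255 24 L4.S ↔ k ∈ H0 ∧ ∀ x ∈ [3, 1, 0, 23], k x = x := by
  rw [List.forall_mem_cons, and_left_comm, ← m3, and_comm]
  exact SetLike.ext_iff.mp (ok.2.2.2.2.2.2.stabilizer (by norm_num) s3) k

theorem t1 (c : Fin 24) (hc : c ∉ [23]) : ∃ h ∈ H0, (∀ x ∈ [23], h x = x) ∧ h 0 = c := by
  obtain ⟨i, hi, e⟩ := c1 c hc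
  obtain ⟨h, h1, h2⟩ := ok.2.2.exists_map_base (by norm_num) s1 hi e
  exact ⟨h, (m1.mp h1).1, (m1.mp h1).2, h2⟩

theorem t2 (c : Fin 24) (hc : c ∉ [0, 23]) : ∃ h ∈ H0, (∀ x ∈ [0, 23], h x = x) ∧ h 1 = c := by
  obtain ⟨i, hi, e⟩ := c2 c hc
  obtain ⟨h, h1, h2⟩ := ok.2.2.2.2.exists_map_base (by norm_num) s2 hi e
  exact ⟨h, (m2.mp h1).1, (m2.mp h1).2, h2⟩

theorem t3 (c : Fin 24) (hc : c ∉ [1, 0, 23]) :
    ∃ h ∈ H0, (∀ x ∈ [1, 0, 23], h x = x) ∧ h 3 = c := by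
  obtain ⟨i, hi, e⟩ := c3 c hc
  obtain ⟨h, h1, h2⟩ := ok.2.2.2.2.2.2.exists_map_base (by norm_num) s3 hi e
  exact ⟨h, (m3.mp h1).1, (m3.mp h1).2, h2⟩

theorem t4 (c : Fin 24) (hc : c ∉ [3, 1, 0, 23]) :
    ∃ h ∈ H0, (∀ x ∈ [3, 1, 0, 23], h x = x) ∧ h 6 = c := by
  obtain ⟨i, hi, e⟩ := c4 c hc
  obtain ⟨h, h1, h2⟩ := ok.2.2.2.2.2.2.2.2.exists_map_base (by norm_num) s4 hi e
  exact ⟨h, (m4.mp h1).1, (m4.mp h1).2, h2⟩

/-- codes of the base points -/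
def BB : List ℕ := [184, 0, 8, 24, 48, 88, 136]

/-- the weight of a coded permutation -/
noncomputable def wt (f : ℕ → ℕ) : ℕ := Nat.shiftLeft 1 (Nat.mul 32 (ordL f BB 23 1 BB))

theorem wt_eq (f : ℕ → ℕ) (g : Perm (Fin 24)) (hg : g ∈ H0) (hf : RepF 8 f g) : wt f = Wt g := by
  have h1 : ∀ a ∈ BB, ∃ i : Fin 24, a = 8 * i := by decide +kernel
  have h2 : ∀ L ∈ ch, 8 * L.b ∈ BB := by decide +kernel
  have := ordL_eq (g := g) (f := f) (B := BB) (fun k => ⟨fun h => ok.base (by norm_num) s0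
    (H0_eq ▸ H0.pow_mem hg k :) fun L hL i hi => Fin.ext (Nat.eq_of_mul_eq_mul_left (by norm_num)
      ((hf.iterate k i).symm.trans (h _ (hi ▸ h2 L hL)))), fun h a ha => by
        obtain ⟨i, rfl⟩ := h1 a ha
        rw [hf.iterate k i, h]
        rfl⟩) 23 (orderOf_pos g)
  rw [zero_add, zero_add, Function.iterate_zero, List.map_id] at this
  rw [wt, this]
  exact Nat.one_shiftLeft _

theorem leaf (a b c d : Fin 24) (t i j k l v : ℕ)
    (h1 : wordChk 8 255 24 t [] [T0.get i, T1.get j, T2.get k, T3.get l] = true ∧ i < 24 ∧ j < 23 ∧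
      k < 22 ∧ l < 21 ∧ ∀ p ∈ [((3 : Fin 24), d), (1, c), (0, b), (23, a)],
        app 255 t (8 * p.1) = 8 * p.2)
    (h2 : esum 255 wt [L4, L5, L6] (app 255 t) = v) :
    Sm H0 Wt [(3, d), (1, c), (0, b), (23, a)] = v := by
  have hG := (ok.good (by norm_num) s0).mem
  obtain ⟨g, hg, hr⟩ := wordChk_sound (H := Grp 8 255 24 L0.S) h1.1 (by simp) (by
    simp only [List.forall_mem_cons]
    exact ⟨hG L0 (by simp [ch]) i h1.2.1, hG L1 (by simp [ch]) j h1.2.2.1,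
      hG L2 (by simp [ch]) k h1.2.2.2.1, hG L3 (by simp [ch]) l h1.2.2.2.2.1, by simp⟩)
  rw [← H0_eq] at hg
  rw [← h2, esum_eq (by norm_num) wt_eq ok.2.2.2.2.2.2.2.2 s4 (fun k hk => (m4.mp hk).1) hg hr]
  exact Sm_leaf (fun k => m4.trans (by simp)) hg fun p hp => Fin.ext (Nat.eq_of_mul_eq_mul_left
    (by norm_num) ((hr p.1).symm.trans (h1.2.2.2.2.2 p hp)))

theorem Wt_conj (h g : Perm (Fin 24)) : Wt (h * g * h⁻¹) = Wt g := by
  rw [Wt, Wt, Nse.orderOf_conj']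

theorem mo_eq {X : Subgroup (Perm GolayPt)} {l : List (Fin 24 × Fin 24)}
    (hX : ∀ g, lift24 g ∈ X ↔ g ∈ H0 ∧ ∀ p ∈ l, g p.1 = p.2) {v : ℕ} (hv : Sm H0 Wt l = v)
    (h0 : v % 2 ^ 32 = 0) (k : ℕ) :
    Nse.mo X k = if k ≤ 23 then (v >>> (32 * k)) % 2 ^ 32 else 0 := by
  rw [← card_digit ((card_le_card (t := {g | g ∈ H0}) fun g hg => by
    simpa using (mem_filter.mp hg).2.1).trans_lt (by
      rw [← Fintype.card_subtype, ← Nat.card_eq_fintype_card, card_H0]; norm_num)) hv h0, Nse.mo,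
    filter_filter, ← Fintype.card_subtype, ← Nat.card_eq_fintype_card]
  have e : ∀ g, orderOf (lift24 g) = orderOf g := e24.symm.permCongrHom.orderOf_eq
  refine (Nat.card_congr (Equiv.ofBijective
    (fun g => ⟨⟨lift24 g.1, (hX _).mpr g.2.1⟩, by rw [← Subgroup.orderOf_coe, e, g.2.2]⟩)
    ⟨fun a b h => Subtype.ext (e24.symm.permCongr.injective (congrArg (·.1.1) h)),
      fun ⟨⟨g, h1⟩, h2⟩ => ?_⟩)).symm
  obtain ⟨g, rfl⟩ := e24.symm.permCongr.surjective g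
  exact ⟨⟨g, (hX g).mp h1, by rw [← e, ← h2, ← Subgroup.orderOf_coe]; rfl⟩, rfl⟩

end Cfsg.Agent.Ma.Md
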