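import Cfsg.Agent.H4.MSum

/-! Sums of class functions over permutation groups given by a stabilizer chain. -/

set_option autoImplicit false

namespace Cfsg.Agent.Ma.Md

open Cfsg.Agent.H4 Equiv Finset
open scoped Classical

/-- eager map -/
noncomputable def mapK (f : ℕ → ℕ) (l : List ℕ) : (List ℕ → ℕ) → ℕ :=
  List.rec (fun k => k []) (fun a _ ih k => force (f a) fun b => ih fun r => k (b :: r)) l

theorem mapK_eq (f : ℕ → ℕ) (l : List ℕ) (k : List ℕ → ℕ) : mapK f l k = k (l.map f) := by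
  induction l generalizing k with
  | nil => rfl
  | cons a l ih => exact (force_eq (f a) fun b => mapK f l fun r => k (b :: r)).trans (ih _)

/-- comparison of lists -/
noncomputable def eqL (l : List ℕ) : List ℕ → Bool :=
  List.rec (fun _ => true)
    (fun a _ ih r => List.rec true (fun b r _ => band (Nat.beq a b) (ih r)) r) l

theorem eqL_iff (f : ℕ → ℕ) (l : List ℕ) : eqL (l.map f) l = true ↔ ∀ a ∈ l, f a = a := by
  induction l with
  | nil => simp [eqL]
  | cons a l ih =>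
    rw [List.forall_mem_cons, ← ih, ← Nat.beq_eq]
    exact band_eq_true

/-- the order -/
noncomputable def ordL (f : ℕ → ℕ) (B : List ℕ) (n : ℕ) : ℕ → List ℕ → ℕ :=
  Nat.rec (fun _ _ => 0) (fun _ ih k l => mapK f l fun r =>
    Bool.rec (force (Nat.succ k) fun k => ih k r) k (eqL r B)) n

theorem ordL_eq {G : Type*} [Group G] {g : G} {f : ℕ → ℕ} {B : List ℕ}
    (h : ∀ k, (∀ a ∈ B, f^[k] a = a) ↔ g ^ k = 1) (n : ℕ) {k : ℕ} (hk : k < orderOf g) :
    ordL f B n (k + 1) (B.map f^[k]) = if orderOf g ≤ k + n then orderOf g else 0 := by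
  induction n generalizing k with
  | zero => rw [if_neg (by omega)]; rfl
  | succ n ih =>
    change mapK f _ (fun r => (Bool.rec (force (k + 1 + 1) fun k => ordL f B n k r)
      (k + 1) (eqL r B) : ℕ)) = _
    rw [mapK_eq, List.map_map, ← Function.iterate_succ', force_eq]
    by_cases h4 : orderOf g = k + 1
    · rw [(eqL_iff _ _).mpr ((h _).mpr (by rw [← pow_orderOf_eq_one g, h4])), if_pos (by omega), h4]
    · rw [Bool.eq_false_iff.mpr fun e => pow_ne_one_of_lt_orderOf (by omega)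
        (show k + 1 < orderOf g by omega) ((h _).mp ((eqL_iff _ _).mp e)), add_comm n, ← add_assoc]
      exact ih (by omega)

/-- sum over a coset -/
noncomputable def esum (mk : ℕ) (φ : (ℕ → ℕ) → ℕ) (Ls : List Level) : (ℕ → ℕ) → ℕ :=
  List.rec (fun f => φ f) (fun L _ ih f => sumF (fun i => force (L.T.get i) fun c =>
    ih fun x => f (Nat.land (Nat.shiftRight c x) mk)) L.m) Ls

variable {w mk n : ℕ} {H : Subgroup (Perm (Fin n))} {Φ : Perm (Fin n) → ℕ}

theorem esum_eq (hw : 0 < w) {φ : (ℕ → ℕ) → ℕ} (hφ : ∀ f, ∀ g ∈ H, RepF w f g → φ f = Φ g)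
    {Ls : List Level} (h : SSOK w mk n Ls)
    (hS : ∀ c ∈ gensOf Ls, InG w mk (⊤ : Subgroup (Perm (Fin n))) c)
    (hH : Grp w mk n (gensOf Ls) ≤ H) {f : ℕ → ℕ} {g : Perm (Fin n)} (hg : g ∈ H)
    (hf : RepF w f g) : esum mk φ Ls f = ∑ k with k ∈ Grp w mk n (gensOf Ls), Φ (g * k) := by
  induction Ls generalizing f g with
  | nil =>
    rw [show gensOf [] = [] from rfl, Grp_nil]
    simp only [Subgroup.mem_bot, filter_eq', mem_univ, if_true, sum_singleton, mul_one]
    exact hφ f g hg hf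
  | cons L Ls ih =>
    have hG := h.good hw hS
    have hle := h.le hw hS
    choose! t ht hr using hG.mem L (by simp)
    change sumF (fun i => force (L.T.get i) fun c => esum mk φ Ls fun x => f (app mk c x)) L.m = _
    simp only [sumF_eq, force_eq]
    rw [sum_congr rfl fun i hi => ih h.2.2 (h.valid hS) (hle.trans hH) (H.mul_mem hg
      (hH (ht i (mem_range.mp hi)))) (hf.comp (hr i (mem_range.mp hi))), ← sum_product']
    refine sum_bij (fun x _ => t x.1 * x.2) (fun x hx => ?_) (fun x hx y hy e => ?_)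
      (fun k hk => ?_) fun x _ => by rw [mul_assoc]
    · simp only [mem_product, mem_range, mem_filter, mem_univ, true_and] at hx ⊢
      exact Subgroup.mul_mem _ (ht _ hx.1) (hle hx.2)
    · simp only [mem_product, mem_range, mem_filter, mem_univ, true_and] at hx hy
      have hij : x.1 = y.1 := h.inj hx.1 hy.1 (hr _ hx.1) (hr _ hy.1) (by
        have := congrArg (fun g : Perm (Fin n) => g ⟨L.b, h.hb⟩) e
        simpa only [Perm.mul_apply, h.fix hw hx.2, h.fix hw hy.2] using this)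
      rw [hij] at e
      exact Prod.ext hij (mul_left_cancel e)
    · obtain ⟨i, hi, u, k, hu, hk', rfl⟩ := hG.fac k (mem_filter.mp hk).2
      exact ⟨(i, k), by simpa using ⟨hi, hk'.mem hw (SSOK.good hw h.2.2 (h.valid hS)).mem⟩,
        by rw [RepF.unique hw (hr i hi) hu]⟩

variable (H Φ) in
/-- sum over the elements with prescribed images -/
noncomputable def Sm (l : List (Fin n × Fin n)) : ℕ :=
  ∑ g with g ∈ H ∧ ∀ p ∈ l, g p.1 = p.2, Φ g

theorem Sm_step (hΦ : ∀ h g, Φ (h * g * h⁻¹) = Φ g) {pre : List (Fin n)} {a : Fin n}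
    (htr : ∀ c ∉ pre, ∃ h ∈ H, (∀ x ∈ pre, h x = x) ∧ h a = c) (l : List (Fin n × Fin n))
    (b s : Fin n) (m : ℕ) (hd : (∀ p ∈ l, p.1 ≠ b ∧ p.2 ≠ s ∧ p.1 ∈ pre ∧ p.2 ∈ pre) ∧ b ∈ pre ∧
      s ∈ pre ∧ (∀ c ∈ pre, c = s ∨ ∃ p ∈ l, p.2 = c) ∧ #pre.toFinsetᶜ = m) :
    Sm H Φ l = Sm H Φ ((b, s) :: l) + m * Sm H Φ ((b, a) :: l) := by
  obtain ⟨h1, h2, h3, h4, rfl⟩ := hd
  have k1 : ∀ c, ∑ g ∈ {g | g ∈ H ∧ ∀ p ∈ l, g p.1 = p.2} with g b = c, Φ g =
      Sm H Φ ((b, c) :: l) := fun c => by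
    simp only [Sm, filter_filter, List.forall_mem_cons]
    exact sum_congr (filter_congr fun _ _ => by tauto) fun _ _ => rfl
  rw [Sm, ← sum_fiberwise (g := fun g => g b), ← sum_add_sum_compl pre.toFinset,
    sum_eq_single_of_mem s (List.mem_toFinset.mpr h3), k1, ← smul_eq_mul, ← sum_const]
  · congr 1
    refine sum_congr rfl fun c hc => ?_
    obtain ⟨h, hh, e1, rfl⟩ := htr c (by simpa using hc)
    have e2 : ∀ x ∈ pre, h⁻¹ x = x := fun x hx => Perm.inv_eq_iff_eq.mpr (e1 x hx).symm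
    rw [k1]
    refine (sum_nbij' (fun g => h * g * h⁻¹) (fun g => h⁻¹ * g * h) (fun g hg => ?_)
      (fun g hg => ?_) (fun _ _ => by group) (fun _ _ => by group) fun g _ => (hΦ h g).symm).symm
    · simp only [mem_filter, mem_univ, true_and, List.forall_mem_cons, Perm.mul_apply] at hg ⊢
      exact ⟨H.mul_mem (H.mul_mem hh hg.1) (H.inv_mem hh), by rw [e2 b h2, hg.2.1], fun p hp => by
        rw [e2 _ (h1 p hp).2.2.1, hg.2.2 p hp, e1 _ (h1 p hp).2.2.2]⟩
    · simp only [mem_filter, mem_univ, true_and, List.forall_mem_cons, Perm.mul_apply] at hg ⊢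
      exact ⟨H.mul_mem (H.mul_mem (H.inv_mem hh) hg.1) hh, by
        rw [e1 b h2, hg.2.1, Perm.inv_eq_iff_eq], fun p hp => by
        rw [e1 _ (h1 p hp).2.2.1, hg.2.2 p hp, e2 _ (h1 p hp).2.2.2]⟩
  · intro c hc hn
    obtain ⟨p, hp, rfl⟩ := (h4 c (List.mem_toFinset.mp hc)).resolve_left hn
    refine sum_eq_zero fun g hg => absurd (g.injective ?_) (h1 p hp).1
    simp only [mem_filter, mem_univ, true_and] at hg
    rw [hg.1.2 p hp, hg.2]

theorem Sm_leaf {K : Subgroup (Perm (Fin n))} {l : List (Fin n × Fin n)}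
    (hK : ∀ k, k ∈ K ↔ k ∈ H ∧ ∀ p ∈ l, k p.1 = p.1) {t : Perm (Fin n)} (ht : t ∈ H)
    (e : ∀ p ∈ l, t p.1 = p.2) : Sm H Φ l = ∑ k with k ∈ K, Φ (t * k) := by
  refine sum_nbij' (fun g => t⁻¹ * g) (fun g => t * g) (fun g hg => ?_) (fun g hg => ?_)
    (fun _ _ => by group) (fun _ _ => by group) fun g _ => by rw [mul_inv_cancel_left]
  · simp only [mem_filter, mem_univ, true_and, hK, Perm.mul_apply] at hg ⊢
    exact ⟨H.mul_mem (H.inv_mem ht) hg.1, fun p hp => by
      rw [hg.2 p hp, Perm.inv_eq_iff_eq, e p hp]⟩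
  · simp only [mem_filter, mem_univ, true_and, hK, Perm.mul_apply] at hg ⊢
    exact ⟨H.mul_mem ht hg.1, fun p hp => by rw [hg.2 p hp, e p hp]⟩

/-- covering condition -/
def Cov (w mk : ℕ) {n : ℕ} : List Level → (Perm (Fin n) → Prop) → Prop
  | [], p => ∀ g, p g → g = 1
  | L :: Ls, p => ∃ b : Fin n, b.val = L.b ∧
    (∀ g, p g → ∃ i < L.m, app mk (L.T.get i) (w * L.b) = w * g b) ∧
      Cov w mk Ls fun g => g b = b ∧ p g

theorem le_Grp (hw : 0 < w) {Ls : List Level} (h : SSOK w mk n Ls)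
    (hS : ∀ c ∈ gensOf Ls, InG w mk (⊤ : Subgroup (Perm (Fin n))) c)
    (hH : Grp w mk n (gensOf Ls) ≤ H)
    (hc : Cov w mk Ls (· ∈ H)) : H ≤ Grp w mk n (gensOf Ls) := by
  induction Ls generalizing H with
  | nil => exact fun g hg => hc g hg ▸ Subgroup.one_mem _
  | cons L Ls ih =>
    obtain ⟨b, hb, h1, h2⟩ := hc
    obtain rfl : b = ⟨L.b, h.hb⟩ := Fin.ext hb
    intro g hg
    obtain ⟨i, hi, e⟩ := h1 g hg
    obtain ⟨t, ht, et⟩ := h.exists_map_base hw hS hi e
    have := h.le hw hS (ih (H := MulAction.stabilizer _ (⟨L.b, h.hb⟩ : Fin n) ⊓ H) h.2.2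
      (h.valid hS) (fun g hg => ⟨h.fix hw hg, hH (h.le hw hS hg)⟩) h2
      (x := t⁻¹ * g) ⟨Perm.inv_eq_iff_eq.mpr et.symm, H.mul_mem (H.inv_mem (hH ht)) hg⟩)
    exact (Subgroup.mul_mem_cancel_left _ (Subgroup.inv_mem _ ht)).mp this

/-- the weight -/
noncomputable def Wt (g : Perm (Fin n)) : ℕ := 2 ^ (32 * if orderOf g ≤ 23 then orderOf g else 0)

theorem card_digit {s : Finset (Perm (Fin n))} (hs : #s < 2 ^ 32) {v : ℕ} (hv : ∑ g ∈ s, Wt g = v)
    (h0 : v % 2 ^ 32 = 0) (k : ℕ) :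
    #{g ∈ s | orderOf g = k} = if k ≤ 23 then (v >>> (32 * k)) % 2 ^ 32 else 0 := by
  let o : Perm (Fin n) → ℕ := fun g => if orderOf g ≤ 23 then orderOf g else 0
  have h3 : v = pk 32 24 fun k => #{g ∈ s | o g = k} := by
    rw [← hv, pk, ← sum_fiberwise_of_maps_to (g := o) (t := range 24) (fun g _ => by
      simp only [o, mem_range]
      split_ifs <;> omega)]
    refine sum_congr rfl fun k _ => ?_
    rw [sum_congr rfl fun g hg => show Wt g = 2 ^ (32 * k) by rw [← (mem_filter.mp hg).2]; rfl,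
      sum_const, smul_eq_mul]
  have h4 : ∀ k ≤ 23, (v >>> (32 * k)) % 2 ^ 32 = #{g ∈ s | o g = k} := fun k hk => by
    rw [h3]
    exact pk_shift_mod (fun i _ => lt_of_le_of_lt (card_filter_le _ _) hs) (by omega)
  have h5 : ∀ g ∈ s, orderOf g ≤ 23 := fun g hg => by
    have h6 := h4 0 (by omega)
    rw [mul_zero, Nat.shiftRight_zero, h0, eq_comm, card_eq_zero, filter_eq_empty_iff] at h6
    by_contra h7
    exact h6 hg (if_neg h7)
  split_ifs with hk
  · rw [h4 k hk]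
    exact congrArg card (filter_congr fun g hg => by simp only [o, if_pos (h5 g hg)])
  · rw [card_eq_zero, filter_eq_empty_iff]
    exact fun g hg e => hk (e ▸ h5 g hg)

end Cfsg.Agent.Ma.Md
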