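import Cfsg.Agent.H9.MaCore
import Cfsg.Agent.H9.FxThree
import Cfsg.Agent.H1.T3Basic

/-! Tools for the three-local analysis of the large Mathieu groups. -/

set_option autoImplicit false

namespace Cfsg.Agent.Ma

open Subgroup Cfsg.Agent.H7 Cfsg.Agent.H4 Cfsg.Agent.Fx4 MulAction
open MulAut (conj)
open scoped Pointwise

universe u
variable {G : Type u} [Group G] [Finite G] {L P T K H : Subgroup G} {x y g p s t v : G}

omit [Finite G] in
theorem pow_fin_add (h : x ^ 3 = 1) (i j : Fin 3) : x ^ (i + j).val = x ^ i.val * x ^ j.val := by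
  rw [← pow_add, Fin.val_add, ← pow_eq_pow_mod _ h]

theorem cnt9 (hx : x ^ 3 = 1) (hy : y ^ 3 = 1) (hc : x * y = y * x) (xL : x ∈ N[L])
    (yL : y ∈ N[L]) : 9 ∣ Nat.card L + 2 * (Nat.card ↥(L ⊓ C₁[x]) + Nat.card ↥(L ⊓ C₁[y]) +
      Nat.card ↥(L ⊓ C₁[x * y]) + Nat.card ↥(L ⊓ C₁[x * y⁻¹])) := by
  let f : Multiplicative (Fin 3 × Fin 3) →* G :=
    { toFun := fun a => x ^ a.toAdd.1.val * y ^ a.toAdd.2.val
      map_one' := by simp
      map_mul' := fun a b => by
        simp only [toAdd_mul, Prod.fst_add, Prod.snd_add, pow_fin_add hx, pow_fin_add hy]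
        exact (Commute.pow_pow hc _ _).mul_mul_mul_comm _ _ }
  have hf : ∀ a, f a ∈ N[L] := fun a => mul_mem (pow_mem xL _) (pow_mem yL _)
  let _ : MulAction (Multiplicative (Fin 3 × Fin 3)) L :=
    { smul := fun a l => ⟨f a * l * (f a)⁻¹, conj_mem_of_norm (hf a) l.2⟩
      one_smul := fun l => Subtype.ext (show f 1 * l * (f 1)⁻¹ = l by simp)
      mul_smul := fun a b l => Subtype.ext
        (show f (a * b) * l * (f (a * b))⁻¹ = f a * (f b * l * (f b)⁻¹) * (f a)⁻¹ by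
          rw [map_mul]; group) }
  have h1 : ∀ a, Nat.card (fixedBy L a) = Nat.card ↥(L ⊓ C₁[f a]) := fun a =>
    Nat.card_congr ⟨fun l => ⟨l.1.1, l.1.2, mem_cent1_iff.mpr
        (mul_inv_eq_iff_eq_mul.mp (congrArg Subtype.val l.2)).symm⟩,
      fun l => ⟨⟨l.1, l.2.1⟩, Subtype.ext
        (mul_inv_eq_iff_eq_mul.mpr (mem_cent1_iff.mp l.2.2).symm)⟩, fun _ => rfl, fun _ => rfl⟩
  have h2 := H3.sum_card_fixedBy (G := Multiplicative (Fin 3 × Fin 3)) (Ω := L)
  have h3 : ∀ a : G, C₁[a⁻¹] = C₁[a] := fun a => by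
    rw [← cent_zpowers, zpowers_inv, cent_zpowers]
  have x2 : x ^ 2 = x⁻¹ := eq_inv_of_mul_eq_one_left (by rw [← pow_succ, hx])
  have y2 : y ^ 2 = y⁻¹ := eq_inv_of_mul_eq_one_left (by rw [← pow_succ, hy])
  have e1 : x⁻¹ * y = (x * y⁻¹)⁻¹ := by
    rw [mul_inv_rev, inv_inv]; exact (Commute.inv_left hc).eq
  have e2 : x⁻¹ * y⁻¹ = (x * y)⁻¹ := by rw [hc, mul_inv_rev]
  rw [← Multiplicative.ofAdd.sum_comp, Fintype.sum_prod_type] at h2
  simp only [h1, Fin.sum_univ_three, f, MonoidHom.coe_mk, OneHom.coe_mk, toAdd_ofAdd,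
    Fin.val_zero, Fin.val_one, Fin.val_two, pow_zero, pow_one, mul_one, one_mul, x2, y2, e1, e2,
    h3, cent1_one, inf_top_eq, Nat.card_eq_fintype_card (α := Multiplicative (Fin 3 × Fin 3)),
    Fintype.card_multiplicative, Fintype.card_prod, Fintype.card_fin] at h2
  omega

theorem exists_big (hT : IsPGroup 2 T) (hv : v ∈ T) (h4 : Nat.card ↥(C₁[v] ⊓ T) ≤ 4) :
    ∃ c : G, Nat.card T ≤ 2 * orderOf c := by
  obtain ⟨c, hc⟩ := taussky_aux _ T rfl hT
    ((index_commutator_le ⟨v, hv⟩).trans (card_cent1_coe hv ▸ h4))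
  refine ⟨c, ?_⟩
  rw [← (zpowers c).index_mul_card, Nat.card_zpowers, orderOf_coe]
  exact Nat.mul_le_mul_right _ hc

theorem card_two_eq (h : Nat.card L = 2) : ∃ s, s ≠ 1 ∧ s * s = 1 ∧ ∀ g, g ∈ L ↔ g = 1 ∨ g = s := by
  obtain ⟨s, hs, o⟩ := exists_orderOf_eq_prime Nat.prime_two (A := L) (h ▸ dvd_rfl)
  have s1 : s ≠ 1 := fun e => by simp [e] at o
  have s2 : s * s = 1 := by rw [← pow_two, ← o, pow_orderOf_eq_one]
  exact ⟨s, s1, s2, fun g => by
    rw [← zpowers_eq_of_card_prime (h ▸ Nat.prime_two) hs s1, mem_zpowers_invol s2]⟩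

omit [Finite G] in
theorem comm_of_sq (h3 : p ^ 3 = 1) (h : p * p * v = v * (p * p)) : p * v = v * p := by
  have : p = (p * p) ^ 2 := by rw [← pow_two, ← pow_mul, show 2 * 2 = 3 + 1 from rfl, pow_succ, h3,
    one_mul]
  rw [this]
  exact (Commute.pow_left h 2).eq

theorem mem_four (h : Nat.card L = 4) (hs : s ∈ L) (ht : t ∈ L) (s1 : s ≠ 1) (t1 : t ≠ 1)
    (st : s ≠ t) (s2 : s * s = 1) (hg : g ∈ L) : g = 1 ∨ g = s ∨ g = t ∨ g = s * t := by
  classical
  by_contra k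
  push Not at k
  have h1 : s * t ≠ 1 := fun e => st (mul_left_cancel (s2.trans e.symm))
  have h2 : ({g, 1, s, t, s * t} : Set G).ncard = 5 := by
    rw [Set.ncard_insert_of_notMem (by simp [k]), Set.ncard_insert_of_notMem
      (by simp [s1.symm, t1.symm, h1.symm]), Set.ncard_insert_of_notMem (by simp [st, t1]),
      Set.ncard_pair (by simp [s1])]
  have h3 := Set.ncard_le_ncard (s := {g, 1, s, t, s * t}) (t := (L : Set G)) (by
    simp [Set.insert_subset_iff, hg, hs, ht, mul_mem hs ht])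
  rw [h2, ← Nat.card_coe_set_eq, SetLike.coe_sort_coe, h] at h3
  omega

/-- an element of order three fixing an involution of a four-group centralizes it -/
theorem cent_four (h : Nat.card L = 4) (sq : ∀ g ∈ L, g * g = 1) (h3 : p ^ 3 = 1) (hp : p ∈ N[L])
    (hs : s ∈ L) (s1 : s ≠ 1) (hc : p * s = s * p) : p ∈ C[L] := by
  rw [mem_cent_iff]
  intro v hv
  by_cases v1 : v = 1
  · simp [v1]
  by_cases vs : s = v
  · rw [← vs, hc]
  have hc' := mul_inv_eq_iff_eq_mul.mpr hc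
  rcases mem_four h hs hv s1 v1 vs (sq s hs) (conj_mem_of_norm hp hv) with e | e | e | e
  · exact absurd (conj_eq_one_iff.mp e) v1
  · exact absurd (by simpa using hc'.trans e.symm) vs
  · exact (mul_inv_eq_iff_eq_mul.mp e).symm
  · refine (comm_of_sq h3 (mul_inv_eq_iff_eq_mul.mp ?_)).symm
    rw [← conj_conj, e, ← conj_mul, hc', e, ← mul_assoc, sq s hs, one_mul]

theorem relIndex_le_index (H K : Subgroup G) : H.relIndex K ≤ H.index := by
  rw [← relIndex_top_right]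
  exact relIndex_le_of_le_right le_top (relIndex_ne_zero' _ _)

theorem goursat {M : Type*} [Group M] [Finite M] {D : Subgroup (G × M)} {n : ℕ}
    (hc : Nat.card G = Nat.card M) (s1 : D.map (MonoidHom.fst G M) = ⊤)
    (s2 : D.map (MonoidHom.snd G M) = ⊤) (h2 : Nat.card D ≤ n * Nat.card M)
    (hn : ∀ K : Subgroup G, K.Normal → Nat.card K ≤ n → K = ⊥) : Nonempty (G ≃* M) := by
  let f : D →* G := (MonoidHom.fst G M).comp D.subtype
  let f' : D →* M := (MonoidHom.snd G M).comp D.subtype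
  have hf : Function.Surjective f := fun m => by
    obtain ⟨x, hx, rfl⟩ := (s1 ▸ mem_top m : m ∈ D.map (MonoidHom.fst G M))
    exact ⟨⟨x, hx⟩, rfl⟩
  have hf' : Function.Surjective f' := fun m => by
    obtain ⟨x, hx, rfl⟩ := (s2 ▸ mem_top m : m ∈ D.map (MonoidHom.snd G M))
    exact ⟨⟨x, hx⟩, rfl⟩
  have h3 := f'.ker.card_mul_index
  rw [index_ker, MonoidHom.range_eq_top.mpr hf', card_top] at h3
  have h4 := hn (f'.ker.map f) (Normal.map inferInstance f hf)
    ((Nat.le_of_dvd Nat.card_pos (card_map_dvd _ f)).trans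
      (Nat.le_of_mul_le_mul_right (h3 ▸ h2) Nat.card_pos))
  have h5 : Function.Injective f' := (injective_iff_map_eq_one f').mpr fun x hx =>
    Subtype.ext (Prod.ext (mem_bot.mp (h4 ▸ mem_map_of_mem f hx)) hx)
  have h6 := Nat.card_eq_of_bijective f' ⟨h5, hf'⟩
  exact ⟨(MulEquiv.ofBijective f (hf.bijective_of_nat_card_le (h6.trans hc.symm).le)).symm.trans
    (MulEquiv.ofBijective f' ⟨h5, hf'⟩)⟩

end Cfsg.Agent.Ma
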