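import Cfsg.Agent.H9.O11Def
import Cfsg.Agent.H7.BG.Pi

/-! Basic lemmas for S3403. -/

set_option autoImplicit false

namespace Cfsg.Agent.H9.O11

open Subgroup MulAction Cfsg.Agent.H7
open MulAut (conj)
open scoped Pointwise

variable {G : Type*} [Group G] {X Y : Subgroup G}

instance f11 : Fact (Nat.Prime 11) := ⟨by norm_num⟩
instance f5 : Fact (Nat.Prime 5) := ⟨by norm_num⟩

/-- `X` is a copy of `PSL(2,11)` or `J1`. -/
def Ln (X : Subgroup G) : Prop := LR X ∨ JF X

theorem ncard_modEq {Ω : Type*} [MulAction G Ω] {p : ℕ} [Fact p.Prime] {x : G} (hx : x ^ p = 1)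
    {S : Set Ω} (hS : S.Finite) (inv : ∀ s ∈ S, x • s ∈ S) :
    S.ncard ≡ {s | s ∈ S ∧ x • s = s}.ncard [MOD p] := by
  classical
  have := hS.fintype
  let f : Function.End S := fun s => ⟨x • s.1, inv _ s.2⟩
  have hf : ∀ (k : ℕ) (s : S), ((f ^ k) s).1 = x ^ k • s.1 := fun k => by
    induction k with
    | zero => intro s; rw [pow_zero, pow_zero, one_smul]; rfl
    | succ k ih => intro s; rw [pow_succ, pow_succ, mul_smul]; exact ih (f s)
  have h1 : f ^ p ^ 1 = 1 := by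
    funext s; apply Subtype.ext; rw [pow_one, hf, hx, one_smul]; rfl
  have h2 := Equiv.Perm.card_fixedPoints_modEq h1
  rw [← Nat.card_coe_set_eq, ← Nat.card_coe_set_eq, Nat.card_eq_fintype_card]
  convert h2 using 1
  rw [← Nat.card_eq_fintype_card]
  exact Nat.card_congr ⟨fun s => ⟨⟨s.1, s.2.1⟩, Subtype.ext s.2.2⟩,
    fun s => ⟨s.1.1, s.1.2, congrArg Subtype.val s.2⟩, fun _ => rfl, fun _ => rfl⟩

theorem ncard_orbit {Ω : Type*} [MulAction G Ω] (H : Subgroup G) (α : Ω) :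
    {β | ∃ x ∈ H, x • α = β}.ncard * Nat.card ↥(H ⊓ stabilizer G α) = Nat.card H := by
  rw [← card_inf_mul_relIndex (stabilizer G α) H, inf_comm, mul_comm, relIndex_stabilizer]
  congr 2
  ext β
  exact ⟨fun ⟨x, hx, e⟩ => ⟨⟨x, hx⟩, e⟩, fun ⟨x, e⟩ => ⟨x, x.2, e⟩⟩

theorem mem_smul_self (c : G) {x : G} (hx : x ∈ X) : c * x * c⁻¹ ∈ conj c • X :=
  conj_mem_conj_smul.2 hx

theorem orderOf_cj (c x : G) : orderOf (c * x * c⁻¹) = orderOf x :=
  (MulAut.conj c).orderOf_eq x

theorem LR.smul (h : LR X) (c : G) : LR (conj c • X) where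
  card := by rw [card_conj_smul, h.card]
  ord x hx := by
    obtain ⟨y, hy, rfl⟩ := mem_conj_smul_iff_exists.1 hx
    rw [orderOf_cj]; exact h.ord y hy
  simple := by haveI := h.simple; exact (conjEquiv c X).symm.isSimpleGroup
  seven := by
    classical
    obtain ⟨x, hx, ho, s, hs, h7⟩ := h.seven
    refine ⟨_, mem_smul_self c hx, by rw [orderOf_cj, ho], s.image (conj c),
      by rw [Finset.card_image_of_injective _ (conj c).injective, hs], fun y hy => ?_⟩
    obtain ⟨z, hz, rfl⟩ := Finset.mem_image.1 hy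
    obtain ⟨h1, h2, h3⟩ := h7 z hz
    exact ⟨mem_smul_self c h1, by rw [MulEquiv.orderOf_eq, h2], h3.map (conj c)⟩
  real3 z hz ho := by
    obtain ⟨y, hy, rfl⟩ := mem_conj_smul_iff_exists.1 hz
    obtain ⟨u, hu, e⟩ := h.real3 y hy (by rw [← ho, orderOf_cj])
    exact ⟨_, mem_smul_self c hu, by
      calc _ = c * (u * y * u⁻¹) * c⁻¹ := by group
        _ = _ := by rw [e]; group⟩
  iso := h.iso.map fun e => (conjEquiv c X).symm.trans e

theorem JR.smul {a g w r : G} {ι : alternatingGroup (Fin 5) →* G} (h : JR X a g w r ι) (c : G) :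
    JR (conj c • X) (conj c a) (conj c g) (conj c w) (conj c r) ((conj c).toMonoidHom.comp ι) where
  card := by rw [card_conj_smul, h.card]
  ord x hx := by
    obtain ⟨y, hy, rfl⟩ := mem_conj_smul_iff_exists.1 hx
    rw [orderOf_cj]; exact h.ord y hy
  ma := mem_smul_self c h.ma
  mg := mem_smul_self c h.mg
  mr := mem_smul_self c h.mr
  mι y := mem_smul_self c (h.mι y)
  oa := by rw [MulEquiv.orderOf_eq, h.oa]
  og := by rw [MulEquiv.orderOf_eq, h.og]
  ga := by rw [← map_inv, ← map_mul, ← map_mul, h.ga, map_pow]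
  inj := (conj c).injective.comp h.inj
  cι y := by rw [← map_pow]; exact (h.cι y).map (conj c)
  hι := by obtain ⟨y, e⟩ := h.hι; exact ⟨y, by rw [← map_pow, ← e]; rfl⟩
  wι := by obtain ⟨y, e⟩ := h.wι; exact ⟨y, by rw [← e]; rfl⟩
  ow := by rw [MulEquiv.orderOf_eq, h.ow]
  wh := by rw [← map_inv, ← map_pow, ← map_mul, ← map_mul, h.wh, map_inv]
  or := by rw [MulEquiv.orderOf_eq, h.or]
  rh := by rw [← map_pow]; exact h.rh.map (conj c)
  cls u hu ho := by
    obtain ⟨y, hy, rfl⟩ := mem_conj_smul_iff_exists.1 hu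
    obtain ⟨z, hz, e⟩ := h.cls y hy (by rw [← ho, orderOf_cj])
    exact ⟨_, mem_smul_self c hz, by rw [← e, ← map_pow, MulAut.conj_apply]; group⟩
  cent u hu hc := by
    obtain ⟨y, hy, rfl⟩ := mem_conj_smul_iff_exists.1 hu
    rw [← map_pow, ← MulAut.conj_apply] at hc
    obtain ⟨z, e | e⟩ := h.cent y hy (Commute.of_map (conj c).injective hc)
    · exact ⟨z, .inl (by rw [e]; rfl)⟩
    · exact ⟨z, .inr (by rw [e, ← map_pow, ← MulAut.conj_apply, map_mul]; rfl)⟩
  gen1 := by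
    rw [← h.gen1, smul_closure, Set.smul_set_insert, Set.smul_set_singleton]
    simp [mul_assoc]
  gen2 := by
    rw [← h.gen2, smul_closure, Set.smul_set_insert, Set.smul_set_insert, Set.smul_set_singleton]
    simp [mul_assoc]
  f2 y hy hc := by
    rw [← conj_smul_norm] at hy
    obtain ⟨z, hz, rfl⟩ := mem_conj_smul_iff_exists.1 hy
    rw [← MulAut.conj_apply] at hc
    obtain ⟨i, k, hk, e⟩ := h.f2 z hz (Commute.of_map (conj c).injective hc)
    exact ⟨i, _, conj_smul_cent c X ▸ mem_smul_self c hk, by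
      rw [e, ← map_pow, MulAut.conj_apply]; group⟩
  iso := h.iso.map fun e => (conjEquiv c X).symm.trans e

theorem JF.smul (h : JF X) (c : G) : JF (conj c • X) :=
  let ⟨_, _, _, _, _, h⟩ := h
  ⟨_, _, _, _, _, h.smul c⟩

theorem JF.card (h : JF X) : Nat.card X = 175560 := let ⟨_, _, _, _, _, h⟩ := h; h.card

theorem Ln.smul (h : Ln X) (c : G) : Ln (conj c • X) := h.imp (·.smul c) (·.smul c)

theorem Ln.card (h : Ln X) : Nat.card X = 660 ∨ Nat.card X = 175560 := h.imp LR.card JF.card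

theorem Ln.ord (h : Ln X) {x : G} (hx : x ∈ X) :
    orderOf x ∈ [1, 2, 3, 5, 6, 7, 10, 11, 15, 19] := by
  rcases h with h | ⟨_, _, _, _, _, h⟩
  · have := h.ord x hx
    simp only [List.mem_cons, List.not_mem_nil, or_false] at this ⊢
    omega
  · exact h.ord x hx

theorem Ln.lr (h : Ln X) (hc : Nat.card X ≤ 660) : LR X :=
  h.resolve_right fun k => by have := k.card; omega

theorem Ln.jf (h : Ln X) (hc : 660 < Nat.card X) : JF X :=
  h.resolve_left fun k => by have := k.card; omega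

theorem Ln.sylow [Finite G] (h : Ln X) {p : ℕ} [Fact p.Prime] (hp : p ≠ 2) {B : Subgroup G}
    (hB : B ≤ X) (hc : Nat.card B = p) : IsSylowIn p B X := by
  refine ⟨hB, IsPGroup.of_card (n := 1) (by rw [hc, pow_one]), fun k => ?_⟩
  have h1 := card_mul_relIndex hB
  rw [hc] at h1
  have h2 : p * p ∣ 175560 := by
    have : p * p ∣ Nat.card X := h1 ▸ Nat.mul_dvd_mul_left p k
    rcases h.card with e | e <;> rw [e] at this
    · exact this.trans (by norm_num)
    · exact this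
  have hq : p.Prime := Fact.out
  have h3 : p ∣ 175560 := (Dvd.intro _ rfl).trans h2
  have h4 : p ∈ Nat.primeFactors 175560 := Nat.mem_primeFactors.2 ⟨hq, h3, by norm_num⟩
  rw [show Nat.primeFactors 175560 = {2, 3, 5, 7, 11, 19} by decide +kernel] at h4
  simp only [Finset.mem_insert, Finset.mem_singleton] at h4
  rcases h4 with rfl | rfl | rfl | rfl | rfl | rfl <;> simp_all

/-- Two subgroups of the same odd prime order of a line are conjugate. -/
theorem Ln.conj_zpowers [Finite G] (h : Ln X) {p : ℕ} [Fact p.Prime] (hp : p ≠ 2) {x y : G}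
    (hx : x ∈ X) (hy : y ∈ X) (ox : orderOf x = p) (oy : orderOf y = p) :
    ∃ z ∈ X, zpowers (z * x * z⁻¹) = zpowers y := by
  obtain ⟨z, hz, e⟩ := (h.sylow hp (zpowers_le_of_mem hx) (by rw [Nat.card_zpowers, ox])).exists_conj
    (h.sylow hp (zpowers_le_of_mem hy) (by rw [Nat.card_zpowers, oy]))
  exact ⟨z, hz, by rw [← conj_smul_zpowers, e]⟩

/-- commuting elements of odd prime order in a line generate the same subgroup -/
theorem Ln.mem_zpowers [Finite G] (h : Ln X) {p : ℕ} [Fact p.Prime] (hp : p ≠ 2) {x y : G}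
    (hx : x ∈ X) (hy : y ∈ X) (ox : orderOf x = p) {n : ℕ} (oy : y ^ p ^ n = 1)
    (hc : y ∈ N[zpowers x]) : y ∈ zpowers x :=
  (h.sylow hp (zpowers_le_of_mem hx) (by rw [Nat.card_zpowers, ox])).le_of_norm
    (zpowers_le_of_mem hy) (IsPGroup.of_card_dvd_pow (n := n) (by
      rw [Nat.card_zpowers]; exact orderOf_dvd_of_pow_eq_one oy)) (zpowers_le_of_mem hc)
    (Subgroup.mem_zpowers y)

/-! ### the action on a group of order 11 -/

/-- exponent of the action of `g` on `⟨a⟩` -/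
noncomputable def ch (a g : G) : ZMod 11 :=
  open Classical in if h : ∃ i : ZMod 11, g * a * g⁻¹ = a ^ i.val then h.choose else 0

section ch
variable {a g g' : G} (oa : orderOf a = 11)
include oa

theorem pow_val_inj {i j : ZMod 11} (h : a ^ i.val = a ^ j.val) : i = j := by
  rw [pow_eq_pow_iff_modEq, oa] at h
  exact ZMod.val_injective _ (Nat.ModEq.eq_of_lt_of_lt h (ZMod.val_lt i) (ZMod.val_lt j))

theorem pow_val_cast (n : ℕ) : a ^ (n : ZMod 11).val = a ^ n := by
  rw [ZMod.val_natCast, ← oa, pow_mod_orderOf]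

theorem exists_val {x : G} (hx : x ∈ zpowers a) : ∃ i : ZMod 11, x = a ^ i.val := by
  obtain ⟨n, rfl⟩ := (IsOfFinOrder.mem_powers_iff_mem_zpowers
    (by rw [← orderOf_pos_iff, oa]; norm_num)).2 hx
  exact ⟨n, (pow_val_cast oa n).symm⟩

theorem pow_val_add (i j : ZMod 11) : a ^ (i + j).val = a ^ i.val * a ^ j.val := by
  rw [← pow_add, ← pow_val_cast oa (i.val + j.val)]; simp

theorem pow_val_mul (i j : ZMod 11) : a ^ (i * j).val = (a ^ i.val) ^ j.val := by
  rw [← pow_mul, ← pow_val_cast oa (i.val * j.val)]; simp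

theorem ch_spec (hg : g ∈ N[zpowers a]) : g * a * g⁻¹ = a ^ (ch a g).val := by
  have h := exists_val oa (conj_mem_of_norm hg (mem_zpowers a))
  rw [ch, dif_pos h]; exact h.choose_spec

theorem ch_eq (hg : g ∈ N[zpowers a]) {i : ZMod 11} (h : g * a * g⁻¹ = a ^ i.val) : ch a g = i :=
  pow_val_inj oa ((ch_spec oa hg).symm.trans h)

theorem ch_pw (hg : g ∈ N[zpowers a]) (i : ZMod 11) :
    g * a ^ i.val * g⁻¹ = a ^ (ch a g * i).val := by
  rw [pow_val_mul oa, ← ch_spec oa hg, conj_pow]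

theorem ch_mul (hg : g ∈ N[zpowers a]) (hg' : g' ∈ N[zpowers a]) :
    ch a (g * g') = ch a g * ch a g' :=
  ch_eq oa (mul_mem hg hg') (by rw [← ch_pw oa hg, ← ch_spec oa hg']; group)

theorem ch_eq_one (hg : g ∈ N[zpowers a]) : ch a g = 1 ↔ g ∈ C[zpowers a] := by
  rw [cent_zpowers, mem_cent1_iff, ← mul_inv_eq_iff_eq_mul]
  exact ⟨fun h => by rw [ch_spec oa hg, h]; exact pow_one a,
    fun h => ch_eq oa hg (h.trans (pow_one a).symm)⟩

theorem ch_one : ch a 1 = 1 := (ch_eq_one oa (one_mem _)).2 (one_mem _)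

theorem ch_pow (hg : g ∈ N[zpowers a]) (n : ℕ) : ch a (g ^ n) = ch a g ^ n := by
  induction n with
  | zero => simpa using ch_one oa
  | succ n ih => rw [pow_succ, ch_mul oa (pow_mem hg n) hg, ih, pow_succ]

theorem ch_inv_mul (hg : g ∈ N[zpowers a]) : ch a g⁻¹ * ch a g = 1 := by
  rw [← ch_mul oa (inv_mem hg) hg, inv_mul_cancel, ch_one oa]

theorem ch_ne_zero (hg : g ∈ N[zpowers a]) : ch a g ≠ 0 := fun h => by
  have := ch_inv_mul oa hg
  rw [h, mul_zero] at this
  exact absurd this (by decide)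

theorem mul_inv_mem_of_ch (hg : g ∈ N[zpowers a]) (hg' : g' ∈ N[zpowers a])
    (h : ch a g = ch a g') : g'⁻¹ * g ∈ C[zpowers a] :=
  (ch_eq_one oa (mul_mem (inv_mem hg') hg)).1 (by
    rw [ch_mul oa (inv_mem hg') hg, h, ch_inv_mul oa hg'])

theorem exists_pow_of_five {h : G} (hg : g ∈ N[zpowers a]) (hh : h ∈ N[zpowers a])
    (h5 : h ^ 5 = 1) (h1 : h ∉ C[zpowers a]) (g5 : g ^ 5 ∈ C[zpowers a]) :
    ∃ i : ℕ, (h ^ i)⁻¹ * g ∈ C[zpowers a] := by
  have k : ∀ x y : ZMod 11, x ^ 5 = 1 → y ^ 5 = 1 → y ≠ 1 → ∃ i : Fin 5, x = y ^ i.1 := by decide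
  obtain ⟨i, e⟩ := k (ch a g) (ch a h)
    (by rw [← ch_pow oa hg, ch_eq_one oa (pow_mem hg 5)]; exact g5)
    (by rw [← ch_pow oa hh, h5, ch_one oa]) (mt (ch_eq_one oa hh).1 h1)
  exact ⟨i, mul_inv_mem_of_ch oa hg (pow_mem hh _) (by rw [ch_pow oa hh, e])⟩

theorem pow_ten_mem (hg : g ∈ N[zpowers a]) : g ^ 10 ∈ C[zpowers a] := by
  have k : ∀ x : ZMod 11, x ≠ 0 → x ^ 10 = 1 := by decide
  rw [← ch_eq_one oa (pow_mem hg 10), ch_pow oa hg]
  exact k _ (ch_ne_zero oa hg)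

theorem comm_mem_cent (hg : g ∈ N[zpowers a]) (hg' : g' ∈ N[zpowers a]) :
    (g' * g)⁻¹ * (g * g') ∈ C[zpowers a] :=
  mul_inv_mem_of_ch oa (mul_mem hg hg') (mul_mem hg' hg) (by
    rw [ch_mul oa hg hg', ch_mul oa hg' hg, mul_comm])

theorem inverts_of_sq (hg : g ∈ N[zpowers a]) (h2 : g * g ∈ C[zpowers a])
    (h1 : g ∉ C[zpowers a]) : ch a g = -1 := by
  have k : ∀ x : ZMod 11, x * x = 1 → x ≠ 1 → x = -1 := by decide
  exact k _ (by rw [← ch_mul oa hg hg, ch_eq_one oa (mul_mem hg hg)]; exact h2)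
    (mt (ch_eq_one oa hg).1 h1)

end ch

end Cfsg.Agent.H9.O11
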