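import Cfsg.Agent.H9.O11Base

/-! Points and lines for S3403. -/

set_option autoImplicit false

namespace Cfsg.Agent.H9.O11

open Subgroup MulAction Cfsg.Agent.H7
open MulAut (conj)
open scoped Pointwise

variable {G : Type*} [Group G] [Finite G] {X Y : Subgroup G} {Ω : Type*} [MulAction G Ω]
  {A : Ω → Subgroup G} {α β γ δ : Ω} {g x y h : G}

namespace Geo

variable (hA : Geo A)
include hA

theorem finite : Finite Ω := Finite.of_injective A hA.inj

theorem fix_iff : g • α = α ↔ g ∈ N[A α] :=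
  ⟨fun e => mem_norm_of_conj_smul_eq (by rw [← hA.smul, e]),
    fun e => hA.inj (by rw [hA.smul, conj_smul_of_norm e])⟩

theorem exists_gen (α : Ω) : ∃ a, orderOf a = 11 ∧ A α = zpowers a := by
  obtain ⟨a, ha, oa⟩ := exists_orderOf_eq_prime f11.out (hA.card α).symm.dvd
  exact ⟨a, oa, (zpowers_eq_of_card_prime (by rw [hA.card]; norm_num) ha
    (by rintro rfl; simp at oa)).symm⟩

theorem fix_of_mem (hx : x ∈ A α) : x • α = α := hA.fix_iff.2 (le_norm_self _ hx)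

theorem fix_of_cent (hx : x ∈ C[A α]) : x • α = α := hA.fix_iff.2 (cent_le_norm _ hx)

theorem le_cent (α : Ω) : A α ≤ C[A α] := by
  obtain ⟨a, -, e⟩ := hA.exists_gen α
  rw [e, cent_zpowers]; exact zpowers_le_of_mem (mem_cent1_self a)

theorem pow11 (hx : x ∈ A α) : x ^ 11 = 1 := hA.card α ▸ pow_card_eq_one_of_mem hx

theorem ord11 (hx : x ∈ A α) (h1 : x ≠ 1) : orderOf x = 11 := orderOf_eq_prime (hA.pow11 hx) h1

theorem zp_eq (hx : x ∈ A α) (h1 : x ≠ 1) : zpowers x = A α :=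
  zpowers_eq_of_card_prime (by rw [hA.card]; norm_num) hx h1

theorem isP (α : Ω) : IsPGroup 11 (A α) := IsPGroup.of_card (n := 1) (by rw [hA.card, pow_one])

theorem ln (h : α ≠ β) : Ln (A α ⊔ A β) := hA.pair α β h

theorem eq_of_pg {P : Subgroup G} (hP : IsPGroup 11 P) (h1 : A α ≤ P) (h2 : A β ≤ P) : α = β := by
  by_contra h
  obtain ⟨n, hn⟩ := (hP.to_le (sup_le h1 h2)).exists_card_eq
  have h3 : 2 ∣ 11 ^ n := by rcases (hA.ln h).card with e | e <;> rw [← hn, e] <;> norm_num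
  exact absurd (Nat.prime_two.dvd_of_dvd_pow h3) (by norm_num)

theorem eq_of_fix (hx : x ∈ A α) (h1 : x ≠ 1) (h : x • β = β) : β = α :=
  (hA.eq_of_pg ((hA.isP α).to_sup_of_normal_right' (hA.isP β)
    (hA.zp_eq hx h1 ▸ zpowers_le_of_mem (hA.fix_iff.1 h))) le_sup_left le_sup_right).symm

theorem eq_of_cent (h : A α ≤ C[A β]) : β = α := by
  obtain ⟨a, oa, e⟩ := hA.exists_gen α
  have ha : a ∈ A α := e ▸ mem_zpowers a
  exact hA.eq_of_fix ha (by rintro rfl; simp at oa) (hA.fix_of_cent (h ha))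

theorem smul_le_smul : A (g • γ) ≤ conj g • X ↔ A γ ≤ X := by rw [hA.smul, conj_smul_le_iff]

theorem smul_le (hg : g ∈ N[X]) (h : A γ ≤ X) : A (g • γ) ≤ X := by
  rw [hA.smul]; exact conj_smul_le_of_norm hg h

theorem smul_le' (hg : g ∈ X) (h : A γ ≤ X) : A (g • γ) ≤ X := hA.smul_le (le_norm_self _ hg) h

theorem smul_sup (g : G) (α β : Ω) : conj g • (A α ⊔ A β) = A (g • α) ⊔ A (g • β) := by
  rw [conj_smul_sup, hA.smul, hA.smul]

theorem norm_sup (h1 : g • α = α) (h2 : g • β = β) : g ∈ N[A α ⊔ A β] :=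
  mem_norm_of_conj_smul_eq (by rw [hA.smul_sup, h1, h2])

theorem norm_sup' (h1 : g • α = β) (h2 : g • β = α) : g ∈ N[A α ⊔ A β] :=
  mem_norm_of_conj_smul_eq (by rw [hA.smul_sup, h1, h2, sup_comm])

theorem fix_of_centX (hα : A α ≤ X) (hx : x ∈ C[X]) : x • α = α := hA.fix_of_cent (cent_anti hα hx)

theorem cent_smul (hx : x ∈ C[A α]) (g : G) : g * x * g⁻¹ ∈ C[A (g • α)] := by
  rw [hA.smul, ← conj_smul_cent]; exact mem_smul_self g hx

theorem conj_in (hX : Ln X) (hα : A α ≤ X) (hβ : A β ≤ X) : ∃ x ∈ X, x • α = β := by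
  obtain ⟨x, hx, e⟩ := (hX.sylow (by norm_num) hα (hA.card α)).exists_conj
    (hX.sylow (by norm_num) hβ (hA.card β))
  exact ⟨x, hx, hA.inj (by rw [hA.smul, e])⟩

theorem point_of_order (hX : Ln X) (hα : A α ≤ X) (hx : x ∈ X) (ox : orderOf x = 11) :
    ∃ β, A β = zpowers x := by
  obtain ⟨z, -, e⟩ := (hX.sylow (by norm_num) hα (hA.card α)).exists_conj
    (hX.sylow (p := 11) (by norm_num) (zpowers_le_of_mem hx) (by rw [Nat.card_zpowers, ox]))
  exact ⟨z • α, by rw [hA.smul, e]⟩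

theorem cent_pt (hX : Ln X) (hα : A α ≤ X) (hx : x ∈ X) (hc : x ∈ C[A α]) : x ∈ A α := by
  obtain ⟨a, oa, e⟩ := hA.exists_gen α
  have ha : a ∈ X := hα (e ▸ mem_zpowers a)
  have hc' : Commute a x := commute_of_mem_cent hc (e ▸ mem_zpowers a)
  by_cases k : orderOf x = 11
  · rw [e] at hc ⊢
    exact hX.mem_zpowers (n := 1) (by norm_num) ha hx oa (by rw [pow_one, ← k, pow_orderOf_eq_one])
      (cent_le_norm _ hc)
  have h1 := hX.ord hx
  have h2 := hX.ord (mul_mem ha hx)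
  simp only [List.mem_cons, List.not_mem_nil, or_false] at h1 h2
  rw [hc'.orderOf_mul_eq_mul_orderOf_of_coprime (by
    rw [oa]; rcases h1 with h | h | h | h | h | h | h | h | h | h <;>
      first | exact absurd h k | (rw [h]; norm_num)), oa] at h2
  rw [orderOf_eq_one_iff.1 (by omega : orderOf x = 1)]
  exact one_mem _

theorem jr_at (hX : JF X) (hα : A α ≤ X) : ∃ a g w r ι, JR X a g w r ι ∧ A α = zpowers a := by
  obtain ⟨a, g, w, r, ι, h⟩ := hX
  obtain ⟨β, e⟩ := hA.point_of_order (.inr ⟨_, _, _, _, _, h⟩) hα h.ma h.oa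
  obtain ⟨x, hx, rfl⟩ := hA.conj_in (.inr ⟨_, _, _, _, _, h⟩) (e ▸ zpowers_le_of_mem h.ma) hα
  have := h.smul x
  rw [conj_smul_of_norm (le_norm_self _ hx)] at this
  exact ⟨_, _, _, _, _, this, by rw [hA.smul, e, conj_smul_zpowers]; rfl⟩

theorem jf_pair (hX : JF X) (hα : A α ≤ X) : ∃ β, β ≠ α ∧ A α ⊔ A β = X := by
  obtain ⟨a, g, w, r, ι, h, e⟩ := hA.jr_at hX hα
  have e2 : A α ⊔ A (r • α) = X := by
    rw [hA.smul, e, conj_smul_zpowers, ← h.gen1, zpowers_eq_closure, zpowers_eq_closure,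
      ← Subgroup.closure_union]; rfl
  refine ⟨r • α, fun k => ?_, e2⟩
  rw [k, sup_idem] at e2
  have := h.card
  rw [← e2, hA.card] at this
  omega

theorem sup_eq (hX : LR X) (hα : A α ≤ X) (hβ : A β ≤ X) (h : α ≠ β) : A α ⊔ A β = X :=
  eq_of_le_of_card_ge (sup_le hα hβ) (by rw [hX.card]; rcases (hA.ln h).card with e | e <;> omega)

theorem exists_second (hX : Ln X) (hα : A α ≤ X) : ∃ β, β ≠ α ∧ A β ≤ X := by
  rcases hX with hX | hX
  · by_contra! k
    have hn : ((A α).subgroupOf X).Normal := (normal_subgroupOf_iff_le_normalizer hα).2 fun x hx =>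
      hA.fix_iff.1 (by by_contra e; exact k _ e (hA.smul_le' hx hα))
    haveI := hX.simple
    have c := Nat.card_congr (subgroupOfEquivOfLe hα).toEquiv
    rw [hA.card] at c
    rcases hn.eq_bot_or_eq_top with e | e <;> rw [e] at c
    · simp at c
    · rw [card_top, hX.card] at c; omega
  · obtain ⟨β, h1, h2⟩ := hA.jf_pair hX hα
    exact ⟨β, h1, h2 ▸ le_sup_right⟩

theorem exists_pair (hX : Ln X) (hα : A α ≤ X) : ∃ β, β ≠ α ∧ A α ⊔ A β = X := by
  rcases hX with hX | hX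
  · obtain ⟨β, h1, h2⟩ := hA.exists_second (.inl hX) hα
    exact ⟨β, h1, hA.sup_eq hX hα h2 h1.symm⟩
  · exact hA.jf_pair hX hα

theorem eq_one_of_cent (hX : Ln X) (hα : A α ≤ X) (hx : x ∈ X) (hc : x ∈ C[X]) : x = 1 := by
  obtain ⟨β, h1, h2⟩ := hA.exists_second hX hα
  by_contra k
  exact h1 (hA.eq_of_fix (hA.cent_pt hX hα hx (cent_anti hα hc)) k (hA.fix_of_centX h2 hc))

/-- an `A α`-invariant set of points through `α` -/
theorem ncard_mod {S : Set Ω} (hα : α ∈ S) (inv : ∀ x ∈ A α, ∀ s ∈ S, x • s ∈ S) :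
    S.ncard % 11 = 1 := by
  have := hA.finite
  obtain ⟨a, oa, e⟩ := hA.exists_gen α
  have ha : a ∈ A α := e ▸ mem_zpowers a
  have h1 := ncard_modEq (hA.pow11 ha) S.toFinite (inv a ha)
  rwa [show {s | s ∈ S ∧ a • s = s} = {α} from Set.eq_singleton_iff_unique_mem.2
    ⟨⟨hα, hA.fix_of_mem ha⟩, fun s hs => hA.eq_of_fix ha (by rintro rfl; simp at oa) hs.2⟩,
    Set.ncard_singleton] at h1

theorem stab_eq (α : Ω) : stabilizer G α = N[A α] := Subgroup.ext fun _ => hA.fix_iff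

theorem card_pts (hX : Ln X) (hα : A α ≤ X) :
    {γ | A γ ≤ X}.ncard * Nat.card ↥(X ⊓ N[A α]) = Nat.card X := by
  rw [← ncard_orbit X α, hA.stab_eq]
  congr 2
  ext γ
  exact ⟨hA.conj_in hX hα, fun ⟨x, hx, e⟩ => e ▸ hA.smul_le' hx hα⟩

theorem relIndex_dvd (H : Subgroup G) (α : Ω) : C[A α].relIndex (H ⊓ N[A α]) ∣ 10 := by
  refine (relIndex_dvd_of_norm (L := N[A α]) (norm_le_norm_cent _) inf_le_right).trans ?_
  obtain ⟨a, oa, e⟩ := hA.exists_gen α
  have : IsCyclic (A α) := e ▸ inferInstance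
  have h1 := card_dvd_of_injective _ (QuotientGroup.kerLift_injective (A α).normalizerMonoidHom)
  rw [IsCyclic.card_mulAut, hA.card, normalizerMonoidHom_ker] at h1
  exact h1

theorem card_norm_dvd (hX : Ln X) (hα : A α ≤ X) :
    ∃ e, e ∣ 10 ∧ Nat.card ↥(X ⊓ N[A α]) = 11 * e := by
  refine ⟨_, hA.relIndex_dvd X α, ?_⟩
  rw [← card_inf_mul_relIndex C[A α], ← hA.card α]
  congr 2
  refine congrArg _ (le_antisymm (fun x hx => hA.cent_pt hX hα hx.2.1 hx.1)
    (le_inf (hA.le_cent α) (le_inf hα (le_norm_self _))))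

theorem card_pts_L (hX : LR X) (hα : A α ≤ X) :
    {γ | A γ ≤ X}.ncard = 12 ∧ Nat.card ↥(X ⊓ N[A α]) = 55 := by
  have h1 := hA.card_pts (.inl hX) hα
  have h2 := hA.ncard_mod (S := {γ | A γ ≤ X}) hα fun x hx s hs => hA.smul_le' (hα hx) hs
  obtain ⟨e, he, h3⟩ := hA.card_norm_dvd (.inl hX) hα
  rw [hX.card, h3] at h1
  have := Nat.le_of_dvd (by norm_num) he
  interval_cases e <;> omega

theorem card_pts_J (hX : JF X) (hα : A α ≤ X) :
    {γ | A γ ≤ X}.ncard = 1596 ∧ Nat.card ↥(X ⊓ N[A α]) = 110 := by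
  have h1 := hA.card_pts (.inr hX) hα
  have h2 := hA.ncard_mod (S := {γ | A γ ≤ X}) hα fun x hx s hs => hA.smul_le' (hα hx) hs
  obtain ⟨e, he, h3⟩ := hA.card_norm_dvd (.inr hX) hα
  rw [hX.card, h3] at h1
  have := Nat.le_of_dvd (by norm_num) he
  interval_cases e <;> omega

/-- a point normalizing a line lies on it -/
theorem le_of_norm (hX : Ln X) (hα : A α ≤ X) (hβ : A β ≤ N[X]) : A β ≤ X := by
  have := hA.finite
  obtain ⟨b, ob, e⟩ := hA.exists_gen β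
  have hb : b ∈ A β := e ▸ mem_zpowers b
  have h1 := ncard_modEq (hA.pow11 hb) {γ | A γ ≤ X}.toFinite fun s hs => hA.smul_le (hβ hb) hs
  have h2 := hA.ncard_mod (S := {γ | A γ ≤ X}) hα fun x hx s hs => hA.smul_le' (hα hx) hs
  obtain ⟨γ, h3, h4⟩ : {s | s ∈ {γ | A γ ≤ X} ∧ b • s = s}.Nonempty := by
    rw [Set.nonempty_iff_ne_empty]
    intro k
    rw [k, Set.ncard_empty, Nat.ModEq, h2] at h1
    omega
  exact hA.eq_of_fix hb (by rintro rfl; simp at ob) h4 ▸ h3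

theorem exists_h (hX : Ln X) (hα : A α ≤ X) : ∃ h ∈ X, orderOf h = 5 ∧ h • α = α := by
  obtain ⟨h, hh, oh⟩ := exists_orderOf_eq_prime (A := X ⊓ N[A α]) f5.out (by
    rcases hX with hX | hX
    · rw [(hA.card_pts_L hX hα).2]; norm_num
    · rw [(hA.card_pts_J hX hα).2]; norm_num)
  exact ⟨h, hh.1, oh, hA.fix_iff.2 hh.2⟩

theorem not_cent (hX : Ln X) (hα : A α ≤ X) (hx : x ∈ X) (h1 : x ≠ 1) (ho : orderOf x ≠ 11) :
    x ∉ C[A α] := fun k => ho (hA.ord11 (hA.cent_pt hX hα hx k) h1)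

theorem exists_pow_five (hh : h • α = α) (h5 : h ^ 5 = 1) (h1 : h ∉ C[A α]) (hg : g • α = α)
    (g5 : g ^ 5 ∈ C[A α]) : ∃ i : ℕ, (h ^ i)⁻¹ * g ∈ C[A α] := by
  obtain ⟨a, oa, e⟩ := hA.exists_gen α
  rw [hA.fix_iff] at hh hg
  rw [e] at hh hg h1 g5 ⊢
  exact exists_pow_of_five oa hg hh h5 h1 g5

theorem pow_ten (hg : g • α = α) : g ^ 10 ∈ C[A α] := by
  obtain ⟨a, oa, e⟩ := hA.exists_gen α
  rw [hA.fix_iff] at hg
  rw [e] at hg ⊢
  exact pow_ten_mem oa hg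

theorem comm_cent (hg : g • α = α) (hh : h • α = α) : (h * g)⁻¹ * (g * h) ∈ C[A α] := by
  obtain ⟨a, oa, e⟩ := hA.exists_gen α
  rw [hA.fix_iff] at hh hg
  rw [e] at hh hg ⊢
  exact comm_mem_cent oa hg hh

/-- an element fixing `α` and normalizing `⟨h⟩` centralizes `h` -/
theorem commute_of_fix (hh : h • α = α) (h5 : orderOf h = 5) (h1 : h ∉ C[A α]) (hg : g • α = α)
    (hn : g ∈ N[zpowers h]) : Commute g h := by
  have k := hA.comm_cent hg hh
  have k2 : g * ((h * g)⁻¹ * (g * h)) * g⁻¹ ∈ zpowers h := by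
    rw [show g * ((h * g)⁻¹ * (g * h)) * g⁻¹ = h⁻¹ * (g * h * g⁻¹) by group]
    exact mul_mem (inv_mem (mem_zpowers h)) (conj_mem_of_norm hn (mem_zpowers h))
  have k3 := hA.cent_smul k g
  rw [hg] at k3
  rcases inf_eq_bot_or_le_of_card_prime (B := zpowers h) C[A α]
    (by rw [Nat.card_zpowers, h5]; norm_num) with e | e
  · have := eq_one_of_mem_inf e k2 k3
    rw [mul_inv_eq_one, mul_eq_left, inv_mul_eq_one] at this
    exact this.symm
  · exact absurd (e (mem_zpowers h)) h1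

end Geo

end Cfsg.Agent.H9.O11
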