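import Cfsg.Agent.H9.O11Geo
import Cfsg.Agent.H3.ZassOdd

/-! Lines of type `PSL(2,11)` for S3403. -/

set_option autoImplicit false

namespace Cfsg.Agent.H9.O11

open Subgroup MulAction Cfsg.Agent.H7
open MulAut (conj)
open scoped Pointwise

variable {G : Type*} [Group G] [Finite G] {X Y : Subgroup G} {Ω : Type*} [MulAction G Ω]
  {A : Ω → Subgroup G} {α β γ δ : Ω} {g x y h u w : G}

omit [Finite G] in
theorem mem_XK : g ∈ X ⊔ C[X] ↔ ∃ x ∈ X, ∃ k ∈ C[X], x * k = g := mem_sup_of_norm (cent_le_norm X)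

omit [Finite G] in
theorem ne_one_of_ord {n : ℕ} (h : orderOf x = n + 2) : x ≠ 1 := by rintro rfl; simp at h

omit [Finite G] in
theorem sq_of_ord (h : orderOf x = 2) : x * x = 1 := by rw [← sq, ← h, pow_orderOf_eq_one]

omit [Finite G] in
theorem inv_of_ord (h : orderOf x = 2) : x⁻¹ = x := inv_eq_of_mul_eq_one_right (sq_of_ord h)

omit [Finite G] in
theorem ord_two (h : x * x = 1) (h1 : x ≠ 1) : orderOf x = 2 := orderOf_eq_prime (by rw [sq, h]) h1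

omit [Finite G] in
theorem pow5 (h : orderOf x = 5) : x ^ 5 = 1 := h ▸ pow_orderOf_eq_one x

theorem exists_pow_of_mem (hx : x ∈ zpowers y) : ∃ i : ℕ, x = y ^ i := by
  obtain ⟨n, rfl⟩ := (isOfFinOrder_of_finite y).mem_powers_iff_mem_zpowers.2 hx
  exact ⟨n, rfl⟩

omit [Finite G] in
theorem LR.map_eq_one (hX : LR X) {B : Type*} [CommGroup B] {H : Subgroup G} (hH : X ≤ H)
    (φ : H →* B) (hx : x ∈ X) : φ ⟨x, hH hx⟩ = 1 := by
  haveI := hX.simple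
  refine H3.map_eq_one_of_simple ?_ (φ.comp (inclusion hH)) mul_comm ⟨x, hx⟩
  by_contra! k
  letI : CommGroup X := { mul_comm := k }
  have := IsSimpleGroup.prime_card (α := X)
  rw [hX.card] at this
  norm_num at this

namespace Geo

variable (hA : Geo A)
include hA

theorem L_trans (hX : LR X) (hα : A α ≤ X) (hβ : A β ≤ X) (hγ : A γ ≤ X) (h1 : β ≠ α)
    (h2 : γ ≠ α) : ∃ c ∈ A α, c • β = γ := by
  have := hA.finite
  have k1 := ncard_orbit (A α) β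
  rw [inf_eq_bot_of_forall fun x hx e => by_contra fun k => h1 (hA.eq_of_fix hx k e), card_bot,
    hA.card, mul_one] at k1
  have k2 : {δ | ∃ x ∈ A α, x • β = δ} = {δ | A δ ≤ X} \ {α} := Set.eq_of_subset_of_ncard_le
    (fun δ ⟨x, hx, e⟩ => ⟨e ▸ hA.smul_le' (hα hx) hβ, fun k => h1 (by
      rw [← inv_smul_smul x β, e, show δ = α from k, hA.fix_of_mem (inv_mem hx)])⟩)
    (by rw [Set.ncard_sdiff_singleton_of_mem (show α ∈ {δ | A δ ≤ X} from hα),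
      (hA.card_pts_L hX hα).1, k1])
  exact (k2 ▸ ⟨hγ, h2⟩ : γ ∈ {δ | ∃ x ∈ A α, x • β = δ})

theorem L_two (hX : LR X) (hα : A α ≤ X) (hβ : A β ≤ X) (hγ : A γ ≤ X) (hδ : A δ ≤ X)
    (h1 : α ≠ β) (h2 : γ ≠ δ) : ∃ x ∈ X, x • α = γ ∧ x • β = δ := by
  obtain ⟨x, hx, rfl⟩ := hA.conj_in (.inl hX) hα hγ
  obtain ⟨c, hc, e⟩ := hA.L_trans hX hγ (hA.smul_le' hx hβ) hδ
    (fun k => h1 (smul_left_cancel x k).symm) h2.symm
  exact ⟨c * x, mul_mem (hγ hc) hx, by rw [mul_smul, hA.fix_of_mem hc], by rw [mul_smul, e]⟩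

theorem L_h0 (hX : LR X) (hα : A α ≤ X) (hh : h ∈ X) (oh : orderOf h = 5) (e : h • α = α) :
    ∃ β, β ≠ α ∧ A β ≤ X ∧ h • β = β := by
  have := hA.finite
  have k := ncard_modEq (pow5 oh) {γ | A γ ≤ X}.toFinite fun s hs => hA.smul_le' hh hs
  rw [(hA.card_pts_L hX hα).1] at k
  by_contra! c
  rw [show {s | s ∈ {γ | A γ ≤ X} ∧ h • s = s} = {α} from Set.eq_singleton_iff_unique_mem.2
    ⟨⟨hα, e⟩, fun s hs => by_contra fun k => c s k hs.1 hs.2⟩, Set.ncard_singleton] at k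
  exact absurd k (by decide)

theorem L_h (hX : LR X) (hα : A α ≤ X) (hβ : A β ≤ X) (h1 : α ≠ β) :
    ∃ h ∈ X, orderOf h = 5 ∧ h • α = α ∧ h • β = β := by
  obtain ⟨h, hh, oh, e⟩ := hA.exists_h (.inl hX) hα
  obtain ⟨γ, h2, hγ, e'⟩ := hA.L_h0 hX hα hh oh e
  obtain ⟨x, hx, e1, e2⟩ := hA.L_two hX hα hγ hα hβ h2.symm h1
  refine ⟨x * h * x⁻¹, mul_mem (mul_mem hx hh) (inv_mem hx), by rw [orderOf_cj, oh], ?_, ?_⟩
  · rw [mul_smul, mul_smul, inv_smul_eq_iff.2 e1.symm, e, e1]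
  · rw [mul_smul, mul_smul, inv_smul_eq_iff.2 e2.symm, e', e2]

theorem L_pow5 (hX : LR X) (hα : A α ≤ X) (hg : g ∈ X) (e : g • α = α) : g ^ 5 ∈ C[A α] := by
  have k1 := pow_card_eq_one_of_mem (A := X ⊓ N[A α]) ⟨hg, hA.fix_iff.1 e⟩
  rw [(hA.card_pts_L hX hα).2] at k1
  rw [show g ^ 5 = g ^ 55 * ((g ^ 10) ^ 5)⁻¹ by group, k1, one_mul]
  exact inv_mem (pow_mem (hA.pow_ten e) 5)

theorem L_stab (hX : LR X) (hα : A α ≤ X) (h1 : α ≠ β) (hh : h ∈ X) (oh : orderOf h = 5)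
    (e1 : h • α = α) (e2 : h • β = β) (hg : g ∈ X) (e3 : g • α = α) (e4 : g • β = β) :
    g ∈ zpowers h := by
  obtain ⟨i, k⟩ := hA.exists_pow_five e1 (pow5 oh) (hA.not_cent (.inl hX) hα hh (ne_one_of_ord oh)
    (by omega)) e3 (hA.L_pow5 hX hα hg e3)
  have k2 := hA.cent_pt (.inl hX) hα (mul_mem (inv_mem (pow_mem hh i)) hg) k
  have k3 : (h ^ i)⁻¹ * g = 1 := by_contra fun c => h1 (hA.eq_of_fix k2 c
    (mul_mem (inv_mem (pow_mem (mem_stabilizer_iff.2 e2) i)) (mem_stabilizer_iff.2 e4))).symm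
  rw [← inv_mul_eq_one.1 k3]
  exact pow_mem (mem_zpowers h) i

theorem L_swap (hX : LR X) (hα : A α ≤ X) (h1 : α ≠ β) (hh : h ∈ X) (oh : orderOf h = 5)
    (e1 : h • α = α) (e2 : h • β = β) (hw : w ∈ X) (ow : orderOf w = 2) (e3 : w • α = β)
    (e4 : w • β = α) : w * h * w⁻¹ = h⁻¹ := by
  have k := hA.L_stab hX hα h1 hh oh e1 e2 (mul_mem (mul_mem hw hh) (mul_mem hw hh))
    (by simp only [mul_smul, e1, e2, e3, e4]) (by simp only [mul_smul, e1, e2, e3, e4])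
  have k1 : (w * h) ^ 10 = 1 := by
    rw [show 10 = 2 * 5 from rfl, pow_mul, sq, ← oh, ← Nat.card_zpowers]
    exact pow_card_eq_one_of_mem k
  have k2 := orderOf_dvd_of_pow_eq_one k1
  have k3 := hX.ord _ (mul_mem hw hh)
  have k4 : ¬ orderOf (w * h) ∣ 5 := fun c => h1 (by
    have c1 := orderOf_dvd_iff_pow_eq_one.1 c
    have c2 : (w * h) ^ 5 • α = β := by simp only [pow_succ, pow_zero, mul_smul, e1, e2, e3, e4, one_smul]
    rw [← c2, c1, one_smul])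
  simp only [List.mem_cons, List.not_mem_nil, or_false] at k3
  have k5 := sq_of_ord (show orderOf (w * h) = 2 by
    rcases k3 with e | e | e | e | e | e <;> rw [e] at k2 k4 ⊢ <;> omega)
  rw [inv_of_ord ow, eq_inv_iff_mul_eq_one, ← k5]; group

theorem L_w (hX : LR X) (hα : A α ≤ X) (hβ : A β ≤ X) (h1 : α ≠ β) :
    ∃ w ∈ X, orderOf w = 2 ∧ w • α = β ∧ w • β = α := by
  obtain ⟨h, hh, oh, e1, e2⟩ := hA.L_h hX hα hβ h1
  obtain ⟨w, hw, e3, e4⟩ := hA.L_two hX hα hβ hβ hα h1 h1.symm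
  have k := hA.L_stab hX hα h1 hh oh e1 e2 (mul_mem hw hw) (by simp only [mul_smul, e3, e4])
    (by simp only [mul_smul, e3, e4])
  have c1 : w ^ 5 • α = β := by simp only [pow_succ, pow_zero, mul_smul, e3, e4, one_smul]
  refine ⟨w ^ 5, pow_mem hw 5, ord_two ?_ fun c => h1 (by rw [← c1, c, one_smul]), c1,
    by simp only [pow_succ, pow_zero, mul_smul, e3, e4, one_smul]⟩
  rw [← sq, ← pow_mul, mul_comm, pow_mul, sq, ← oh, ← Nat.card_zpowers]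
  exact pow_card_eq_one_of_mem k

theorem L_fpf (hX : LR X) (hγ : A γ ≤ X) (hx : x ∈ X) (ox : orderOf x = 2) : x • γ ≠ γ := fun e => by
  have := orderOf_dvd_card_of_mem (A := X ⊓ N[A γ]) ⟨hx, hA.fix_iff.1 e⟩
  rw [(hA.card_pts_L hX hγ).2, ox] at this
  omega

theorem L_conj_inv (hX : LR X) (hα : A α ≤ X) (hx : x ∈ X) (ox : orderOf x = 2) (hy : y ∈ X)
    (oy : orderOf y = 2) : ∃ z ∈ X, z * x * z⁻¹ = y := by
  have h1 := (hA.L_fpf hX hα hy oy).symm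
  have hβ := hA.smul_le' hy hα
  obtain ⟨z, hz, e1, e2⟩ := hA.L_two hX hα (hA.smul_le' hx hα) hα hβ (hA.L_fpf hX hα hx ox).symm h1
  obtain ⟨h, hh, oh, e3, e4⟩ := hA.L_h hX hα hβ h1
  have e5 : y • y • α = α := by rw [← mul_smul, sq_of_ord oy, one_smul]
  have e6 : (z * x * z⁻¹) • α = y • α := by rw [mul_smul, mul_smul, inv_smul_eq_iff.2 e1.symm, e2]
  have e7 : (z * x * z⁻¹) • y • α = α := by
    rw [mul_smul, mul_smul, inv_smul_eq_iff.2 e2.symm, smul_smul x x, sq_of_ord ox, one_smul, e1]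
  have hx' : z * x * z⁻¹ ∈ X := mul_mem (mul_mem hz hx) (inv_mem hz)
  obtain ⟨i, e⟩ := exists_pow_of_mem (hA.L_stab hX hα h1 hh oh e3 e4 (mul_mem hy hx')
    (by rw [mul_smul, e6, e5]) (by rw [mul_smul, e7]))
  have k := hA.L_swap hX hα h1 hh oh e3 e4 hy oy rfl e5
  have k2 : y * h ^ (3 * i) * y⁻¹ = (h ^ (3 * i))⁻¹ := by rw [← conj_pow, k, inv_pow]
  refine ⟨h ^ (3 * i) * z, mul_mem (pow_mem hh _) hz, ?_⟩
  calc _ = h ^ (3 * i) * y⁻¹ * (y * (z * x * z⁻¹)) * (h ^ (3 * i))⁻¹ := by group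
    _ = y⁻¹ * (y * h ^ (3 * i) * y⁻¹) * h ^ i * (h ^ (3 * i))⁻¹ := by rw [e]; group
    _ = y⁻¹ * ((h ^ 5) ^ i)⁻¹ := by rw [k2]; group
    _ = y := by rw [pow5 oh, inv_of_ord oy]; group

theorem f2L (hX : LR X) (hα : A α ≤ X) (hg : g ∈ N[X]) (hc : g ∈ C[A α]) :
    ∃ b ∈ A α, ∃ k ∈ C[X], g = b * k := by
  obtain ⟨β, h1, hβ⟩ := hA.exists_second (.inl hX) hα
  have e0 := hA.fix_of_cent hc
  obtain ⟨c, hc', e⟩ := hA.L_trans hX hα hβ (hA.smul_le hg hβ) h1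
    fun k => h1 (smul_left_cancel g (k.trans e0.symm))
  have k1 : c⁻¹ * g ∈ C[A α] := mul_mem (inv_mem (hA.le_cent α hc')) hc
  have k2 : (c⁻¹ * g) • β = β := by rw [mul_smul, ← e, inv_smul_smul]
  have k3 : ∀ γ, A γ ≤ X → (c⁻¹ * g) • γ = γ := fun γ hγ => by
    by_cases k : γ = α
    · rw [k, hA.fix_of_cent k1]
    obtain ⟨d, hd, rfl⟩ := hA.L_trans hX hα hβ hγ h1 k
    rw [← mul_smul, ← comm_of_mem_cent k1 hd, mul_smul, k2]
  refine ⟨c, hc', c⁻¹ * g, ?_, by group⟩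
  rw [← hA.sup_eq hX hα hβ h1.symm, cent_sup]
  refine ⟨k1, mem_cent_of_conj_eq fun b hb => mul_inv_eq_one.1 (by_contra fun k => h1 ?_)⟩
  refine (hA.eq_of_fix (mul_mem (conj_mem_of_norm (hA.fix_iff.1 k2) hb) (inv_mem hb)) k ?_).symm
  rw [mul_smul, mul_smul, mul_smul, inv_smul_eq_iff.2 (k3 _ (hA.smul_le' (inv_mem (hβ hb)) hα)).symm,
    smul_inv_smul, k3 α hα]

theorem f2 (hX : Ln X) (hα : A α ≤ X) (hg : g ∈ N[X]) (hc : g ∈ C[A α]) :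
    ∃ b ∈ A α, ∃ k ∈ C[X], g = b * k := by
  rcases hX with hX | hX
  · exact hA.f2L hX hα hg hc
  obtain ⟨a, _, _, _, _, h, e⟩ := hA.jr_at hX hα
  obtain ⟨i, k, hk, e'⟩ := h.f2 g hg (commute_of_mem_cent hc (e ▸ mem_zpowers a)).symm
  exact ⟨_, e ▸ pow_mem (mem_zpowers a) i, k, hk, e'⟩

theorem f2' (hX : Ln X) (hα : A α ≤ X) (hβ : A β ≤ X) (h1 : α ≠ β) (hg : g ∈ N[X])
    (hc : g ∈ C[A α]) (e : g • β = β) : g ∈ C[X] := by
  obtain ⟨b, hb, k, hk, rfl⟩ := hA.f2 hX hα hg hc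
  rw [mul_smul, hA.fix_of_centX hβ hk] at e
  rwa [(by_contra fun c => h1 (hA.eq_of_fix hb c e).symm : b = 1), one_mul]

/-- an element centralizing a point centralizes every other point it fixes -/
theorem fp (hc : u ∈ C[A α]) (e : u • β = β) : u ∈ C[A β] := by
  by_cases h1 : α = β
  · exact h1 ▸ hc
  exact cent_anti le_sup_right (hA.f2' (hA.ln h1) le_sup_left le_sup_right h1
    (hA.norm_sup (hA.fix_of_cent hc) e) hc e)

theorem mem_XK_of_cent (hX : Ln X) (hα : A α ≤ X) (hg : g ∈ N[X]) (hc : g ∈ C[A α]) :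
    g ∈ X ⊔ C[X] := by
  obtain ⟨b, hb, k, hk, rfl⟩ := hA.f2 hX hα hg hc
  exact mul_mem_sup (hα hb) hk

theorem mem_XK_of_five (hX : Ln X) (hα : A α ≤ X) (hg : g ∈ N[X]) (e : g • α = α)
    (hc : g ^ 5 ∈ C[A α]) : g ∈ X ⊔ C[X] := by
  obtain ⟨h, hh, oh, e1⟩ := hA.exists_h hX hα
  obtain ⟨i, k⟩ := hA.exists_pow_five e1 (pow5 oh) (hA.not_cent hX hα hh (ne_one_of_ord oh)
    (by omega)) e hc
  have := hA.mem_XK_of_cent hX hα (mul_mem (inv_mem (le_norm_self _ (pow_mem hh i))) hg) k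
  exact (mul_mem_cancel_left (inv_mem (mem_sup_left (pow_mem hh i)))).1 this

theorem frat (hX : Ln X) (hα : A α ≤ X) (hg : g ∈ N[X]) : ∃ x ∈ X, (x⁻¹ * g) • α = α := by
  obtain ⟨x, hx, e⟩ := hA.conj_in hX hα (hA.smul_le hg hα)
  exact ⟨x, hx, by rw [mul_smul, ← e, inv_smul_smul]⟩

theorem sq_mem (hX : Ln X) (hα : A α ≤ X) (hg : g ∈ N[X]) : g * g ∈ X ⊔ C[X] := by
  obtain ⟨x, hx, e⟩ := hA.frat hX hα hg
  have hn : x⁻¹ * g ∈ N[X] := mul_mem (inv_mem (le_norm_self _ hx)) hg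
  have k := hA.mem_XK_of_five hX hα (pow_mem hn 2) (pow_mem (mem_stabilizer_iff.2 e) 2)
    (by rw [← pow_mul]; exact hA.pow_ten e)
  rw [show g * g = x * ((x⁻¹ * g) * x * (x⁻¹ * g)⁻¹) * (x⁻¹ * g) ^ 2 by rw [sq]; group]
  exact mul_mem (mem_sup_left (mul_mem hx (conj_mem_of_norm hn hx))) k

theorem odd_mem (hX : Ln X) (hα : A α ≤ X) (hg : g ∈ N[X]) (ho : Odd (orderOf g)) :
    g ∈ X ⊔ C[X] :=
  mem_of_pow_mem_of_coprime (n := 2) ((Nat.coprime_two_right).2 ho) (sq g ▸ hA.sq_mem hX hα hg)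

theorem J_mem (hX : JF X) (hα : A α ≤ X) (hg : g ∈ N[X]) : g ∈ X ⊔ C[X] := by
  obtain ⟨x, hx, e⟩ := hA.frat (.inr hX) hα hg
  have hn : x⁻¹ * g ∈ N[X] := mul_mem (inv_mem (le_norm_self _ hx)) hg
  obtain ⟨a, g0, _, _, _, h, e'⟩ := hA.jr_at hX hα
  have k0 : g0 ∈ N[zpowers a] := mem_norm_of_conj_smul_le (by
    rw [conj_smul_zpowers, h.ga]; exact zpowers_le_of_mem (pow_mem (mem_zpowers a) 2))
  have k1 : ∀ x : ZMod 11, x ≠ 0 → ∃ i : Fin 10, x = 2 ^ i.1 := by decide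
  rw [hA.fix_iff, e'] at e
  obtain ⟨i, hi⟩ := k1 _ (ch_ne_zero h.oa e)
  have k2 := mul_inv_mem_of_ch h.oa e (pow_mem k0 i) (by
    rw [ch_pow h.oa k0, hi, ch_eq h.oa k0 (i := 2) h.ga])
  have := hA.mem_XK_of_cent (.inr hX) hα
    (mul_mem (inv_mem (le_norm_self _ (pow_mem h.mg i))) hn) (e' ▸ k2)
  exact (mul_mem_cancel_left (inv_mem (mem_sup_left hx))).1
    ((mul_mem_cancel_left (inv_mem (mem_sup_left (pow_mem h.mg i)))).1 this)

theorem L_fix_two (hX : LR X) (hα : A α ≤ X) (hβ : A β ≤ X) (hγ : A γ ≤ X) (h1 : α ≠ β)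
    (hc : g ∉ C[A α]) (e1 : g • α = α) (e2 : g • β = β) (e3 : g • γ = γ) : γ = α ∨ γ = β := by
  by_contra! k
  obtain ⟨c, hc', rfl⟩ := hA.L_trans hX hα hβ hγ h1.symm k.1
  have c1 : c ≠ 1 := fun e => k.2 (by rw [e, one_smul])
  have k2 : c⁻¹ * (g * c * g⁻¹) = 1 := by_contra fun k' => h1 (hA.eq_of_fix
    (mul_mem (inv_mem hc') (conj_mem_of_norm (hA.fix_iff.1 e1) hc')) k' (by
      rw [mul_smul, mul_smul, mul_smul, inv_smul_eq_iff.2 e2.symm, e3, inv_smul_smul])).symm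
  rw [← hA.zp_eq hc' c1, cent_zpowers, mem_cent1_iff, ← mul_inv_eq_iff_eq_mul] at hc
  exact hc (inv_mul_eq_one.1 k2).symm

theorem L_outer (hX : LR X) (hα : A α ≤ X) (hu : u ∈ N[X]) (u2 : u * u = 1)
    (fpf : ∀ γ, A γ ≤ X → u • γ ≠ γ) : u ∈ X ⊔ C[X] := by
  classical
  have := hA.finite
  have h1 := (fpf α hα).symm
  have hβ := hA.smul_le hu hα
  obtain ⟨w, hw, ow, e1, e2⟩ := hA.L_w hX hα hβ h1
  have e3 : (w * u) • α = α := by rw [mul_smul, e2]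
  have e4 : (w * u) • u • α = u • α := by rw [mul_smul, smul_smul u u, u2, one_smul, e1]
  have hn : w * u ∈ N[X] := mul_mem (le_norm_self _ hw) hu
  by_cases k : (w * u) ^ 5 ∈ C[A α]
  · exact (mul_mem_cancel_left (mem_sup_left hw)).1 (hA.mem_XK_of_five (.inl hX) hα hn e3 k)
  exfalso
  let S : SubMulAction N[X] Ω := ⟨{γ | A γ ≤ X}, fun c _ hγ => hA.smul_le c.2 hγ⟩
  have := Fintype.ofFinite S
  let φ : N[X] →* ℤˣ := Equiv.Perm.sign.comp (toPermHom N[X] S)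
  have cS : Fintype.card S = 12 := by
    rw [← Nat.card_eq_fintype_card, ← (hA.card_pts_L hX hα).1]; rfl
  have hφ : ∀ (s : N[X]) (T : Set Ω), (∀ γ, A γ ≤ X → (s * s : G) • γ = γ) →
      (∀ γ, γ ∈ T ↔ A γ ≤ X ∧ (s : G) • γ = γ) → φ s = (-1) ^ ((12 - T.ncard) / 2) := by
    intro s T k1 k2
    rw [← cS, ← Nat.card_coe_set_eq, show Nat.card T = Fintype.card (Function.fixedPoints
      (toPermHom N[X] S s)) from by
        rw [← Nat.card_eq_fintype_card]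
        exact Nat.card_congr ⟨fun t => ⟨⟨t.1, ((k2 _).1 t.2).1⟩, Subtype.ext ((k2 _).1 t.2).2⟩,
          fun t => ⟨t.1.1, (k2 _).2 ⟨t.1.2, congrArg Subtype.val t.2⟩⟩, fun _ => rfl, fun _ => rfl⟩]
    refine Equiv.Perm.sign_of_pow_two_eq_one ?_
    rw [sq, ← map_mul]
    exact Equiv.ext fun γ => Subtype.ext (k1 γ.1 γ.2)
  have p1 := hφ ⟨u, hu⟩ ∅ (fun γ _ => by rw [u2, one_smul]) fun γ =>
    ⟨fun c => c.elim, fun c => fpf γ c.1 c.2⟩
  have e5 := pow_mem (mem_stabilizer_iff.2 e3) 5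
  have e6 := pow_mem (mem_stabilizer_iff.2 e4) 5
  have p2 := hφ (⟨w * u, hn⟩ ^ 5) {α, u • α} (fun γ hγ => hA.fix_of_centX hγ (by
      refine hA.f2' (.inl hX) hα hβ h1 (mul_mem (pow_mem hn 5) (pow_mem hn 5)) ?_ (mul_mem e6 e6)
      rw [SubgroupClass.coe_pow, ← pow_add]; exact hA.pow_ten e3)) fun γ =>
    ⟨by rintro (rfl | rfl); exacts [⟨hα, e5⟩, ⟨hβ, e6⟩],
      fun c => hA.L_fix_two hX hα hβ c.1 h1 k e5 e6 c.2⟩
  rw [Set.ncard_pair h1, map_pow, show (⟨w * u, hn⟩ : N[X]) = ⟨w, le_norm_self _ hw⟩ * ⟨u, hu⟩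
    from rfl, map_mul, hX.map_eq_one (le_norm_self X) φ hw, p1, Set.ncard_empty] at p2
  exact absurd p2 (by decide)

end Geo

end Cfsg.Agent.H9.O11
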