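import Cfsg.Agent.L0.PnA

/-! S3399, piece LN: the lines argument. -/

set_option autoImplicit false
set_option linter.unusedSectionVars false

namespace Cfsg.Agent.L0.Pn

open Finset

variable {G : Type} [Group G] [Finite G] {Ω : Type} [Fintype Ω] [DecidableEq Ω] [MulAction G Ω]
  {K H : Subgroup G} {O : Finset Ω} {n : ℕ}

namespace Ln

theorem line {α : Type*} (t : α → α → α → Prop) (s1 : ∀ x y z, t x y z → t y x z)
    (s2 : ∀ x y z, t x y z → t x z y) (tr : ∀ x y z w, t x y z → t x y w → z ≠ w → t x z w)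
    {γ a ρ : α} (h : ¬ t γ a ρ) (ha : a ≠ γ) (hρ : ρ ≠ γ) {τ τ' : α}
    (h1 : τ = a ∨ τ = ρ ∨ t a ρ τ) (h2 : τ' = a ∨ τ' = ρ ∨ t a ρ τ') (hne : τ ≠ τ') :
    ¬ t γ τ τ' := by
  have k1 : ∀ z, t a ρ z → ¬ t γ a z := fun z hz h' =>
    h (s1 _ _ _ (s2 _ _ _ (tr _ _ _ _ (s2 _ _ _ hz) (s2 _ _ _ (s1 _ _ _ h')) hρ)))
  have k2 : ∀ z, t a ρ z → ¬ t γ ρ z := fun z hz h' =>
    h (s2 _ _ _ (s1 _ _ _ (s2 _ _ _ (tr _ _ _ _ (s2 _ _ _ (s1 _ _ _ hz))
      (s2 _ _ _ (s1 _ _ _ h')) ha))))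
  intro h'
  rcases h1 with rfl | rfl | h1 <;> rcases h2 with rfl | rfl | h2
  · exact hne rfl
  · exact h h'
  · exact k1 _ h2 h'
  · exact h (s2 _ _ _ h')
  · exact hne rfl
  · exact k2 _ h2 h'
  · exact k1 _ h1 (s2 _ _ _ h')
  · exact k2 _ h1 (s2 _ _ _ h')
  · have e1 := s2 _ _ _ (s1 _ _ _ (tr _ _ _ _ h1 h2 hne))
    have e2 := tr _ _ _ _ e1 (s2 _ _ _ (s1 _ _ _ h')) ha
    exact k1 _ h1 (s2 _ _ _ (s1 _ _ _ (s2 _ _ _ e2)))

theorem del_image {m : G} (hm : ∀ x : Ω, Fx K (m • x) ↔ Fx K x) (U : Finset Ω) :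
    del K (U.image (m • ·)) = del K U := by
  have : fx K (U.image (m • ·)) = (fx K U).image (m • ·) := by
    ext x
    simp only [mem_fx, mem_image]
    constructor
    · rintro ⟨⟨y, hy, rfl⟩, h⟩
      exact ⟨y, ⟨hy, (hm y).1 h⟩, rfl⟩
    · rintro ⟨y, ⟨hy, h⟩, rfl⟩
      exact ⟨⟨y, hy, rfl⟩, (hm y).2 h⟩
  unfold del
  rw [this, card_image_of_injective _ (MulAction.injective m),
    card_image_of_injective _ (MulAction.injective m)]

theorem orb_smul {A : Finset Ω} {m : G} (hm : m ∈ H) (h1 : ∀ d ∈ A, m • d ∈ A)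
    (h2 : ∀ d ∈ A, m⁻¹ • d ∈ A) (c : Ω) :
    orb (fixS H A) (m • c) = (orb (fixS H A) c).image (m • ·) := by
  ext y
  simp only [mem_orb, mem_image, mem_fixS]
  constructor
  · rintro ⟨h, ⟨hh, hA⟩, rfl⟩
    refine ⟨_, ⟨m⁻¹ * h * m, ⟨H.mul_mem (H.mul_mem (H.inv_mem hm) hh) hm, fun d hd => ?_⟩, rfl⟩, ?_⟩
    · rw [mul_smul, mul_smul, hA _ (h1 d hd), inv_smul_smul]
    · rw [mul_smul, mul_smul, smul_inv_smul]
  · rintro ⟨_, ⟨h, ⟨hh, hA⟩, rfl⟩, rfl⟩
    refine ⟨m * h * m⁻¹, ⟨H.mul_mem (H.mul_mem hm hh) (H.inv_mem hm), fun d hd => ?_⟩, ?_⟩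
    · rw [mul_smul, mul_smul, hA _ (h2 d hd), smul_inv_smul]
    · rw [mul_smul, mul_smul, inv_smul_smul]

theorem del_of_fx {A : Finset Ω} (hA : ∀ x ∈ A, Fx K x) : del K A = -A.card := by
  have : fx K A = A := by
    ext x
    simp only [mem_fx]
    exact ⟨fun h => h.1, fun h => ⟨h, hA x h⟩⟩
  unfold del
  rw [this]
  ring

theorem two_pts (h : TrK H O 2) {x y x' y' : Ω} (hx : x ∈ O) (hy : y ∈ O) (hx' : x' ∈ O)
    (hy' : y' ∈ O) (hne : x ≠ y) (hne' : x' ≠ y') : ∃ g ∈ H, g • x = x' ∧ g • y = y' := by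
  obtain ⟨g, hg, hd⟩ := h {x, y} (fun z => if z = x then x' else y')
    (insert_subset hx (singleton_subset_iff.2 hy)) (card_le_two) (by
      intro u hu v hv huv
      simp only [coe_insert, coe_singleton, Set.mem_insert_iff, Set.mem_singleton_iff] at hu hv
      rcases hu with rfl | rfl <;> rcases hv with rfl | rfl <;> simp_all [hne.symm, hne'.symm])
    (fun d _ => by split_ifs <;> assumption)
  refine ⟨g, hg, by simpa using hd x (by simp), ?_⟩
  simpa [hne.symm] using hd y (by simp)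

/-- two different orbits of the same size and deficiency are impossible -/
theorem swap_case (hP : PP K n) {M : Subgroup G} (hKM : K ≤ M) {W : Finset Ω} (hW : Inv M W)
    (hn : W.card < n) (hm : ∀ x ∈ W, Mv K (orb M x)) {j : ℕ} (h4 : j ≤ 4) (hd : del K W = j + 1)
    {c c' : Ω} (hc : c ∈ W) (hc' : c' ∈ W) (hcc : c' ∉ orb M c) (h2 : 2 ≤ del K (orb M c))
    (e1 : del K (orb M c') = del K (orb M c)) (e2 : (orb M c').card = (orb M c).card)
    (hl : 2 ≤ (orb M c).card) {r : ℕ} (hr : W.card + 1 = r * ((orb M c).card + 1))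
    (hΓ : (∃ x ∈ W, del K (orb M x) = 1 ∧ 3 ≤ (orb M x).card ∧
        (orb M x).card ≤ (orb M c).card + 1) ∨ ∀ x ∈ W, 2 ≤ del K (orb M x)) : False := by
  have s1 := orb_subset hW hc
  have s2 : orb M c' ⊆ W \ orb M c := fun y hy => mem_sdiff.2 ⟨orb_subset hW hc' hy, fun h =>
    hcc (by rw [← orb_eq h, orb_eq hy]; exact self_mem_orb _ _)⟩
  set U := (W \ orb M c) \ orb M c' with hU
  have iU : Inv M U := (hW.sdiff (orb_orb M c).inv).sdiff (orb_orb M c').inv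
  have sU : U ⊆ W := sdiff_subset.trans sdiff_subset
  have dU : del K U = j + 1 - 2 * del K (orb M c) := by
    rw [hU, del_sdiff s2, del_sdiff s1, hd, e1]; ring
  have cU : W.card = U.card + 2 * (orb M c).card := by
    have a1 := card_sdiff_add_card_eq_card s1
    have a2 := card_sdiff_add_card_eq_card s2
    rw [← hU] at a2
    omega
  have pos : ∀ V ⊆ W, Inv M V → V = ∅ ∨ 1 ≤ del K V := fun V hV iV =>
    del_pos hP hKM iV ((card_le_card hV).trans_lt hn) fun x hx => hm x (hV hx)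
  have one : ∀ x ∈ U, del K (orb M x) = 1 ∧ orb M x = U := by
    intro x hx
    have sx := orb_subset iU hx
    have p1 := (pos _ (sx.trans sU) (orb_orb M x).inv).resolve_left
      (ne_empty_of_mem (self_mem_orb M x))
    have p2 := del_sdiff (K := K) sx
    rcases pos (U \ orb M x) (sdiff_subset.trans sU) (iU.sdiff (orb_orb M x).inv) with h | h
    · have : orb M x = U := subset_antisymm sx (sdiff_eq_empty_iff_subset.1 h)
      rw [this] at p1 ⊢
      exact ⟨by omega, rfl⟩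
    · omega
  have lt : ∀ s : ℕ, r * ((orb M c).card + 1) < s * ((orb M c).card + 1) → r < s :=
    fun s h => lt_of_mul_lt_mul_right h (Nat.zero_le _)
  have gt : ∀ s : ℕ, s * ((orb M c).card + 1) < r * ((orb M c).card + 1) → s < r :=
    fun s h => lt_of_mul_lt_mul_right h (Nat.zero_le _)
  rcases U.eq_empty_or_nonempty with h | ⟨x, hx⟩
  · rw [h, card_empty] at cU
    have := lt 2 (by omega)
    have := gt 1 (by omega)
    omega
  · rcases hΓ with ⟨y, hy, y1, y2, y3⟩ | hΓ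
    · have : y ∈ U := by
        refine mem_sdiff.2 ⟨mem_sdiff.2 ⟨hy, fun h => ?_⟩, fun h => ?_⟩
        · rw [orb_eq h] at y1; omega
        · rw [orb_eq h] at y1; omega
      rw [(one y this).2] at y2 y3
      have := lt 3 (by omega)
      have := gt 2 (by omega)
      omega
    · have := hΓ x (sU hx)
      have := (one x hx).1
      omega

end Ln

open Ln in
/-- LN -/
theorem ln (hK : Pro K) (hP : PP K n) (hKH : K ≤ H) (hI : Inv H O) (hn : O.card ≤ n) {j : ℕ}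
    (hT : TrK H O (j + 1)) (h2 : 2 ≤ j) (h4 : j ≤ 4) (h0 : del K O = 0) {D : Finset Ω}
    (hD : D ⊆ fx K O) (hc : D.card = j) {a c : Ω} (ha : a ∈ fx K O \ D) (hcO : c ∈ O \ insert a D)
    (hm : ∀ x ∈ O \ insert a D, Mv K (orb (fixS H (insert a D)) x))
    (hl : 2 ≤ (orb (fixS H (insert a D)) c).card)
    (hB : Blk (fixS H D) (insert a (orb (fixS H (insert a D)) c)))
    (hne : orb (fixS H (insert a D)) c ≠ O \ insert a D)
    (hΓ : (∃ x ∈ O \ insert a D, del K (orb (fixS H (insert a D)) x) = 1 ∧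
        3 ≤ (orb (fixS H (insert a D)) x).card ∧
        (orb (fixS H (insert a D)) x).card ≤ (orb (fixS H (insert a D)) c).card + 1) ∨
      ∀ x ∈ O \ insert a D, 2 ≤ del K (orb (fixS H (insert a D)) x)) : Exp2 K O := by
  obtain ⟨haF, haD⟩ := mem_sdiff.1 ha
  obtain ⟨haO, haF⟩ := mem_fx.1 haF
  have hDO : D ⊆ O := fun _ h => (mem_fx.1 (hD h)).1
  have hDF : ∀ d ∈ D, Fx K d := fun _ h => (mem_fx.1 (hD h)).2
  have hAO : insert a D ⊆ O := insert_subset haO hDO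
  have hAF : ∀ d ∈ insert a D, Fx K d := fun d hd => by
    rcases mem_insert.1 hd with rfl | hd
    · exact haF
    · exact hDF d hd
  have cA : (insert a D).card = j + 1 := by rw [card_insert_of_notMem haD, hc]
  set M := fixS H (insert a D) with hM
  set Λ := orb M c with hΛ
  have hKM : K ≤ M := le_fixS hKH hAF
  have hKH' : K ≤ fixS H D := le_fixS hKH hDF
  have iW : Inv M (O \ insert a D) := hI.fix _
  have hΛW : Λ ⊆ O \ insert a D := orb_subset iW hcO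
  have haΛ : a ∉ Λ := fun h => (mem_sdiff.1 (hΛW h)).2 (mem_insert_self _ _)
  have oO' : Orb (fixS H D) (O \ D) := (hT.fix hDO hc).orb (hI.fix D)
  have haO' : a ∈ O \ D := mem_sdiff.2 ⟨haO, haD⟩
  have hWO' : O \ insert a D ⊆ O \ D := sdiff_subset_sdiff subset_rfl (subset_insert _ _)
  have hBO : insert a Λ ⊆ O \ D := insert_subset haO' (hΛW.trans hWO')
  have haB : a ∈ fx K (insert a Λ) := mem_fx.2 ⟨mem_insert_self _ _, haF⟩
  have cO' := card_sdiff_add_card_eq_card hDO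
  have cW := card_sdiff_add_card_eq_card hAO
  have cB : (insert a Λ).card = Λ.card + 1 := card_insert_of_notMem haΛ
  have dB : 1 ≤ del K (insert a Λ) := by
    refine blk_del hP hKH' oO' hB hBO haB ?_ ?_
    · have := card_le_card hBO
      omega
    · obtain ⟨x, hx, hx'⟩ := hm c hcO
      exact ⟨x, mem_insert_of_mem hx, hx'⟩
  have dΛ : del K Λ = del K (insert a Λ) + 1 := by
    have := del_sdiff (K := K) (A := {a}) (U := insert a Λ) (by simp)
    rw [del_of_fx (K := K) (A := {a}) (by simpa using haF), card_singleton,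
      ← erase_eq, erase_insert haΛ] at this
    rw [this]; simp
  have dW : del K (O \ insert a D) = j + 1 := by
    rw [del_sdiff hAO, h0, del_of_fx hAF, cA]; simp
  have dO' : del K (O \ D) = j := by rw [del_sdiff hDO, h0, del_of_fx hDF, hc]; simp
  obtain ⟨r, r', r1, r2, r3, r4, r5⟩ := blk_cnt hK hKH' oO' hB hBO haB
  obtain ⟨γ, hγ⟩ : D.Nonempty := card_pos.1 (by omega)
  have hγa : γ ≠ a := fun e => haD (e ▸ hγ)
  set L := fixS H (D.erase γ) with hL
  have tL : TrK L (O \ D.erase γ) 2 := by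
    refine TrK.fix (j := j - 1) ?_ ((erase_subset _ _).trans hDO) (by rw [card_erase_of_mem hγ, hc])
    rwa [show j - 1 + 2 = j + 1 by omega]
  have iL : Inv L (O \ D.erase γ) := hI.fix _
  have hγO : γ ∈ O \ D.erase γ := mem_sdiff.2 ⟨hDO hγ, notMem_erase _ _⟩
  have hO'' : O \ D ⊆ O \ D.erase γ := sdiff_subset_sdiff subset_rfl (erase_subset _ _)
  have memD : ∀ g ∈ L, g • γ = γ → g ∈ fixS H D := fun g hg h1 => ⟨hg.1, fun d hd => by
    by_cases e : d = γ
    · rw [e, h1]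
    · exact hg.2 d (mem_erase.2 ⟨e, hd⟩)⟩
  have memM : ∀ g ∈ L, g • γ = γ → g • a = a → g ∈ M := fun g hg h1 h2 => ⟨hg.1, fun d hd => by
    rcases mem_insert.1 hd with rfl | hd
    · exact h2
    · exact (memD g hg h1).2 d hd⟩
  have memL : ∀ g ∈ fixS H D, g ∈ L := fun g hg => ⟨hg.1, fun d hd => hg.2 d (mem_of_mem_erase hd)⟩
  -- the swap
  obtain ⟨g, hg, hg1, hg2⟩ := two_pts tL hγO (hO'' haO') (hO'' haO') hγO hγa hγa.symm
  have hgA : ∀ d ∈ insert a D, g • d ∈ insert a D := fun d hd => by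
    rcases mem_insert.1 hd with rfl | hd
    · rw [hg2]; exact mem_insert_of_mem hγ
    · by_cases e : d = γ
      · rw [e, hg1]; exact mem_insert_self _ _
      · rw [hg.2 d (mem_erase.2 ⟨e, hd⟩)]; exact mem_insert_of_mem hd
  obtain ⟨m, hmH, hmF, hmd⟩ := witt hK hKH hg.1 hAF fun d hd => hAF _ (hgA d hd)
  have hm1 : m • γ = a := by rw [hmd γ (mem_insert_of_mem hγ), hg1]
  have hm2 : m • a = γ := by rw [hmd a (mem_insert_self _ _), hg2]
  have hmL : m ∈ L := ⟨hmH, fun d hd => by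
    rw [hmd d (mem_insert_of_mem (mem_of_mem_erase hd)), hg.2 d hd]⟩
  have hmA : ∀ d ∈ insert a D, m • d ∈ insert a D := fun d hd => by rw [hmd d hd]; exact hgA d hd
  have hmA' : ∀ d ∈ insert a D, m⁻¹ • d ∈ insert a D := fun d hd => by
    rcases mem_insert.1 hd with rfl | hd
    · rw [← hm1, inv_smul_smul]; exact mem_insert_of_mem hγ
    · by_cases e : d = γ
      · rw [e, ← hm2, inv_smul_smul]; exact mem_insert_self _ _
      · rw [(L.inv_mem hmL).2 d (mem_erase.2 ⟨e, hd⟩)]; exact mem_insert_of_mem hd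
  have hX : orb M (m • c) = Λ.image (m • ·) := orb_smul hmH hmA hmA' c
  have hmc : m • c ∈ Λ := by
    by_contra hcc
    refine swap_case hP hKM iW (by omega) hm h4 dW hcO (c' := m • c) ?_ hcc
      (by rw [← hΛ]; omega) ?_ ?_ hl (r := r) (by rw [← hΛ, ← cB]; omega) hΓ
    · refine mem_sdiff.2 ⟨hI m hmH c (mem_sdiff.1 hcO).1, fun h => (mem_sdiff.1 hcO).2 ?_⟩
      simpa using hmA' _ h
    · rw [hX, del_image hmF]
    · rw [hX, card_image_of_injective _ (MulAction.injective m)]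
  have hmΛ : ∀ x ∈ Λ, m • x ∈ Λ := fun x hx => by
    have : m • x ∈ orb M (m • c) := hX ▸ mem_image_of_mem _ hx
    rwa [orb_eq hmc] at this
  -- the ternary relation
  let t : Ω → Ω → Ω → Prop := fun x y z => ∃ g ∈ L, g • γ = x ∧ g • a = y ∧ g⁻¹ • z ∈ Λ
  have s1 : ∀ x y z, t x y z → t y x z := by
    rintro _ _ z ⟨u, hu, rfl, rfl, hz⟩
    refine ⟨u * m⁻¹, L.mul_mem hu (L.inv_mem hmL), ?_, ?_, ?_⟩
    · rw [mul_smul, ← hm2, inv_smul_smul]
    · rw [mul_smul, ← hm1, inv_smul_smul]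
    · rw [mul_inv_rev, inv_inv, mul_smul]; exact hmΛ _ hz
  have mv : ∀ w ∈ Λ, ∃ h ∈ fixS H D, h • a = w ∧ ∀ v ∈ insert a Λ, v ≠ w → h⁻¹ • v ∈ Λ := by
    intro w hw
    obtain ⟨h, hh, e⟩ := oO'.tr a haO' w (hBO (mem_insert_of_mem hw))
    refine ⟨h, hh, e, fun v hv hvw => ?_⟩
    have := hB h⁻¹ ((fixS H D).inv_mem hh) w (mem_insert_of_mem hw)
      (by rw [← e, inv_smul_smul]; exact mem_insert_self _ _) v hv
    refine (mem_insert.1 this).resolve_left fun e' => hvw ?_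
    rw [← e, ← e', smul_inv_smul]
  have s2 : ∀ x y z, t x y z → t x z y := by
    rintro _ _ z ⟨u, hu, rfl, rfl, hz⟩
    obtain ⟨h, hh, e, hv⟩ := mv _ hz
    refine ⟨u * h, L.mul_mem hu (memL h hh), ?_, ?_, ?_⟩
    · rw [mul_smul, hh.2 γ hγ]
    · rw [mul_smul, e, smul_inv_smul]
    · rw [mul_inv_rev, mul_smul, inv_smul_smul]
      exact hv a (mem_insert_self _ _) fun e' => haΛ (e' ▸ hz)
  have tr : ∀ x y z w, t x y z → t x y w → z ≠ w → t x z w := by
    rintro _ _ z w ⟨u, hu, rfl, rfl, hz⟩ ⟨u', hu', e1, e2, hw⟩ hzw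
    have hw' : u⁻¹ • w ∈ Λ := by
      have := (orb_orb M c).inv (u⁻¹ * u') (memM _ (L.mul_mem (L.inv_mem hu) hu')
        (by rw [mul_smul, e1, inv_smul_smul]) (by rw [mul_smul, e2, inv_smul_smul])) _ hw
      rwa [mul_smul, smul_inv_smul] at this
    obtain ⟨h, hh, e, hv⟩ := mv _ hz
    refine ⟨u * h, L.mul_mem hu (memL h hh), ?_, ?_, ?_⟩
    · rw [mul_smul, hh.2 γ hγ]
    · rw [mul_smul, e, smul_inv_smul]
    · rw [mul_inv_rev, mul_smul]
      exact hv _ (mem_insert_of_mem hw') fun e' => hzw (MulAction.injective u⁻¹ e').symm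
  obtain ⟨ρ, hρW, hρΛ⟩ : ∃ ρ ∈ O \ insert a D, ρ ∉ Λ := by
    by_contra hh
    push Not at hh
    exact hne (subset_antisymm hΛW hh)
  have hρa : ρ ≠ a := fun e => (mem_sdiff.1 hρW).2 (e ▸ mem_insert_self _ _)
  have hργ : ρ ≠ γ := fun e => (mem_sdiff.1 hρW).2 (e ▸ mem_insert_of_mem hγ)
  have nt : ¬ t γ a ρ := by
    rintro ⟨u, hu, e1, e2, hz⟩
    have := (orb_orb M c).inv u (memM u hu e1 e2) _ hz
    rw [smul_inv_smul] at this
    exact hρΛ this
  obtain ⟨g0, hg0, e1, e2⟩ := two_pts tL hγO (hO'' haO') (hO'' haO') (hO'' (hWO' hρW)) hγa hρa.symm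
  let ℓ := (insert γ (insert a Λ)).image (g0 • ·)
  have hγB : γ ∉ insert a Λ := fun h => (mem_sdiff.1 (hBO h)).2 hγ
  have cℓ : ℓ.card = Λ.card + 2 := by
    rw [card_image_of_injective _ (MulAction.injective g0), card_insert_of_notMem hγB, cB]
  have inℓ : ∀ τ ∈ ℓ, τ = a ∨ τ = ρ ∨ t a ρ τ := by
    intro τ hτ
    obtain ⟨x, hx, rfl⟩ := mem_image.1 hτ
    simp only [mem_insert] at hx
    rcases hx with rfl | rfl | hx
    · exact Or.inl e1
    · exact Or.inr (Or.inl e2)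
    · exact Or.inr (Or.inr ⟨g0, hg0, e1, e2, by rwa [inv_smul_smul]⟩)
  have ℓO : ∀ τ ∈ ℓ, τ ∈ O \ D := by
    intro τ hτ
    have h1 : τ ≠ γ := by
      rintro rfl
      rcases inℓ _ hτ with h | h | h
      · exact hγa h
      · exact hργ h.symm
      · exact nt (s1 _ _ _ (s2 _ _ _ h))
    obtain ⟨x, hx, rfl⟩ := mem_image.1 hτ
    have := iL g0 hg0 x (insert_subset hγO (hBO.trans hO'') hx)
    exact mem_sdiff.2 ⟨(mem_sdiff.1 this).1, fun h => (mem_sdiff.1 this).2 (mem_erase.2 ⟨h1, h⟩)⟩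
  choose! hh hh1 hh2 using fun τ (hτ : τ ∈ ℓ) => oO'.tr a haO' τ (ℓO τ hτ)
  have cnt : (ℓ ×ˢ insert a Λ).card ≤ (O \ D).card := by
    refine card_le_card_of_injOn (fun p => hh p.1 • p.2) (fun p hp => ?_) ?_
    · obtain ⟨p1, p2⟩ := mem_product.1 hp
      exact oO'.inv _ (hh1 _ p1) _ (hBO p2)
    · rintro ⟨τ, b⟩ hp ⟨τ', b'⟩ hp' e
      obtain ⟨p1, p2⟩ := mem_product.1 hp
      obtain ⟨q1, q2⟩ := mem_product.1 hp'
      simp only at e p1 p2 q1 q2
      by_cases hτ : τ = τ'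
      · subst hτ
        rw [MulAction.injective _ e]
      exfalso
      have := hB ((hh τ)⁻¹ * hh τ') ((fixS H D).mul_mem ((fixS H D).inv_mem (hh1 _ p1)) (hh1 _ q1))
        b' q2 (by rw [mul_smul, ← e, inv_smul_smul]; exact p2) a (mem_insert_self _ _)
      rw [mul_smul, hh2 _ q1] at this
      refine line t s1 s2 tr nt hγa.symm hργ (inℓ _ p1) (inℓ _ q1) hτ
        ⟨hh τ, memL _ (hh1 _ p1), (hh1 _ p1).2 γ hγ, hh2 _ p1, ?_⟩
      refine (mem_insert.1 this).resolve_left fun e' => hτ ?_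
      rw [← hh2 _ p1, ← e', smul_inv_smul]
  rw [card_product, cℓ, r3] at cnt
  have hr : Λ.card + 2 ≤ r := Nat.le_of_mul_le_mul_right cnt (by omega)
  unfold del at dB dO'
  rw [r3, r4] at dO'
  set b := (fx K (insert a Λ)).card
  rw [cB] at dB dO' r5
  push_cast at dB dO'
  have key : r = r' ∧ Λ.card + 1 = 3 ∧ b = 1 := by
    have q1 : (r' : ℤ) ≤ r := by exact_mod_cast r2
    have q2 : (1 : ℤ) ≤ r' := by exact_mod_cast r1
    have q3 : (Λ.card : ℤ) + 2 ≤ r := by exact_mod_cast hr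
    have q4 : (2 : ℤ) ≤ Λ.card := by exact_mod_cast hl
    have q5 : (j : ℤ) ≤ 4 := by exact_mod_cast h4
    have q6 : ((r : ℤ) - r') * (Λ.card + 1) + r' * (Λ.card + 1 - 2 * b) = j := by linarith
    have q7 : (r' : ℤ) ≤ r' * (Λ.card + 1 - 2 * b) := by nlinarith
    have q8 : ((r : ℤ) - r') * 3 ≤ ((r : ℤ) - r') * (Λ.card + 1) := by nlinarith
    have q9 : (r : ℤ) = r' := by omega
    have q10 : (r' : ℤ) = 4 := by omega
    rw [q9, q10] at q6
    omega
  have ex := r5 key.1 key.2.1 key.2.2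
  intro k hk x hx
  by_cases hxD : x ∈ D
  · rw [hDF x hxD k hk, hDF x hxD k hk]
  · exact ex k hk x (mem_sdiff.2 ⟨hx, hxD⟩)

end Cfsg.Agent.L0.Pn
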