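import Cfsg.Agent.L0.PnDef

/-! S3399, piece ST: a nontrivial closure of `k` points forces exponent two. -/

set_option autoImplicit false
set_option linter.unusedSectionVars false

namespace Cfsg.Agent.L0.Pn

open Finset

variable {G : Type} [Group G] [Finite G] {Ω : Type} [Fintype Ω] [DecidableEq Ω] [MulAction G Ω]
  {K H : Subgroup G} {O : Finset Ω} {n : ℕ}

namespace St

open Classical in
/-- closure of a set of points -/
noncomputable def Cl (K H : Subgroup G) (O T : Finset Ω) : Finset Ω :=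
  O.filter fun y => ∀ g ∈ H, (∀ d ∈ T, Fx K (g • d)) → Fx K (g • y)

theorem mem_Cl {T : Finset Ω} {y : Ω} :
    y ∈ Cl K H O T ↔ y ∈ O ∧ ∀ g ∈ H, (∀ d ∈ T, Fx K (g • d)) → Fx K (g • y) := by
  classical simp only [Cl, mem_filter]

theorem Cl_sub {T : Finset Ω} : Cl K H O T ⊆ O := fun _ h => (mem_Cl.1 h).1

theorem sub_Cl {T : Finset Ω} (hT : T ⊆ O) : T ⊆ Cl K H O T :=
  fun y hy => mem_Cl.2 ⟨hT hy, fun _ _ h => h y hy⟩

theorem Cl_le {T T' : Finset Ω} (h : T' ⊆ Cl K H O T) : Cl K H O T' ⊆ Cl K H O T :=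
  fun _ hy => mem_Cl.2 ⟨(mem_Cl.1 hy).1, fun g hg hT =>
    (mem_Cl.1 hy).2 g hg fun d hd => (mem_Cl.1 (h hd)).2 g hg hT⟩

theorem fx_of_Cl {T : Finset Ω} (hT : ∀ d ∈ T, Fx K d) {y : Ω} (hy : y ∈ Cl K H O T) : Fx K y := by
  have := (mem_Cl.1 hy).2 1 H.one_mem (by simpa using hT)
  simpa using this

theorem smul_Cl (hI : Inv H O) {T : Finset Ω} {h : G} (hh : h ∈ H) {y : Ω} (hy : y ∈ Cl K H O T) :
    h • y ∈ Cl K H O (T.image (h • ·)) := by
  refine mem_Cl.2 ⟨hI h hh y (mem_Cl.1 hy).1, fun g hg hT => ?_⟩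
  rw [← mul_smul]
  refine (mem_Cl.1 hy).2 _ (H.mul_mem hg hh) fun d hd => ?_
  rw [mul_smul]
  exact hT _ (mem_image_of_mem _ hd)

theorem exists_image {k : ℕ} (hT : TrK H O k) {T T' : Finset Ω} (h1 : T ⊆ O) (h2 : T' ⊆ O)
    (c1 : T.card = k) (c2 : T'.card = k) : ∃ h ∈ H, T.image (h • ·) = T' := by
  let e : T ≃ T' := Finset.equivOfCardEq (c1.trans c2.symm)
  let φ : Ω → Ω := fun x => if hx : x ∈ T then (e ⟨x, hx⟩ : Ω) else x
  have hφ : ∀ x (hx : x ∈ T), φ x = e ⟨x, hx⟩ := fun x hx => dif_pos hx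
  obtain ⟨h, hh, hd⟩ := hT T φ h1 c1.le (fun x hx y hy hxy => by
      rw [hφ x hx, hφ y hy] at hxy
      exact congrArg Subtype.val (e.injective (Subtype.ext hxy)))
    (fun d hd => by rw [hφ d hd]; exact h2 (e ⟨d, hd⟩).2)
  refine ⟨h, hh, eq_of_subset_of_card_le (fun x hx => ?_) ?_⟩
  · obtain ⟨d, hd', rfl⟩ := mem_image.1 hx
    rw [hd d hd', hφ d hd']
    exact (e ⟨d, hd'⟩).2
  · rw [card_image_of_injective _ (MulAction.injective h), c1, c2]

theorem card_Cl_le (hI : Inv H O) {k : ℕ} (hT : TrK H O k) {T T' : Finset Ω} (h1 : T ⊆ O)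
    (h2 : T' ⊆ O) (c1 : T.card = k) (c2 : T'.card = k) :
    (Cl K H O T).card ≤ (Cl K H O T').card := by
  obtain ⟨h, hh, rfl⟩ := exists_image hT h1 h2 c1 c2
  exact card_le_card_of_injOn (h • ·) (fun y hy => smul_Cl hI hh hy)
    (MulAction.injective h).injOn

theorem exch (hI : Inv H O) {k : ℕ} (hT : TrK H O k) {T T' : Finset Ω} (h1 : T ⊆ O)
    (h2 : T' ⊆ Cl K H O T) (c1 : T.card = k) (c2 : T'.card = k) : Cl K H O T' = Cl K H O T :=
  eq_of_subset_of_card_le (Cl_le h2) (card_Cl_le hI hT h1 (h2.trans Cl_sub) c1 c2)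

section Key

variable (hI : Inv H O) {k : ℕ} (hT : TrK H O k) {Z : Finset Ω} (hZ : Z ⊆ fx K O)
  (cZ : Z.card + 2 = k) {σ : Ω} (hσ : σ ∈ O) (hσF : ¬ Fx K σ)
include hZ cZ hσF

theorem card_T {δ : Ω} (hδ : δ ∉ Z) (hδσ : δ ≠ σ) : (insert δ (insert σ Z)).card = k := by
  have : σ ∉ Z := fun h => hσF (mem_fx.1 (hZ h)).2
  rw [card_insert_of_notMem (by simp [hδ, hδσ]), card_insert_of_notMem this, cZ]

include hσ in
theorem T_sub {δ : Ω} (hδ : δ ∈ O) : insert δ (insert σ Z) ⊆ O :=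
  insert_subset hδ (insert_subset hσ fun _ h => (mem_fx.1 (hZ h)).1)

include hI hT hσ

theorem not_fx {δ ρ : Ω} (hδ : δ ∈ fx K O) (hδZ : δ ∉ Z)
    (hρ : ρ ∈ Cl K H O (insert δ (insert σ Z))) (hρT : ρ ∉ insert δ (insert σ Z)) : ¬ Fx K ρ := by
  intro hF
  have hδσ : δ ≠ σ := fun e => hσF (e ▸ (mem_fx.1 hδ).2)
  have hs := T_sub hZ cZ hσ hσF (mem_fx.1 hδ).1
  have hρ' : ρ ≠ δ ∧ ρ ∉ Z := by
    simp only [mem_insert, not_or] at hρT
    exact ⟨hρT.1, hρT.2.2⟩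
  have e := exch (K := K) hI hT (T' := insert ρ (insert δ Z)) hs
    (insert_subset hρ (insert_subset (sub_Cl hs (by simp))
      fun x hx => sub_Cl hs (by simp [hx])))
    (card_T hZ cZ hσF hδZ hδσ)
    (by rw [card_insert_of_notMem (by simp [hρ'.1, hρ'.2]), card_insert_of_notMem hδZ, cZ])
  have : σ ∈ Cl K H O (insert ρ (insert δ Z)) := e ▸ sub_Cl hs (by simp)
  refine hσF (fx_of_Cl (fun d hd => ?_) this)
  simp only [mem_insert] at hd
  rcases hd with rfl | rfl | hd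
  · exact hF
  · exact (mem_fx.1 hδ).2
  · exact (mem_fx.1 (hZ hd)).2

theorem exch' {δ ρ : Ω} (hδ : δ ∈ O) (hδZ : δ ∉ Z) (hδσ : δ ≠ σ)
    (hρ : ρ ∈ Cl K H O (insert δ (insert σ Z))) (hρZ : ρ ∉ Z) (hρσ : ρ ≠ σ) :
    Cl K H O (insert ρ (insert σ Z)) = Cl K H O (insert δ (insert σ Z)) := by
  have hs := T_sub hZ cZ hσ hσF hδ
  exact exch hI hT hs (insert_subset hρ fun x hx => sub_Cl hs (mem_insert_of_mem hx))
    (card_T hZ cZ hσF hδZ hδσ) (card_T hZ cZ hσF hρZ hρσ)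

theorem count {N : ℕ} (hN : ∀ T ⊆ O, T.card = k → (Cl K H O T).card = N) :
    ∃ R : Finset Ω, (∀ ρ, ρ ∈ R ↔ ρ ∈ O ∧ ¬ Fx K ρ ∧ ρ ≠ σ ∧
      ∀ δ ∈ fx K O, δ ∉ Z → ρ ∉ Cl K H O (insert δ (insert σ Z))) ∧
      R.card + ((fx K O).card - Z.card) * (N - k) + 1 + (fx K O).card = O.card := by
  classical
  let E : Ω → Finset Ω := fun δ => Cl K H O (insert δ (insert σ Z)) \ insert δ (insert σ Z)
  let U := (fx K O \ Z).biUnion E
  let S := (O \ fx K O).erase σ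
  have hne : ∀ δ ∈ fx K O, δ ≠ σ := fun δ hδ e => hσF (e ▸ (mem_fx.1 hδ).2)
  have hUS : U ⊆ S := by
    intro ρ hρ
    obtain ⟨δ, hδ, hρ⟩ := mem_biUnion.1 hρ
    obtain ⟨hδ, hδZ⟩ := mem_sdiff.1 hδ
    obtain ⟨h1, h2⟩ := mem_sdiff.1 hρ
    refine mem_erase.2 ⟨fun e => h2 (by simp [e]), mem_sdiff.2 ⟨Cl_sub h1, fun h => ?_⟩⟩
    exact not_fx hI hT hZ cZ hσ hσF hδ hδZ h1 h2 (mem_fx.1 h).2
  have hU : U.card = ((fx K O).card - Z.card) * (N - k) := by
    rw [card_biUnion, sum_const_nat (m := N - k), card_sdiff_of_subset hZ]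
    · intro δ hδ
      obtain ⟨hδ, hδZ⟩ := mem_sdiff.1 hδ
      have hs := T_sub hZ cZ hσ hσF (mem_fx.1 hδ).1
      have hc := card_T hZ cZ hσF hδZ (hne δ hδ)
      rw [card_sdiff_of_subset (sub_Cl hs), hN _ hs hc, hc]
    · intro δ hδ δ' hδ' hδδ
      obtain ⟨hδ, hδZ⟩ := mem_sdiff.1 hδ
      obtain ⟨hδ', hδZ'⟩ := mem_sdiff.1 hδ'
      refine disjoint_left.2 fun ρ h1 h2 => ?_
      obtain ⟨h1, h1'⟩ := mem_sdiff.1 h1
      obtain ⟨h2, h2'⟩ := mem_sdiff.1 h2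
      simp only [mem_insert, not_or] at h1' h2'
      have e1 := exch' hI hT hZ cZ hσ hσF (mem_fx.1 hδ).1 hδZ (hne δ hδ) h1 h1'.2.2 h1'.2.1
      have e2 := exch' hI hT hZ cZ hσ hσF (mem_fx.1 hδ').1 hδZ' (hne δ' hδ') h2 h2'.2.2 h2'.2.1
      have : δ' ∈ Cl K H O (insert δ (insert σ Z)) := by
        rw [← e1, e2]
        exact sub_Cl (T_sub hZ cZ hσ hσF (mem_fx.1 hδ').1) (by simp)
      exact not_fx hI hT hZ cZ hσ hσF hδ hδZ this
        (by simp [hδδ.symm, hne δ' hδ', hδZ']) (mem_fx.1 hδ').2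
  have hσS : σ ∈ O \ fx K O := mem_sdiff.2 ⟨hσ, fun h => hσF (mem_fx.1 h).2⟩
  have hfO : fx K O ⊆ O := fun _ h => (mem_fx.1 h).1
  have hS : S.card + 1 + (fx K O).card = O.card := by
    rw [card_erase_add_one hσS, card_sdiff_add_card_eq_card hfO]
  refine ⟨S \ U, fun ρ => ?_, ?_⟩
  · simp only [S, U, E, mem_sdiff, mem_erase, mem_fx, mem_biUnion, not_exists, not_and, not_not]
    constructor
    · rintro ⟨⟨h1, h2, h3⟩, h4⟩
      refine ⟨h2, h3 h2, h1, fun δ hδ hδZ h => ?_⟩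
      have := h4 δ ⟨hδ, hδZ⟩ h
      simp only [mem_insert] at this
      rcases this with rfl | rfl | h5
      · exact h3 h2 hδ.2
      · exact h1 rfl
      · exact h3 h2 (mem_fx.1 (hZ h5)).2
    · rintro ⟨h1, h2, h3, h4⟩
      exact ⟨⟨h3, h1, fun _ => h2⟩, fun δ hδ h => (h4 δ hδ.1 hδ.2 h).elim⟩
  · rw [← hU, card_sdiff_add_card_eq_card hUS, hS]

end Key

theorem not_fx_smul {u : G} (hu : u ∈ K) {σ : Ω} (h : ¬ Fx K σ) : ¬ Fx K (u • σ) := fun hF => by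
  have : σ = u • σ := by
    have := hF u⁻¹ (K.inv_mem hu)
    rwa [inv_smul_smul] at this
  exact h (this ▸ hF)

/-- if `u² σ ≠ σ`, the point `u σ` is not in the closure of `Z σ δ` -/
theorem not_mem_of_sq (hI : Inv H O) (hKH : K ≤ H) {k : ℕ} (hT : TrK H O k) {Z : Finset Ω}
    (hZ : Z ⊆ fx K O) (cZ : Z.card + 2 = k) {σ : Ω} (hσ : σ ∈ O) (hσF : ¬ Fx K σ)
    (hN : ∀ T ⊆ O, T.card = k → (Cl K H O T).card = k + 1) {u : G} (hu : u ∈ K)
    (h2 : u • u • σ ≠ σ) {δ : Ω} (hδ : δ ∈ fx K O) (hδZ : δ ∉ Z) :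
    u • σ ∉ Cl K H O (insert δ (insert σ Z)) := by
  intro h
  have hδσ : δ ≠ σ := fun e => hσF (e ▸ (mem_fx.1 hδ).2)
  have hs := T_sub hZ cZ hσ hσF (mem_fx.1 hδ).1
  have hc := card_T hZ cZ hσF hδZ hδσ
  have h1 : u • σ ≠ σ := fun e => h2 (by rw [e, e])
  have nf1 := not_fx_smul hu hσF
  have nf2 := not_fx_smul hu nf1
  have hnot : ∀ x, ¬ Fx K x → x ≠ σ → x ∉ insert δ (insert σ Z) := fun x hx hxσ hh => by
    simp only [mem_insert] at hh
    rcases hh with rfl | rfl | hh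
    · exact hx (mem_fx.1 hδ).2
    · exact hxσ rfl
    · exact hx (mem_fx.1 (hZ hh)).2
  have h3 : u • u • σ ∈ Cl K H O (insert δ (insert σ Z)) := by
    refine Cl_le (fun x hx => ?_) (smul_Cl hI (hKH hu) h)
    obtain ⟨d, hd, rfl⟩ := mem_image.1 hx
    simp only [mem_insert] at hd
    rcases hd with rfl | rfl | hd
    · rw [(mem_fx.1 hδ).2 u hu]; exact sub_Cl hs (by simp)
    · exact h
    · rw [(mem_fx.1 (hZ hd)).2 u hu]; exact sub_Cl hs (by simp [hd])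
  have h4 : insert (u • u • σ) (insert (u • σ) (insert δ (insert σ Z))) ⊆
      Cl K H O (insert δ (insert σ Z)) := insert_subset h3 (insert_subset h (sub_Cl hs))
  have h5 := card_le_card h4
  rw [card_insert_of_notMem, card_insert_of_notMem (hnot _ nf1 h1), hc, hN _ hs hc] at h5
  · omega
  · rw [mem_insert, not_or]
    exact ⟨fun e => h1 (MulAction.injective u e), hnot _ nf2 h2⟩

end St

open St in
/-- ST -/
theorem st (hI : Inv H O) (hKH : K ≤ H) {k : ℕ} (hT : TrK H O k) (h3 : 3 ≤ k) (h5 : k ≤ 5)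
    (h0 : del K O = 0) (hf : k + 1 ≤ (fx K O).card) {D : Finset Ω} (hD : D ⊆ fx K O) (hc : D.card = k)
    {y : Ω} (hy : y ∈ O) (hyD : y ∉ D) (hcl : ∀ g ∈ H, (∀ d ∈ D, Fx K (g • d)) → Fx K (g • y)) :
    Exp2 K O := by
  intro g hg σ hσ
  by_contra h2
  have hDO : D ⊆ O := fun _ h => (mem_fx.1 (hD h)).1
  have hO : O.card = 2 * (fx K O).card := by unfold del at h0; omega
  have hσF : ¬ Fx K σ := fun h => h2 (by rw [h g hg, h g hg])
  set N := (Cl K H O D).card with hNdef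
  have hN : ∀ T ⊆ O, T.card = k → (Cl K H O T).card = N := fun T h1 c1 =>
    le_antisymm (card_Cl_le hI hT h1 hDO c1 hc) (card_Cl_le hI hT hDO h1 hc c1)
  have hNk : k + 1 ≤ N := by
    have : insert y D ⊆ Cl K H O D := insert_subset (mem_Cl.2 ⟨hy, hcl⟩) (sub_Cl hDO)
    have := card_le_card this
    rwa [card_insert_of_notMem hyD, hc] at this
  have h1 : g • σ ≠ σ := fun e => h2 (by rw [e, e])
  have h1' : g⁻¹ • σ ≠ σ := fun e => h1 (by rw [inv_smul_eq_iff] at e; exact e.symm)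
  have h2' : g⁻¹ • g⁻¹ • σ ≠ σ := fun e => h2 (by
    rw [inv_smul_eq_iff, inv_smul_eq_iff] at e; exact e.symm)
  have h12 : g⁻¹ • σ ≠ g • σ := fun e => h2 (by rw [inv_smul_eq_iff] at e; exact e.symm)
  have nf1 := not_fx_smul hg hσF
  have nf2 := not_fx_smul (K.inv_mem hg) hσF
  have o1 := hI g (hKH hg) σ hσ
  have o2 := hI g⁻¹ (hKH (K.inv_mem hg)) σ hσ
  have main : ∀ Z ⊆ fx K O, Z.card + 2 = k → N = k + 1 ∧ k = 5 ∧
      g⁻¹ • σ ∈ Cl K H O (insert (g • σ) (insert σ Z)) := by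
    intro Z hZ cZ
    obtain ⟨R, hR, cR⟩ := count hI hT hZ cZ hσ hσF hN
    have hN1 : N = k + 1 := by
      by_contra hh
      have : ((fx K O).card - Z.card) * 2 ≤ ((fx K O).card - Z.card) * (N - k) :=
        Nat.mul_le_mul_left _ (by omega)
      omega
    have hN' : ∀ T ⊆ O, T.card = k → (Cl K H O T).card = k + 1 := fun T a b => hN1 ▸ hN T a b
    rw [show N - k = 1 by omega] at cR
    have r1 : g • σ ∈ R := (hR _).2 ⟨o1, nf1, h1, fun δ hδ hδZ =>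
      not_mem_of_sq hI hKH hT hZ cZ hσ hσF hN' hg h2 hδ hδZ⟩
    have r2 : g⁻¹ • σ ∈ R := (hR _).2 ⟨o2, nf2, h1', fun δ hδ hδZ =>
      not_mem_of_sq hI hKH hT hZ cZ hσ hσF hN' (K.inv_mem hg) h2' hδ hδZ⟩
    have hp : ({g⁻¹ • σ, g • σ} : Finset Ω) ⊆ R := insert_subset r2 (singleton_subset_iff.2 r1)
    have hpc := card_le_card hp
    rw [card_pair h12] at hpc
    have hRe : ({g⁻¹ • σ, g • σ} : Finset Ω) = R :=
      eq_of_subset_of_card_le hp (by rw [card_pair h12]; omega)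
    refine ⟨hN1, by omega, ?_⟩
    have gZ : g • σ ∉ Z := fun h => nf1 (mem_fx.1 (hZ h)).2
    have hs := T_sub hZ cZ hσ hσF o1
    have hc' := card_T hZ cZ hσF gZ h1
    obtain ⟨ρ, hρ, hρT⟩ := exists_mem_notMem_of_card_lt_card
      (s := insert (g • σ) (insert σ Z)) (t := Cl K H O (insert (g • σ) (insert σ Z)))
      (by rw [hN' _ hs hc', hc']; omega)
    simp only [mem_insert, not_or] at hρT
    have e := exch' hI hT hZ cZ hσ hσF o1 gZ h1 hρ hρT.2.2 hρT.2.1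
    have hm : g • σ ∈ Cl K H O (insert ρ (insert σ Z)) := e ▸ sub_Cl hs (by simp)
    have : ρ ∈ R := by
      refine (hR _).2 ⟨Cl_sub hρ, fun hF => ?_, hρT.2.1, fun δ hδ hδZ h => ?_⟩
      · exact ((hR _).1 r1).2.2.2 ρ (mem_fx.2 ⟨Cl_sub hρ, hF⟩) hρT.2.2 hm
      · have e' := exch' hI hT hZ cZ hσ hσF (mem_fx.1 hδ).1 hδZ
          (fun e => hσF (e ▸ (mem_fx.1 hδ).2)) h hρT.2.2 hρT.2.1
        exact ((hR _).1 r1).2.2.2 δ hδ hδZ (e' ▸ hm)
    rw [← hRe] at this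
    simp only [mem_insert, mem_singleton] at this
    rcases this with rfl | rfl
    · exact hρ
    · exact (hρT.1 rfl).elim
  obtain ⟨Z, hZ, cZ⟩ := exists_subset_card_eq (s := fx K O) (n := k - 3) (by omega)
  obtain ⟨z, hz, hzZ⟩ := exists_mem_notMem_of_card_lt_card (s := Z) (t := fx K O) (by omega)
  obtain ⟨z', hz', hzZ'⟩ := exists_mem_notMem_of_card_lt_card (s := insert z Z) (t := fx K O)
    (by rw [card_insert_of_notMem hzZ]; omega)
  rw [mem_insert, not_or] at hzZ'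
  have step : ∀ w ∈ fx K O, w ∉ Z → N = k + 1 ∧
      w ∈ Cl K H O (insert (g⁻¹ • σ) (insert (g • σ) (insert σ Z))) := by
    intro w hw hwZ
    have hZ' : insert w Z ⊆ fx K O := insert_subset hw hZ
    have cZ' : (insert w Z).card + 2 = k := by rw [card_insert_of_notMem hwZ]; omega
    obtain ⟨a1, a2, a3⟩ := main _ hZ' cZ'
    have gZ : g • σ ∉ insert w Z := fun h => nf1 (mem_fx.1 (hZ' h)).2
    have hs := T_sub hZ' cZ' hσ hσF o1
    have hc' := card_T hZ' cZ' hσF gZ h1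
    refine ⟨a1, ?_⟩
    have n1 : σ ∉ Z := fun h => hσF (mem_fx.1 (hZ h)).2
    have n2 : g • σ ∉ Z := fun h => nf1 (mem_fx.1 (hZ h)).2
    have n3 : g⁻¹ • σ ∉ Z := fun h => nf2 (mem_fx.1 (hZ h)).2
    have hsub : insert (g • σ) (insert σ Z) ⊆ insert (g • σ) (insert σ (insert w Z)) :=
      insert_subset_insert _ (insert_subset_insert _ (subset_insert _ _))
    rw [exch hI hT hs (insert_subset a3 (hsub.trans (sub_Cl hs))) hc' (by
      rw [card_insert_of_notMem (by simp [h12, h1', n3]), card_insert_of_notMem (by simp [h1, n2]),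
        card_insert_of_notMem n1]
      omega)]
    exact sub_Cl hs (by simp)
  obtain ⟨hN1, a1⟩ := step z hz hzZ
  obtain ⟨-, a2⟩ := step z' hz' hzZ'.2
  have n1 : σ ∉ Z := fun h => hσF (mem_fx.1 (hZ h)).2
  have n2 : g • σ ∉ Z := fun h => nf1 (mem_fx.1 (hZ h)).2
  have n3 : g⁻¹ • σ ∉ Z := fun h => nf2 (mem_fx.1 (hZ h)).2
  have hs : insert (g⁻¹ • σ) (insert (g • σ) (insert σ Z)) ⊆ O :=
    insert_subset o2 (insert_subset o1 (insert_subset hσ fun _ h => (mem_fx.1 (hZ h)).1))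
  have cT : (insert (g⁻¹ • σ) (insert (g • σ) (insert σ Z))).card = k := by
    rw [card_insert_of_notMem (by simp [h12, h1', n3]), card_insert_of_notMem (by simp [h1, n2]),
      card_insert_of_notMem n1]
    omega
  have hnot : ∀ w ∈ fx K O, w ∉ Z → w ∉ insert (g⁻¹ • σ) (insert (g • σ) (insert σ Z)) := by
    intro w hw hwZ hh
    simp only [mem_insert] at hh
    rcases hh with rfl | rfl | rfl | hh
    · exact nf2 (mem_fx.1 hw).2
    · exact nf1 (mem_fx.1 hw).2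
    · exact hσF (mem_fx.1 hw).2
    · exact hwZ hh
  have := card_le_card (insert_subset a2 (insert_subset a1 (sub_Cl hs)))
  rw [card_insert_of_notMem, card_insert_of_notMem (hnot z hz hzZ), cT, hN _ hs cT] at this
  · omega
  · rw [mem_insert, not_or]
    exact ⟨hzZ'.1, hnot z' hz' hzZ'.2⟩

end Cfsg.Agent.L0.Pn
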