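import Cfsg.Agent.H3.Block
import Cfsg.Agent.H3.Brauer
import Cfsg.Agent.H2.D1Block

/-! Blocks of defect one for the prime three. -/

set_option autoImplicit false

namespace Cfsg.Agent.H9.Tri

open Cfsg Cfsg.Agent.H3 Cfsg.Agent.H2.D1 Finset
open scoped ComplexConjugate

variable {G : Type*} [Group G] [Fintype G]

/-- `χ` has `3`-defect one. -/
def D1 (χ : IrrCharacter G) : Prop := 3 ∣ Nat.card G / dg χ ∧ ¬ 9 ∣ Nat.card G / dg χ

open Classical in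
/-- The characters linked to `χ` on the `3`-regular elements. -/
noncomputable def T (χ : IrrCharacter G) : Finset (IrrCharacter G) :=
  univ.filter (fun ψ => ∑ g, regInd 3 G g * (χ : G → ℂ) g * conj ((ψ : G → ℂ) g) ≠ 0)

/-- The inner product over the `3`-regular elements. -/
noncomputable def m (χ ψ : IrrCharacter G) : ℂ := classInner (regInd 3 G * (χ : G → ℂ)) ψ

instance fact3 : Fact (Nat.Prime 3) := ⟨Nat.prime_three⟩

theorem card_mul_m (χ ψ : IrrCharacter G) : (Nat.card G : ℂ) * m χ ψ =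
    ∑ g, regInd 3 G g * (χ : G → ℂ) g * conj ((ψ : G → ℂ) g) := card_mul_classInner _ _

theorem mem_T {χ ψ : IrrCharacter G} : ψ ∈ T χ ↔ m χ ψ ≠ 0 := by
  simp only [T, mem_filter, mem_univ, true_and, ← card_mul_m, ne_eq, mul_eq_zero, card_ne_zero',
    false_or]

omit [Fintype G] in
theorem conj_r (g : G) : conj (regInd 3 G g) = regInd 3 G g := by
  unfold regInd; split_ifs <;> simp

omit [Fintype G] in
theorem r_mul_r (g : G) : regInd 3 G g * regInd 3 G g = regInd 3 G g := by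
  unfold regInd; split_ifs <;> simp

omit [Fintype G] in
theorem r_int (g : G) : IsIntegral ℤ (regInd 3 G g) := by
  unfold regInd; split_ifs
  exacts [isIntegral_one, isIntegral_zero]

theorem cf (χ : IrrCharacter G) : IsClassFunction G (regInd 3 G * (χ : G → ℂ)) :=
  isClassFunction_mul (regInd_isClassFunction 3) (char_isClassFunction (irr_isCharacter χ.2))

theorem conj_m (χ ψ : IrrCharacter G) : conj (m χ ψ) = m ψ χ := by
  rw [m, conj_classInner, m, classInner, classInner]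
  refine congrArg _ (sum_congr rfl fun g _ => ?_)
  simp only [Pi.mul_apply, map_mul, conj_r]; ring

theorem genChar_r :
    IsGeneralizedCharacter G (((3 ^ (Nat.card G).factorization 3 : ℕ) : ℂ) • regInd 3 G) := by
  classical
  refine genChar_of_prod 3 (isClassFunction_smul _ (regInd_isClassFunction 3)) fun Q R hQ hR hc => ?_
  obtain ⟨j, hj⟩ := IsPGroup.iff_card.1 hQ
  have h1 : 3 ^ j ∣ 3 ^ (Nat.card G).factorization 3 := pow_dvd_pow _
    ((Nat.prime_three.pow_dvd_iff_le_factorization Nat.card_pos.ne').1 (hj ▸ Q.card_subgroup_dvd_card))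
  obtain ⟨c, hc'⟩ := h1
  have h2 := genChar_natCast_smul (genChar_comp (MonoidHom.fst Q R)
    (genChar_of_char (isCharacter_reg (G := Q)))) c
  convert h2 using 1
  ext y
  have h3 : IsPReg 3 ((y.1 : G) * y.2) ↔ y.1 = 1 := by
    rw [← pPart_eq_one_iff, pPart_mul (IsPElt.of_mem hQ y.1.2) (IsPReg.of_mem hR y.2.2)
      (hc _ y.1.2 _ y.2.2), OneMemClass.coe_eq_one]
  simp only [Pi.smul_apply, regInd, h3, MonoidHom.coe_fst, smul_eq_mul, hj, hc']
  split_ifs <;> simp [mul_comm]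

theorem pow_mul_m (χ ψ : IrrCharacter G) :
    ∃ z : ℤ, ((3 ^ (Nat.card G).factorization 3 : ℕ) : ℂ) * m χ ψ = z := by
  obtain ⟨z, hz⟩ := classInner_genChar_int (genChar_mul (genChar_r (G := G)) (genChar_of_irr χ.2))
    (genChar_of_irr ψ.2)
  exact ⟨z, by rw [← hz, smul_mul_assoc, classInner_smul_left, m]⟩

theorem m_comm (χ ψ : IrrCharacter G) : m ψ χ = m χ ψ := by
  obtain ⟨z, hz⟩ := pow_mul_m χ ψ
  have h0 : ((3 ^ (Nat.card G).factorization 3 : ℕ) : ℂ) ≠ 0 := Nat.cast_ne_zero.2 (by positivity)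
  rw [← conj_m, ← mul_right_inj' h0, hz, ← Complex.conj_natCast, ← map_mul, hz, map_intCast]

theorem dg_mul (χ : IrrCharacter G) : dg χ * (Nat.card G / dg χ) = Nat.card G :=
  Nat.mul_div_cancel' (irr_degree_dvd_card χ.2 (dg_eq χ))

/-- the class function `κ` -/
noncomputable def kap (χ : IrrCharacter G) : G → ℂ :=
  regInd 3 G * fun g => conj ((χ : G → ℂ) g)

theorem kap_cf (χ : IrrCharacter G) : IsClassFunction G (kap χ) :=
  isClassFunction_mul (regInd_isClassFunction 3)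
    (char_isClassFunction (isCharacter_conj (irr_isCharacter χ.2)))

theorem kap_int (χ : IrrCharacter G) (g : G) : IsIntegral ℤ (kap χ g) :=
  (r_int g).mul (char_isIntegral (isCharacter_conj (irr_isCharacter χ.2)) g)

theorem omega_kap (χ ψ : IrrCharacter G) :
    omega ψ (kap χ) = ((Nat.card G / dg ψ : ℕ) : ℂ) * m ψ χ := by
  have h0 : (dg ψ : ℂ) ≠ 0 := Nat.cast_ne_zero.2 (dg_pos ψ).ne'
  rw [omega, dg_eq, div_eq_iff h0, mul_comm _ (dg ψ : ℂ), ← mul_assoc, ← Nat.cast_mul, dg_mul,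
    card_mul_m]
  exact sum_congr rfl fun g _ => by simp only [kap, Pi.mul_apply]; ring

theorem three_mul_m {χ : IrrCharacter G} (h : D1 χ) (ψ : IrrCharacter G) :
    ∃ n : ℤ, 3 * m χ ψ = n := by
  obtain ⟨z, hz⟩ := pow_mul_m χ ψ
  obtain ⟨⟨k, hk⟩, h9⟩ := h
  have h0 : ((3 ^ (Nat.card G).factorization 3 : ℕ) : ℂ) ≠ 0 := Nat.cast_ne_zero.2 (by positivity)
  have h1 : IsIntegral ℤ (omega χ (kap ψ)) := isIntegral_sum_mul_div χ.2 (kap_cf ψ) (kap_int ψ)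
  have h2 : omega χ (kap ψ) = ((k * (3 * z) : ℤ) : ℂ) /
      (((3 ^ (Nat.card G).factorization 3 : ℕ) : ℤ) : ℂ) := by
    rw [omega_kap, hk, Int.cast_natCast, eq_div_iff h0]
    push_cast at hz ⊢
    linear_combination (3 * k : ℂ) * hz
  rw [h2] at h1
  have h3 := int_dvd_of_isIntegral_div (by positivity) h1
  have h4 : Nat.Coprime (3 ^ (Nat.card G).factorization 3) k :=
    Nat.Coprime.pow_left _ ((Nat.Prime.coprime_iff_not_dvd Nat.prime_three).2 fun ⟨c, hc⟩ =>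
      h9 ⟨c, by rw [hk, hc]; ring⟩)
  obtain ⟨n, hn⟩ := (Nat.isCoprime_iff_coprime.2 h4).dvd_of_dvd_mul_left h3
  refine ⟨n, mul_left_cancel₀ h0 ?_⟩
  have := congrArg (Int.cast : ℤ → ℂ) hn
  push_cast at hz this ⊢
  linear_combination 3 * hz + this

theorem expand (χ : IrrCharacter G) (g : G) :
    regInd 3 G g * (χ : G → ℂ) g = ∑ θ ∈ T χ, m χ θ * (θ : G → ℂ) g := by
  rw [← Pi.mul_apply, classFunction_apply (cf χ) g]
  exact (sum_subset (subset_univ _) fun θ _ h => by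
    rw [mem_T, not_not] at h; rw [← m, h, zero_mul]).symm

theorem sum_sq (χ : IrrCharacter G) : ∑ θ ∈ T χ, m χ θ ^ 2 = m χ χ := by
  have h1 := classInner_eq_sum (f' := regInd 3 G * (χ : G → ℂ)) (cf χ)
  have h2 : classInner (regInd 3 G * (χ : G → ℂ)) (regInd 3 G * (χ : G → ℂ)) = m χ χ := by
    rw [m, classInner, classInner]
    refine congrArg _ (sum_congr rfl fun g _ => ?_)
    simp only [Pi.mul_apply, map_mul, conj_r]
    linear_combination ((χ : G → ℂ) g * conj ((χ : G → ℂ) g)) * r_mul_r g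
  rw [← h2, h1]
  refine (sum_subset (subset_univ _) fun θ _ h => ?_).trans (sum_congr rfl fun θ _ => ?_)
  · rw [mem_T, not_not] at h; rw [h]; simp
  · rw [← m, conj_m, m_comm χ θ, sq]

theorem two_sq {ι : Type*} {N : Finset ι} {f : ι → ℤ} (h0 : ∀ i ∈ N, f i ≠ 0)
    (h : ∑ i ∈ N, f i ^ 2 = 2) : #N = 2 ∧ ∀ i ∈ N, f i = 1 ∨ f i = -1 := by
  classical
  have k := card_nsmul_le_sum N (f · ^ 2) 1 fun i hi => sq_pos_of_ne_zero (h0 i hi)
  rw [h, nsmul_eq_mul, mul_one] at k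
  obtain e | e | e : #N = 0 ∨ #N = 1 ∨ #N = 2 := by omega
  · simp [card_eq_zero.1 e] at h
  · obtain ⟨i, rfl⟩ := card_eq_one.1 e
    rw [sum_singleton] at h
    have : -2 < f i ∧ f i < 2 := by constructor <;> nlinarith
    obtain ⟨h1, h2⟩ := this
    generalize f i = a at *
    interval_cases a <;> simp at h
  · obtain ⟨i, j, h1, rfl⟩ := card_eq_two.1 e
    rw [sum_pair h1] at h
    have hi := sq_pos_of_ne_zero (h0 i (by simp))
    have hj := sq_pos_of_ne_zero (h0 j (by simp))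
    refine ⟨e, fun k hk => sq_eq_one_iff.1 ?_⟩
    rcases mem_insert.1 hk with rfl | hk
    · omega
    · rw [mem_singleton.1 hk]; omega

theorem not_vanish {χ : IrrCharacter G} (h : D1 χ) :
    ¬ ∀ g, ¬ IsPReg 3 g → (χ : G → ℂ) g = 0 := fun hv => by
  classical
  obtain ⟨P⟩ : Nonempty (Sylow 3 G) := inferInstance
  obtain ⟨c, hc⟩ := classInner_genChar_int (genChar_res (P : Subgroup G) (genChar_of_irr χ.2))
    (genChar_of_char isCharacter_one)
  have h1 := card_mul_classInner (fun x : (P : Subgroup G) => (χ : G → ℂ) x) 1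
  rw [hc, sum_eq_single 1 (fun g _ hg => by
    rw [hv g fun e => hg (Subtype.ext ((IsPElt.of_mem P.2 g.2).eq_one e)), zero_mul]) (by simp)] at h1
  simp only [Pi.one_apply, map_one, mul_one, OneMemClass.coe_one, dg_eq] at h1
  have h2 : Nat.card P ∣ dg χ := Int.natCast_dvd_natCast.1 ⟨c, by exact_mod_cast h1.symm⟩
  have h3 : Nat.card P * 3 ∣ Nat.card P * (P : Subgroup G).index := by
    rw [Subgroup.card_mul_index, ← dg_mul χ]
    exact mul_dvd_mul h2 h.1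
  exact P.not_dvd_index (Nat.dvd_of_mul_dvd_mul_left Nat.card_pos h3)

theorem self_mem_T (χ : IrrCharacter G) : χ ∈ T χ := by
  rw [mem_T]
  intro h
  have h1 := sum_sq χ
  have h2 : classInner (regInd 3 G * (χ : G → ℂ)) (regInd 3 G * (χ : G → ℂ)) = m χ χ := by
    rw [m, classInner, classInner]
    refine congrArg _ (sum_congr rfl fun g _ => ?_)
    simp only [Pi.mul_apply, map_mul, conj_r]
    linear_combination ((χ : G → ℂ) g * conj ((χ : G → ℂ) g)) * r_mul_r g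
  have h3 := congrFun (eq_zero_of_classInner_self (h2.trans h)) 1
  rw [Pi.mul_apply, regInd_of_isPReg (IsPReg.one 3), one_mul] at h3
  exact irr_one_ne_zero χ.2 h3

theorem loc {χ : IrrCharacter G} (h : D1 χ) : #(T χ) = 3 ∧ (3 * m χ χ = 1 ∨ 3 * m χ χ = 2) ∧
    ∀ θ ∈ T χ, θ ≠ χ → 3 * m χ θ = 1 ∨ 3 * m χ θ = -1 := by
  classical
  choose n hn using three_mul_m h
  have n0 : ∀ θ ∈ T χ, n θ ≠ 0 := fun θ hθ e => mem_T.1 hθ (by
    have := hn θ; rw [e] at this; simpa using this)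
  have h1 : ∑ θ ∈ T χ, n θ ^ 2 = 3 * n χ := by
    have : ∑ θ ∈ T χ, (n θ : ℂ) ^ 2 = 3 * n χ := by
      simp only [← hn, mul_pow, ← mul_sum, sum_sq]; ring
    exact_mod_cast this
  rw [← add_sum_erase _ _ (self_mem_T χ)] at h1
  have h2 : 0 ≤ ∑ θ ∈ (T χ).erase χ, n θ ^ 2 := sum_nonneg fun _ _ => sq_nonneg _
  have h3 := n0 χ (self_mem_T χ)
  have h4 : n χ ≠ 3 := fun e => not_vanish h fun g hg => by
    have h5 : (T χ).erase χ = ∅ := eq_empty_of_forall_notMem fun θ hθ => by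
      have := (sum_eq_zero_iff_of_nonneg fun _ _ => sq_nonneg _).1
        (show ∑ θ ∈ (T χ).erase χ, n θ ^ 2 = 0 by rw [e] at h1; omega) θ hθ
      exact n0 θ (mem_of_mem_erase hθ) (pow_eq_zero_iff two_ne_zero |>.1 this)
    have h6 := expand χ g
    rw [← add_sum_erase _ _ (self_mem_T χ), h5, sum_empty, regInd_of_not hg] at h6
    have h7 := hn χ
    rw [e] at h7
    push_cast at h7
    linear_combination -h6 - (χ : G → ℂ) g / 3 * h7
  have h5 : 0 ≤ n χ ∧ n χ ≤ 3 := by constructor <;> nlinarith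
  have h6 : n χ = 1 ∨ n χ = 2 := by omega
  obtain ⟨h7, h8⟩ := two_sq (fun θ hθ => n0 θ (mem_of_mem_erase hθ))
    (show ∑ θ ∈ (T χ).erase χ, n θ ^ 2 = 2 by rcases h6 with e | e <;> rw [e] at h1 <;> omega)
  refine ⟨by rw [← card_erase_add_one (self_mem_T χ), h7], ?_, fun θ hθ e => ?_⟩
  · rw [hn]; exact_mod_cast h6
  · rw [hn]; exact_mod_cast h8 θ (mem_erase.2 ⟨e, hθ⟩)

section Val

variable {Γ : Type*} [LinearOrderedCommGroupWithZero Γ] {v : Valuation ℂ Γ}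

open Classical in
/-- The block of a character, defined by congruences. -/
noncomputable def blk (v : Valuation ℂ Γ) (χ : IrrCharacter G) : Finset (IrrCharacter G) :=
  univ.filter (fun ψ => ∀ f, IsClassFunction G f → (∀ g, v (f g) ≤ 1) →
    v (omega ψ f - omega χ f) < 1)

theorem mem_blk {χ ψ : IrrCharacter G} : ψ ∈ blk v χ ↔ ∀ f, IsClassFunction G f →
    (∀ g, v (f g) ≤ 1) → v (omega ψ f - omega χ f) < 1 := by
  simp [blk]

theorem val_idem_blk (θ : IrrCharacter G) (g : G) : v (idem (blk v θ) g) ≤ 1 := by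
  classical
  have h1 : ∀ χ ∈ (blk v θ)ᶜ, ∃ w, IntCentral v w ∧ w χ = 0 ∧ ∀ ψ ∈ blk v θ, v (w ψ) = 1 := by
    intro χ hχ
    rw [mem_compl, mem_blk] at hχ
    push Not at hχ
    obtain ⟨f, h1, h2, h3⟩ := hχ
    have h4 := val_omega_le χ.2 h1 h2
    refine ⟨_, IntCentral.sub ⟨f, h1, h2, fun _ => rfl⟩ (IntCentral.const h4), sub_self _,
      fun ψ hψ => val_eq_one_of_sub_lt (b := omega θ f - omega χ f) ?_ ?_⟩
    · rw [v.map_sub_swap]
      exact le_antisymm (v.map_sub_le h4 (val_omega_le θ.2 h1 h2)) h3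
    · rw [sub_sub_sub_cancel_right]
      exact mem_blk.mp hψ f h1 h2
  choose! w hw1 hw2 hw3 using h1
  obtain ⟨y, h1, h2, h3⟩ := IntCentral.prod _ hw1
  obtain ⟨w', h4, h5, h6⟩ := exists_idem_eq_conv (B := blk v θ) h1 h2 (fun ψ hψ => by
    rw [h3, map_prod]
    exact prod_eq_one (fun χ hχ => hw3 χ hχ ψ hψ)) (fun χ hχ => by
    rw [h3]
    exact prod_eq_zero (mem_compl.mpr hχ) (hw2 χ (mem_compl.mpr hχ)))
  rw [h6]
  exact val_conv_le h5 h2 g

theorem blk_eq {χ ψ : IrrCharacter G} (h : ψ ∈ blk v χ) : blk v ψ = blk v χ := by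
  ext θ
  rw [mem_blk, mem_blk]
  refine forall₃_congr fun f h1 h2 => ⟨fun e => ?_, fun e => ?_⟩
  · rw [← sub_add_sub_cancel _ (omega ψ f)]
    exact v.map_add_lt e (mem_blk.1 h f h1 h2)
  · rw [← sub_sub_sub_cancel_right _ _ (omega χ f)]
    exact v.map_sub_lt e (mem_blk.1 h f h1 h2)

theorem T_sub (hv : v (3 : ℕ) < 1) {χ ψ : IrrCharacter G} (h : ψ ∈ T χ) : ψ ∈ blk v χ :=
  by_contra fun hψ => mem_T.1 h (classInner_mul_section
    (fun x y => sum_eq_zero_of_val_idem hv (val_idem_blk χ))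
    (s := regInd 3 G) (fun x y hxy => regInd_congr (by
      rw [← pPart_eq_one_iff, ← pPart_eq_one_iff]
      exact ⟨fun e => isConj_one_right.mp (e ▸ hxy), fun e => isConj_one_left.mp (e ▸ hxy)⟩))
    (char_isClassFunction (irr_isCharacter χ.2)) (fun θ hθ => classInner_irr_ne χ.2 θ.2
      (fun e => hθ (mem_blk.mpr (fun f _ _ => by rw [← e]; simp)))) hψ)

theorem of_blk (hv : v (3 : ℕ) < 1) {χ ψ : IrrCharacter G} (h : D1 χ) (hψ : ψ ∈ blk v χ) :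
    ψ ∈ T χ ∧ D1 ψ := by
  obtain ⟨-, h1, h2⟩ := loc h
  have v2 : v 2 = 1 := val_natCast_eq_one (n := 2) Nat.prime_three hv (by norm_num)
  have h3 : v (omega χ (kap χ)) = 1 := by
    obtain ⟨⟨k, hk⟩, h9⟩ := h
    have : v k = 1 := val_natCast_eq_one Nat.prime_three hv fun ⟨c, hc⟩ =>
      h9 ⟨c, by rw [hk, hc]; ring⟩
    rw [omega_kap, hk, Nat.cast_mul, mul_comm _ (k : ℂ), mul_assoc, map_mul, this, one_mul,
      Nat.cast_ofNat]
    rcases h1 with e | e <;> rw [e]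
    exacts [v.map_one, v2]
  have h4 := val_eq_one_of_sub_lt h3
    (mem_blk.1 hψ _ (kap_cf χ) fun g => val_le_of_isIntegral (kap_int χ g))
  rw [omega_kap, m_comm] at h4
  have h5 : ψ ∈ T χ := mem_T.2 fun e => by simp [e] at h4
  refine ⟨h5, ?_⟩
  by_cases e : ψ = χ
  · exact e ▸ h
  have h6 : v (3 * m χ ψ) = 1 := by
    rcases h2 ψ h5 e with e | e <;> simp [e]
  have h7 : v (Nat.card G / dg ψ : ℕ) = v (3 : ℕ) := by
    rw [← mul_one (v (3 : ℕ)), ← h4, ← map_mul, mul_left_comm, map_mul, Nat.cast_ofNat, h6, mul_one]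
  refine ⟨by_contra fun e => hv.ne (h7 ▸ val_natCast_eq_one Nat.prime_three hv e),
    fun ⟨c, hc⟩ => ?_⟩
  have h8 : v ((3 : ℕ) * c) < 1 := val_mul_lt_left hv (val_natCast_le c)
  have h9 : v (3 : ℕ) ≠ 0 := by simp
  rw [hc, show ((9 * c : ℕ) : ℂ) = (3 : ℕ) * ((3 : ℕ) * c) by push_cast; ring, map_mul,
    mul_eq_left₀ h9] at h7
  exact h8.ne h7

end Val

theorem T_eq {χ ψ : IrrCharacter G} (h : D1 χ) (hψ : ψ ∈ T χ) : D1 ψ ∧ T ψ = T χ := by
  obtain ⟨V, hv⟩ := exists_valuationSubring_prime Nat.prime_three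
  have e : ∀ θ : IrrCharacter G, D1 θ → T θ = blk V.valuation θ := fun θ hθ =>
    Finset.ext fun _ => ⟨T_sub hv, fun h => (of_blk hv hθ h).1⟩
  have h1 := (of_blk hv h (T_sub hv hψ)).2
  exact ⟨h1, by rw [e ψ h1, e χ h, blk_eq (T_sub hv hψ)]⟩

theorem alg {n1 n2 n3 a b c d1 d2 d3 : ℤ} (h1 : n1 = 1 ∨ n1 = 2) (h2 : n2 = 1 ∨ n2 = 2)
    (h3 : n3 = 1 ∨ n3 = 2) (ha : a = 1 ∨ a = -1) (hb : b = 1 ∨ b = -1) (hc : c = 1 ∨ c = -1)
    (p1 : 0 < d1) (p2 : 0 < d2) (p3 : 0 < d3) (e1 : 3 * d1 = n1 * d1 + (a * d2 + b * d3))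
    (e2 : 3 * d2 = a * d1 + (n2 * d2 + c * d3)) (e3 : 3 * d3 = b * d1 + (c * d2 + n3 * d3)) :
    (n1 = 1 ∧ n2 = 1 ∧ n3 = 1 ∧ a = 1 ∧ b = 1 ∧ c = 1) ∨ (n1 = 2 ∧ n2 = 2 ∧ n3 = 2 ∧
      (a = -1 ∧ b = 1 ∧ c = 1 ∨ a = 1 ∧ b = -1 ∧ c = 1 ∨ a = 1 ∧ b = 1 ∧ c = -1)) := by
  rcases h1 with rfl | rfl <;> rcases h2 with rfl | rfl <;> rcases h3 with rfl | rfl <;>
    rcases ha with rfl | rfl <;> rcases hb with rfl | rfl <;> rcases hc with rfl | rfl <;>
    omega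

/-- First type of triple. -/
def TyA (c1 c2 c3 : IrrCharacter G) : Prop :=
  (∀ g, IsPReg 3 g → (c1 : G → ℂ) g + (c2 : G → ℂ) g = (c3 : G → ℂ) g) ∧
    ∀ g, ¬ IsPReg 3 g → (c1 : G → ℂ) g = (c2 : G → ℂ) g ∧ (c2 : G → ℂ) g = -(c3 : G → ℂ) g

/-- Second type of triple. -/
def TyB (c1 c2 c3 : IrrCharacter G) : Prop :=
  (∀ g, IsPReg 3 g → (c1 : G → ℂ) g = (c2 : G → ℂ) g ∧ (c2 : G → ℂ) g = (c3 : G → ℂ) g) ∧
    ∀ g, ¬ IsPReg 3 g → (c1 : G → ℂ) g + (c2 : G → ℂ) g + (c3 : G → ℂ) g = 0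

theorem tri' [DecidableEq (IrrCharacter G)] {χ : IrrCharacter G} (h : D1 χ) :
    ∃ c1 c2 c3 : IrrCharacter G, c1 ≠ c2 ∧ c1 ≠ c3 ∧ c2 ≠ c3 ∧ T χ = {c1, c2, c3} ∧
      (TyA c1 c2 c3 ∨ TyB c1 c2 c3) := by
  obtain ⟨x, y, z, hxy, hxz, hyz, e⟩ := card_eq_three.1 (loc h).1
  have k : ∀ θ ∈ T χ, (∃ n : ℤ, (n = 1 ∨ n = 2) ∧ 3 * m θ θ = n) ∧
      (∀ ψ ∈ T χ, ψ ≠ θ → ∃ n : ℤ, (n = 1 ∨ n = -1) ∧ 3 * m θ ψ = n) ∧
      ∀ g, 3 * regInd 3 G g * (θ : G → ℂ) g = 3 * m θ x * (x : G → ℂ) g +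
        (3 * m θ y * (y : G → ℂ) g + 3 * m θ z * (z : G → ℂ) g) := fun θ hθ => by
    obtain ⟨h1, h2⟩ := T_eq h hθ
    obtain ⟨-, h3, h4⟩ := loc h1
    refine ⟨?_, fun ψ hψ e' => ?_, fun g => ?_⟩
    · rcases h3 with e | e
      exacts [⟨1, .inl rfl, by simpa using e⟩, ⟨2, .inr rfl, by simpa using e⟩]
    · rcases h4 ψ (h2 ▸ hψ) e' with e | e
      exacts [⟨1, .inl rfl, by simpa using e⟩, ⟨-1, .inr rfl, by simpa using e⟩]
    · have := expand θ g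
      rw [h2, e, sum_insert (by simp [hxy, hxz]), sum_pair hyz] at this
      linear_combination 3 * this
  have mx : x ∈ T χ := by simp [e]
  have my : y ∈ T χ := by simp [e]
  have mz : z ∈ T χ := by simp [e]
  obtain ⟨⟨n1, h1, e1⟩, kx, fx⟩ := k x mx
  obtain ⟨⟨n2, h2, e2⟩, ky, fy⟩ := k y my
  obtain ⟨⟨n3, h3, e3⟩, -, fz⟩ := k z mz
  obtain ⟨a, ha, ea⟩ := kx y my hxy.symm
  obtain ⟨b, hb, eb⟩ := kx z mz hxz.symm
  obtain ⟨c, hc, ec⟩ := ky z mz hyz.symm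
  rw [e1, ea, eb] at fx
  rw [m_comm x y, ea, e2, ec] at fy
  rw [m_comm x z, m_comm y z, eb, ec, e3] at fz
  have g1 := fx 1
  have g2 := fy 1
  have g3 := fz 1
  rw [regInd_of_isPReg (IsPReg.one 3), mul_one, dg_eq, dg_eq, dg_eq] at g1 g2 g3
  have A := alg h1 h2 h3 ha hb hc (Int.natCast_pos.2 (dg_pos x)) (Int.natCast_pos.2 (dg_pos y))
    (Int.natCast_pos.2 (dg_pos z)) (by exact_mod_cast g1) (by exact_mod_cast g2)
    (by exact_mod_cast g3)
  have r1 := fun (g : G) (hg : IsPReg 3 g) => regInd_of_isPReg hg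
  have r0 := fun (g : G) (hg : ¬ IsPReg 3 g) => regInd_of_not hg
  obtain ⟨rfl, rfl, rfl, rfl, rfl, rfl⟩ | ⟨rfl, rfl, rfl, ⟨rfl, rfl, rfl⟩ | ⟨rfl, rfl, rfl⟩ |
    ⟨rfl, rfl, rfl⟩⟩ := A <;> push_cast at fx fy fz
  · refine ⟨x, y, z, hxy, hxz, hyz, e, .inr ⟨fun g hg => ⟨?_, ?_⟩, fun g hg => ?_⟩⟩
    · linear_combination (fx g - fy g) / 3 - ((x : G → ℂ) g - (y : G → ℂ) g) * r1 g hg
    · linear_combination (fy g - fz g) / 3 - ((y : G → ℂ) g - (z : G → ℂ) g) * r1 g hg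
    · linear_combination -fx g + 3 * (x : G → ℂ) g * r0 g hg
  · refine ⟨x, y, z, hxy, hxz, hyz, e, .inl ⟨fun g hg => ?_, fun g hg => ⟨?_, ?_⟩⟩⟩
    · linear_combination fx g - 3 * (x : G → ℂ) g * r1 g hg
    · linear_combination (fy g - fx g) / 3 + ((x : G → ℂ) g - (y : G → ℂ) g) * r0 g hg
    · linear_combination -(2 * fy g + fx g) / 3 + ((x : G → ℂ) g + 2 * (y : G → ℂ) g) * r0 g hg
  · refine ⟨x, z, y, hxz, hxy, hyz.symm, by rw [e, pair_comm],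
      .inl ⟨fun g hg => ?_, fun g hg => ⟨?_, ?_⟩⟩⟩
    · linear_combination fx g - 3 * (x : G → ℂ) g * r1 g hg
    · linear_combination (fz g - fx g) / 3 + ((x : G → ℂ) g - (z : G → ℂ) g) * r0 g hg
    · linear_combination -(2 * fz g + fx g) / 3 + ((x : G → ℂ) g + 2 * (z : G → ℂ) g) * r0 g hg
  · refine ⟨y, z, x, hyz, hxy.symm, hxz.symm, by rw [e, insert_comm, pair_comm x z],
      .inl ⟨fun g hg => ?_, fun g hg => ⟨?_, ?_⟩⟩⟩
    · linear_combination fy g - 3 * (y : G → ℂ) g * r1 g hg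
    · linear_combination (fz g - fy g) / 3 + ((y : G → ℂ) g - (z : G → ℂ) g) * r0 g hg
    · linear_combination -(2 * fz g + fy g) / 3 + ((y : G → ℂ) g + 2 * (z : G → ℂ) g) * r0 g hg

/-- A `3`-block of defect one is a triple. -/
theorem tri [DecidableEq (IrrCharacter G)] {χ : IrrCharacter G} (h : D1 χ) :
    ∃ c1 c2 c3 : IrrCharacter G, c1 ≠ c2 ∧ c1 ≠ c3 ∧ c2 ≠ c3 ∧ T χ = {c1, c2, c3} ∧ χ ∈ T χ ∧
      (∀ ψ ∈ T χ, D1 ψ ∧ T ψ = T χ) ∧
      ((∀ g, IsPReg 3 g → (c1 : G → ℂ) g + (c2 : G → ℂ) g = (c3 : G → ℂ) g) ∨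
        ∀ g, IsPReg 3 g → (c1 : G → ℂ) g = (c2 : G → ℂ) g ∧ (c2 : G → ℂ) g = (c3 : G → ℂ) g) := by
  obtain ⟨c1, c2, c3, h1, h2, h3, h4, h5⟩ := tri' h
  exact ⟨c1, c2, c3, h1, h2, h3, h4, self_mem_T χ, fun _ => T_eq h, h5.imp (·.1) (·.1)⟩

open Classical in
/-- The triple of a character of defect one, the singleton otherwise. -/
noncomputable def bl (χ : IrrCharacter G) : Finset (IrrCharacter G) := if D1 χ then T χ else {χ}

theorem bl_of_D1 {χ : IrrCharacter G} (h : D1 χ) : bl χ = T χ := if_pos h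

theorem bl_of_not {χ : IrrCharacter G} (h : ¬ D1 χ) : bl χ = {χ} := if_neg h

theorem self_mem_bl (χ : IrrCharacter G) : χ ∈ bl χ := by
  by_cases h : D1 χ
  · rw [bl_of_D1 h]; exact self_mem_T χ
  · rw [bl_of_not h]; exact mem_singleton_self χ

theorem bl_eq {χ ψ : IrrCharacter G} (hψ : ψ ∈ bl χ) : bl ψ = bl χ := by
  by_cases h : D1 χ
  · rw [bl_of_D1 h] at hψ ⊢
    rw [bl_of_D1 (T_eq h hψ).1, (T_eq h hψ).2]
  · rw [bl_of_not h, mem_singleton] at hψ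
    rw [hψ]

theorem mem_bl_iff {χ ψ : IrrCharacter G} : ψ ∈ bl χ ↔ bl ψ = bl χ :=
  ⟨bl_eq, fun e => e ▸ self_mem_bl ψ⟩

theorem sum_bl [DecidableEq (Finset (IrrCharacter G))] {M : Type*} [AddCommMonoid M]
    (f : IrrCharacter G → M) : ∑ χ, f χ = ∑ t ∈ univ.image bl, ∑ ψ ∈ t, f ψ := by
  rw [← sum_fiberwise_of_maps_to (g := bl) (t := univ.image bl)
    (fun χ hχ => mem_image_of_mem _ hχ)]
  refine sum_congr rfl fun t ht => sum_congr ?_ fun _ _ => rfl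
  obtain ⟨χ, -, rfl⟩ := mem_image.1 ht
  ext ψ
  simp [mem_bl_iff]

/-- Sub-sums closed under `bl`. -/
theorem sum_bl_sub [DecidableEq (Finset (IrrCharacter G))] {M : Type*} [AddCommMonoid M]
    {S : Finset (IrrCharacter G)} (hS : ∀ χ ∈ S, bl χ ⊆ S) (f : IrrCharacter G → M) :
    ∑ χ ∈ S, f χ = ∑ t ∈ S.image bl, ∑ ψ ∈ t, f ψ := by
  rw [← sum_fiberwise_of_maps_to (g := bl) (t := S.image bl)
    (fun χ hχ => mem_image_of_mem _ hχ)]
  refine sum_congr rfl fun t ht => sum_congr ?_ fun _ _ => rfl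
  obtain ⟨χ, hχ, rfl⟩ := mem_image.1 ht
  ext ψ
  simp only [mem_filter, ← mem_bl_iff]
  exact ⟨fun h => h.2, fun h => ⟨hS χ hχ h, h⟩⟩

omit [Fintype G] in
theorem TyA.dg {c1 c2 c3 : IrrCharacter G} (h : TyA c1 c2 c3) : dg c1 + dg c2 = dg c3 := by
  have := h.1 1 (IsPReg.one 3)
  rw [dg_eq, dg_eq, dg_eq] at this
  exact_mod_cast this

omit [Fintype G] in
theorem TyB.dg {c1 c2 c3 : IrrCharacter G} (h : TyB c1 c2 c3) :
    dg c1 = dg c2 ∧ dg c2 = dg c3 := by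
  have := h.1 1 (IsPReg.one 3)
  rw [dg_eq, dg_eq, dg_eq] at this
  exact_mod_cast this

/-- `T` is symmetric. -/
theorem mem_T_comm {χ ψ : IrrCharacter G} : ψ ∈ T χ ↔ χ ∈ T ψ := by
  rw [mem_T, mem_T, m_comm]

/-- The complex conjugate character. -/
noncomputable abbrev cj (χ : IrrCharacter G) : IrrCharacter G :=
  ⟨fun g => conj ((χ : G → ℂ) g), isIrrCharacter_conj χ.2⟩

theorem m_cj (χ ψ : IrrCharacter G) : m (cj χ) (cj ψ) = m χ ψ := by
  rw [← m_comm χ ψ, m, m, classInner, classInner]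
  refine congrArg _ (sum_congr rfl fun g _ => ?_)
  simp only [Pi.mul_apply, Complex.conj_conj]; ring

theorem cj_mem_T {χ ψ : IrrCharacter G} : cj ψ ∈ T (cj χ) ↔ ψ ∈ T χ := by
  rw [mem_T, mem_T, m_cj]

theorem dg_cj (χ : IrrCharacter G) : dg (cj χ) = dg χ := by
  have := dg_eq (cj χ)
  simp only [dg_eq χ, map_natCast] at this
  exact_mod_cast this.symm

theorem D1_cj {χ : IrrCharacter G} : D1 (cj χ) ↔ D1 χ := by
  rw [D1, D1, dg_cj]

end Cfsg.Agent.H9.Tri
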