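import Cfsg.Agent.L0.U3Def
import Cfsg.Agent.H5.MtA

/-! The principal `p`-block of a simple group of the order of `PSU₃(q)`, `q = 7, 8, 9`. -/

set_option autoImplicit false

namespace Cfsg.Agent.L0.U3

open Cfsg Subgroup Finset Cfsg.Agent.H2.D1 Cfsg.Agent.H3
open scoped ComplexConjugate

theorem blk_two {ι : Type*} {N : Finset ι} {f : ι → ℤ} (h0 : ∀ i ∈ N, f i ≠ 0)
    (h : ∑ i ∈ N, f i ^ 2 = 2) : ∃ i j, i ≠ j ∧ (∀ k, k ∈ N ↔ k = i ∨ k = j) ∧
      (f i = 1 ∨ f i = -1) ∧ (f j = 1 ∨ f j = -1) := by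
  classical
  have k := card_nsmul_le_sum N (f · ^ 2) 1 fun i hi => sq_pos_of_ne_zero (h0 i hi)
  rw [h, nsmul_eq_mul, mul_one] at k
  obtain e | e | e : #N = 0 ∨ #N = 1 ∨ #N = 2 := by omega
  · simp [card_eq_zero.1 e] at h
  · obtain ⟨i, rfl⟩ := card_eq_one.1 e
    rw [sum_singleton] at h
    have : -2 < f i ∧ f i < 2 := by constructor <;> nlinarith
    obtain ⟨h1, h2⟩ := this
    generalize f i = a at *
    interval_cases a <;> simp at h
  · obtain ⟨i, j, h1, rfl⟩ := card_eq_two.1 e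
    rw [sum_pair h1] at h
    have hi := sq_pos_of_ne_zero (h0 i (by simp))
    have hj := sq_pos_of_ne_zero (h0 j (by simp))
    exact ⟨i, j, h1, by simp, sq_eq_one_iff_of_ne_zero_aux (by omega),
      sq_eq_one_iff_of_ne_zero_aux (by omega)⟩
where sq_eq_one_iff_of_ne_zero_aux {a : ℤ} (h : a ^ 2 = 1) : a = 1 ∨ a = -1 := sq_eq_one_iff.1 h

/-- candidates for the degrees -/
def blkL : List ℕ := [18, 42, 56, 72, 96, 128, 189, 324, 343, 512, 729, 1008, 1728, 2700]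

variable {q c p r : ℕ}

theorem blk_mem (hP : Par q c p r) : ∀ d < 6600, 2 ≤ d ∧ d ∣ q ^ 3 * c * p ∧ d * d < q ^ 3 * c * p ∧
    ((d + 1) % p = 0 ∨ d % p = 1) → d ∈ blkL := fun d hd => by
  have : ∀ i < 66, ∀ j < 100, ∀ d ∈ [100 * i + j], 2 ≤ d ∧ d ∣ q ^ 3 * c * p ∧
      d * d < q ^ 3 * c * p ∧ ((d + 1) % p = 0 ∨ d % p = 1) → d ∈ blkL := by
    rcases hP with ⟨rfl, rfl, rfl, -⟩ | ⟨rfl, rfl, rfl, -⟩ | ⟨rfl, rfl, rfl, -⟩ <;> decide +kernel
  exact this (d / 100) (by omega) (d % 100) (by omega) d (by simp [Nat.div_add_mod])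

theorem blk_arith (hP : Par q c p r) : ∀ d ∈ blkL, ∀ d' ∈ blkL, ∀ a ∈ [(1 : ℤ), -1],
    ∀ a' ∈ [(1 : ℤ), -1], ∀ ε ∈ [(1 : ℤ), -1], (p : ℤ) ∣ d + a → (p : ℤ) ∣ d' + a' →
    d ∣ q ^ 3 * c * p → d' ∣ q ^ 3 * c * p → 2 ≤ ε * (1 - a * d - a' * d') →
    ε * (1 - a * d - a' * d') ∣ (q ^ 3 * c * p : ℕ) → a = 1 ∧ a' = 1 ∧ ε = -1 ∧
      (d = q ^ 2 - q ∧ d' = q ^ 3 ∨ d' = q ^ 2 - q ∧ d = q ^ 3) := by
  rcases hP with ⟨rfl, rfl, rfl, -⟩ | ⟨rfl, rfl, rfl, -⟩ | ⟨rfl, rfl, rfl, -⟩ <;> decide +kernel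

variable {G : Type*} [Group G] [Finite G] [Fact p.Prime] [NS G] {x : G}

/-- the raw shape of the block -/
structure Raw (q c p : ℕ) (x : G) (α β θ : IrrCharacter G) : Prop where
  dα : (α : G → ℂ) 1 = (q ^ 2 - q : ℕ)
  dβ : (β : G → ℂ) 1 = (q ^ 3 : ℕ)
  dθ : (θ : G → ℂ) 1 = c
  mα : α ∈ B0 p G
  mβ : β ∈ B0 p G
  sum : ∀ F, RegF p F → ∑ χ ∈ B0 p G, F χ = F triv + (((p - 1) / 3 : ℕ) * F θ + (F α + F β))
  sum' : ∀ F, RegF p F → ∀ u ∈ zpowers x, u ≠ 1 →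
    ∑ χ ∈ B0 p G, conj ((χ : G → ℂ) u) * F χ = F triv - (F α + F β - F θ)
  val : ∀ u ∈ zpowers x, u ≠ 1 → (α : G → ℂ) u = -1 ∧ (β : G → ℂ) u = -1
  lin : ∀ g, IsPReg p g → (α : G → ℂ) g + (β : G → ℂ) g - (θ : G → ℂ) g = 1

theorem exists_raw (hP : Par q c p r) (hn : Nat.card G = q ^ 3 * c * p) (h : Ctx p x)
    (hH : Nat.card h.H = 3) : ∃ α β θ, Raw q c p x α β θ := by
  classical
  obtain ⟨B⟩ := h.exists_blk
  rw [hH] at B
  have hp : 19 ≤ p ∧ q ^ 3 * c * p < 6600 * 6600 ∧ q ^ 2 - q + q ^ 3 = c + 1 := by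
    rcases hP with ⟨rfl, rfl, rfl, -⟩ | ⟨rfl, rfl, rfl, -⟩ | ⟨rfl, rfl, rfl, -⟩ <;> norm_num
  obtain ⟨e, -⟩ | ⟨θ, hθ, t, b, ε, m, t2, ht, hε, hR, e1, e2, -, -, -, -, e3⟩ := B.enum
  · omega
  have s0 : 0 ≤ ∑ χ ∈ B.N, (B.ent χ).1 ^ 2 := sum_nonneg fun _ _ => sq_nonneg _
  obtain rfl : b = 0 := by
    by_contra hb
    have h1 := sq_pos_of_ne_zero hb
    have h2 : (6 : ℤ) ≤ t := by omega
    push_cast at e3
    nlinarith [sq_nonneg (b + ε)]
  obtain ⟨α, β, hne, hN, ha, hb⟩ := blk_two (fun χ hχ => (B.opt χ hχ).2.1)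
    (by rcases hε with rfl | rfl <;> simp at e3 <;> omega)
  have mα := (hN α).2 (.inl rfl)
  have mβ := (hN β).2 (.inr rfl)
  have rθ := (hR θ).2 (.inl rfl)
  have eR : B.R = {θ, α, β} := by ext χ; simp [hR, hN]
  have sR : ∀ F : IrrCharacter G → ℂ, ∑ χ ∈ B.R, F χ = F θ + (F α + F β) := fun F => by
    rw [eR, sum_insert (by simpa [hN] using hθ), sum_pair hne]
  have k : ∀ χ ∈ B.R, 2 ≤ (B.ent χ).2.1 ∧ (B.ent χ).2.1 ∣ q ^ 3 * c * p := fun χ hχ =>
    ⟨two_le_deg (B.mem χ hχ).2 (B.deg χ hχ), hn ▸ irr_degree_dvd_card χ.2 (B.deg χ hχ)⟩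
  have k' : ∀ χ ∈ B.N, (B.ent χ).1 = 1 ∨ (B.ent χ).1 = -1 → (B.ent χ).2.1 ∈ blkL ∧
      (p : ℤ) ∣ (B.ent χ).2.1 + (B.ent χ).1 := fun χ hχ h1 => by
    have hχ' := (hR χ).2 (.inr hχ)
    obtain ⟨-, -, m, hm, -⟩ := B.opt χ hχ
    have d : (p : ℤ) ∣ (B.ent χ).2.1 + (B.ent χ).1 := ⟨m + (B.ent χ).1, by rw [hm]; ring⟩
    have l := hn ▸ B.deg_sq_lt χ hχ'
    refine ⟨blk_mem hP _ (by nlinarith) ⟨(k χ hχ').1, (k χ hχ').2, l,
      h1.imp (fun e => ?_) fun e => ?_⟩, d⟩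
    · rw [e] at d
      exact Nat.mod_eq_zero_of_dvd (by exact_mod_cast d)
    · rw [e] at d
      exact Eq.trans (show 1 ≡ _ [MOD p] from Nat.modEq_iff_dvd.2 d).symm
        (Nat.mod_eq_of_lt (by omega))
  have lin := fun g hg => (sR _).symm.trans (B.lin h (g := g) hg)
  have l1 := lin 1 (IsPReg.one p)
  rw [B.deg θ rθ, B.deg α ((hR α).2 (.inr mα)), B.deg β ((hR β).2 (.inr mβ)), e1] at l1
  have l2 : ε * (B.ent θ).2.1 + ((B.ent α).1 * (B.ent α).2.1 + (B.ent β).1 * (B.ent β).2.1) = 1 := by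
    simp only [mul_zero, add_zero] at l1; exact_mod_cast l1
  have l3 : ε * (1 - (B.ent α).1 * (B.ent α).2.1 - (B.ent β).1 * (B.ent β).2.1) = (B.ent θ).2.1 := by
    rcases hε with rfl | rfl <;> linarith
  obtain ⟨a1, a2, rfl, hd⟩ := blk_arith hP _ (k' α mα ha).1 _ (k' β mβ hb).1 _ (by simpa using ha)
    _ (by simpa using hb) ε (by simpa using hε) (k' α mα ha).2 (k' β mβ hb).2
    (k α ((hR α).2 (.inr mα))).2 (k β ((hR β).2 (.inr mβ))).2
    (by rw [l3]; exact_mod_cast (k θ rθ).1) (by rw [l3]; exact_mod_cast (k θ rθ).2)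
  have dθ : (B.ent θ).2.1 = c := by
    rw [a1, a2] at l2; omega
  obtain rfl : t = (p - 1) / 3 := by omega
  have fin : ∀ α β, α ∈ B.N → β ∈ B.N → (B.ent α).1 = 1 → (B.ent β).1 = 1 →
      (∀ F : IrrCharacter G → ℂ, ∑ χ ∈ B.R, F χ = F θ + (F α + F β)) →
      (B.ent α).2.1 = q ^ 2 - q → (B.ent β).2.1 = q ^ 3 → Raw q c p x α β θ :=
    fun α β mα mβ a1 a2 sR d1 d2 => by
      have rα := (hR α).2 (.inr mα)
      have rβ := (hR β).2 (.inr mβ)
      refine ⟨d1 ▸ B.deg α rα, d2 ▸ B.deg β rβ, dθ ▸ B.deg θ rθ, (B.mem α rα).1, (B.mem β rβ).1,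
        fun F hF => ?_, fun F hF u hu u1 => ?_, fun u hu u1 => ⟨?_, ?_⟩, fun g hg => ?_⟩
      · simp [B.sum F hF, sR, e2, (B.opt α mα).1, (B.opt β mβ).1]
      · simp only [B.sum' F hF u hu u1, sR, e1, a1, a2]; push_cast; ring
      · simp [B.val α rα (B.opt α mα).1 u hu u1, a1]
      · simp [B.val β rβ (B.opt β mβ).1 u hu u1, a2]
      · rw [← B.lin h hg, sR, e1, a1, a2]; push_cast; ring
  rcases hd with hd | hd
  · exact ⟨α, β, θ, fin α β mα mβ a1 a2 sR hd.1 hd.2⟩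
  · exact ⟨β, α, θ, fin β α mβ mα a2 a1 (fun F => by rw [sR, add_comm (F α)]) hd.1 hd.2⟩

omit [NS G] in
theorem blk_cent (h : Ctx p x) (hK : Nat.card h.K = 1) (g : G) (h1 : g ≠ 1)
    (hg : p ∣ Nat.card (centralizer ({g} : Set G))) : orderOf g = p := by
  have e := h.eq_one hK (isPReg_pReg g) (hg.trans (card_dvd_of_le fun y hy =>
    mem_centralizer_singleton_iff.2 (Commute.pReg_left
      (mem_centralizer_singleton_iff.1 hy).symm).symm))
  have e' := pPart_mul_pReg p g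
  rw [e, mul_one] at e'
  obtain ⟨y, hy⟩ := h.exists_conj_mem (e' ▸ isPElt_pPart g : IsPElt p g)
  rw [← (h.of_mem hy (by simpa using h1)).ord]
  exact ((MulAut.conj y).orderOf_eq g).symm

omit [NS G] in
theorem blk_reg (h : Ctx p x) (hK : Nat.card h.K = 1) {g : G} (hg : orderOf g ≠ p) : IsPReg p g :=
  (isPReg_iff_not_dvd Fact.out).2 fun e => hg (blk_cent h hK g
    (by rintro rfl; exact (Fact.out : p.Prime).not_dvd_one (by simpa using e))
    (e.trans (orderOf_dvd_natCard _ (mem_centralizer_singleton_iff.2 rfl))))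

omit [NS G] [Fact p.Prime] in
theorem blk_van (χ : IrrCharacter G) {d k : ℕ} (hd : (χ : G → ℂ) 1 = d) (hn : Nat.card G = d * k)
    (hc : d.Coprime k) {g : G} (hg : ¬ (orderOf g).Coprime d) : (χ : G → ℂ) g = 0 := by
  obtain ⟨s, hs, h1, h2⟩ := Nat.Prime.not_coprime_iff_dvd.1 hg
  refine irr_eq_zero_of_defect_zero hs χ.2 hd (fun l hl e => hs.not_dvd_one (hc ▸ Nat.dvd_gcd h2 ?_)) h1
  rwa [← Nat.eq_of_mul_eq_mul_left (Nat.pos_of_ne_zero fun e => Nat.card_pos.ne'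
    (by rw [hn, e, zero_mul])) (hl.symm.trans hn)]

omit [NS G] in
theorem Raw.eq_of_deg {α β θ : IrrCharacter G} (R : Raw q c p x α β θ) (h : Ctx p x)
    (hK : Nat.card h.K = 1) {d : ℕ} (h0 : ¬ p ∣ d) (h1 : 1 ≠ d) (h2 : c ≠ d)
    (h3 : q ^ 2 - q ≠ q ^ 3) (hd : d = q ^ 2 - q ∨ d = q ^ 3) {χ ψ : IrrCharacter G}
    (e1 : (χ : G → ℂ) 1 = d) (e2 : (ψ : G → ℂ) 1 = d) : χ = ψ := by
  classical
  have k := R.sum (fun χ => if dg χ = d then 1 else 0) fun χ ψ e => by simp only [regF_dg e]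
  rw [dg_triv, dg_of R.dα, dg_of R.dβ, dg_of R.dθ, if_neg h1, if_neg h2, sum_boole] at k
  have m : ∀ χ : IrrCharacter G, (χ : G → ℂ) 1 = d → χ ∈ (B0 p G).filter (dg · = d) := fun χ e =>
    mem_filter.2 ⟨by_contra fun c => h0 (dg_of e ▸ h.dvd_dg hK c), dg_of e⟩
  refine card_le_one.1 (le_of_eq (Nat.cast_injective (R := ℂ) (k.trans ?_))) _ (m χ e1) _ (m ψ e2)
  rcases hd with rfl | rfl <;> simp [h3, h3.symm]

theorem ub_of (hP : Par q c p r) (hn : Nat.card G = q ^ 3 * c * p) (h : Ctx p x)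
    (hK : Nat.card h.K = 1) (hH : Nat.card h.H = 3) : Nonempty (UB G q c p) ∧ HasDeg G p := by
  classical
  have := Fintype.ofFinite G
  obtain ⟨α, β, θ, R⟩ := exists_raw hP hn h hH
  have hp : (¬ p ∣ q ^ 2 - q ∧ ¬ p ∣ q ^ 3 ∧ 1 ≠ q ^ 2 - q ∧ 1 ≠ q ^ 3 ∧ c ≠ q ^ 2 - q ∧ c ≠ q ^ 3 ∧
      q ^ 2 - q ≠ q ^ 3) ∧ (q ^ 3).Coprime (c * p) ∧ c.Coprime (q ^ 3 * p) ∧
      ((q ^ 2 - q : ℕ) : ℤ) = q ^ 2 - q ∧ (q : ℤ) ^ 2 - q + q ^ 3 - 1 = c ∧
      ((p - 1 : ℕ) : ℤ) = p - 1 ∧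
      1 + ((p - 1) / 3 * c ^ 2 + ((q ^ 2 - q) ^ 2 + (q ^ 3) ^ 2)) ≠ q ^ 3 * c * p := by
    rcases hP with ⟨rfl, rfl, rfl, -⟩ | ⟨rfl, rfl, rfl, -⟩ | ⟨rfl, rfl, rfl, -⟩ <;> norm_num
  obtain ⟨⟨p1, p2, p3, p4, p5, p6, p7⟩, c1, c2, z1, z2, z3, hs⟩ := hp
  have uα := fun χ e => R.eq_of_deg h hK p1 p3 p5 p7 (.inl rfl) (χ := χ) e R.dα
  have uβ := fun χ e => R.eq_of_deg h hK p2 p4 p6 p7 (.inr rfl) (χ := χ) e R.dβ
  choose a ha using fun g => H9.FT.int_of_fixed (char_isIntegral (H5.MT.ch α) g) fun u => by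
    rw [← H5.MT.gal_apply, uα _ ((H5.MT.gal_one u α).trans R.dα)]
  choose b hb using fun g => H9.FT.int_of_fixed (char_isIntegral (H5.MT.ch β) g) fun u => by
    rw [← H5.MT.gal_apply, uβ _ ((H5.MT.gal_one u β).trans R.dβ)]
  have a1 : a 1 = (q : ℤ) ^ 2 - q := z1 ▸ Int.cast_injective (α := ℂ) (by
    rw [← ha, R.dα, Int.cast_natCast])
  have b1 : b 1 = (q : ℤ) ^ 3 := Int.cast_injective (α := ℂ) (by rw [← hb, R.dβ]; simp)
  have hθ : ∀ g, orderOf g ≠ p → (θ : G → ℂ) g = (a g + b g - 1 : ℤ) := fun g hg => by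
    have := R.lin g (blk_reg h hK hg)
    rw [ha, hb] at this
    push_cast; linear_combination -this
  have vp : ∀ g, orderOf g = p → a g = -1 ∧ b g = -1 := fun g hg => by
    obtain ⟨y, hy⟩ := h.exists_conj_mem (isPElt_of_orderOf hg)
    have := R.val _ hy (by
      simpa using fun e : g = 1 => (Fact.out : p.Prime).ne_one (by rw [← hg, e, orderOf_one]))
    rw [← H5.MT.eq_of_conj α (isConj_iff.2 ⟨y, rfl⟩), ← H5.MT.eq_of_conj β (isConj_iff.2 ⟨y, rfl⟩),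
      ha, hb] at this
    exact_mod_cast this
  have b0 : ∀ g : G, ¬ (orderOf g).Coprime q → b g = 0 := fun g hg => by
    have := blk_van β R.dβ (hn.trans (mul_assoc _ _ _)) c1 (g := g) (by simpa using hg)
    rw [hb] at this
    exact_mod_cast this
  have c0 : ∀ g : G, ¬ (orderOf g).Coprime c → a g + b g = 1 := fun g hg => by
    have := blk_van θ R.dθ (hn.trans (by ring)) c2 hg
    rw [hθ g fun e => hg (e ▸ (Nat.Coprime.coprime_mul_left_right c2).symm)] at this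
    exact sub_eq_zero.1 (by exact_mod_cast this)
  set U : Finset G := {u | u ≠ 1 ∧ u ^ q ^ 3 = 1}
  have mU : ∀ u, u ∈ U ↔ u ≠ 1 ∧ u ^ q ^ 3 = 1 := fun u => by simp [U]
  have N : (#{g : G | orderOf g = p} : ℤ) * 3 = q ^ 3 * c * (p - 1) := by
    have := H4.Nse.mo_prime h.ord h.nsq
    rw [h.card_N, h.card_C, hH, hK, hn, H4.Nse.mo_eq, mul_one, ← mul_assoc, mul_right_comm _ p,
      Nat.mul_left_inj (Fact.out : p.Prime).ne_zero] at this
    rw [← z3]; exact_mod_cast this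
  have key : ∀ (f : G → ℤ) (v : ℤ), (∀ g, orderOf g = p → f g = v) →
      ∑ g, (a g + b g - 1) * f g = c * f 1 - q ^ 3 * c * (p - 1) * v + ∑ u ∈ U, (a u - 1) * f u :=
    fun f v hf => by
      have e : ∀ g, (a g + b g - 1) * f g = (if g = 1 then c * f 1 else 0) -
          (if orderOf g = p then 3 * v else 0) + if g ∈ U then (a g - 1) * f g else 0 := fun g => by
        by_cases g1 : g = 1
        · simp [g1, a1, b1, z2, mU, (Fact.out : p.Prime).ne_one.symm]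
        by_cases g2 : orderOf g = p
        · have : g ∉ U := fun e => p2 (g2 ▸ orderOf_dvd_of_pow_eq_one ((mU g).1 e).2)
          simp [g1, g2, this, vp g g2, hf g g2]
        by_cases g3 : g ∈ U
        · simp [g1, g2, g3, b0 g fun e => g1 (orderOf_eq_one_iff.1 ((e.pow_right 3).eq_one_of_dvd
            (orderOf_dvd_of_pow_eq_one ((mU g).1 g3).2)))]
        · simp [g1, g2, g3, c0 g fun e => g3 ((mU g).2 ⟨g1, orderOf_dvd_iff_pow_eq_one.1
            (e.dvd_of_dvd_mul_right ((blk_reg h hK g2).dvd_of_dvd_mul_right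
              (hn ▸ orderOf_dvd_natCard g)))⟩)]
      simp only [e, sum_add_distrib, sum_sub_distrib, sum_ite_eq', mem_univ, if_true, ← sum_filter,
        sum_const, nsmul_eq_mul, filter_mem_eq_inter, univ_inter, ← mul_assoc, N]
  have orth : ∀ χ ψ : IrrCharacter G, ∑ g, (χ : G → ℂ) g * conj ((ψ : G → ℂ) g) =
      if χ = ψ then (q ^ 3 * c * p : ℂ) else 0 := fun χ ψ => by
    rw [← card_mul_classInner, classInner_irr, hn]; split_ifs <;> simp
  have n1 : α ≠ triv := fun e => p3 (by rw [← dg_of R.dα, e, dg_triv])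
  have n2 : β ≠ triv := fun e => p4 (by rw [← dg_of R.dβ, e, dg_triv])
  have n3 : β ≠ α := fun e => p7 (by rw [← dg_of R.dα, ← e, dg_of R.dβ])
  have o1 := orth α triv
  have o2 := orth β triv
  have o3 := orth α α
  have o4 := orth β α
  simp only [ha, hb, if_neg n1, if_neg n2, if_neg n3, if_true, Pi.one_apply, map_one, mul_one,
    map_intCast] at o1 o2 o3 o4
  norm_cast at o1 o2 o3 o4
  refine ⟨⟨⟨α, β, a, b, U, mU, ha, hb, a1, b1, fun χ e => uβ χ (by simpa using e), hn,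
    blk_cent h hK, fun g => ?_, fun g hg => ?_, b0, c0, ?_, ?_, fun t ht => ?_⟩⟩, by_contra fun e => ?_⟩
  · simpa using H5.MT.dvd_of_central β {g} id (by simp) R.dβ (by simpa using hb g)
  · simpa using H5.MT.dvd_of_central θ {g} id (by simp) R.dθ (a := a g + b g - 1)
      (by simpa using hθ g hg)
  · have := key 1 1 fun _ _ => rfl
    simp only [Pi.one_apply, mul_one, sum_sub_distrib (f := fun g => a g + b g), sum_add_distrib,
      o1, o2, sum_const, card_univ, ← Nat.card_eq_fintype_card, hn] at this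
    push_cast at this
    linear_combination -this
  · have := key a (-1) fun g hg => (vp g hg).1
    simp only [sub_mul, add_mul, sum_sub_distrib (f := fun g => a g * a g + b g * a g),
      sum_add_distrib, one_mul, o1, o3, o4, a1] at this
    simp only [mul_sub, mul_one]
    push_cast at this
    linear_combination -this
  · have t2 := sq_eq_one_of_orderOf ht
    obtain ⟨I, -, h1, h2⟩ := h.inv_formula t2
    have := h2 x (mem_zpowers x) h.ne_one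
    rw [h1.2 fun v _ e => absurd (hH ▸ h.orderOf_neg_one ▸ orderOf_dvd_natCard _ (h.neg_one_mem e))
      (by decide), R.sum' _ (fun χ ψ e => by rw [e t (h.isPReg t2), e 1 (IsPReg.one p)]) x
      (mem_zpowers x) h.ne_one, hθ t (ht ▸ h.odd.symm), ha, hb, R.dα, R.dβ, R.dθ, hK] at this
    simp only [Nat.cast_zero, mul_zero, ne_eq, OfNat.ofNat_ne_zero, not_false_eq_true, zero_pow,
      Nat.cast_one, mul_one, mul_eq_zero, Nat.cast_eq_zero, Nat.card_pos.ne', false_or,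
      Pi.one_apply] at this
    rcases hP with ⟨rfl, rfl, rfl, -⟩ | ⟨rfl, rfl, rfl, -⟩ | ⟨rfl, rfl, rfl, -⟩
    · rw [show b t = 1 - a t by have := c0 t (by rw [ht]; decide); omega] at this
      have : (a t + 6) * (55 * a t - 342) = 0 := by
        push_cast at this; exact_mod_cast (show ((a t + 6) * (55 * a t - 342) : ℂ) = 0 by
          linear_combination -2058 * this)
      rcases mul_eq_zero.1 this with e | e <;> omega
    · rw [b0 t (by rw [ht]; decide)] at this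
      have : (a t + 8) * (73 * a t - 568) = 0 := by
        push_cast at this; exact_mod_cast (show ((a t + 8) * (73 * a t - 568) : ℂ) = 0 by
          linear_combination -4536 * this)
      rcases mul_eq_zero.1 this with e | e <;> omega
    · rw [show b t = 1 - a t by have := c0 t (by rw [ht]; decide); omega] at this
      have : (a t + 8) * (89 * a t - 728) = 0 := by
        push_cast at this; exact_mod_cast (show ((a t + 8) * (89 * a t - 728) : ℂ) = 0 by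
          linear_combination -5832 * this)
      rcases mul_eq_zero.1 this with e | e <;> omega
  · have k := R.sum (fun χ => (χ : G → ℂ) 1 ^ 2) fun χ ψ e => by simp only [e 1 (IsPReg.one p)]
    rw [eq_univ_of_forall (s := B0 p G) fun χ => by_contra fun c => e ⟨χ, h.dvd_dg hK c⟩,
      sum_irr_one_sq, R.dα, R.dβ, R.dθ, hn] at k
    exact hs (Nat.cast_injective (R := ℂ) (by rw [k]; simp))

end Cfsg.Agent.L0.U3
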